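import Cfsg.Statements.S0961
import Cfsg.Agent.Blk.More

set_option autoImplicit false
open Cfsg

namespace Cfsg.Agent.S0961

open Cfsg.Agent.Blk Cfsg.Agent.Char Cfsg.Agent.PLoc


theorem result {G : Type*} [Group G] [Finite G] (p : ℕ) [Fact p.Prime] (χ : Cfsg.IrrCharacter G) : Cfsg.IsGeneralizedCharacter G (fun x : G => if p ∣ orderOf x then 0 else ((p ^ (Nat.card G).factorization p : ℕ) : ℂ) * (χ : G → ℂ) x) := by
  have h : IsGeneralizedCharacter G fun x : G => if p ∣ orderOf x then 0 else
      ((p ^ (Nat.card G).factorization p : ℕ) : ℂ) := by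
    refine brauer_characterisation_nilpotent (isClassFunction_regPart (isClassFunction_const _))
      fun E hE => ?_
    have := Fintype.ofFinite E
    obtain ⟨A, B, -, hB, h1, h2, h3, -⟩ := exists_nilpotent_decomp (G := E)
      (Nat.coprime_ordCompl (Fact.out : p.Prime) Nat.card_pos.ne' |>.pow_left _)
      (Nat.ordProj_mul_ordCompl_eq_self (Nat.card E) p).symm.dvd
    obtain ⟨c, hc⟩ : B.index ∣ p ^ (Nat.card G).factorization p := by
      rw [h3.index_eq_card]
      exact h1.trans (pow_dvd_pow _ ((Nat.factorization_le_iff_dvd Nat.card_pos.ne'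
        Nat.card_pos.ne').mpr E.card_subgroup_dvd_card p))
    convert ((isGen_one (G := B)).indFun).natCast_smul c using 1
    ext x
    rw [Subgroup.orderOf_coe, Pi.smul_apply, smul_eq_mul]
    split_ifs with hx
    · rw [indFun_eq_zero_of_normal, mul_zero]
      exact fun h => Nat.not_dvd_ordCompl Fact.out Nat.card_pos.ne'
        (hx.trans ((orderOf_dvd_card_of_mem h).trans h2))
    · have hx' : x ∈ B := mem_of_index_pow (p := p) (by
        rw [h3.index_eq_card]
        exact ((Nat.dvd_prime_pow Fact.out).mp h1).imp fun _ h => h.2) hx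
      rw [indFun_of_normal B _ ⟨x, hx'⟩, hc, Finset.sum_const, Finset.card_univ,
        ← Nat.card_eq_fintype_card, ← B.card_mul_index]
      have := card_ne_zero B
      push_cast
      rw [nsmul_eq_mul]
      push_cast
      field_simp
  convert h.mul χ.2.isGen using 1
  ext x
  simp only [Pi.mul_apply]
  split_ifs <;> simp

end Cfsg.Agent.S0961
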