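import Cfsg.Statements.S0254
import Cfsg.Agent.Class.Dick5

set_option autoImplicit false
open Cfsg

namespace Cfsg.Agent.S0254

/-- PSL_2(9) is isomorphic to A_6. -/
theorem result {F : Type*} [Field F] [Fintype F] (hF : Fintype.card F = 9) : Nonempty (Matrix.ProjectiveSpecialLinearGroup (Fin 2) F ≃* alternatingGroup (Fin 6)) := by
  have h := Class.card_PSL2 (F := F)
  obtain ⟨H, ⟨e⟩⟩ := Class.exists_A5_of_dvd (F := F) (by rw [hF]; norm_num)
  rw [hF] at h
  have h1 := H.card_mul_index
  rw [Nat.card_congr e.toEquiv, Class.card_A5] at h1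
  norm_num at h
  have := Matrix.ProjectiveSpecialLinearGroup.rank_two_simple (F := F) (by simp [hF])
  obtain ⟨f, hf⟩ := Inv.exists_perm_embedding' H (n := 6)
    (H.normalCore_normal.eq_bot_or_eq_top.resolve_right fun h2 => by
      rw [top_le_iff.1 (h2.ge.trans H.normalCore_le), Subgroup.index_top] at h1
      omega) (by omega)
  exact Inv.equiv_alternating_of_injective (by norm_num) f hf (by norm_num [Nat.factorial]; omega)

end Cfsg.Agent.S0254
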