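import Cfsg.Statements.S0819
import Cfsg.Agent.Class.Exc4

set_option autoImplicit false
open Cfsg

namespace Cfsg.Agent.S0819

theorem aux {R : Type*} [CommRing R] (r w t s : R) (h2 : (2 : R) = 0) (hw : w ^ 2 + w + 1 = 0)
    (ht : t = 0 ∨ t = 1 ∨ t = w ∨ t = w + 1) (hs : s = 0 ∨ s = 1 ∨ s = w ∨ s = w + 1)
    (hr : r ^ 3 - t * r ^ 2 + s * r - 1 = 0) :
    r ^ 5 = 1 ∨ r ^ 5 = w ∨ r ^ 5 = w + 1 ∨ r ^ 12 = 1 ∨ r ^ 21 = 1 := by
  rcases ht with ht | ht | ht | ht <;> rcases hs with hs | hs | hs | hs <;> rw [ht, hs] at hr <;>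
    clear ht hs <;>
    first
    | (left; grind)
    | (right; left; grind)
    | (right; right; left; grind)
    | (right; right; right; left; grind)
    | (right; right; right; right; grind)

open Polynomial

/-- No element of PSL_3(4) has order 15. -/
theorem result {F : Type*} [Field F] [Fintype F] (hF : Fintype.card F = 4) (g : Matrix.ProjectiveSpecialLinearGroup (Fin 3) F) : orderOf g ≠ 15 := by
  obtain ⟨σ, h⟩ := Class.exists_UF (q := 2) hF
  have h2 : (2 : F) = 0 := by
    have := FiniteField.cast_card_eq_zero F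
    rw [hF] at this
    exact mul_self_eq_zero.1 (by linear_combination this)
  obtain ⟨w, hw1, hw⟩ := h.exists_norm_ne one_ne_zero (map_one σ) 1
  replace hw : w ^ 2 + w + 1 = 0 := mul_left_cancel₀ (sub_ne_zero.2 hw1) (by
    rw [h.eq] at hw; linear_combination hw)
  have hx : ∀ x : F, x = 0 ∨ x = 1 ∨ x = w ∨ x = w + 1 := fun x => by
    have h4 : x ^ 4 = x := hF ▸ FiniteField.pow_card x
    have : x * ((x - 1) * ((x - w) * (x - (w + 1)))) = 0 := by clear * - h2 hw h4; grind
    simpa only [mul_eq_zero, sub_eq_zero] using this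
  obtain ⟨A⟩ := g
  let s := A.1 0 0 * A.1 1 1 - A.1 0 1 * A.1 1 0 + A.1 0 0 * A.1 2 2 - A.1 0 2 * A.1 2 0 +
    A.1 1 1 * A.1 2 2 - A.1 1 2 * A.1 2 1
  let p : F[X] := X ^ 3 - C A.1.trace * X ^ 2 + C s * X - C A.1.det
  have hp : aeval A.1 p = 0 := by
    simp only [p, map_sub, map_add, map_mul, map_pow, aeval_X, aeval_C, ← Algebra.smul_def,
      Algebra.algebraMap_eq_smul_one, pow_succ, pow_zero, one_mul, smul_mul_assoc,
      Matrix.det_fin_three]
    ext i j
    fin_cases i <;> fin_cases j <;>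
      simp [s, Matrix.mul_apply, Fin.sum_univ_three, Matrix.trace_fin_three] <;> ring
  have key : ∀ n c, AdjoinRoot.root p ^ n = AdjoinRoot.of p c →
      orderOf (A : Matrix.ProjectiveSpecialLinearGroup (Fin 3) F) ∣ n := fun n c h => by
    obtain ⟨q, hq⟩ : p ∣ X ^ n - C c := AdjoinRoot.mk_eq_zero.1 (by simp [h])
    have := congrArg (aeval A.1) hq
    rw [map_mul, hp, zero_mul, map_sub, map_pow, aeval_X, aeval_C, sub_eq_zero] at this
    refine orderOf_dvd_of_pow_eq_one ((QuotientGroup.eq_one_iff (A ^ n)).2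
      (Subgroup.mem_center_iff.2 fun g => Subtype.ext ?_))
    change g.1 * A.1 ^ n = A.1 ^ n * g.1
    rw [this, Algebra.commutes]
  have hx' : ∀ x : F, AdjoinRoot.of p x = 0 ∨ AdjoinRoot.of p x = 1 ∨
      AdjoinRoot.of p x = AdjoinRoot.of p w ∨ AdjoinRoot.of p x = AdjoinRoot.of p w + 1 := fun x => by
    rcases hx x with h | h | h | h <;> simp [h]
  intro h15
  rcases aux (AdjoinRoot.root p) (AdjoinRoot.of p w) _ _ (by rw [← map_ofNat (AdjoinRoot.of p), h2, map_zero])
    (by simpa using congrArg (AdjoinRoot.of p) hw) (hx' A.1.trace) (hx' s)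
    (by simpa [p] using AdjoinRoot.mk_self (f := p)) with h | h | h | h | h
  exacts [absurd (h15 ▸ key 5 1 (by simpa)) (by decide), absurd (h15 ▸ key 5 w h) (by decide),
    absurd (h15 ▸ key 5 (w + 1) (by simpa)) (by decide), absurd (h15 ▸ key 12 1 (by simpa)) (by decide),
    absurd (h15 ▸ key 21 1 (by simpa)) (by decide)]

end Cfsg.Agent.S0819
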