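import Cfsg.Statements.S0892
import Cfsg.Agent.Cov.An

set_option autoImplicit false
open Cfsg

namespace Cfsg.Agent.S0892

/-- Let n ≥ 4 with n ≠ 6 and n ≠ 7, and let Γ be a finite group with a subgroup Z contained in both the centre and the commutator subgroup of Γ such that Γ / Z is isomorphic to the alternating group on n letters. Then Z has order at most 2. -/
theorem result (n : ℕ) (hn : 4 ≤ n) (h6 : n ≠ 6) (h7 : n ≠ 7) {Γ : Type*} [Group Γ] [Finite Γ] (Z : Subgroup Γ) [Z.Normal] (hZc : Z ≤ Subgroup.center Γ) (hZd : Z ≤ commutator Γ) (e : Γ ⧸ Z ≃* alternatingGroup (Fin n)) : Nat.card Z ≤ 2 := by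
  let π : Γ →* alternatingGroup (Fin n) := e.toMonoidHom.comp (QuotientGroup.mk' Z)
  have hk : π.ker = Z := by
    ext x
    simp [π, MonoidHom.mem_ker]
  have h1 : Function.Surjective π := e.surjective.comp (QuotientGroup.mk'_surjective Z)
  rw [← hk] at hZc hZd ⊢
  by_cases h8 : 8 ≤ n
  · exact Cov.ker_card_eight h1 hZc hZd (by simpa using h8)
  refine Cov.ker_card_two h1 hZc hZd (by simpa using hn) (Cov.ker_two_group h1 hZc hZd ?_)
  intro p hp hp2 hd
  have h45 : n = 4 ∨ n = 5 := by omega
  have h60 : p ^ 2 ∣ 60 := by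
    refine hd.trans ?_
    rcases h45 with rfl | rfl
    · rw [nat_card_alternatingGroup]; simp [Nat.factorial]
    · rw [nat_card_alternatingGroup]; simp [Nat.factorial]
  have h2 := hp.two_le
  have h3 : p ^ 2 ≤ 60 := Nat.le_of_dvd (by norm_num) h60
  have h4 : p < 8 := by nlinarith
  interval_cases p <;> simp_all (config := {decide := true})

end Cfsg.Agent.S0892
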