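import Cfsg.Statements.S0246
import Cfsg.Agent.Class.Sp

set_option autoImplicit false
open Cfsg

namespace Cfsg.Agent.S0246

/-- The centre of Sp_{2m}(q), m at least 1, is {1, -1}: it has order gcd(2, q-1). -/
theorem result {F : Type*} [Field F] [Fintype F] {q : ℕ} (hF : Fintype.card F = q) (m : ℕ) (hm : 1 ≤ m) : Nat.card (Subgroup.center (Matrix.symplecticGroup (Fin m) F)) = Nat.gcd 2 (q - 1) := by
  subst hF
  have : Nonempty (Fin m) := ⟨⟨0, hm⟩⟩
  have h := Class.card_rootsOfUnity_eq_gcd (F := F) 2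
  rw [← h]
  symm
  have hmem : ∀ c : rootsOfUnity 2 F, ((c : Fˣ) : F) • (1 : Matrix (Fin m ⊕ Fin m) (Fin m ⊕ Fin m) F) ∈
      Matrix.symplecticGroup (Fin m) F := by
    intro c
    have hc : ((c : Fˣ) : F) ^ 2 = 1 := by
      have := congrArg Units.val ((mem_rootsOfUnity _ _).1 c.2)
      rwa [Units.val_pow_eq_pow_val] at this
    rw [SymplecticGroup.mem_iff]
    simp [smul_smul, ← pow_two, hc]
  refine Nat.card_congr (Equiv.ofBijective (fun c => ⟨⟨_, hmem c⟩, ?_⟩) ⟨?_, ?_⟩)
  · rw [Subgroup.mem_center_iff]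
    intro g
    apply Subtype.ext
    simp
  · intro a b hab
    have := congrArg (fun g => g.1.1 (Sum.inl ⟨0, hm⟩) (Sum.inl ⟨0, hm⟩)) hab
    simp at this
    exact Subtype.ext (Units.ext this)
  · rintro ⟨g, hg⟩
    obtain ⟨u, hu⟩ := exists_ne (0 : Fin m ⊕ Fin m → F)
    obtain ⟨c, hc⟩ := Class.FS.scalar_of_fix_points (Class.spFS_nondeg m F) Class.FS.sp_goodC hu rfl
      (Class.spLin_mem g) (fun v hv _ => by
        obtain ⟨w, hw⟩ := (Class.spFS_nondeg m F).exists_partner' (u := v) rfl hv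
        obtain ⟨A, hA⟩ := Class.exists_sp_of_mem (Class.FS.spT_mem (f := Class.spFS m F) v 1)
        have h1 := congrArg (Class.spLin m F) (Subgroup.mem_center_iff.1 hg A)
        rw [map_mul, map_mul, hA] at h1
        have h2 := LinearEquiv.congr_fun h1 w
        simp only [LinearEquiv.mul_apply, Class.FS.spT_apply, map_sub, map_smul, hw.B12, one_mul,
          one_smul, sub_right_inj] at h2
        exact ⟨_, h2⟩)
    obtain ⟨w, hw⟩ := (Class.spFS_nondeg m F).exists_partner' (u := u) rfl hu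
    have hc2 : c ^ 2 = 1 := by
      have := Class.FS.Isom_B (Class.spLin_mem g) u w
      rw [hc, hc] at this
      simpa [hw.B12, pow_two] using this
    refine ⟨rootsOfUnity.mkOfPowEq c hc2, Subtype.ext (Subtype.ext (Class.matrix_ext_mulVec fun v => ?_))⟩
    have := hc v
    rw [Class.spLin_apply] at this
    simp [this, Matrix.smul_mulVec]

end Cfsg.Agent.S0246
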