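import Cfsg.Statements.S0942
import Cfsg.Agent.Blk.Norm

set_option autoImplicit false
open Cfsg

namespace Cfsg.Agent.S0942

open Cfsg.Agent.Blk Cfsg.Agent.Char Cfsg.Agent.PLoc


theorem result {G : Type*} [Group G] [Finite G] (p : ℕ) [Fact p.Prime] (M : Ideal Cfsg.AlgInt) (hM : Cfsg.IsPModular p M) (u : G) (hu : ∃ k : ℕ, orderOf u = p ^ k) (v : G) (hv : v ∈ Cfsg.centralizerPPrimeCore p u) (χ : Cfsg.IrrCharacter G) (hχ : χ ∈ Cfsg.principalBlock M G) : (χ : G → ℂ) (u * v) = (χ : G → ℂ) u := by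
  haveI : PMod p M := ⟨hM⟩
  obtain ⟨v, hv, rfl⟩ := hv
  have h1 : ¬ p ∣ orderOf (v : G) := fun h => not_dvd_pPrimeCore
    (h.trans (by rw [Subgroup.orderOf_coe]; exact orderOf_dvd_card_of_mem hv))
  exact principal_apply_mul hu hv (c := ⟨u, Subgroup.mem_centralizer_singleton_iff.mpr rfl⟩)
    (ppart_self Fact.out hu) (ppart_mk (Subgroup.mem_centralizer_singleton_iff.mp v.2).symm hu h1) hχ

end Cfsg.Agent.S0942
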