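import Cfsg.Statements.S0943
import Cfsg.Agent.Blk.First

set_option autoImplicit false
open Cfsg

namespace Cfsg.Agent.S0943

open Cfsg.Agent.Blk Cfsg.Agent.Char Cfsg.Agent.PLoc


theorem result {G : Type*} [Group G] [Finite G] (χ : Cfsg.IrrCharacter G) (u v : G) (hc : ∀ x y : G, IsConj u x → IsConj v y → (χ : G → ℂ) (x * y) = (χ : G → ℂ) (u * v)) : (χ : G → ℂ) u * (χ : G → ℂ) v = (χ : G → ℂ) 1 * (χ : G → ℂ) (u * v) := by
  have := Fintype.ofFinite G
  have h := sum_conj_irr χ v u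
  rw [Finset.sum_congr rfl fun x _ => hc _ _ (isConj_conj u x) (IsConj.refl v), Finset.sum_const,
    Finset.card_univ, nsmul_eq_mul, ← Nat.card_eq_fintype_card, eq_div_iff χ.2.one_ne_zero,
    mul_assoc, mul_assoc] at h
  rw [← mul_left_cancel₀ (card_ne_zero G) h, mul_comm]

end Cfsg.Agent.S0943
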