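import Cfsg.Statements.S0199
import Cfsg.Agent.H9.Baer

set_option autoImplicit false
open Cfsg

namespace Cfsg.Agent.S0199

/-- Baer–Suzuki Theorem: a p-subgroup X of a finite group such that X and any of its conjugates generate a p-group is contained in a normal p-subgroup. -/
theorem result {G : Type*} [Group G] [Finite G] {p : ℕ} [Fact p.Prime] (X : Subgroup G) (hX : IsPGroup p X) (h : ∀ g : G, IsPGroup p ↥(X ⊔ X.map (MulAut.conj g).toMonoidHom)) : ∃ N : Subgroup G, N.Normal ∧ IsPGroup p N ∧ X ≤ N := by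
  refine ⟨Subgroup.normalClosure (X : Set G), inferInstance, ?_, Subgroup.le_normalClosure⟩
  have key : IsPGroup p (Subgroup.closure (Group.conjugatesOfSet (X : Set G))) := by
    apply H9.baer_suzuki_set (fun g c hc => Group.conj_mem_conjugatesOfSet hc)
    intro y hy z hz
    rw [Group.mem_conjugatesOfSet_iff] at hy hz
    obtain ⟨y', hy', hy⟩ := hy
    obtain ⟨z', hz', hz⟩ := hz
    obtain ⟨a, rfl⟩ := isConj_iff.1 hy
    obtain ⟨b, rfl⟩ := isConj_iff.1 hz
    have h1 : IsPGroup p (BG.cj a (X ⊔ BG.cj (a⁻¹ * b) X)) := (h (a⁻¹ * b)).map _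
    apply h1.to_le
    rw [BG.cj_sup, ← BG.cj_mul, mul_inv_cancel_left, Subgroup.closure_le]
    rintro _ (rfl | rfl)
    · exact Subgroup.mem_sup_left (BG.mem_cj_conj.2 hy')
    · exact Subgroup.mem_sup_right (BG.mem_cj_conj.2 hz')
  exact key

end Cfsg.Agent.S0199
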