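import Cfsg.Statements.S0944
import Cfsg.Agent.Blk.First

set_option autoImplicit false
open Cfsg

namespace Cfsg.Agent.S0944

open Cfsg.Agent.Blk Cfsg.Agent.Char Cfsg.Agent.PLoc


theorem result {G : Type*} [Group G] [Finite G] (χ : Cfsg.IrrCharacter G) (u : G) (hu : orderOf u = 2) : ∃ n : ℤ, (χ : G → ℂ) u = (n : ℂ) ∧ (2 : ℤ) ∣ (Cfsg.charDegree (χ : G → ℂ) : ℤ) - n := by
  classical
  obtain ⟨n, ε, h1, h2, h3, -⟩ := χ.2.isCharacter.exists_eigenvalues u
  have h4 : ∀ i, ∃ m : ℤ, ε i = m ∧ 2 ∣ 1 - m := fun i => by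
    have := h2 i
    rw [hu, sq_eq_one_iff] at this
    rcases this with h | h
    · exact ⟨1, by simpa using h, by simp⟩
    · exact ⟨-1, by simpa using h, by simp⟩
  choose m hm hm' using h4
  refine ⟨∑ i, m i, by simpa [hm] using h3 1, ?_⟩
  rw [charDegree_eq h1]
  simpa using Finset.dvd_sum (s := Finset.univ) fun i _ => hm' i

end Cfsg.Agent.S0944
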