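import Cfsg.Statements.S0947
import Cfsg.Agent.Blk.Norm

set_option autoImplicit false
open Cfsg

namespace Cfsg.Agent.S0947

open Cfsg.Agent.Blk Cfsg.Agent.Char Cfsg.Agent.PLoc


theorem result {G : Type*} [Group G] [Finite G] (p : ℕ) [Fact p.Prime] (M : Ideal Cfsg.AlgInt) (hM : Cfsg.IsPModular p M) (z : G) (hz : ∃ k : ℕ, orderOf z = p ^ k) (hz1 : z ≠ 1) (y : Subgroup.centralizer ({z} : Set G)) (hy : ¬ p ∣ orderOf y) : (∑ᶠ ζ ∈ Cfsg.principalBlock M G, ‖(ζ : G → ℂ) (z * (y : G))‖ ^ 2 = ∑ᶠ χ ∈ Cfsg.principalBlock M (Subgroup.centralizer ({z} : Set G)), ‖(χ : Subgroup.centralizer ({z} : Set G) → ℂ) y‖ ^ 2) ∧ ((∃ k : ℕ, (Cfsg.pPrimeCore p (Subgroup.centralizer ({z} : Set G))).index = p ^ k) → ∑ᶠ ζ ∈ Cfsg.principalBlock M G, ‖(ζ : G → ℂ) (z * (y : G))‖ ^ 2 = ((p ^ (Nat.card (Subgroup.centralizer ({z} : Set G))).factorization p : ℕ) : ℝ)) := by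
  haveI : PMod p M := ⟨hM⟩
  classical
  have := Fintype.ofFinite (Subgroup.centralizer ({z} : Set G))
  set z' : Subgroup.centralizer ({z} : Set G) := ⟨z, Subgroup.mem_centralizer_singleton_iff.mpr rfl⟩
  have h0 : IsPPart p ((z' * y : Subgroup.centralizer ({z} : Set G)) : G) z :=
    ppart_mk (Subgroup.mem_centralizer_singleton_iff.mp y.2).symm hz (by rwa [Subgroup.orderOf_coe])
  have h1 := principal_sum_section (M := M) hz h0 h0
  simp only [Complex.mul_conj', finsum_mem_irr] at h1 ⊢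
  have h2 : ∑ ζ ∈ Finset.univ.filter (· ∈ principalBlock M G), ‖(ζ : G → ℂ) (z * y)‖ ^ 2 =
      ∑ ξ ∈ Finset.univ.filter (· ∈ principalBlock M (Subgroup.centralizer ({z} : Set G))),
        ‖(ξ : Subgroup.centralizer ({z} : Set G) → ℂ) y‖ ^ 2 := by
    have h3 : ∀ ξ : IrrCharacter (Subgroup.centralizer ({z} : Set G)),
        ‖(ξ : Subgroup.centralizer ({z} : Set G) → ℂ) (z' * y)‖ = ‖(ξ : _ → ℂ) y‖ := fun ξ => by
      rw [apply_mul_of_center ξ (mem_center_cent z), norm_mul, norm_div,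
        ξ.2.norm_eq_of_comm (fun g => (Subgroup.mem_center_iff.mp (mem_center_cent z) g).symm),
        div_self (norm_ne_zero_iff.mpr ξ.2.one_ne_zero), one_mul]
    simp only [h3] at h1
    exact_mod_cast h1
  refine ⟨h2, fun hk => ?_⟩
  rw [h2]
  have h4 := sum_sq_of_ker (pPrimeCore p (Subgroup.centralizer ({z} : Set G)))
  have h5 : (pPrimeCore p (Subgroup.centralizer ({z} : Set G))).index =
      p ^ (Nat.card (Subgroup.centralizer ({z} : Set G))).factorization p := by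
    obtain ⟨k, hk⟩ := hk
    rw [nu_card_mul p (pPrimeCore p (Subgroup.centralizer ({z} : Set G))),
      Nat.factorization_eq_zero_of_not_dvd not_dvd_pPrimeCore, hk, Nat.factorization_pow_self Fact.out, zero_add]
  rw [← h5]
  apply Complex.ofReal_injective
  push_cast
  rw [← h4]
  refine Finset.sum_congr (Finset.filter_congr fun ξ _ => mem_principal_iff hk) fun ξ hξ => ?_
  rw [(Finset.mem_filter.mp hξ).2 y (mem_of_index_pow hk hy), irr_one_eq, Complex.norm_natCast]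
  rfl

end Cfsg.Agent.S0947
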