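import Cfsg.Statements.S0252
import Cfsg.Agent.Class.Dick5

set_option autoImplicit false
open Cfsg

namespace Cfsg.Agent.S0252

/-- PSL_2(4) is isomorphic to A_5. -/
theorem result {F : Type*} [Field F] [Fintype F] (hF : Fintype.card F = 4) : Nonempty (Matrix.ProjectiveSpecialLinearGroup (Fin 2) F ≃* alternatingGroup (Fin 5)) := by
  have e : Class.P1 F ≃ Fin 5 := Finite.equivFinOfCardEq (by rw [Class.card_P1, Nat.card_eq_fintype_card, hF])
  have h := Class.card_PSL2 (F := F)
  rw [hF] at h
  exact Inv.equiv_alternating_of_injective (by norm_num)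
    (e.permCongrHom.toMonoidHom.comp (MulAction.toPermHom _ (Class.P1 F)))
    (e.permCongrHom.injective.comp MulAction.toPerm_injective) (by
      norm_num [Nat.factorial] at h ⊢; omega)

end Cfsg.Agent.S0252
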