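import Cfsg.Statements.S0253
import Cfsg.Agent.Class.Dick5

set_option autoImplicit false
open Cfsg

namespace Cfsg.Agent.S0253

/-- PSL_2(5) is isomorphic to A_5. -/
theorem result {F : Type*} [Field F] [Fintype F] (hF : Fintype.card F = 5) : Nonempty (Matrix.ProjectiveSpecialLinearGroup (Fin 2) F ≃* alternatingGroup (Fin 5)) := by
  have h := Class.card_PSL2 (F := F)
  obtain ⟨H, ⟨e⟩⟩ := Class.exists_A5_of_dvd (F := F) (by rw [hF]; norm_num)
  rw [hF] at h
  have : H = ⊤ := Subgroup.eq_of_le_of_card_ge le_top (by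
    rw [Subgroup.card_top, Nat.card_congr e.toEquiv, Class.card_A5]; norm_num at h; omega)
  exact ⟨(Subgroup.topEquiv.symm.trans (MulEquiv.subgroupCongr this.symm)).trans e⟩

end Cfsg.Agent.S0253
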