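import Cfsg.Statements.S1512
import Cfsg.Agent.Char.PF1

set_option autoImplicit false
open Cfsg

namespace Cfsg.Agent.S1512

open Cfsg.Agent.Char

/-- Let K be a normal subgroup of the finite group L and x a non-identity element whose order is coprime to the order of K, such that K ⊓ C_L(y) = W₂ for every non-identity element y of the cyclic group generated by x. Then the number of conjugacy classes of K mapped to themselves by conjugation by x is at most Nat.card W₂. -/
theorem result {L : Type*} [Group L] [Finite L] (K W₂ : Subgroup L) [hK : K.Normal] (x : L) (hx1 : x ≠ 1) (hx : Nat.Coprime (orderOf x) (Nat.card K)) (hC : ∀ y ∈ Subgroup.zpowers x, y ≠ 1 → K ⊓ Subgroup.centralizer ({y} : Set L) = W₂) : Nat.card {C : ConjClasses K // ConjClasses.map (MulEquiv.toMonoidHom ((MulAut.conjNormal x : MulAut K))) C = C} ≤ Nat.card W₂ := by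
  refine Nat.card_le_card_of_surjective
    (fun w : W₂ => (⟨ConjClasses.mk ⟨w, ?_⟩, ?_⟩ : {C : ConjClasses K //
      ConjClasses.map (MulEquiv.toMonoidHom ((MulAut.conjNormal x : MulAut K))) C = C})) ?_
  · exact ((hC x (Subgroup.mem_zpowers x) hx1).ge w.2).1
  · have := (hC x (Subgroup.mem_zpowers x) hx1).ge w.2
    have h2 := Subgroup.mem_centralizer_singleton_iff.1 this.2
    change ConjClasses.mk _ = _
    congr 1
    ext
    simp [← h2]
  · rintro ⟨C, hC'⟩
    obtain ⟨k, rfl⟩ := ConjClasses.mk_surjective C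
    have h1 : IsConj k (MulAut.conjNormal x k) := (ConjClasses.mk_eq_mk_iff_isConj.1 hC').symm
    obtain ⟨c, hc⟩ := isConj_iff.1 h1
    obtain ⟨y, hy, e⟩ := exists_conj_comm_of_coprime (H := K) (g := x) (x := k)
      (by simp [Subgroup.normalizer_eq_top]) hx ⟨c, c.2, by
        have := congrArg Subtype.val hc
        simpa using this.symm⟩
    have h2 : y * k * y⁻¹ ∈ W₂ := by
      rw [← hC x (Subgroup.mem_zpowers x) hx1]
      exact ⟨hK.conj_mem _ k.2 _, Subgroup.mem_centralizer_singleton_iff.2 e.symm⟩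
    refine ⟨⟨_, h2⟩, Subtype.ext ?_⟩
    refine ConjClasses.mk_eq_mk_iff_isConj.2 (IsConj.symm (isConj_iff.2 ⟨⟨y, hy⟩, rfl⟩))

end Cfsg.Agent.S1512
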