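import Cfsg.Statements.S1081
import Cfsg.Agent.Lie.EmbE6
import Cfsg.Agent.Lie.EmbD4

set_option autoImplicit false
open Cfsg

namespace Cfsg.Agent.S1081

open Cfsg.Agent.Lie Cfsg.Lie
open scoped Matrix

theorem aux {D : ChevalleyDatum} [Good D] {F : Type*} [Field F] {E : Emb D D} (h : E.OK) (hf : E.Fits F)
    (hs : ∀ r, Function.Surjective fun t : F => t ^ E.lam r) (hpos : ∀ r, Pos (E.ρ r) ↔ Pos r)
    {ρ0 : Equiv.Perm (Ix D)} (hsim : ∀ i, E.ρ (sim i) = sim (ρ0 i) ∧ E.γ (sim i) = 1) :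
    ∃ α : D.group F ≃* D.group F, ∀ (i : Ix D) (t : F),
      α (xA (sim i) t) = xA (sim (ρ0 i)) (t ^ E.lam (sim i)) ∧
      α (xA (ng (sim i)) t) = xA (ng (sim (ρ0 i))) (t ^ E.lam (sim i)) := by
  obtain ⟨α, hα⟩ := Emb.exists_aut h hf (RingHom.id F) hs fun r => (hpos r).2
  refine ⟨α, fun i t => ?_⟩
  obtain ⟨h1, h2, h3, -⟩ := h.one (sim i)
  simp [hα, Emb.f, h1, h2, h3, hsim]

theorem aux2 {D : ChevalleyDatum} [Good D] {F : Type*} [Field F] {α : D.group F ≃* D.group F}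
    {g : D.group F} {r s : Rt D} {t u : F} (h : α (xA r t) = xA s u)
    (hg : ((g : GL D.Idx F) : Matrix D.Idx D.Idx F) = D.x F r t) :
    ((α g : GL D.Idx F) : Matrix D.Idx D.Idx F) = D.x F s u := by
  obtain rfl : g = xA r t := Subtype.ext (Units.ext (hg.trans (x_eq _ r t)))
  rw [h, x_eq]; rfl


/-- Graph automorphisms: for E₆ with ρ = (p₁ p₆)(p₃ p₅) and for D₄ with ρ the 3-cycle on the outer nodes there is a group automorphism sending `x_p(t) ↦ x_{ρ(p)}(t)` and `x_{-p}(t) ↦ x_{-ρ(p)}(t)` for every fundamental root `p`. -/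
theorem result {F : Type*} [Field F] (p : Cfsg.Lie.ChevalleyDatum × List ℕ)
    (hp : p ∈ [(Cfsg.Lie.chevE6, [5, 1, 4, 3, 2, 0]), (Cfsg.Lie.chevD4, [2, 1, 3, 0]), (Cfsg.Lie.chevD4, [3, 1, 0, 2])]) :
    ∃ α : ↥(p.1.group F) ≃* ↥(p.1.group F), ∀ (g : ↥(p.1.group F)) (i : ℕ) (t : F), i < p.1.rank →
      (((g : GL p.1.Idx F) : Matrix p.1.Idx p.1.Idx F) = p.1.x F (p.1.simple i) t →
        ((α g : GL p.1.Idx F) : Matrix p.1.Idx p.1.Idx F) = p.1.x F (p.1.simple (p.2.getD i 0)) t) ∧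
      (((g : GL p.1.Idx F) : Matrix p.1.Idx p.1.Idx F) = p.1.x F (p.1.neg (p.1.simple i)) t →
        ((α g : GL p.1.Idx F) : Matrix p.1.Idx p.1.Idx F) = p.1.x F (p.1.neg (p.1.simple (p.2.getD i 0))) t) := by
  simp only [List.mem_cons, List.not_mem_nil, or_false] at hp
  rcases hp with rfl | rfl | rfl
  · obtain ⟨α, hα⟩ := aux (F := F) embE6_ok (Emb.fits_one _ rfl fun _ => rfl) (fun r t => ⟨t, pow_one t⟩)
      embE6_pos embE6_sim
    refine ⟨α, fun g i t hi => ?_⟩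
    have h := hα ⟨i, hi⟩ t
    rw [show embE6.lam (sim ⟨i, hi⟩) = 1 from rfl, pow_one] at h
    change i < 6 at hi
    interval_cases i <;> exact ⟨aux2 h.1, aux2 h.2⟩
  · obtain ⟨α, hα⟩ := aux (F := F) embD4_ok (Emb.fits_one _ rfl fun _ => rfl) (fun r t => ⟨t, pow_one t⟩)
      embD4_pos embD4_sim
    refine ⟨α, fun g i t hi => ?_⟩
    have h := hα ⟨i, hi⟩ t
    rw [show embD4.lam (sim ⟨i, hi⟩) = 1 from rfl, pow_one] at h
    change i < 4 at hi
    interval_cases i <;> exact ⟨aux2 h.1, aux2 h.2⟩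
  · obtain ⟨α, hα⟩ := aux (F := F) embD4_ok (Emb.fits_one _ rfl fun _ => rfl) (fun r t => ⟨t, pow_one t⟩)
      embD4_pos embD4_sim
    refine ⟨α.symm, fun g i t hi => ?_⟩
    have h := hα (embD40.symm ⟨i, hi⟩) t
    rw [show embD4.lam (sim (embD40.symm ⟨i, hi⟩)) = 1 from rfl, pow_one, Equiv.apply_symm_apply,
      ← α.eq_symm_apply, ← α.eq_symm_apply] at h
    change i < 4 at hi
    interval_cases i <;> exact ⟨aux2 h.1.symm, aux2 h.2.symm⟩

end Cfsg.Agent.S1081
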