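import Cfsg.Statements.S1098
import Cfsg.Agent.Lie.EmbB2
import Cfsg.Agent.Lie.EmbF4

set_option autoImplicit false
open Cfsg

namespace Cfsg.Agent.S1098

open Cfsg.Agent.Lie Cfsg.Lie
open scoped Matrix

theorem aux {D : ChevalleyDatum} [Good D] {F : Type*} [Field F] {E : Emb D D} (h : E.OK) (hf : E.Fits F)
    (hs : ∀ r, Function.Surjective fun t : F => t ^ E.lam r) (hpos : ∀ r, Pos (E.ρ r) ↔ Pos r)
    {ρ0 : Equiv.Perm (Ix D)} (hsim : ∀ i, E.ρ (sim i) = sim (ρ0 i) ∧ E.γ (sim i) = 1) :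
    ∃ α : D.group F ≃* D.group F, ∀ (i : Ix D) (t : F),
      α (xA (sim i) t) = xA (sim (ρ0 i)) (t ^ E.lam (sim i)) ∧
      α (xA (ng (sim i)) t) = xA (ng (sim (ρ0 i))) (t ^ E.lam (sim i)) := by
  obtain ⟨α, hα⟩ := Emb.exists_aut h hf (RingHom.id F) hs fun r => (hpos r).2
  refine ⟨α, fun i t => ?_⟩
  obtain ⟨h1, h2, h3, -⟩ := h.one (sim i)
  simp [hα, Emb.f, h1, h2, h3, hsim]

theorem aux2 {D : ChevalleyDatum} [Good D] {F : Type*} [Field F] {α : D.group F ≃* D.group F}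
    {g : D.group F} {r s : Rt D} {t u : F} (h : α (xA r t) = xA s u)
    (hg : ((g : GL D.Idx F) : Matrix D.Idx D.Idx F) = D.x F r t) :
    ((α g : GL D.Idx F) : Matrix D.Idx D.Idx F) = D.x F s u := by
  obtain rfl : g = xA r t := Subtype.ext (Units.ext (hg.trans (x_eq _ r t)))
  rw [h, x_eq]; rfl


/-- Graph automorphisms in characteristic 2 (K perfect): for B₂ (a short, b long) `x_a(t) ↦ x_b(t²)`, `x_b(t) ↦ x_a(t)`, and for F₄ (p₁, p₂ short, p₃, p₄ long) `x_{p₁}(t) ↦ x_{p₄}(t²)`, `x_{p₂}(t) ↦ x_{p₃}(t²)`, `x_{p₃}(t) ↦ x_{p₂}(t)`, `x_{p₄}(t) ↦ x_{p₁}(t)`, likewise on the negatives, extend to an automorphism of the group. -/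
theorem result {K : Type*} [Field K] [CharP K 2] (hperf : ∀ x : K, ∃ y : K, y ^ 2 = x)
    (p : Cfsg.Lie.ChevalleyDatum × List (ℕ × ℕ))
    (hp : p ∈ [(Cfsg.Lie.chevB2, [(1, 2), (0, 1)]), (Cfsg.Lie.chevF4, [(3, 2), (2, 2), (1, 1), (0, 1)])]) :
    ∃ α : ↥(p.1.group K) ≃* ↥(p.1.group K), ∀ (g : ↥(p.1.group K)) (i : ℕ) (t : K), i < p.1.rank →
      (((g : GL p.1.Idx K) : Matrix p.1.Idx p.1.Idx K) = p.1.x K (p.1.simple i) t →
        ((α g : GL p.1.Idx K) : Matrix p.1.Idx p.1.Idx K) = p.1.x K (p.1.simple (p.2.getD i (0, 1)).1) (t ^ (p.2.getD i (0, 1)).2)) ∧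
      (((g : GL p.1.Idx K) : Matrix p.1.Idx p.1.Idx K) = p.1.x K (p.1.neg (p.1.simple i)) t →
        ((α g : GL p.1.Idx K) : Matrix p.1.Idx p.1.Idx K) = p.1.x K (p.1.neg (p.1.simple (p.2.getD i (0, 1)).1)) (t ^ (p.2.getD i (0, 1)).2)) := by
  simp only [List.mem_cons, List.not_mem_nil, or_false] at hp
  rcases hp with rfl | rfl
  · obtain ⟨α, hα⟩ := aux (F := K) embB2_ok embB2_fits (fun r t => by
      rcases (show ∀ r, embB2.lam r = 1 ∨ embB2.lam r = 2 by decide +kernel) r with h | h <;> rw [h]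
      exacts [⟨t, pow_one t⟩, hperf t]) embB2_pos embB2_sim
    refine ⟨α, fun g i t hi => ?_⟩
    have h := hα ⟨i, hi⟩ t
    have h1 := fun hg => aux2 (g := g) h.1 hg
    have h2 := fun hg => aux2 (g := g) h.2 hg
    have e := (show ∀ i : Ix chevB2, embB2.lam (sim i) = (List.getD [(1, 2), (0, 1)] i (0, 1)).2 ∧
      (embB20 i : ℕ) = (List.getD [(1, 2), (0, 1)] i (0, 1)).1 by decide +kernel) ⟨i, hi⟩
    rw [← neg_val, ← neg_val] at h2
    simp only [sim_val, e] at h1 h2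
    exact ⟨h1, h2⟩
  · obtain ⟨α, hα⟩ := aux (F := K) embF4_ok embF4_fits (fun r t => by
      rcases (show ∀ r, embF4.lam r = 1 ∨ embF4.lam r = 2 by decide +kernel) r with h | h <;> rw [h]
      exacts [⟨t, pow_one t⟩, hperf t]) embF4_pos embF4_sim
    refine ⟨α, fun g i t hi => ?_⟩
    have h := hα ⟨i, hi⟩ t
    have h1 := fun hg => aux2 (g := g) h.1 hg
    have h2 := fun hg => aux2 (g := g) h.2 hg
    have e := (show ∀ i : Ix chevF4, embF4.lam (sim i) = (List.getD [(3, 2), (2, 2), (1, 1), (0, 1)] i (0, 1)).2 ∧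
      (embF40 i : ℕ) = (List.getD [(3, 2), (2, 2), (1, 1), (0, 1)] i (0, 1)).1 by decide +kernel) ⟨i, hi⟩
    rw [← neg_val, ← neg_val] at h2
    simp only [sim_val, e] at h1 h2
    exact ⟨h1, h2⟩

end Cfsg.Agent.S1098
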