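import Cfsg.Statements.S0402
import Cfsg.Agent.Lee.C5

set_option autoImplicit false
open Cfsg

namespace Cfsg.Agent.S0402

open Cfsg.Agent.Gol Finset
open scoped Pointwise
open Cfsg.Agent.Lee


theorem result (v : Cfsg.leechLattice) (hv : Cfsg.sqNorm (v : Cfsg.GolayPt → ℤ) = 32) : Cfsg.IsCo2 (MulAction.stabilizer Cfsg.Co0 v) := by
  obtain ⟨g, rfl⟩ := trans2 hv
  haveI := simple_Co2
  exact ⟨(conjEquiv g (K := MulAction.stabilizer Co0 v0) fun x => cj_iff g x v0 v0).symm.isSimpleGroup,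
    card_stab2 hv⟩

end Cfsg.Agent.S0402
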