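import Cfsg.Statements.S0493
import Cfsg.Agent.H9.Sm5

set_option autoImplicit false
open Cfsg

namespace Cfsg.Agent.S0493

/-- A finite simple group of order at most 100 that is not cyclic has order 60. -/
theorem result {G : Type*} [Group G] [Finite G] [IsSimpleGroup G]
    (hG : ¬ IsCyclic G) (h : Nat.card G ≤ 100) : Nat.card G = 60 := by
  have h0 : ¬ IsMulCommutative G := Inv.not_comm_of_simple fun e => by
    have := Fact.mk e
    exact hG (isCyclic_of_prime_card rfl)
  have h1 := H9.mem_sieve h0 (a := 1) (b := 1092) Nat.card_pos (by omega) (by norm_num)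
  simp only [H9.sieve1, List.mem_cons, List.not_mem_nil, or_false] at h1
  omega

end Cfsg.Agent.S0493
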