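import Cfsg.Statements.S0494
import Cfsg.Agent.H9.Sm1
import Cfsg.Agent.S0253
import Cfsg.Agent.S0252

set_option autoImplicit false
open Cfsg

namespace Cfsg.Agent.S0494

/-- A simple group of order 60 is isomorphic to the alternating group of degree 5. -/
theorem result {G : Type*} [Group G] [Finite G] [IsSimpleGroup G]
    (h : Nat.card G = 60) : Nonempty (G ≃* alternatingGroup (Fin 5)) := by
  rcases H9.big_prime.{0} (G := G) (by rw [h]; norm_num) 5 (by norm_num) (by rw [h]; norm_num)
    (by rw [h]; norm_num) with ⟨-, h1⟩ | ⟨-, h1⟩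
  · haveI : Fact (Nat.Prime 5) := ⟨by norm_num⟩
    obtain ⟨e⟩ := h1 (ZMod 5) (by simp)
    obtain ⟨f⟩ := S0253.result (F := ZMod 5) (by simp)
    exact ⟨e.trans f⟩
  · haveI : Fact (Nat.Prime 2) := ⟨by norm_num⟩
    haveI : Fintype (GaloisField 2 2) := Fintype.ofFinite _
    have hc : Fintype.card (GaloisField 2 2) = 4 := by
      rw [← Nat.card_eq_fintype_card, GaloisField.card 2 2 (by norm_num)]; norm_num
    obtain ⟨e⟩ := h1 (GaloisField 2 2) (by rw [hc])
    obtain ⟨f⟩ := S0252.result (F := GaloisField 2 2) hc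
    exact ⟨e.trans f⟩

end Cfsg.Agent.S0494
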