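import Cfsg.Statements.S0514
import Cfsg.Agent.Comp.Conn

set_option autoImplicit false
open Cfsg

namespace Cfsg.Agent.S0514

open Cfsg.Agent.Comp Subgroup


/-- In a finite group whose Sylow 2-subgroups are dihedral of order at least 4, the centralizer of any involution has a
normal subgroup of odd order whose index in the centralizer is a power of 2. -/
theorem result {X : Type*} [Group X] [Finite X]
    (S : Sylow 2 X) (n : ℕ) (hn : 2 ≤ n) (hS : Nonempty ((S : Subgroup X) ≃* DihedralGroup n)) (t : X)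
    (ht : orderOf t = 2) :
    ∃ N : Subgroup (Subgroup.centralizer ({t} : Set X)), N.Normal ∧ Odd (Nat.card N) ∧ ∃ k : ℕ, N.index = 2 ^ k := by
  let C := centralizer ({t} : Set X)
  let P : Sylow 2 C := default
  have htC : t ∈ C := mem_centralizer_singleton_iff.2 rfl
  have h : PLoc.NPC 2 (⊤ : Subgroup C) := PLoc.npc_top_of_frobenius P fun Q hQ _ g hg ho => by
    have a1 : IsPGroup 2 ↥(Q.map C.subtype ⊔ zpowers t) :=
      IsPGroup.to_sup_of_normal_right' ((P.2.to_le hQ).map _) (isPGroup_zpowers_of_orderOf ht)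
        ((map_subtype_le Q).trans ((centralizer_zpowers t).ge.trans (centralizer_le_normalizer _)))
    have a2 : (g : X) ∈ normalizer ((Q.map C.subtype ⊔ zpowers t : Subgroup X) : Set X) := by
      refine sup_normalizer' (H := zpowers (g : X)) (zpowers_le.2 ?_) (zpowers_le.2 ?_)
        (mem_zpowers _)
      · exact le_normalizer_map _ ⟨g, hg, rfl⟩
      · exact centralizer_le_normalizer _ (by rw [centralizer_zpowers]; exact g.2)
    obtain ⟨T, hT⟩ := a1.exists_le_sylow
    obtain ⟨a, -, -, a3, a4⟩ := dihedral_struct ((T.equiv S).trans hS.some)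
    have ho' : Odd (orderOf (g : X)) := by rwa [orderOf_coe, ← Nat.coprime_two_right]
    have a5 : (g : X) ∈ centralizer ((Q.map C.subtype ⊔ zpowers t : Subgroup X) : Set X) := by
      rcases Inv.odd_centralizes_or T.2 inferInstance a3 (fun w h1 h2 => Or.inl (a4 w h1 h2)) hT a2
        ho' with h1 | h1 | ⟨⟨w, h1, h2, h3⟩, -⟩
      · exact h1
      · exact Inv.mem_centralizer_of_sq_of_odd ho' (Inv.kf_sq_mem_centralizer h1
          (mem_sup_right (mem_zpowers t)) (Inv.ne_one_of_ord2 ht) a2
          (mul_inv_eq_iff_eq_mul.2 (mem_centralizer_singleton_iff.1 g.2)))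
      · rw [a4 w h1 h2] at h3; omega
    exact fun q hq => Subtype.ext (a5 q (mem_sup_left ⟨q, hq, rfl⟩))
  obtain ⟨N, h1, h2⟩ := (PLoc.exists_complement_iff_npc P).2 h
  refine ⟨N, h1, ?_, ?_⟩
  · rw [← h2.index_eq_card, ← Nat.not_even_iff_odd, even_iff_two_dvd]
    exact P.not_dvd_index
  · rw [h2.symm.index_eq_card]
    exact P.2.exists_card_eq

end Cfsg.Agent.S0514
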