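import Cfsg.Statements.S0992
import Cfsg.Agent.H9.Sm4

set_option autoImplicit false
open Cfsg

namespace Cfsg.Agent.S0992
open Subgroup Cfsg.Agent.H9 Cfsg.Agent.Inv Cfsg.Agent.PLoc

/-- Let G be a non-abelian finite simple group of even order not divisible by 8, and T a Sylow 2-subgroup. Then T is a Klein four-group and the centralizer of T has index 3 in the normalizer of T. -/
theorem result {G : Type*} [Group G] [Finite G] [IsSimpleGroup G] (hG : ¬ IsMulCommutative G) (h2 : Even (Nat.card G)) (h8 : ¬ 8 ∣ Nat.card G) (T : Sylow 2 G) : IsKleinFour ↥(T : Subgroup G) ∧ (Subgroup.centralizer ((T : Subgroup G) : Set G)).relIndex (Subgroup.normalizer ((T : Subgroup G) : Set G)) = 3 := by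
  obtain ⟨hK, g, hg, ho, hc⟩ := klein_sylow hG h2 h8 T
  refine ⟨hK, ?_⟩
  have h1 := kf_relIndex_dvd_six hK le_rfl
  have h3 : ¬ 2 ∣ (centralizer ((T : Subgroup G) : Set G)).relIndex
      (normalizer ((T : Subgroup G) : Set G)) := fun e =>
    (isSylowOf_sylow T le_normalizer).not_dvd (e.trans (relIndex_dvd_of_le_left _
      fun x hx y hy => kf_comm hK hy hx))
  have h4 : (centralizer ((T : Subgroup G) : Set G)).relIndex
      (normalizer ((T : Subgroup G) : Set G)) ≠ 1 := fun e => hc (relIndex_eq_one.1 e hg)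
  generalize (centralizer ((T : Subgroup G) : Set G)).relIndex _ = k at *
  have := Nat.le_of_dvd (by norm_num) h1
  interval_cases k <;> simp_all

end Cfsg.Agent.S0992
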