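import Cfsg.Statements.S0824
import Cfsg.Agent.Class.Exc4

set_option autoImplicit false
open Cfsg

namespace Cfsg.Agent.S0824

/-- O⁻_4(2) ≅ S_5: the isometry group of the form x y + z_1² + z_1 z_2 + z_2² over the field with 2 elements is isomorphic to the symmetric group on 5 letters. -/
theorem result {F : Type*} [Field F] [Fintype F] (hF : Fintype.card F = 2) : Nonempty (↥(Cfsg.isometryGroup F (Cfsg.quadFormMinus 1 F 1 1)) ≃* Equiv.Perm (Fin 5)) := by
  refine (Class.o4m_two_equiv hF (a := 1) (b := 1) fun x y h => ?_).map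
    (Class.oEquiv (Class.minusOS 1 1 1)).trans
  have h1 : ∀ z : F, z ^ 2 = z := fun z => hF ▸ FiniteField.pow_card z
  have h2 := Class.two_eq_zero_of_card hF
  have h3 : x = 0 := by linear_combination x * h - (x + 1 + y) * h1 x - x * h1 y - x * y * h2
  exact ⟨h3, by simpa [h3] using h⟩

end Cfsg.Agent.S0824
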