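import Cfsg.Statements.S1584
import Cfsg.Agent.Lee.C5

set_option autoImplicit false
open Cfsg

namespace Cfsg.Agent.S1584

open Cfsg.Agent.Gol Finset
open scoped Pointwise
open Cfsg.Agent.Lee


theorem result (v w x : ↥Cfsg.leechLattice) (hv : Cfsg.sqNorm (v : Cfsg.GolayPt → ℤ) = 48) (hw : Cfsg.sqNorm (w : Cfsg.GolayPt → ℤ) = 48) (hvw : Cfsg.dotInt (v : Cfsg.GolayPt → ℤ) (w : Cfsg.GolayPt → ℤ) = -32) (hx : x ∈ {x : ↥Cfsg.leechLattice | Cfsg.sqNorm (x : Cfsg.GolayPt → ℤ) = 32 ∧ Cfsg.dotInt (v : Cfsg.GolayPt → ℤ) (x : Cfsg.GolayPt → ℤ) = 24 ∧ Cfsg.dotInt (w : Cfsg.GolayPt → ℤ) (x : Cfsg.GolayPt → ℤ) = -24}) : {y : ↥Cfsg.leechLattice | y ∈ {x : ↥Cfsg.leechLattice | Cfsg.sqNorm (x : Cfsg.GolayPt → ℤ) = 32 ∧ Cfsg.dotInt (v : Cfsg.GolayPt → ℤ) (x : Cfsg.GolayPt → ℤ) = 24 ∧ Cfsg.dotInt (w : Cfsg.GolayPt → ℤ) (x : Cfsg.GolayPt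 → ℤ) = -24} ∧ Cfsg.dotInt (x : Cfsg.GolayPt → ℤ) (y : Cfsg.GolayPt → ℤ) = 8}.ncard = 22 ∧ {y : ↥Cfsg.leechLattice | y ∈ {x : ↥Cfsg.leechLattice | Cfsg.sqNorm (x : Cfsg.GolayPt → ℤ) = 32 ∧ Cfsg.dotInt (v : Cfsg.GolayPt → ℤ) (x : Cfsg.GolayPt → ℤ) = 24 ∧ Cfsg.dotInt (w : Cfsg.GolayPt → ℤ) (x : Cfsg.GolayPt → ℤ) = -24} ∧ y ≠ x ∧ Cfsg.dotInt (x : Cfsg.GolayPt → ℤ) (y : Cfsg.GolayPt → ℤ) ≠ 8}.ncard = 77 ∧ ∀ y ∈ {x : ↥Cfsg.leechLattice | Cfsg.sqNorm (x : Cfsg.GolayPt → ℤ) = 32 ∧ Cfsg.dotInt (v : Cfsg.GolayPt → ℤ) (x : Cfsg.GolayPt → ℤ) = 24 ∧ Cfsg.dotInt (w : Cfsg.GolayPt → ℤ) (x : Cfsg.GolayPt → ℤ) = -24}, ∀ y' ∈ {x : ↥Cfsg.leechLattice | Cfsg.sqNorm (x : Cfsg.GolayPt → ℤ) = 32 ∧ Cfsg.dotInt (v : Cfsg.GolayPt → ℤ) (x : Cfsg.GolayPt → ℤ) = 24 ∧ Cfsg.dotInt (w : Cfsg.GolayPt → ℤ) (x : Cfsg.GolayPt → ℤ) = -24}, y ≠ x →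 y' ≠ x → (Cfsg.dotInt (x : Cfsg.GolayPt → ℤ) (y : Cfsg.GolayPt → ℤ) = 8 ↔ Cfsg.dotInt (x : Cfsg.GolayPt → ℤ) (y' : Cfsg.GolayPt → ℤ) = 8) → ∃ g : ↥Cfsg.Co0, g • v = v ∧ g • w = w ∧ g • x = x ∧ g • y = y' := by
  obtain ⟨g, rfl, rfl, rfl⟩ := stdHS3 hv hw hvw hx.1 hx.2.1 hx.2.2
  have k : ∀ y : Λ, (sqNorm ((g • y : Λ) : V) = 32 ∧ dotInt ((g • u0 : Λ) : V) (g • y : Λ) = 24 ∧
      dotInt ((g • (w0 - u0) : Λ) : V) ((g • y : Λ) : V) = -24) ↔ y ∈ XC [(cx1, 64), (cu0, 88)] :=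
    fun y => by rw [mem_hs, nm_smul, dt_smul, dt_smul]
  have n := orbX_hist c7 n100 List.mem_cons_self
  have d : ∀ y ∈ XC [(cx1, 64), (cu0, 88)], y ≠ v0 → dotInt (v0 : V) (y : V) ≠ 8 →
      dotInt (v0 : V) (y : V) = 16 := fun y hy a b => by
    have n' := fun j => (XC_cls _ _ j).trans (n j)
    rw [lv_v0] at n'
    obtain ⟨j, c, e⟩ := dot_cases (x := v0) (by rw [nm_v0]; norm_num) (fun y hy => hy.1) n'
      {9, 10, 12} (by decide +kernel) hy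
    have := (dot_self_iff nm_v0 hy.1).not.2 a
    simp only [mem_insert, mem_singleton] at c
    omega
  refine ⟨(ncard_tr g fun y => ?_).trans ((n 9).trans (by norm_num)),
    (ncard_tr g fun y => ?_).trans ((n 10).trans (by norm_num)), fun y hy y' hy' p q e => ?_⟩
  · show _ ↔ y ∈ XC _
    rw [XC_cons, dt_smul, lv_v0]
    exact and_congr (k y) Iff.rfl
  · show _ ↔ y ∈ XC _
    rw [XC_cons, dt_smul, lv_v0]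
    refine (and_congr (k y) Iff.rfl).trans (and_congr_right fun hy => ⟨fun h => d y hy
      (fun e => h.1 (by rw [e])) h.2, fun h => ⟨fun e => ?_, by rw [h]; norm_num⟩⟩)
    rw [smul_left_cancel g e, ← sqNorm_eq_dot, nm_v0] at h
    norm_num at h
  · obtain ⟨y, rfl⟩ := MulAction.surjective g y
    obtain ⟨y', rfl⟩ := MulAction.surjective g y'
    simp only [dt_smul] at e
    obtain ⟨h, a, b⟩ := orbX_key c7 n100 c7k y ((k y).1 hy) y' ((k y').1 hy') (by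
      rw [lv_v0]
      by_cases c : dotInt (v0 : V) (y : V) = 8
      · rw [c, e.1 c]
      · rw [d y ((k y).1 hy) (fun e => p (by rw [e])) c,
          d y' ((k y').1 hy') (fun e => q (by rw [e])) (e.not.1 c)])
    simp only [mem_FV, List.map, List.forall_mem_cons, lv_v0, lv_u0, lv_x1, co_neg, neg_inj] at a
    exact ⟨_, cj g a.2.2.1, cj g (by rw [co_sub, a.2.2.1, a.2.1]), cj g a.1, cj g b⟩

end Cfsg.Agent.S1584
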