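import Cfsg.Statements.S0815
import Cfsg.Agent.Class.Aut7

set_option autoImplicit false
open Cfsg

namespace Cfsg.Agent.S0815

/-- |Aut(PSU_n(q))| = gcd(n, q+1) · 2f · |PSU_n(q)| for q = p^f, n ≥ 3, (n, q) ≠ (3, 2); the form is realised over F with |F| = q². -/
theorem result {F : Type*} [Field F] [Fintype F] (p f : ℕ) [Fact p.Prime] (hf : 1 ≤ f) {q : ℕ} (hq : q = p ^ f) (hF : Fintype.card F = q ^ 2) (n : ℕ) (hn : 3 ≤ n) (h32 : ¬ (n = 3 ∧ q = 2)) : Nat.card (MulAut (Cfsg.PSU n F q)) = Nat.gcd n (q + 1) * (2 * f) * Nat.card (Cfsg.PSU n F q) := by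
    open Cfsg.Agent.Class Cfsg.Agent.Class.FS in
    obtain ⟨σ, h⟩ := exists_UF hF
    have hF' : Nat.card F = p ^ (2 * f) := by rw [Nat.card_eq_fintype_card, hF, hq, ← pow_mul, mul_comm]
    have := Class.charP_of_card_eq hF'
    have h2 := h.two_le
    have hq' : 3 ≤ q ∨ 4 ≤ Module.finrank F (Fin n → F) := by simp; omega
    have : Nontrivial (Fin n → F) := Module.nontrivial_of_finrank_pos (R := F) (by simp; omega)
    have e : Cfsg.PSU n F q ≃* Class.PQ (Class.uFS h n).EO := Class.quotCenterCongr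
      ((Class.suEquiv h n).trans (MulEquiv.subgroupCongr
        (Class.FS.herm_EO h (Class.uFS_nondeg h) hq').symm))
    have h1 := Class.FS.herm_card_mulAut h (Class.uFS_nondeg h) (by simpa using hn) hq' hF'
      (Class.uFS_semi h n)
    rw [← Class.card_mulAut_congr e, ← Nat.card_congr (Class.guEquiv h n).toEquiv, Class.card_GU h,
      ← Class.card_PSU h (by omega)] at h1
    refine Nat.eq_of_mul_eq_mul_left (show 0 < q + 1 by omega) ?_
    rw [h1]; ring

end Cfsg.Agent.S0815
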