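import Cfsg.Statements.S0106
import Cfsg.Agent.PLoc.XS
import Cfsg.Agent.Inv.Zas5
import Cfsg.Agent.S0218

set_option autoImplicit false
open Cfsg

namespace Cfsg.Agent.S0106

section
open Cfsg.Agent.BG Cfsg.Agent.BG.PHom Cfsg.Agent.PG Subgroup
open scoped commutatorElement

abbrev SL23 := Matrix.SpecialLinearGroup (Fin 2) (ZMod 3)
def mI : SL23 := ⟨!![0, 2; 1, 0], by decide⟩
def mJ : SL23 := ⟨!![1, 1; 1, 2], by decide⟩
def mT : SL23 := ⟨!![1, 1; 0, 1], by decide⟩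
def mU : SL23 := ⟨!![2, 1; 2, 0], by decide⟩
theorem rel : mI ^ 4 = 1 ∧ mJ * mI * mJ⁻¹ = mI⁻¹ ∧ mJ ^ 2 = mI ^ 2 ∧ mT ^ 3 = 1 ∧ mU ^ 3 = 1 ∧ mT * mI * mT⁻¹ = mJ ∧
    mU * mI * mU⁻¹ = mJ ∧ mT * mJ * mT⁻¹ = mI * mJ ∧ mU * mJ * mU⁻¹ = (mI * mJ)⁻¹ := by decide +kernel
theorem gen : ∀ g : SL23, (∃ a : Fin 4, ∃ b : Fin 2, ∃ c : Fin 3, g = mI ^ a.1 * mJ ^ b.1 * mT ^ c.1) ∧
    ∃ a : Fin 4, ∃ b : Fin 2, ∃ c : Fin 3, g = mI ^ a.1 * mJ ^ b.1 * mU ^ c.1 := by decide +kernel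
theorem gr {G : Type*} [Group G] [Finite G] {Q : Subgroup G} {i j g : G} {T : SL23} (hQ : #Q = 8)
    (e : zpowers i ⊔ zpowers j = Q) (h1 : i ^ 4 = 1) (h2 : j * i * j⁻¹ = i⁻¹) (h3 : j ^ 2 = i ^ 2)
    (h4 : g * i * g⁻¹ = j) (h5 : Odd (orderOf g)) (h6 : 3 ∣ orderOf g) (hT : T ^ 3 = 1) (t1 : T * mI * T⁻¹ = mJ)
    (t2 : (g * j * g⁻¹ = i * j ∧ T * mJ * T⁻¹ = mI * mJ) ∨ (g * j * g⁻¹ = (i * j)⁻¹ ∧ T * mJ * T⁻¹ = (mI * mJ)⁻¹))
    (t3 : ∀ g : SL23, ∃ a : Fin 4, ∃ b : Fin 2, ∃ c : Fin 3, g = mI ^ a.1 * mJ ^ b.1 * T ^ c.1) (n : g ∈ N[Q]) :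
    Gr (Q ⊔ zpowers g) g ⊤ T := by
  obtain ⟨r1, r2, r3, -⟩ := rel
  have m1 : (i, mI) ∈ zpowers (i, mI) ⊔ zpowers (j, mJ) := le_sup_left (α := Subgroup _) (mem_zpowers _)
  have m2 : (j, mJ) ∈ zpowers (i, mI) ⊔ zpowers (j, mJ) := le_sup_right (α := Subgroup _) (mem_zpowers _)
  refine ⟨zpowers (i, mI) ⊔ zpowers (j, mJ) ⊔ zpowers (g, T), by simp [Subgroup.map_sup, e], ?_, ?_,
    le_sup_right (α := Subgroup _) (mem_zpowers _)⟩
  · simp only [Subgroup.map_sup, MonoidHom.map_zpowers, MonoidHom.coe_snd, eq_top_iff]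
    intro x _
    obtain ⟨a, b, c, rfl⟩ := t3 x
    exact mul_mem_sup' (mul_mem_sup' (pow_mem (mem_zpowers _) _) (pow_mem (mem_zpowers _) _)) (pow_mem (mem_zpowers _) _)
  have a : (j, mJ) ∈ N[zpowers (i, mI)] := mem_N_of_cj_le (by
    rw [cj_zpowers, zpowers_le]; simpa [h2, r2] using inv_mem (mem_zpowers (i, mI)))
  have b : (g, T) ∈ N[zpowers (i, mI) ⊔ zpowers (j, mJ)] := mem_N_of_cj_le (by
    rw [cj_sup, cj_zpowers, cj_zpowers]
    refine sup_le (zpowers_le.2 (by simpa [h4, t1] using m2)) (zpowers_le.2 ?_)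
    rcases t2 with ⟨c, d⟩ | ⟨c, d⟩
    · simpa [c, d] using mul_mem m1 m2
    · simpa [c, d] using inv_mem (mul_mem m1 m2))
  have c : (#Q).Coprime #(zpowers g) := by
    rw [hQ, card_zpowers']; exact Nat.Coprime.pow_left 3 (Nat.coprime_two_left.2 h5)
  rw [← (sdprod_sup (inf_bot_of_coprime c) (zpowers_le.2 n)).card, hQ, card_zpowers']
  refine (card_sup_zpowers_le b (n := orderOf g) ?_ (orderOf_pos g).ne').trans (Nat.mul_le_mul_right _
    ((card_sup_zpowers_le a (n := 2) ?_ two_ne_zero).trans (Nat.mul_le_mul_right 2 (m := 4) ?_)))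
  · obtain ⟨k, d⟩ := h6
    rw [Prod.pow_mk, pow_orderOf_eq_one, d, pow_mul, hT, one_pow]; exact one_mem _
  · rw [Prod.pow_mk, h3, r3, ← Prod.pow_mk]; exact pow_mem (mem_zpowers _) _
  · rw [card_zpowers']
    exact Nat.le_of_dvd (by norm_num) (orderOf_dvd_of_pow_eq_one (by rw [Prod.pow_mk, h1, r1]; rfl))

end

/-- A finite group with generalized quaternion Sylow 2-subgroups either has a normal 2-complement or has a section isomorphic to SL(2,3). -/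
theorem result {G : Type*} [Group G] [Finite G] (T : Sylow 2 G) (n : ℕ) (hn : 1 ≤ n) (hT : Nonempty ((T : Subgroup G) ≃* QuaternionGroup (2 ^ n))) : Cfsg.HasNormalPComplement 2 G ∨ ∃ (H K : Subgroup G) (hK : (K.subgroupOf H).Normal), Nonempty ((H ⧸ K.subgroupOf H) ≃* Matrix.SpecialLinearGroup (Fin 2) (ZMod 3)) := by
  open Cfsg.Agent.BG Cfsg.Agent.BG.PHom Cfsg.Agent.PG Subgroup in
  open scoped commutatorElement in
  focus
    have hp := Nat.prime_two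
    refine or_iff_not_imp_left.2 fun h1 => ?_
    obtain ⟨Q, a, g, b, c, d⟩ : ∃ Q ≤ (T : Subgroup G), ∃ g ∈ N[Q], (orderOf g).Coprime 2 ∧ g ∉ C[Q] := by
      by_contra! e
      exact h1 ((pnil_top hp).2 ((pnil_iff_npc hp).2 (Cfsg.Agent.PLoc.npc_top_of_frobenius T fun Q a _ => e Q a)))
    obtain ⟨m, rfl⟩ : ∃ m, n = m + 1 := ⟨n - 1, by omega⟩
    obtain ⟨e⟩ := hT
    have o := Nat.coprime_two_right.1 c
    have pQ := T.2.to_le a
    obtain ⟨z, h⟩ := (Cfsg.Agent.Inv.cent_or_q8 pQ ((Cfsg.Agent.Core.isCyclic_or_quaternion_of_unique pQ fun x y hx hy y1 => by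
      by_cases x1 : x = 1
      · exact x1 ▸ one_mem _
      have k : ∀ u : Q, u ^ 2 = 1 → u ≠ 1 → orderOf (e (inclusion a u)) = 2 := fun u f i => by
        rw [MulEquiv.orderOf_eq, orderOf_injective _ (inclusion_injective a), orderOf_eq_prime f i]
      have := (Nat.card_eq_one_iff_unique.1 (Cfsg.Agent.S0218.result m)).1.elim ⟨_, k x hx x1⟩ ⟨_, k y hy y1⟩
      exact inclusion_injective a (e.injective (congrArg Subtype.val this)) ▸ mem_zpowers _).imp_right And.right)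
        b o).resolve_left d
    obtain ⟨i, i1, i2, i3, i4⟩ : ∃ i ∈ Q, i * i = z ∧ g * i * g⁻¹ ≠ i ∧ g * i * g⁻¹ ≠ i⁻¹ := by
      by_contra! f
      obtain ⟨i, i1, j, j1, i2, j2, k1, k2⟩ := h.exists_pair
      exact d (Cfsg.Agent.Inv.mem_centralizer_of_mem_sup pQ (h.mem_sup_centralizer i1 j1 i2 j2 k1 k2
        (or_iff_not_imp_left.2 (f i i1 i2)) (or_iff_not_imp_left.2 (f j j1 j2))) c)
    have j1 := conj_mem b i1
    have j2 := h.conj_sq b i2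
    have nc : ∀ k, (orderOf g).Coprime k → g ^ k ∉ C1[i] := fun k f l =>
      i3 (by rw [mem_C1.1 (Cfsg.Agent.PLoc.mem_of_pow_mem_of_coprime l f)]; group)
    have z2 : z * z = 1 := by rw [← pow_two, ← h.zord, pow_orderOf_eq_one]
    have z1 : z ≠ 1 := fun f => by simpa [f] using h.zord
    have r := h.inv i i1 _ j1 i2 j2 i3 i4
    have k2 := h.conj_sq b j2
    have all := h.all i i1 _ j1 i2 j2 i3 i4
    have k3 := all _ (conj_mem b j1)
    generalize hj : g * i * g⁻¹ = j at *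
    have k4 : g * j * g⁻¹ = i * j ∨ g * j * g⁻¹ = (i * j)⁻¹ := by
      rcases k3 with f | f | f | f | f | f | f
      · exact absurd (by rw [← k2, f, one_mul]) z1
      · exact absurd (by rw [← k2, f, z2]) z1
      · exact absurd (mem_C1.2 (by rw [← mul_inv_eq_iff_eq_mul, pow_two]; nth_rw 2 [← f]; rw [← hj]; group))
          (nc 2 c)
      · refine absurd (mem_C1.2 ?_) (nc (2 ^ 2) (c.pow_right 2))
        have : g ^ 2 * i * (g ^ 2)⁻¹ = i⁻¹ := by rw [← f, ← hj, pow_two]; group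
        rw [← mul_inv_eq_iff_eq_mul]
        calc _ = g ^ 2 * (g ^ 2 * i * (g ^ 2)⁻¹) * (g ^ 2)⁻¹ := by group
          _ = (g ^ 2 * i * (g ^ 2)⁻¹)⁻¹ := by nth_rw 1 [this]; group
          _ = i := by rw [this, inv_inv]
      · exact absurd (by simpa using f.trans hj.symm) i3
      · exact absurd (by nth_rw 2 [← hj] at f; rw [conj_inv] at f; simpa using f) i4
      · exact f
    have k5 : 3 ∣ orderOf g := by_contra fun f => nc 3 ((Nat.Prime.coprime_iff_not_dvd Nat.prime_three).2 f).symm (mem_C1.2 (by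
      rw [← mul_inv_eq_iff_eq_mul]
      have : g ^ 3 * i * (g ^ 3)⁻¹ = g * (g * j * g⁻¹) * g⁻¹ := by rw [← hj, pow_succ, pow_two]; group
      rw [this]
      rcases k4 with l | l
      · rw [l, ← conj_mul, l, hj, ← mul_assoc, mul_inv_eq_iff_eq_mul.1 r, mul_assoc, j2, ← i2]; group
      · rw [l, ← conj_inv, ← conj_mul, l, hj]; group))
    have l : zpowers i ⊔ zpowers j = Q := le_antisymm (sup_le (zpowers_le.2 i1) (zpowers_le.2 j1)) fun x hx => by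
      have m1 : i ∈ zpowers i ⊔ zpowers j := le_sup_left (α := Subgroup _) (mem_zpowers _)
      have m2 : j ∈ zpowers i ⊔ zpowers j := le_sup_right (α := Subgroup _) (mem_zpowers _)
      rcases all x hx with f | f | f | f | f | f | f | f <;> rw [f]
      exacts [one_mem _, i2 ▸ mul_mem m1 m1, m1, inv_mem m1, m2, inv_mem m2, mul_mem m1 m2, inv_mem (mul_mem m1 m2)]
    obtain ⟨-, -, -, r1, r2, r3, r4, r5, r6⟩ := rel
    have s1 : i ^ 4 = 1 := h.ord4 i2 ▸ pow_orderOf_eq_one i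
    have s2 : j ^ 2 = i ^ 2 := by rw [pow_two, pow_two, i2, j2]
    rcases k4 with f | f
    · exact ⟨_, (gr h.card l s1 r s2 hj o k5 r1 r3 (Or.inl ⟨f, r5⟩) (fun g => (gen g).1) b).surj.imp fun K ⟨u, v⟩ =>
        ⟨u, ⟨v.some.trans topEquiv⟩⟩⟩
    · exact ⟨_, (gr h.card l s1 r s2 hj o k5 r2 r4 (Or.inr ⟨f, r6⟩) (fun g => (gen g).2) b).surj.imp fun K ⟨u, v⟩ =>
        ⟨u, ⟨v.some.trans topEquiv⟩⟩⟩

end Cfsg.Agent.S0106
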