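import Cfsg.Statements.S1292
import Cfsg.Agent.Comp.PLocal

set_option autoImplicit false
open Cfsg

namespace Cfsg.Agent.S1292

open Cfsg.Agent.Comp Subgroup
open scoped commutatorElement


/-- Let G be a finite group such that F*(C_G(t)) = O_2(C_G(t)) for every involution t. Then F*(N_G(T)) = O_2(N_G(T)) for every nontrivial 2-subgroup T of G. -/
theorem result {G : Type*} [Group G] [Finite G] (h : ∀ t : G, orderOf t = 2 → Cfsg.generalizedFittingSubgroup ↥(Subgroup.centralizer ({t} : Set G)) = Cfsg.pCore 2 ↥(Subgroup.centralizer ({t} : Set G))) (T : Subgroup G) (hT : IsPGroup 2 ↥T) (hT1 : T ≠ ⊥) : Cfsg.generalizedFittingSubgroup ↥(Subgroup.normalizer (T : Set G)) = Cfsg.pCore 2 ↥(Subgroup.normalizer (T : Set G)) := by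
  haveI : Fact (Nat.Prime 2) := ⟨Nat.prime_two⟩
  apply Subgroup.map_injective (subtype_injective _)
  rw [FStar_eq, Op_eq]
  obtain ⟨t, ht, hc, ho⟩ : ∃ t ∈ T, t ∈ centralizer (T : Set G) ∧ orderOf t = 2 := by
    haveI : Nontrivial T := (nontrivial_iff_ne_bot T).2 hT1
    haveI := hT.center_nontrivial
    have hZ : IsPGroup 2 (center T) := hT.to_subgroup _
    obtain ⟨n, hn0, hn⟩ := hZ.nontrivial_iff_card.1 inferInstance
    obtain ⟨z, hz⟩ := exists_prime_orderOf_dvd_card' (G := center T) 2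
      (by rw [hn]; exact dvd_pow_self _ hn0.ne')
    refine ⟨z.1.1, z.1.2, fun y hy => ?_, by rw [orderOf_coe, orderOf_coe]; exact hz⟩
    exact congrArg Subtype.val (mem_center_iff.1 z.2 ⟨y, hy⟩)
  have h1 : FStar (centralizer ({t} : Set G)) = Op 2 (centralizer ({t} : Set G)) := by
    rw [← FStar_eq, ← Op_eq, h t ho]
  have hTt : T ≤ centralizer ({t} : Set G) := fun y hy =>
    mem_centralizer_singleton_iff.2 (hc y hy)
  have h2 := OE_centralizer_eq_bot hT (hTt.trans le_normalizer) h1
  have h3 : centralizer ({t} : Set G) ⊓ centralizer (T : Set G) = ⊤ ⊓ centralizer (T : Set G) := by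
    rw [top_inf_eq]; exact inf_eq_right.2 (centralizer_le (Set.singleton_subset_iff.2 ht))
  rw [h3, ← PLay_normalizer_eq hT le_top, ← Opp_normalizer_eq hT le_top, top_inf_eq] at h2
  exact FStar_eq_Op_iff_PLay.2 h2

end Cfsg.Agent.S1292
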