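import Cfsg.Statements.S0945
import Cfsg.Agent.Blk.Two

set_option autoImplicit false
open Cfsg

namespace Cfsg.Agent.S0945

open Cfsg.Agent.Blk Cfsg.Agent.Char Cfsg.Agent.PLoc


theorem result {G : Type*} [Group G] [Finite G] (P : Sylow 2 G) (m : ℕ) (hm : 1 ≤ m) (e : (P : Subgroup G) ≃* Multiplicative (ZMod (2 ^ m) × ZMod (2 ^ m))) : ((Subgroup.centralizer (P : Set G)).relIndex (Subgroup.normalizer (P : Set G)) = 1 ∨ (Subgroup.centralizer (P : Set G)).relIndex (Subgroup.normalizer (P : Set G)) = 3) ∧ ((Subgroup.centralizer (P : Set G)).relIndex (Subgroup.normalizer (P : Set G)) ≠ 1 → ∀ z ∈ (P : Subgroup G), z ≠ 1 → Subgroup.centralizer ({z} : Set G) ⊓ Subgroup.normalizer (P : Set G) = Subgroup.centralizer (P : Set G)) := by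
  obtain ⟨hP, hV⟩ := homocyclic hm e
  refine ⟨?_, fun _ z hz hz1 => le_antisymm (fun g hg => mem_cent_of_commute hP hV hg.2 hz hz1
    (Subgroup.mem_centralizer_singleton_iff.mp hg.1)) (le_inf
      (fun g hg => Subgroup.mem_centralizer_singleton_iff.mpr (hg z hz).symm)
      (Subgroup.centralizer_le_normalizer _))⟩
  obtain ⟨z, hz, hz1, -⟩ := Inv.kf_exists_ne hV 1
  have h1 : ¬ 2 ∣ (Subgroup.centralizer (P : Set G)).relIndex (Subgroup.normalizer (P : Set G)) :=
    fun h => (isSylowOf_sylow P Subgroup.le_normalizer).not_dvd (h.trans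
      (Subgroup.relIndex_dvd_of_le_left _ (Subgroup.le_centralizer (P : Subgroup G))))
  have h2 : Nat.card {x : G // ∃ n ∈ Subgroup.normalizer (P : Set G), n * z * n⁻¹ = x} ≤ 4 := by
    rw [← Inv.kf_card hV]
    refine Inv.card_le_of_imp ?_
    rintro _ ⟨n, hn, rfl⟩
    exact conj_mem_of_mem_normalizer (Core.normalizer_le_normalizer_powKer _ hP 2 hn) hz
  rw [← relIndex_cent_le hP hV hz hz1] at h2
  omega

end Cfsg.Agent.S0945
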