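import Cfsg.Statements.S1312
import Cfsg.Agent.Comp.Bal

set_option autoImplicit false
open Cfsg

namespace Cfsg.Agent.S1312

open Cfsg.Agent.Comp Subgroup
open scoped commutatorElement

variable {G : Type*} [Group G] [Finite G]

theorem comm_pq {A B : Subgroup G} {p : ℕ} [Fact p.Prime] (hA : IsPGroup p A)
    (hB : (Nat.card B).Coprime p) (h1 : A ≤ normalizer (B : Set G))
    (h2 : B ≤ normalizer (A : Set G)) : ⁅A, B⁆ = ⊥ :=
  le_bot_iff.1 ((le_inf (le_normalizer_iff_commutator_le_left.1 h2)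
    (le_normalizer_iff_commutator_le_right.1 h1)).trans (inf_eq_bot_of_pgroup_coprime hA hB).le)

theorem Fit_split (p : ℕ) [Fact p.Prime] (N : Subgroup G) :
    Fit N ≤ Op p (Fit N) ⊔ Opp p (Fit N) :=
  (le_Fit le_rfl le_normalizer (Fit_nilpotent N)).trans (Fit_le_sup p _)

theorem comm_pgroup {N P Q : Subgroup G} {p : ℕ} [Fact p.Prime] (hP : IsPGroup p P)
    (hPN : P ≤ N) (hQN : Q ≤ N) (h1 : ⁅P, Opp p (Fit N)⁆ = ⊥) (h2 : ⁅P, Q⁆ ≤ Fit N) :
    IsPGroup p (⁅P, Q⁆ : Subgroup G) := by
  have n1 : N ≤ normalizer (Op p (Fit N) : Set G) := (Fit_normal N).trans (Op_normalizer _)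
  have h3 : P ≤ Op p (P ⊔ Fit N) := by
    refine le_sup_left.trans (le_Op (N := P ⊔ Op p (Fit N)) (sup_le_sup_left Op_le _) ?_
      (hP.to_sup_of_normal_right' (Op_isPGroup _) (hPN.trans n1)))
    refine sup_le (le_sup_left.trans le_normalizer) ((Fit_split p N).trans (sup_le
      (le_sup_right.trans le_normalizer) (normalizes_of_comm_bot (comm_sup_right_bot
        (comm_bot_symm h1) (comm_bot_symm (Op_comm_Opp _))))))
  have h4 : Q ≤ normalizer ((P ⊔ Fit N : Subgroup G) : Set G) := by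
    rw [le_normalizer_iff_commutator_le_left]
    refine comm_sup_left_le (le_sup_left.trans le_normalizer) (le_sup_right.trans le_normalizer)
      (h2.trans le_sup_right) (le_trans ?_ le_sup_right)
    exact le_normalizer_iff_commutator_le_left.1 (hQN.trans (Fit_normal N))
  refine (Op_isPGroup (P ⊔ Fit N)).to_le ((commutator_mono h3 le_rfl).trans ?_)
  exact le_normalizer_iff_commutator_le_left.1 (h4.trans (Op_normalizer _))

theorem Op_comm_Opp_Fit {M N : Subgroup G} (h1 : Fit M ≤ N) (h2 : Fit N ≤ M) (p : ℕ)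
    [Fact p.Prime] : ⁅Op p M, Opp p (Fit N)⁆ = ⊥ :=
  comm_pq (Op_isPGroup M) (Opp_coprime _)
    (((Op_le_Fit M).trans h1).trans ((Fit_normal N).trans (Opp_normalizer _)))
    ((Opp_le.trans h2).trans (Op_normal M))

theorem Op_le_Op {M N : Subgroup G} (h1 : Fit M ≤ N) (h2 : Fit N ≤ M) (hN : FStar N = Fit N)
    {p q : ℕ} [Fact p.Prime] [Fact q.Prime] (hpq : p ≠ q)
    (hq : centralizer (Op q M : Set G) ≤ M) : Op p M ≤ Op p N := by
  have hP : Op p M ≤ N := (Op_le_Fit M).trans h1
  have hQ : Op q M ≤ N := (Op_le_Fit M).trans h1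
  have nC : ∀ r : ℕ, N ≤ normalizer (centralizer (Opp r (Fit N) : Set G) : Set G) := fun r =>
    (Fit_normal N).trans ((Opp_normalizer _).trans (centralizer_normalizer _))
  have key : ∀ g ∈ N, (Op p M).map (MulAut.conj g).toMonoidHom ≤ M := by
    intro g hg
    set P := (Op p M).map (MulAut.conj g).toMonoidHom with hPd
    have p1 : IsPGroup p P := (Op_isPGroup M).map _
    have p2 : P ≤ N := map_conj_le_of_mem hP (le_normalizer hg)
    have p3 : P ≤ centralizer (Opp p (Fit N) : Set G) := map_conj_le_of_mem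
      (commutator_eq_bot_iff_le_centralizer.1 (Op_comm_Opp_Fit h1 h2 p)) (nC p hg)
    have q3 := commutator_eq_bot_iff_le_centralizer.1 (Op_comm_Opp_Fit h1 h2 q)
    have hc : ⁅P, Op q M⁆ ≤ Fit N := by
      refine le_Fit_of_comm_FStar ((commutator_mono p2 hQ).trans (commutator_le_self N)) ?_
      rw [hN]
      refine comm_bot_mono (comm_sup_right_bot ?_ ?_) le_rfl
        ((Fit_split p N).trans (sup_le_sup_right (Op_le_Opp (p := q) hpq _) _))
      · exact commutator_eq_bot_iff_le_centralizer.2 ((commutator_mono le_rfl q3).trans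
          (le_normalizer_iff_commutator_le_right.1 (p2.trans (nC q))))
      · exact commutator_eq_bot_iff_le_centralizer.2 ((commutator_mono p3 le_rfl).trans
          (le_normalizer_iff_commutator_le_left.1 (hQ.trans (nC p))))
    have e1 := comm_pgroup p1 p2 hQ (commutator_eq_bot_iff_le_centralizer.2 p3) hc
    have e2 := comm_pgroup (Op_isPGroup M) hQ p2 (Op_comm_Opp_Fit h1 h2 q)
      (by rwa [Subgroup.commutator_comm])
    rw [Subgroup.commutator_comm] at e2
    have e3 : ⁅P, Op q M⁆ = ⊥ := by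
      have := IsPGroup.disjoint_of_ne p q hpq _ _ e1 e2
      exact disjoint_self.1 this
    exact (commutator_eq_bot_iff_le_centralizer.1 e3).trans hq
  have h3 : ⁅Op p M, N⁆ ≤ M := by
    rw [commutator_le]
    intro x hx g hg
    have := key g hg ⟨x⁻¹, inv_mem hx, rfl⟩
    have e : ⁅x, g⁆ = x * (MulAut.conj g).toMonoidHom x⁻¹ := by
      simp [commutatorElement_def, mul_assoc]
    rw [e]; exact mul_mem (Op_le hx) this
  refine SubIn.le_Op (SubIn.step (L := Op p M ⊔ ⁅Op p M, N⁆) le_sup_left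
    ((sup_le Op_le h3).trans (Op_normal M)) (SubIn.of_normal
      (sup_le hP ((commutator_mono hP le_rfl).trans (commutator_le_self N))) ?_)) (Op_isPGroup M)
  rw [le_normalizer_iff_commutator_le_left]
  refine comm_sup_left_le (le_sup_left.trans le_normalizer) (le_sup_right.trans le_normalizer)
    le_sup_right (le_trans ?_ le_sup_right)
  exact le_normalizer_iff_commutator_le_left.1 (normalizer_commutator_ge_right _ _)

theorem Op_ne_bot {M N : Subgroup G} (h1 : Fit M ≤ N) (h2 : Fit N ≤ M) (hN : FStar N = Fit N)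
    {q : ℕ} [Fact q.Prime] (hq : Op q N = ⊥) : Op q M = ⊥ := by
  have e : Fit N ≤ Opp q (Fit N) := by
    refine (Fit_split q N).trans (sup_le ?_ le_rfl)
    exact ((SubIn.of_normal Fit_le (Fit_normal N)).Op_mono.trans hq.le).trans bot_le
  refine eq_bot_of_pgroup_coprime (Op_isPGroup M) (coprime_card_of_le (le_trans ?_ e) (Opp_coprime _))
  refine le_Fit_of_comm_FStar ((Op_le_Fit M).trans h1) ?_
  rw [hN]; exact comm_bot_mono (Op_comm_Opp_Fit h1 h2 q) le_rfl e

theorem Lay_le_Lay {M N : Subgroup G} (h1 : FStar M ≤ N) (h2 : FStar N ≤ M) : Lay M ≤ Lay N := by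
  refine Lay_le_iff.2 fun K hK => ?_
  have hK1 : CompIn K (FStar M ⊔ FStar N) :=
    hK.restrict ((hK.le_Lay.trans Lay_le_FStar).trans le_sup_left) (sup_le FStar_le h2)
  have hs : SubIn (FStar N) (FStar M ⊔ FStar N) :=
    SubIn.of_normal le_sup_right ((sup_le h1 FStar_le).trans (FStar_normal N))
  rcases hK1.le_or_comm hs with h | h
  · exact ((hK1.restrict h le_sup_right).trans (FStar_subIn N)).le_Lay
  · exact absurd (le_Fit_of_comm_FStar ((hK.le_Lay.trans Lay_le_FStar).trans h1) (comm_bot_symm h))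
      (hK.2.not_le_solvable (Fit_solvable N))

omit [Finite G] in
theorem normalizer_eq [IsSimpleGroup G] {M X : Subgroup G} (hM : IsCoatom M) (h1 : X ≤ M)
    (h2 : M ≤ normalizer (X : Set G)) (hX : X ≠ ⊥) : normalizer (X : Set G) = M := by
  rcases (hM.le_iff.1 h2) with h | h
  · rcases (normalizer_eq_top_iff.1 h).eq_bot_or_eq_top with e | e
    · exact absurd e hX
    · exact absurd (top_le_iff.1 (e ▸ h1)) hM.1
  · exact h


/-- Let G be a non-abelian finite simple group and M ≠ N maximal subgroups of G with F*(M) ≤ N and F*(N) ≤ M. Then there is a prime p such that F*(M) and F*(N) are both p-groups. -/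
theorem result {G : Type*} [Group G] [Finite G] [IsSimpleGroup G] (hna : ¬ IsMulCommutative G) (M N : Subgroup G) (hM : IsCoatom M) (hN : IsCoatom N) (hMN : M ≠ N) (h1 : (Cfsg.generalizedFittingSubgroup ↥M).map M.subtype ≤ N) (h2 : (Cfsg.generalizedFittingSubgroup ↥N).map N.subtype ≤ M) : ∃ p : ℕ, p.Prime ∧ IsPGroup p ↥(Cfsg.generalizedFittingSubgroup ↥M) ∧ IsPGroup p ↥(Cfsg.generalizedFittingSubgroup ↥N) := by
  rw [FStar_eq] at h1 h2
  have hL : Lay M = Lay N := le_antisymm (Lay_le_Lay h1 h2) (Lay_le_Lay h2 h1)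
  have hL0 : Lay M = ⊥ := by
    by_contra e
    exact hMN ((normalizer_eq hM Lay_le (Lay_normal M) e).symm.trans
      (hL ▸ normalizer_eq hN Lay_le (Lay_normal N) (hL ▸ e)))
  have fM : FStar M = Fit M := by rw [FStar, hL0, bot_sup_eq]
  have fN : FStar N = Fit N := by rw [FStar, ← hL, hL0, bot_sup_eq]
  rw [fM] at h1; rw [fN] at h2
  have main : ∀ p : Nat.Primes, (∀ q : Nat.Primes, q ≠ p → Op q M = ⊥) →
      ∃ p : ℕ, p.Prime ∧ IsPGroup p (generalizedFittingSubgroup M) ∧
        IsPGroup p (generalizedFittingSubgroup N) := by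
    intro p hp
    have aux : ∀ X : Subgroup G, FStar X = Fit X → (∀ q : Nat.Primes, q ≠ p → Op q X = ⊥) →
        IsPGroup p (generalizedFittingSubgroup X) := by
      intro X hX h
      rw [← isPGroup_map_iff (subtype_injective X), FStar_eq, hX]
      refine (Op_isPGroup X).to_le ?_
      rw [Fit_eq_iSup]
      refine iSup_le fun q => ?_
      by_cases e : q = p
      · rw [e]
      · rw [h q e]; exact bot_le
    refine ⟨p, p.2, aux M fM hp, aux N fN fun q hq => ?_⟩
    have : Fact (q : ℕ).Prime := ⟨q.2⟩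
    exact Op_ne_bot h2 h1 fM (hp q hq)
  by_cases hex : ∃ p : Nat.Primes, Op p M ≠ ⊥
  · obtain ⟨p, hp⟩ := hex
    refine main p fun q hq => ?_
    by_contra hq'
    have : Fact (q : ℕ).Prime := ⟨q.2⟩
    have : Fact (p : ℕ).Prime := ⟨p.2⟩
    have hpq : (p : ℕ) ≠ q := fun e => hq (Subtype.ext e.symm)
    have hqN : Op q N ≠ ⊥ := fun e => hq' (Op_ne_bot h1 h2 fN e)
    have e : Op p M = Op p N := le_antisymm
      (Op_le_Op h1 h2 fN hpq ((centralizer_le_normalizer _).trans
        (normalizer_eq hM Op_le (Op_normal M) hq').le))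
      (Op_le_Op h2 h1 fM hpq ((centralizer_le_normalizer _).trans
        (normalizer_eq hN Op_le (Op_normal N) hqN).le))
    exact hMN ((normalizer_eq hM Op_le (Op_normal M) hp).symm.trans
      (e ▸ normalizer_eq hN Op_le (Op_normal N) (e ▸ hp)))
  · push Not at hex
    exact main ⟨2, Nat.prime_two⟩ fun q _ => hex q

end Cfsg.Agent.S1312
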