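import Cfsg.Statements.S0724
import Cfsg.Agent.Perm.Basic

set_option autoImplicit false
open Cfsg

namespace Cfsg.Agent.S0724

open Cfsg.Agent.Perm Subgroup MulAction
open scoped Pointwise


/-- Blichfeldt's Theorem: if a finite set `L` of natural numbers contains the number of fixed points of every non-identity element of a permutation group `G` of degree `n`, then the order of `G` divides `∏ (n - l)` over `l ∈ L`. -/
theorem result {α : Type*} [Fintype α] [DecidableEq α] (G : Subgroup (Equiv.Perm α)) (L : Finset ℕ) (hL : ∀ g ∈ G, g ≠ 1 → Nat.card (MulAction.fixedBy α g) ∈ L) : Nat.card G ∣ ∏ l ∈ L, (Fintype.card α - l) := by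
  have := Fintype.ofFinite G
  have k1 : ∀ j : ℕ, (Nat.card G : ℤ) ∣ ∑ g : G, (Nat.card (fixedBy α (g : Equiv.Perm α)) : ℤ) ^ j := by
    intro j
    classical
    have := Fintype.ofFinite (orbitRel.Quotient G (Fin j → α))
    have h := sum_card_fixedBy_eq_card_orbits_mul_card_group G (Fin j → α)
    have h2 : ∀ g : G, Fintype.card (fixedBy (Fin j → α) g) =
        Nat.card (fixedBy α (g : Equiv.Perm α)) ^ j := fun g => by
      rw [← Nat.card_eq_fintype_card, Nat.card_congr (β := Fin j → fixedBy α (g : Equiv.Perm α))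
        ⟨fun x i => ⟨x.1 i, congrFun x.2 i⟩, fun y => ⟨fun i => y i, funext fun i => (y i).2⟩,
          fun _ => rfl, fun _ => rfl⟩, Nat.card_fun, Nat.card_eq_fintype_card (α := Fin j),
        Fintype.card_fin]
    simp only [h2] at h
    rw [Nat.card_eq_fintype_card]
    exact_mod_cast Dvd.intro_left _ h.symm
  have k2 : ∀ P : Polynomial ℤ, (Nat.card G : ℤ) ∣
      ∑ g : G, P.eval (Nat.card (fixedBy α (g : Equiv.Perm α)) : ℤ) := fun P => by
    induction P using Polynomial.induction_on' with
    | add p q h1 h2 => simpa [Finset.sum_add_distrib] using dvd_add h1 h2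
    | monomial n a => simpa [← Finset.mul_sum] using (k1 n).mul_left a
  have h := k2 (∏ l ∈ L, (Polynomial.X - Polynomial.C (l : ℤ)))
  rw [Finset.sum_eq_single 1 (fun g _ hg => by
    rw [Polynomial.eval_prod]
    exact Finset.prod_eq_zero (hL g g.2 fun e => hg (Subtype.ext e)) (by simp)) (by simp)] at h
  by_cases e : ∀ l ∈ L, l ≤ Fintype.card α
  · rw [← Int.natCast_dvd_natCast, Nat.cast_prod, Finset.prod_congr rfl fun l hl => Nat.cast_sub (e l hl)]
    simpa [Polynomial.eval_prod] using h
  · push Not at e
    obtain ⟨l, l1, l2⟩ := e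
    rw [Finset.prod_eq_zero l1 (by omega)]
    exact dvd_zero _

end Cfsg.Agent.S0724
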