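import Cfsg.Statements.S1693
import Cfsg.Agent.Spor.ONSimple
import Cfsg.Agent.Spor.L37M.Main
import Cfsg.Agent.Spor.L37b.Main
import Cfsg.Agent.Spor.ONH2.Main

set_option autoImplicit false
open Cfsg

namespace Cfsg.Agent.S1693

open Cfsg.Agent.Spor

set_option maxRecDepth 100000

/-- In the presented O'Nan group, the subgroup H generated by the images of a, …, f has a normal subgroup of index 2 isomorphic to PSL(3, 7). -/
theorem result : ∃ N : Subgroup (((Subgroup.closure ({Cfsg.Spor.ON.a, Cfsg.Spor.ON.b, Cfsg.Spor.ON.c, Cfsg.Spor.ON.d, Cfsg.Spor.ON.e, Cfsg.Spor.ON.f} : Set (FreeGroup Cfsg.Spor.ON.Gen))).map (PresentedGroup.mk (Cfsg.Spor.coxRelators Cfsg.Spor.ON.edges ∪ {r | r ∈ Cfsg.Spor.ON.extra})))), N.Normal ∧ N.index = 2 ∧ Nonempty (N ≃* Matrix.ProjectiveSpecialLinearGroup (Fin 3) (ZMod 7)) := by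
  rw [ON122760.Heq]
  have b : Bound 5 0 L37a.RL 1876896 := show Bound 5 0 L37a.RL (5586 * 336) from L37a.cert.bound (L37b.cert.bound_nil) (H := [([], 0, true), ([], 1, true), ([], 2, true), ([], 4, true), ([], 5, true), ([], 6, true), ([], 8, true), ([], 9, true), ([], 11, true), ([], 13, true), ([], 15, true), ([], 16, true)]) (by decide +kernel)
  have hp : Pres 6 6 ON5586.RL (lift (gsub 6 ONG.g) ONG.g) := ONG.presH.lift
  have hq : Pres 5 0 L37a.RL (wv 6 (lift (gsub 6 ONG.g) ONG.g) ONH2.BW) :=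
    hp.subst (WD := ONH2.BW) (H := [([], 0, true), ([], 1, true), ([], 2, true), ([], 3, true), ([], 4, true), ([], 5, true), ([], 6, true), ([], 7, true), ([], 8, true), ([], 9, true), ([], 10, true), ([], 11, true), ([], 12, true), ([], 13, true), ([], 14, true), ([], 15, true), ([0], 15, true)]) (by decide +kernel)
  have h1 := ONH2.cert.relIndex_dvd hp
  rw [gsub_lift, Subgroup.relIndex_top_right] at h1
  have c1 : Nat.card (gsub 6 ONG.g) = 2 * 1876896 := ONG.cardH
  have c2 : (commutator (gsub 6 ONG.g)).index = 2 := ONG.indexH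
  have c3 : ∀ M : Subgroup (gsub 6 ONG.g), M.Normal → M = ⊥ ∨ commutator (gsub 6 ONG.g) ≤ M :=
    ONG.casesH
  have : Finite (gsub 6 ONG.g) := Nat.finite_of_card_ne_zero (by rw [c1]; norm_num)
  obtain ⟨h2, h3⟩ := index_two_of (M := 1876896) c1 h1 (b _ _ hq) (by norm_num)
  have hn := Subgroup.normal_of_index_eq_two h2
  have h4 := eq_commutator_of_index h2 c2
  have hs : IsSimpleGroup (wsub 6 (lift (gsub 6 ONG.g) ONG.g) ONH2.BW) :=
    simple_of_index (fun M hM => (c3 M hM).imp id h4.le.trans) h1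
      (by rw [h3]; decide +kernel)
  exact ⟨_, hn, h2, iso_of_simple' b (by norm_num) hq L37M.pres (dvd_of_eq h3.symm) hs
    L37M.g_ne L37M.card⟩

end Cfsg.Agent.S1693
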