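import Cfsg.Statements.S0848
import Cfsg.Agent.H3.Suz2

set_option autoImplicit false
open Cfsg

namespace Cfsg.Agent.S0848

open Cfsg.Agent.Char

/-- If a finite group equals its own commutator subgroup and contains an involution whose centralizer is isomorphic to the dihedral group of order 8, then the group has order 168 or 360. -/
theorem result {G : Type*} [Group G] [Finite G] (hperf : commutator G = ⊤) (t : G) (ht : orderOf t = 2) (e : Subgroup.centralizer ({t} : Set G) ≃* DihedralGroup 4) : Nat.card G = 168 ∨ Nat.card G = 360 := by
  refine H3.s0848 (fun H hH => ?_) t ht e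
  have := Subgroup.normal_of_index_eq_two hH
  have h1 : Nat.card (G ⧸ H) = 2 := hH
  have h2 : IsCyclic (G ⧸ H) := isCyclic_of_prime_card h1
  have h3 : commutator G ≤ H := by
    rw [← QuotientGroup.ker_mk' H]
    let _ : CommGroup (G ⧸ H) := IsCyclic.commGroup
    exact Abelianization.commutator_subset_ker _
  rw [hperf, top_le_iff] at h3
  rw [h3, Subgroup.index_top] at hH
  omega

end Cfsg.Agent.S0848
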