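import Cfsg.Statements.S0910
import Cfsg.Agent.Blk.More

set_option autoImplicit false
open Cfsg

namespace Cfsg.Agent.S0910

open Cfsg.Agent.Blk Cfsg.Agent.Char Cfsg.Agent.PLoc


theorem result {G : Type*} [Group G] [Finite G] (p : ℕ) [Fact p.Prime] (M : Ideal Cfsg.AlgInt) (hM : Cfsg.IsPModular p M) [IsSimpleGroup G] (hna : ∃ a b : G, a * b ≠ b * a) (χ : Cfsg.IrrCharacter G) (hχ : χ ∈ Cfsg.principalBlock M G) (k : ℕ) (hdeg : (χ : G → ℂ) 1 = (p : ℂ) ^ k) : (χ : G → ℂ) = fun _ => 1 := by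
  haveI : PMod p M := ⟨hM⟩
  by_contra hc
  have hk := χ.2.charKer_eq_bot_of_simple hc
  obtain ⟨a, b, hab⟩ := hna
  have key : ∀ z : G, ‖(χ : G → ℂ) z‖ = ‖(χ : G → ℂ) 1‖ → z = 1 := fun z hz => by
    have h1 : z ∈ Subgroup.center G := Subgroup.mem_center_iff.mpr fun x => by
      have := χ.2.isCharacter.mem_charKer.mpr (χ.2.isCharacter.commutator_of_norm_eq hz x)
      rw [hk, Subgroup.mem_bot, mul_inv_eq_one, mul_inv_eq_iff_eq_mul] at this
      exact this.symm
    rcases Subgroup.Normal.eq_bot_or_eq_top (inferInstance : (Subgroup.center G).Normal) with h | h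
    · rwa [h] at h1
    · exact absurd (Subgroup.mem_center_iff.mp (h ▸ Subgroup.mem_top b) a) hab
  rcases k with _ | k
  · obtain ⟨l, hl⟩ := χ.2.isCharacter.exists_hom (by simpa using hdeg)
    exact hab (by rw [key a (by simp only [hl, norm_hom]), one_mul, mul_one])
  obtain ⟨P⟩ : Nonempty (Sylow p G) := inferInstance
  have hd : (χ : G → ℂ) 1 = (p ^ (k + 1) : ℕ) := by simpa using hdeg
  obtain ⟨z, -, hz, h1⟩ := exists_central_order_p P.isPGroup' (P.ne_bot_of_dvd_card
    ((dvd_pow_self p k.succ_ne_zero).trans (χ.2.degree_dvd_card hd)))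
  have h2 : ¬ p ∣ (Subgroup.centralizer {z}).index := fun h =>
    P.not_dvd_index (h.trans (Subgroup.index_dvd_of_le (le_cent_iff.mpr hz)))
  rcases χ.2.eq_zero_or_norm_eq hd z
    (((Nat.Prime.coprime_iff_not_dvd Fact.out).mpr h2).pow_left _) with h | h
  · have h3 := blk_same isPBlock_principal irrOne_mem_principal hχ z
    rw [centralChar_irrOne, centralChar, h, mul_zero, zero_div, sub_zero] at h3
    exact h2 (natCast_mem_LP.mp h3)
  · rw [key z (by rw [h, hd, Complex.norm_natCast]), orderOf_one] at h1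
    exact (Fact.out : p.Prime).ne_one h1.symm

end Cfsg.Agent.S0910
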