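import Cfsg.Statements.S0904
import Cfsg.Agent.Blk.More
import Cfsg.Agent.S0910

set_option autoImplicit false
open Cfsg

namespace Cfsg.Agent.S0904

open Cfsg.Agent.Blk Cfsg.Agent.Char Cfsg.Agent.PLoc

theorem aux {G : Type*} [Group G] [Finite G] [IsSimpleGroup G] (p q r a b : ℕ) (hp : p.Prime)
    (hq : q.Prime) (hr : r.Prime) (hpr : p ≠ r) (hqr : q ≠ r)
    (hcard : Nat.card G = p ^ a * q ^ b * r) (hna : ∃ a b : G, a * b ≠ b * a) (g : G)
    (h1 : p ∣ orderOf g) (h2 : r ∣ orderOf g) : False := by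
  classical
  obtain ⟨M, hM⟩ := exists_isPModular p hp
  obtain ⟨M', hM'⟩ := exists_isPModular q hq
  obtain ⟨M'', hM''⟩ := exists_isPModular r hr
  haveI := Fact.mk hp
  have h3 : ∑ᶠ χ ∈ principalBlock M G, (χ : G → ℂ) 1 * (starRingEnd ℂ) ((χ : G → ℂ) g) = 0 := by
    haveI : PMod p M := ⟨hM⟩
    exact block_orth_reg (fS_mem_ZR isPBlock_principal).1 (not_dvd_orderOf_one hp) h1
  have h4 : irrOne G ∈ principalBlock M G := by
    haveI : PMod p M := ⟨hM⟩
    exact irrOne_mem_principal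
  have h5 : ∀ χ : IrrCharacter G, r ∣ charDegree (χ : G → ℂ) → (χ : G → ℂ) g = 0 := fun χ h => by
    haveI : PMod r M'' := ⟨hM''⟩
    haveI := Fact.mk hr
    refine apply_eq_zero_of_defect_zero (M := M'') (le_antisymm (nu_le_card χ) ?_) h2
    rw [hcard, Nat.factorization_mul (mul_ne_zero (pow_ne_zero _ hp.ne_zero)
      (pow_ne_zero _ hq.ne_zero)) hr.ne_zero, Finsupp.add_apply, Nat.factorization_eq_zero_of_not_dvd,
      hr.factorization_self]
    · exact hr.factorization_pos_of_dvd (charDegree_ne_zero χ) h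
    · exact (hr.coprime_iff_not_dvd).mp (Nat.Coprime.mul_right
        (((Nat.coprime_primes hr hp).mpr hpr.symm).pow_right _)
        (((Nat.coprime_primes hr hq).mpr hqr.symm).pow_right _))
  haveI : PMod q M' := ⟨hM'⟩
  rw [finsum_mem_irr, ← Finset.add_sum_erase _ _ (Finset.mem_filter.mpr ⟨Finset.mem_univ _, h4⟩),
    add_eq_zero_iff_eq_neg] at h3
  refine one_notMem_LP (M := M') ?_
  simp only [irrOne_coe, map_one, mul_one] at h3
  rw [h3]
  refine neg_mem ((LP M').sum_mem fun χ hχ => ?_)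
  obtain ⟨a1, a2⟩ := Finset.mem_erase.mp hχ
  by_cases a3 : r ∣ charDegree (χ : G → ℂ)
  · rw [h5 χ a3]; simp
  refine LP_mul_right ?_ (conj_irr_mem_LR _ _)
  rw [irr_one_eq, natCast_mem_LP]
  by_contra a4
  have a5 := charDegree_dvd_card χ
  rw [hcard] at a5
  obtain ⟨k, -, hk⟩ := (Nat.dvd_prime_pow hp).mp
    ((((hq.coprime_iff_not_dvd.mpr a4).symm.pow_right b).dvd_of_dvd_mul_right
      ((hr.coprime_iff_not_dvd.mpr a3).symm.dvd_of_dvd_mul_right a5)))
  exact a1 (Subtype.ext (S0910.result p M hM hna χ (Finset.mem_filter.mp a2).2 k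
    (by rw [irr_one_eq, hk]; simp)))


theorem result {G : Type*} [Group G] [Finite G] [IsSimpleGroup G] (p q r a b : ℕ) (hp : p.Prime) (hq : q.Prime) [Fact r.Prime] (hpq : p ≠ q) (hpr : p ≠ r) (hqr : q ≠ r) (hcard : Nat.card G = p ^ a * q ^ b * r) (S : Sylow r G) : Subgroup.centralizer (S : Set G) = (S : Subgroup G) := by
  have hr : r.Prime := Fact.out
  have hc : (p ^ a * q ^ b).Coprime r := Nat.Coprime.mul_left
    (((Nat.coprime_primes hp hr).mpr hpr).pow_left _) (((Nat.coprime_primes hq hr).mpr hqr).pow_left _)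
  have hS : Nat.card S = r := by
    rw [S.card_eq_multiplicity, hcard, Nat.factorization_mul (mul_ne_zero (pow_ne_zero _ hp.ne_zero)
      (pow_ne_zero _ hq.ne_zero)) hr.ne_zero, Finsupp.add_apply,
      Nat.factorization_eq_zero_of_not_dvd (hr.coprime_iff_not_dvd.mp hc.symm), hr.factorization_self]
    simp
  haveI := isCyclic_of_prime_card hS
  have h1 : (S : Subgroup G) ≤ Subgroup.centralizer (S : Set G) := Subgroup.le_centralizer _
  obtain ⟨s, hs, hs'⟩ := exists_mem_orderOf_eq_prime (H := (S : Subgroup G)) hr hS.symm.dvd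
  refine S.is_maximal' (isPGroup_of_forall_coprime fun x hx h => ?_) h1
  by_contra hx1
  obtain ⟨t, ht, h2⟩ := Nat.exists_prime_and_dvd (mt orderOf_eq_one_iff.mp hx1)
  have h3 := (Commute.orderOf_mul_eq_mul_orderOf_of_coprime (hx s hs).symm (hs' ▸ h))
  have hna : ∃ a b : G, a * b ≠ b * a := by
    by_contra hc'
    push Not at hc'
    haveI : IsMulCommutative G := ⟨⟨hc'⟩⟩
    rcases Subgroup.Normal.eq_bot_or_eq_top (Subgroup.normal_of_isMulCommutative (S : Subgroup G))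
      with h4 | h4
    · rw [h4, Subgroup.card_bot] at hS; exact hr.ne_one hS.symm
    · exact hx1 (eq_one_of_isPGroup_of_coprime S.isPGroup' (h4 ▸ Subgroup.mem_top x) h)
  have h4 : t ∣ p ^ a * q ^ b := h2.trans (h.dvd_of_dvd_mul_right (hcard ▸ orderOf_dvd_natCard x))
  have h5 : t ∣ orderOf (x * s) := h3 ▸ h2.mul_right _
  have h6 : r ∣ orderOf (x * s) := h3 ▸ hs' ▸ dvd_mul_left _ _
  rcases (ht.dvd_mul).mp h4 with h7 | h7
  · obtain rfl := (Nat.prime_dvd_prime_iff_eq ht hp).mp (ht.dvd_of_dvd_pow h7)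
    exact aux t q r a b hp hq hr hpr hqr hcard hna _ h5 h6
  · obtain rfl := (Nat.prime_dvd_prime_iff_eq ht hq).mp (ht.dvd_of_dvd_pow h7)
    exact aux t p r b a hq hp hr hqr hpr (by rw [hcard, mul_comm (p ^ a)]) hna _ h5 h6

end Cfsg.Agent.S0904
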