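import Cfsg.Statements.S0276
import Cfsg.Agent.Class.Dick4

set_option autoImplicit false
open Cfsg

namespace Cfsg.Agent.S0276

/-- For q = 3 or 5 mod 8 the Sylow 2-subgroups of PSL_2(q) are elementary abelian of order 4. -/
theorem result {F : Type*} [Field F] [Fintype F] {q : ℕ} (hF : Fintype.card F = q) (hq : q % 8 = 3 ∨ q % 8 = 5) (P : Sylow 2 (Matrix.ProjectiveSpecialLinearGroup (Fin 2) F)) : IsKleinFour (P : Subgroup (Matrix.ProjectiveSpecialLinearGroup (Fin 2) F)) := by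
  obtain ⟨p, hp⟩ := CharP.exists F
  have : Fact p.Prime := ⟨CharP.char_is_prime F p⟩
  have h1 := Class.card_PSL2 (F := F)
  have hd : Nat.gcd 2 (Fintype.card F - 1) = 2 := Nat.gcd_eq_left (by omega)
  have h3 : Odd p := Odd.of_dvd_nat (by rw [Nat.odd_iff]; omega) (Class.p_dvd_card (F := F) p)
  have hP : Nat.card (P : Subgroup (Matrix.ProjectiveSpecialLinearGroup (Fin 2) F)) = 2 ^ 2 := by
    rw [hd, hF] at h1
    obtain ⟨m, hm, hm'⟩ : ∃ m, q ^ 2 = 8 * m + 1 ∧ m % 2 = 1 := by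
      obtain ⟨k, rfl | rfl⟩ : ∃ k, q = 8 * k + 3 ∨ q = 8 * k + 5 := ⟨q / 8, by omega⟩
      · exact ⟨2 * (4 * k ^ 2 + 3 * k) + 1, by ring, by omega⟩
      · exact ⟨2 * (4 * k ^ 2 + 5 * k + 1) + 1, by ring, by omega⟩
    refine Inv.card_sylow_of_card P (m := q * m) ?_ ?_
    · rw [hm, Nat.add_sub_cancel] at h1; nlinarith
    · rw [Nat.prime_two.dvd_mul]; omega
  refine Inv.kf_of_card hP fun x hx => ?_
  have h4 : orderOf x ∣ 2 ^ 2 := hP ▸ Subgroup.orderOf_dvd_natCard _ hx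
  have h5 := Class.psl_order_dvd p (g := x)
    (((Nat.coprime_two_left.2 h3).pow_left 2).coprime_dvd_left h4)
  rw [hd, hF] at h5
  rw [← sq, ← orderOf_dvd_iff_pow_eq_one]
  have := Nat.le_of_dvd (by norm_num) h4
  interval_cases orderOf x <;> omega

end Cfsg.Agent.S0276
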