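import Cfsg.Statements.S1068
import Cfsg.Agent.Lie.Tw2F4

set_option autoImplicit false
open Cfsg

namespace Cfsg.Agent.S1068

open Cfsg.Agent.Lie Cfsg.Agent.Lie.F4T Cfsg.Lie


/-- `|²F₄(q)| = q¹² (q - 1)(q³ + 1)(q⁴ - 1)(q⁶ + 1)` for `q = 2^(2m+1)` (θ = 2^m-th power map), every `m ≥ 0`. -/
theorem result {K : Type*} [Field K] [Fintype K] {m : ℕ} (hK : Fintype.card K = 2 ^ (2 * m + 1)) :
    Nat.card ↥(Cfsg.Lie.twistedF4 K (2 ^ m)) =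
      (2 ^ (2 * m + 1)) ^ 12 * (2 ^ (2 * m + 1) - 1) * ((2 ^ (2 * m + 1)) ^ 3 + 1) * ((2 ^ (2 * m + 1)) ^ 4 - 1) * ((2 ^ (2 * m + 1)) ^ 6 + 1) := by
  have := charP_of_card Nat.prime_two hK
  obtain ⟨φ, σ, hφ, hT, hσ⟩ := exists_setup (K := K) (m := m)
  have h := isTw hK hφ hT hσ
  have hU : Nat.card ↥(chevF4.posUnipotent K ⊓ twistedF4 K (2 ^ m)) = (2 ^ (2 * m + 1)) ^ 12 := by
    rw [h.card_U]
    refine Nat.pow_left_injective two_ne_zero ?_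
    simp only [← pow_mul (2 ^ (2 * m + 1))]
    exact h.fold.card_U sys_xA fun i => by
      rw [(card_PO hK hφ hT i).1, (card_PO hK hφ hT i).2, ← pow_mul]
  rw [h.card, hU, h.card_H, card_H hK hφ hT hσ, tpsF4 (h.fold.sym sys_xA)
    (h.fold.hc_card sys_xA fun i => (card_PO hK hφ hT i).1),
    inv_one, UW_one, bot_inf_eq, Subgroup.card_bot]
  have h1 : 1 ≤ 2 ^ (2 * m + 1) := Nat.one_le_two_pow
  generalize 2 ^ (2 * m + 1) = q at h1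
  zify [h1, Nat.one_le_pow 4 q h1]
  ring

end Cfsg.Agent.S1068
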