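import Cfsg.Statements.S0404
import Cfsg.Agent.Lee.C5

set_option autoImplicit false
open Cfsg

namespace Cfsg.Agent.S0404

open Cfsg.Agent.Gol Finset
open scoped Pointwise
open Cfsg.Agent.Lee


theorem result (v w : Cfsg.leechLattice) (hv : Cfsg.sqNorm (v : Cfsg.GolayPt → ℤ) = 32) (hw : Cfsg.sqNorm (w : Cfsg.GolayPt → ℤ) = 32) (hvw : Cfsg.dotInt (v : Cfsg.GolayPt → ℤ) (w : Cfsg.GolayPt → ℤ) = -8) : Cfsg.IsMcL ↥(MulAction.stabilizer Cfsg.Co0 v ⊓ MulAction.stabilizer Cfsg.Co0 w) := by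
  obtain ⟨g, rfl, rfl⟩ := std8 hv hw hvw
  haveI := isMcL.1
  have e := (MulEquiv.subgroupCongr (K := MulAction.stabilizer Co0 v0 ⊓ MulAction.stabilizer Co0 (u0 - v0))
    (H := MulAction.stabilizer Co0 u0 ⊓ MulAction.stabilizer Co0 v0) (Subgroup.ext fun g => by
      have := fix_sub (g := g) (u := u0) (v := v0)
      simp only [Subgroup.mem_inf, MulAction.mem_stabilizer_iff]
      tauto)).trans (stab2 g v0 (u0 - v0))
  exact ⟨e.symm.isSimpleGroup, (Nat.card_congr e.toEquiv).symm.trans isMcL.2⟩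

end Cfsg.Agent.S0404
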