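import Cfsg.Statements.S1580
import Cfsg.Agent.Lee.C5

set_option autoImplicit false
open Cfsg

namespace Cfsg.Agent.S1580

open Cfsg.Agent.Gol Finset
open scoped Pointwise
open Cfsg.Agent.Lee


theorem result (u v : ↥Cfsg.leechLattice) (hu : Cfsg.sqNorm (u : Cfsg.GolayPt → ℤ) = 48) (hv : Cfsg.sqNorm (v : Cfsg.GolayPt → ℤ) = 32 ∧ Cfsg.sqNorm ((u - v) : Cfsg.GolayPt → ℤ) = 32) : {x : ↥Cfsg.leechLattice | Cfsg.sqNorm (x : Cfsg.GolayPt → ℤ) = 32 ∧ Cfsg.sqNorm ((u - x) : Cfsg.GolayPt → ℤ) = 32 ∧ Cfsg.dotInt (v : Cfsg.GolayPt → ℤ) (x : Cfsg.GolayPt → ℤ) = 16}.ncard = 275 ∧ ∀ x ∈ {x : ↥Cfsg.leechLattice | Cfsg.sqNorm (x : Cfsg.GolayPt → ℤ) = 32 ∧ Cfsg.sqNorm ((u - x) : Cfsg.GolayPt → ℤ) = 32 ∧ Cfsg.dotInt (v : Cfsg.GolayPt → ℤ) (x : Cfsg.GolayPt → ℤ) = 16}, ∀ x' ∈ {x : ↥Cfsg.leechLattice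 | Cfsg.sqNorm (x : Cfsg.GolayPt → ℤ) = 32 ∧ Cfsg.sqNorm ((u - x) : Cfsg.GolayPt → ℤ) = 32 ∧ Cfsg.dotInt (v : Cfsg.GolayPt → ℤ) (x : Cfsg.GolayPt → ℤ) = 16}, ∃ g : ↥Cfsg.Co0, g • u = u ∧ g • v = v ∧ g • x = x' := by
  have hd := (nm_sub_iff hu hv.1).1 hv.2
  refine ⟨?_, fun x hx x' hx' => ?_⟩
  · obtain ⟨g, rfl, rfl⟩ := std24 hu hv.1 hd
    refine (ncard_tr g fun x => ?_).trans n275
    show _ ↔ x ∈ XC _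
    rw [mem_XC2, lv_u0, lv_v0, ← AddSubgroup.coe_sub, ← co_sub, nm_smul, nm_smul, dt_smul,
      AddSubgroup.coe_sub]
    exact and_congr_right fun h => by rw [nm_sub_iff nm_u0 h, and_comm]; rfl
  · obtain ⟨g, a, b, c⟩ := stdMcL hu hv.1 hd hx.1 ((nm_sub_iff hu hx.1).1 hx.2.1) hx.2.2
    obtain ⟨h, a', b', c'⟩ := stdMcL hu hv.1 hd hx'.1 ((nm_sub_iff hu hx'.1).1 hx'.2.1) hx'.2.2
    exact ⟨h * g⁻¹, by rw [← a, tr2, a, a'], by rw [← b, tr2, b, b'], by rw [← c, tr2, c']⟩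

end Cfsg.Agent.S1580
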