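import Cfsg.Statements.S1581
import Cfsg.Agent.Lee.C5

set_option autoImplicit false
open Cfsg

namespace Cfsg.Agent.S1581

open Cfsg.Agent.Gol Finset
open scoped Pointwise
open Cfsg.Agent.Lee


theorem result (u v x : ↥Cfsg.leechLattice) (hu : Cfsg.sqNorm (u : Cfsg.GolayPt → ℤ) = 48) (hv : Cfsg.sqNorm (v : Cfsg.GolayPt → ℤ) = 32 ∧ Cfsg.sqNorm ((u - v) : Cfsg.GolayPt → ℤ) = 32) (hx : x ∈ {x : ↥Cfsg.leechLattice | Cfsg.sqNorm (x : Cfsg.GolayPt → ℤ) = 32 ∧ Cfsg.sqNorm ((u - x) : Cfsg.GolayPt → ℤ) = 32 ∧ Cfsg.dotInt (v : Cfsg.GolayPt → ℤ) (x : Cfsg.GolayPt → ℤ) = 16}) : {y : ↥Cfsg.leechLattice | y ∈ {x : ↥Cfsg.leechLattice | Cfsg.sqNorm (x : Cfsg.GolayPt → ℤ) = 32 ∧ Cfsg.sqNorm ((u - x) : Cfsg.GolayPt → ℤ) = 32 ∧ Cfsg.dotInt (v : Cfsg.GolayPt → ℤ) (x : Cfsg.GolayPt → ℤ) = 16} ∧ Cfsg.dotInt (x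 : Cfsg.GolayPt → ℤ) (y : Cfsg.GolayPt → ℤ) = 8}.ncard = 112 ∧ {y : ↥Cfsg.leechLattice | y ∈ {x : ↥Cfsg.leechLattice | Cfsg.sqNorm (x : Cfsg.GolayPt → ℤ) = 32 ∧ Cfsg.sqNorm ((u - x) : Cfsg.GolayPt → ℤ) = 32 ∧ Cfsg.dotInt (v : Cfsg.GolayPt → ℤ) (x : Cfsg.GolayPt → ℤ) = 16} ∧ y ≠ x ∧ Cfsg.dotInt (x : Cfsg.GolayPt → ℤ) (y : Cfsg.GolayPt → ℤ) = 16}.ncard = 162 ∧ ∀ y ∈ {x : ↥Cfsg.leechLattice | Cfsg.sqNorm (x : Cfsg.GolayPt → ℤ) = 32 ∧ Cfsg.sqNorm ((u - x) : Cfsg.GolayPt → ℤ) = 32 ∧ Cfsg.dotInt (v : Cfsg.GolayPt → ℤ) (x : Cfsg.GolayPt → ℤ) = 16}, ∀ y' ∈ {x : ↥Cfsg.leechLattice | Cfsg.sqNorm (x : Cfsg.GolayPt → ℤ) = 32 ∧ Cfsg.sqNorm ((u - x) : Cfsg.GolayPt → ℤ) = 32 ∧ Cfsg.dotInt (v : Cfsg.GolayPt → ℤ) (x : Cfsg.GolayPt → ℤ) = 16}, y ≠ x → y' ≠ x → Cfsg.dotInt (x : Cfsg.GolayPt → ℤ) (y : Cfsg.GolayPt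 → ℤ) = Cfsg.dotInt (x : Cfsg.GolayPt → ℤ) (y' : Cfsg.GolayPt → ℤ) → ∃ g : ↥Cfsg.Co0, g • u = u ∧ g • v = v ∧ g • x = x ∧ g • y = y' := by
  obtain ⟨g, rfl, rfl, rfl⟩ := stdMcL hu hv.1 ((nm_sub_iff hu hv.1).1 hv.2) hx.1
    ((nm_sub_iff hu hx.1).1 hx.2.1) hx.2.2
  have k : ∀ y : Λ, (sqNorm ((g • y : Λ) : V) = 32 ∧ sqNorm (((g • u0 : Λ) : V) - ((g • y : Λ) : V)) = 32 ∧
      dotInt ((g • v0 : Λ) : V) ((g • y : Λ) : V) = 16) ↔ y ∈ XC [(cv0, 80), (cu0, 88)] := fun y => by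
    rw [mem_XC2, lv_u0, lv_v0, ← AddSubgroup.coe_sub, ← co_sub, nm_smul, nm_smul, dt_smul,
      AddSubgroup.coe_sub]
    exact and_congr_right fun h => by rw [nm_sub_iff nm_u0 h, and_comm]; rfl
  have n := orbX_hist c6 n275 List.mem_cons_self
  refine ⟨(ncard_tr g fun y => ?_).trans ((n 9).trans (by norm_num)),
    (ncard_tr g fun y => ?_).trans ((n 10).trans (by norm_num)), fun y hy y' hy' _ _ e => ?_⟩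
  · show _ ↔ y ∈ XC _
    rw [XC_cons, dt_smul]
    exact and_congr (k y) Iff.rfl
  · show _ ↔ y ∈ XC _
    rw [XC_cons, dt_smul]
    refine and_congr (k y) ⟨fun h => h.2, fun h => ⟨fun e => ?_, h⟩⟩
    rw [smul_left_cancel g e, ← sqNorm_eq_dot, (okV_sound ok_vec.2.2.2.2.2.2).1] at h
    norm_num at h
  · obtain ⟨y, rfl⟩ := MulAction.surjective g y
    obtain ⟨y', rfl⟩ := MulAction.surjective g y'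
    obtain ⟨h, a, b⟩ := orbX_key c6 n275 c6k y ((k y).1 hy) y' ((k y').1 hy') (by simpa using e)
    simp only [mem_FV, List.map, List.forall_mem_cons, lv_v0, lv_u0] at a
    exact ⟨_, cj g a.2.2.1, cj g a.2.1, cj g a.1, cj g b⟩

end Cfsg.Agent.S1581
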