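import Cfsg.Statements.S0383
import Cfsg.Agent.Gol.Simp

set_option autoImplicit false
open scoped Pointwise
open Cfsg

namespace Cfsg.Agent.S0383

open Cfsg.Agent.Gol Finset
open scoped Pointwise


theorem result (d : Finset Cfsg.GolayPt) (hd : d ∈ Cfsg.dodecads) : IsSimpleGroup (MulAction.stabilizer Cfsg.M24 d) := by
  obtain ⟨g, rfl⟩ := std_dod hd
  have := simple_m12
  exact (conjEquiv g (K := St 0 [340831]) fun x => by simp [mem_St, cj_iff]).symm.isSimpleGroup

end Cfsg.Agent.S0383
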