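import Cfsg.Statements.S1536
import Cfsg.Agent.Char.PF1

set_option autoImplicit false
open Cfsg

namespace Cfsg.Agent.S1536

open Cfsg.Agent.Char

/-- Let H be a normal subgroup of the finite group M whose order is coprime to its index. For x ∈ M: some non-principal irreducible character of H is unchanged under h ↦ θ(x h x⁻¹) if and only if some non-identity element of H commutes with x. -/
theorem result {M : Type*} [Group M] [Finite M] (H : Subgroup M) [hN : H.Normal] (hHall : Nat.Coprime (Nat.card H) H.index) (x : M) : (∃ θ : H → ℂ, Cfsg.IsIrrCharacter H θ ∧ θ ≠ (fun _ => 1) ∧ (fun h : H => θ ⟨x * h * x⁻¹, hN.conj_mem h h.2 x⟩) = θ) ↔ ∃ h ∈ H, h ≠ 1 ∧ x * h = h * x := by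
  have hcard := card_fixed_irr_aut (MulAut.conjNormal x : MulAut H)
    (fun C => ConjClasses.map (MulEquiv.toMonoidHom ((MulAut.conjNormal x : MulAut H))) C = C)
    (fun g => ConjClasses.mk_eq_mk_iff_isConj)
  constructor
  · rintro ⟨θ, h1, h2, h3⟩
    by_contra hne
    push Not at hne
    refine h2 (h1.eq_one_of_aut_fixed (MulAut.conjNormal x : MulAut H) (fun k hk => ?_)
      fun g => congrFun h3 g)
    have hx : (orderOf x).Coprime (Nat.card H) := by
      rw [Nat.coprime_iff_gcd_eq_one]
      by_contra h4
      obtain ⟨p, hp, h5⟩ := Nat.exists_prime_and_dvd h4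
      have h6 := h5.trans (Nat.gcd_dvd_left _ _)
      have h7 := h5.trans (Nat.gcd_dvd_right _ _)
      have h8 : orderOf (x ^ (orderOf x / p)) = p := orderOf_pow_orderOf_div (orderOf_pos x).ne' h6
      refine hne (x ^ (orderOf x / p)) (mem_of_orderOf_coprime_index ?_) ?_ ?_
      · rw [h8]; exact hHall.coprime_dvd_left h7
      · intro h9; rw [h9, orderOf_one] at h8; exact hp.one_lt.ne h8
      · group
    obtain ⟨c, hc⟩ := isConj_iff.1 hk.symm
    obtain ⟨y, hy, e⟩ := exists_conj_comm_of_coprime (H := H) (g := x) (x := k)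
      (by simp [Subgroup.normalizer_eq_top]) hx ⟨c, c.2, by
        have := congrArg Subtype.val hc
        simpa using this.symm⟩
    by_contra hk1
    refine hne _ (hN.conj_mem _ k.2 y) ?_ e
    simpa using hk1
  · rintro ⟨h, h1, h2, h3⟩
    by_contra hne
    push Not at hne
    have h4 : Nat.card {χ : IrrCharacter H // (χ : H → ℂ) ∘ (MulAut.conjNormal x : MulAut H) = χ}
        ≤ 1 := by
      refine Finite.card_le_one_iff_subsingleton.2 ⟨fun a b => ?_⟩
      have ha : (a.1 : H → ℂ) = fun _ => 1 := by
        by_contra ha; exact hne _ a.1.2 ha a.2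
      have hb : (b.1 : H → ℂ) = fun _ => 1 := by
        by_contra hb; exact hne _ b.1.2 hb b.2
      exact Subtype.ext (Subtype.ext (ha.trans hb.symm))
    rw [hcard, Finite.card_le_one_iff_subsingleton] at h4
    have h5 := h4.elim ⟨ConjClasses.mk ⟨h, h1⟩, by
      change ConjClasses.mk _ = _
      congr 1
      ext
      simp [h3]⟩ ⟨ConjClasses.mk 1, by
      change ConjClasses.mk _ = _
      congr 1
      simp⟩
    have h6 := ConjClasses.mk_eq_mk_iff_isConj.1 (congrArg Subtype.val h5)
    exact h2 (by simpa using h6)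

end Cfsg.Agent.S1536
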