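import Cfsg.Statements.S0735
import Cfsg.Agent.Perm.Basic

set_option autoImplicit false
open Cfsg

namespace Cfsg.Agent.S0735

open Cfsg.Agent.Perm Subgroup MulAction
open scoped Pointwise


/-- A 2-homogeneous permutation group (transitive on 2-subsets) of even order is doubly transitive; a non-trivial 2-homogeneous group is primitive. -/
theorem result {α : Type*} [Fintype α] [DecidableEq α] (G : Subgroup (Equiv.Perm α)) (h2 : MulAction.IsPretransitive G (Set.powersetCard α 2)) (hα : 3 ≤ Fintype.card α) : (Even (Nat.card G) → MulAction.IsMultiplyPretransitive G α 2) ∧ (G ≠ ⊥ → MulAction.IsPreprimitive G α) := by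
  have k : ∀ {a b c d : α}, a ≠ b → c ≠ d → ∃ g ∈ G, g a = c ∧ g b = d ∨ g a = d ∧ g b = c := by
    intro a b c d h1 h3
    obtain ⟨g, hg⟩ := hom_iff.1 h2 _ _ (Finset.card_pair h1) (Finset.card_pair h3)
    have e : ({g.1 a, g.1 b} : Finset α) = {c, d} := by
      rwa [Finset.smul_finset_insert, Finset.smul_finset_singleton] at hg
    refine ⟨g, g.2, ?_⟩
    have := Finset.coe_inj.2 e
    simpa [Set.pair_eq_pair_iff] using this
  constructor
  · intro he
    obtain ⟨t, ht⟩ := exists_prime_orderOf_dvd_card' 2 he.two_dvd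
    obtain ⟨x, hx⟩ := exists_smul_ne (Ω := α) (g := t) fun e => by simp [e] at ht
    have h3 : t • t • x = x := by rw [← mul_smul, ← sq, ← ht, pow_orderOf_eq_one, one_smul]
    have k1 : ∀ {a b : α}, a ≠ b → ∃ g : G, g • a = x ∧ g • b = t • x := fun h => by
      obtain ⟨g, g1, g2 | g2⟩ := k h hx.symm
      · exact ⟨⟨g, g1⟩, g2⟩
      · exact ⟨t * ⟨g, g1⟩, by rw [mul_smul, ← h3]; exact congrArg _ g2.1,
          by rw [mul_smul]; exact congrArg _ g2.2⟩
    refine is_two_pretransitive_iff.2 fun h h' => ?_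
    obtain ⟨g, g1, g2⟩ := k1 h
    obtain ⟨u, u1, u2⟩ := k1 h'
    exact ⟨u⁻¹ * g, by rw [mul_smul, g1, ← u1, inv_smul_smul],
      by rw [mul_smul, g2, ← u2, inv_smul_smul]⟩
  · intro h
    refine IsPreprimitive.mk' (fun e => h ((eq_bot_iff_forall _).2 fun g hg => Equiv.ext fun x =>
      (e.ge (Set.mem_univ x) : x ∈ fixedPoints G α) ⟨g, hg⟩)) fun {B} hB =>
        B.subsingleton_or_nontrivial.imp_right ?_
    rintro ⟨a, ha, b, hb, hab⟩
    refine Set.eq_univ_of_forall fun c => by_contra fun hc => hc ?_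
    obtain ⟨g, g1, g2 | g2⟩ := k hab (c := a) (d := c) fun e => hc (e ▸ ha)
    · exact g2.2 ▸ isBlock_iff_smul_eq_of_mem.1 hB (g := ⟨g, g1⟩) ha (g2.1.symm ▸ ha :) ▸
        Set.smul_mem_smul_set hb
    · exact g2.1 ▸ isBlock_iff_smul_eq_of_mem.1 hB (g := ⟨g, g1⟩) hb (g2.2.symm ▸ ha :) ▸
        Set.smul_mem_smul_set ha

end Cfsg.Agent.S0735
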