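import Cfsg.Statements.S0736
import Cfsg.Agent.Perm.Basic
import Mathlib.Data.Nat.Choose.Lucas
import Mathlib.Combinatorics.Enumerative.DoubleCounting

set_option autoImplicit false
open Cfsg

namespace Cfsg.Agent.S0736

open Cfsg.Agent.Perm Subgroup MulAction
open scoped Pointwise

theorem aux {p : ℕ} [hp : Fact p.Prime] (a m j : ℕ) (hj : j < p ^ a) :
    (p ^ a * m + j).choose j ≡ 1 [MOD p] := by
  induction a generalizing j with
  | zero => simp_all [Nat.ModEq]
  | succ a ih =>
    refine Choose.choose_modEq_choose_mod_mul_choose_div_nat.trans ?_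
    rw [pow_succ', mul_assoc, Nat.mul_add_mod, Nat.choose_self, one_mul, Nat.mul_add_div hp.out.pos]
    exact ih _ (Nat.div_lt_of_lt_mul (by rwa [← pow_succ']))


/-- A `k`-homogeneous permutation group of degree `n`, `k ≥ 2`, with `k + q - 1 ≤ n` for every prime power `q` dividing `k`, is `(k-1)`-homogeneous. -/
theorem result {α : Type*} [Fintype α] [DecidableEq α] (G : Subgroup (Equiv.Perm α)) {k : ℕ} (hk : 2 ≤ k) (hG : MulAction.IsPretransitive G (Set.powersetCard α k)) (hq : ∀ q : ℕ, IsPrimePow q → q ∣ k → k + q - 1 ≤ Fintype.card α) : MulAction.IsPretransitive G (Set.powersetCard α (k - 1)) := by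
  obtain ⟨k, rfl⟩ := Nat.exists_eq_add_of_le' (show 1 ≤ k by omega)
  replace hG := hom_iff.1 hG
  refine hom_iff.2 fun S₀ S₁ h0 h1 => ?_
  classical
  rw [Nat.add_sub_cancel] at h0 h1
  let r : Finset α → Finset (Finset α) := fun T => (T.powersetCard k).filter fun S => ∃ g : G, g • S₀ = S
  have hn : k + 1 ≤ Fintype.card α := by
    obtain ⟨p, hp, hd⟩ := Nat.exists_prime_and_dvd (show k + 1 ≠ 1 by omega)
    have := hq p hp.isPrimePow hd
    have := hp.pos
    omega
  obtain ⟨T₀, t1, -, t2⟩ := Finset.exists_subsuperset_card_eq (Finset.subset_univ S₀) (n := k + 1)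
    (by omega) hn
  obtain ⟨T₁, t3, -, t4⟩ := Finset.exists_subsuperset_card_eq (Finset.subset_univ S₁) (n := k + 1)
    (by omega) hn
  have r1 : ∀ T T' : Finset α, T.card = k + 1 → T'.card = k + 1 → (r T).card ≤ (r T').card :=
    fun T T' h h' => by
      obtain ⟨g, rfl⟩ := hG T T' h h'
      refine Finset.card_le_card_of_injOn (g • ·) (fun S hS => ?_) (MulAction.injective g).injOn
      simp only [r, Finset.coe_filter, Finset.mem_powersetCard, Set.mem_ofPred_eq] at hS ⊢
      obtain ⟨⟨a1, a2⟩, u, a3⟩ := hS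
      exact ⟨⟨Finset.smul_finset_subset_smul_finset a1, by simpa using a2⟩, g * u, by rw [mul_smul, a3]⟩
  have r2 : k + 1 ∣ (r T₁).card := (Nat.dvd_iff_prime_pow_dvd_dvd _ _).2 fun p a hp hd => by
    rcases a with _ | a
    · simp
    have := Fact.mk hp
    have q1 : 0 < p ^ (a + 1) := pow_pos hp.pos _
    obtain ⟨U, -, u⟩ := Finset.exists_subset_card_eq (s := Finset.univ)
      (hq (p ^ (a + 1)) (hp.isPrimePow.pow a.succ_ne_zero) hd)
    have e := Finset.card_mul_eq_card_mul (s := r U) (t := U.powersetCard (k + 1)) (· ⊆ ·)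
      (m := p ^ (a + 1)) (n := (r T₁).card) (fun S hS => by
        obtain ⟨a1, a2⟩ := Finset.mem_powersetCard.1 (Finset.mem_filter.1 hS).1
        rw [Finset.bipartiteAbove, Finset.card_filter_powersetCard_subset _ _ _ a1 (by omega), u, a2,
          Nat.add_sub_cancel_left, Nat.choose_one_right]
        omega) fun T hT => by
        obtain ⟨a1, a2⟩ := Finset.mem_powersetCard.1 hT
        rw [← le_antisymm (r1 _ _ a2 t4) (r1 _ _ t4 a2)]
        congr 1
        ext S
        simp only [r, Finset.bipartiteBelow, Finset.mem_filter, Finset.mem_powersetCard]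
        exact ⟨fun h => ⟨⟨h.2, h.1.1.2⟩, h.1.2⟩, fun h => ⟨⟨⟨h.1.1.trans a1, h.1.2⟩, h.2⟩, h.1.1⟩⟩
    refine Nat.Coprime.dvd_of_dvd_mul_left (Nat.Coprime.pow_left _ (hp.coprime_iff_not_dvd.2
      fun h => ?_)) (e ▸ dvd_mul_left _ _)
    obtain ⟨m, hm⟩ := hd
    have e2 := aux (p := p) (a + 1) m (p ^ (a + 1) - 1) (by omega)
    rw [← hm, ← Nat.choose_symm_add, ← Nat.add_sub_assoc q1, ← u, ← Finset.card_powersetCard] at e2
    exact hp.not_dvd_one ((e2.dvd_iff dvd_rfl).1 h)
  have r3 := Nat.le_of_dvd ((Finset.card_pos.2 ⟨S₀, Finset.mem_filter.2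
    ⟨Finset.mem_powersetCard.2 ⟨t1, h0⟩, 1, one_smul _ _⟩⟩).trans_le (r1 _ _ t2 t4)) r2
  exact (Finset.mem_filter.1 ((Finset.eq_of_subset_of_card_le (Finset.filter_subset _ _) (by
    rwa [Finset.card_powersetCard, t4, Nat.choose_succ_self_right]) : r T₁ = _).ge
    (Finset.mem_powersetCard.2 ⟨t3, h1⟩))).2

end Cfsg.Agent.S0736
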