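import Cfsg.Statements.S0744
import Cfsg.Agent.Perm.Normal

set_option autoImplicit false
open Cfsg

namespace Cfsg.Agent.S0744

open Cfsg.Agent.Perm Subgroup MulAction
open scoped Pointwise


/-- If for some `k > 1` the pointwise stabilisers of all `(k-1)`-subsets have the same order `> 1` and those of all `k`-subsets have the same order, then the group is `(k-1)`-transitive. -/
theorem result {α : Type*} [Fintype α] [DecidableEq α] (G : Subgroup (Equiv.Perm α)) {k : ℕ} (hk : 1 < k) (hkn : k ≤ Fintype.card α) (l m : ℕ) (hl : 1 < l) (hkm1 : ∀ s : Finset α, s.card = k - 1 → Nat.card (fixingSubgroup G (s : Set α)) = l) (hkm : ∀ s : Finset α, s.card = k → Nat.card (fixingSubgroup G (s : Set α)) = m) : MulAction.IsMultiplyPretransitive G α (k - 1) := by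
  have k1 : ∀ s : Finset α, s.card = k - 1 → ∀ a ∉ s,
      m * Nat.card (orbit (fixingSubgroup G (s : Set α)) a) = l := fun s hs a ha => by
    rw [← hkm1 s hs, ← card_stab_mul _ a, ← hkm (insert a s) (by
      rw [Finset.card_insert_of_notMem ha]; omega)]
    rw [show fixingSubgroup G ((insert a s : Finset α) : Set α) =
      fixingSubgroup G (s : Set α) ⊓ stabilizer G a from Subgroup.ext fun g => by
        simp [mem_fixingSubgroup_iff, and_comm]]
  obtain ⟨s, -, hs⟩ := Finset.exists_subset_card_eq (s := (Finset.univ : Finset α)) (n := k - 1)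
    (by rw [Finset.card_univ]; omega)
  obtain ⟨a, ha⟩ := exists_notMem_of_card_lt (s := s) (by rw [Nat.card_eq_fintype_card]; omega)
  have hm : 0 < m := Nat.pos_of_ne_zero fun e => by have := k1 s hs a ha; rw [e] at this; omega
  obtain ⟨p, hp, hd⟩ := Nat.exists_prime_and_dvd (n := l / m) fun e => by
    refine hl.ne' (hkm1 s hs ▸ card_eq_one.2 ((eq_bot_iff_forall _).2 fun g hg =>
      eq_one_of_smul (Ω := α) fun x => ?_))
    by_cases hx : x ∈ s
    · exact hg ⟨x, hx⟩
    · rw [← k1 s hs x hx, Nat.mul_div_cancel_left _ hm, Nat.card_coe_set_eq,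
        Set.ncard_eq_one] at e
      obtain ⟨y, hy⟩ := e
      exact (hy.le (mem_orbit x (⟨g, hg⟩ : fixingSubgroup G (s : Set α)))).trans
        (hy.le (mem_orbit_self x)).symm
  have := Fact.mk hp
  refine (gleason hp (by rw [Nat.card_eq_fintype_card]; omega) fun t ht => ?_).multi_top
  let P : Sylow p (fixingSubgroup G (t : Set α)) := default
  refine ⟨_, P.2.map (Subgroup.subtype _), Set.Subset.antisymm (fun x hx => by_contra fun e =>
    P.not_dvd_index (hd.trans ?_)) ?_⟩
  · rw [← k1 t ht x e, Nat.mul_div_cancel_left _ hm, Nat.card_coe_set_eq, ← index_stabilizer]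
    exact index_dvd_of_le fun g hg => hx ⟨g, g, hg, rfl⟩
  · rintro x hx ⟨_, g, -, rfl⟩
    exact g.2 ⟨x, hx⟩

end Cfsg.Agent.S0744
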