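import Cfsg.Statements.S0014
import Cfsg.Agent.Core.Frattini

set_option autoImplicit false
open Cfsg

namespace Cfsg.Agent.S0014

/-- Burnside's basis Theorem: in a finite p-group whose Frattini quotient has order p ^ n, every generating set contains n elements that already generate, and no set with fewer than n elements generates. -/
theorem result {G : Type*} [Group G] [Finite G] (p n : ℕ) [Fact p.Prime]
    (hG : IsPGroup p G) (hn : (frattini G).index = p ^ n) :
    (∀ S : Finset G, Subgroup.closure (S : Set G) = ⊤ → ∃ T : Finset G, T ⊆ S ∧ T.card = n ∧ Subgroup.closure (T : Set G) = ⊤) ∧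
    (∀ T : Finset G, Subgroup.closure (T : Set G) = ⊤ → n ≤ T.card) := by
  classical
  have hp : p.Prime := Fact.out
  have := hG.isNilpotent
  have hc : commutator G ≤ frattini G := Core.commutator_le_frattini_of_isNilpotent
  have hn' : ∀ T : Finset G, (Subgroup.closure (T : Set G) ⊔ frattini G).Normal := fun T =>
    Subgroup.Normal.of_commutator_le G (hc.trans le_sup_right)
  have hins : ∀ (T : Finset G) (s : G), Subgroup.closure ((insert s T : Finset G) : Set G) ⊔
      frattini G = (Subgroup.closure (T : Set G) ⊔ frattini G) ⊔ Subgroup.zpowers s := by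
    intro T s
    rw [Finset.coe_insert, Set.insert_eq, Subgroup.closure_union, ← Subgroup.zpowers_eq_closure]
    ac_rfl
  have hpow : ∀ (T : Finset G) (s : G), s ^ p ∈ Subgroup.closure (T : Set G) ⊔ frattini G :=
    fun T s => Subgroup.mem_sup_right (Core.pow_mem_frattini_of_isPGroup hG s)
  constructor
  · intro S hS
    have key : ∀ k ≤ n, ∃ T : Finset G, T ⊆ S ∧ T.card = k ∧
        (Subgroup.closure (T : Set G) ⊔ frattini G).index = p ^ (n - k) := by
      intro k
      induction k with
      | zero => intro _; exact ⟨∅, by simp, rfl, by simpa using hn⟩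
      | succ k ih =>
        intro hk
        obtain ⟨T, hTS, hT, hi⟩ := ih (by omega)
        have hne : ¬ (S : Set G) ⊆ (Subgroup.closure (T : Set G) ⊔ frattini G : Subgroup G) := by
          intro h
          rw [← Subgroup.closure_le, hS, top_le_iff, ← Subgroup.index_eq_one, hi,
            Nat.pow_eq_one] at h
          rcases h with h | h
          · exact hp.ne_one h
          · omega
        obtain ⟨s, hs, hsT⟩ := Set.not_subset.mp hne
        have hsT' : s ∉ T := fun h => hsT (Subgroup.mem_sup_left (Subgroup.subset_closure h))
        refine ⟨insert s T, Finset.insert_subset hs hTS, by rw [Finset.card_insert_of_notMem hsT', hT],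
          ?_⟩
        have := hn' T
        have h1 := Subgroup.relIndex_mul_index (le_sup_left :
          (Subgroup.closure (T : Set G) ⊔ frattini G) ≤ _ ⊔ Subgroup.zpowers s)
        rw [Core.relIndex_zpowers_eq_prime hp (hpow T s) hsT, hi,
          show n - k = (n - (k + 1)) + 1 by omega, pow_succ'] at h1
        rw [hins]
        exact Nat.eq_of_mul_eq_mul_left hp.pos h1
    obtain ⟨T, h1, h2, h3⟩ := key n le_rfl
    rw [Nat.sub_self, pow_zero, Subgroup.index_eq_one] at h3
    exact ⟨T, h1, h2, frattini_nongenerating h3⟩
  · have key : ∀ T : Finset G,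
        p ^ n ∣ (Subgroup.closure (T : Set G) ⊔ frattini G).index * p ^ T.card := by
      intro T
      induction T using Finset.induction_on with
      | empty => simp [hn]
      | insert s T hs ih =>
        have := hn' T
        have h1 := Subgroup.relIndex_mul_index (le_sup_left :
          (Subgroup.closure (T : Set G) ⊔ frattini G) ≤ _ ⊔ Subgroup.zpowers s)
        rw [hins, Finset.card_insert_of_notMem hs, pow_succ]
        rw [← h1] at ih
        refine ih.trans ?_
        rw [mul_assoc, mul_comm, ← mul_assoc]
        exact Nat.mul_dvd_mul_left _ (Core.relIndex_zpowers_dvd (hpow T s))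
    intro T hT
    have := key T
    rwa [hT, top_sup_eq, Subgroup.index_top, one_mul, Nat.pow_dvd_pow_iff_le_right hp.one_lt] at this

end Cfsg.Agent.S0014
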