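import Cfsg.Statements.S0018
import Cfsg.Agent.Core.Schmidt

set_option autoImplicit false
open Cfsg

namespace Cfsg.Agent.S0018

/-- A finite solvable group whose Sylow p-subgroups are abelian has p-length one: a Sylow p-subgroup together with the largest normal subgroup of order prime to p generates a normal subgroup. -/
theorem result {G : Type*} [Group G] [Finite G] [Group.IsSolvable G]
    (p : ℕ) [Fact p.Prime] (P : Sylow p G) (hP : IsMulCommutative P) :
    ((P : Subgroup G) ⊔ Cfsg.pPrimeCore p G).Normal := by
  let N := Cfsg.pPrimeCore p G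
  have h1 := (Core.isSylowIn_top P).map (QuotientGroup.mk' N)
  rw [Subgroup.map_top_of_surjective _ (QuotientGroup.mk'_surjective N)] at h1
  have h2 : Cfsg.pCore p (G ⧸ N) ≤ (P : Subgroup G).map (QuotientGroup.mk' N) :=
    h1.le_of_le_normalizer (Core.pCore_isPGroup p) le_top (Or.inl Subgroup.le_normalizer_of_normal)
  have h3 : (P : Subgroup G).map (QuotientGroup.mk' N) ≤ Cfsg.pCore p (G ⧸ N) :=
    le_trans (le_trans (Subgroup.le_centralizer_iff_isMulCommutative.mpr
      (Core.isMulCommutative_map' hP _)) (Core.centralizer_anti h2))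
      (Core.centralizer_pCore_le p (Core.pPrimeCore_quotient_pPrimeCore p))
  rw [← Core.comap_map_mk'', le_antisymm h3 h2]
  infer_instance

end Cfsg.Agent.S0018
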