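import Cfsg.Statements.S0021
import Cfsg.Agent.Core.Product

set_option autoImplicit false
open Pointwise
open Cfsg

namespace Cfsg.Agent.S0021

/-- A finite group with a family of pairwise permuting Sylow subgroups, one for each prime, is solvable (this direction rests on Burnside's two-prime Theorem). -/
theorem result {G : Type*} [Group G] [Finite G]
    (S : (p : Nat.Primes) → Sylow (p : ℕ) G)
    (hS : ∀ p q : Nat.Primes, (S p : Set G) * (S q : Set G) = (S q : Set G) * (S p : Set G)) :
    Group.IsSolvable G := by
  classical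
  have hprod : ∀ (T : Finset Nat.Primes) (p : Nat.Primes),
      Core.IsProd (T.sup (fun q => (S q : Subgroup G)) ⊔ S p) (T.sup fun q => (S q : Subgroup G))
        (S p) := by
    intro T p
    induction T using Finset.induction_on with
    | empty =>
      rw [Finset.sup_empty]
      exact Core.isProd_sup_of_le_normalizer bot_le
    | insert q T _ ih =>
      rw [Finset.sup_insert]
      exact (Core.isProd_of_coe_mul_comm (hS q p)).sup_left ih
  have hnum : ∀ (p : ℕ) (T : Finset Nat.Primes), (∀ q ∈ T, (q : ℕ) ≠ p) →
      Core.IsPiNum ({p} : Set ℕ)ᶜ (Nat.card ↥(T.sup fun q => (S q : Subgroup G))) := by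
    intro p T
    induction T using Finset.induction_on with
    | empty => intro _; rw [Finset.sup_empty, Subgroup.card_bot]; exact Core.isPiNum_one _
    | insert q T _ ih =>
      intro hT
      rw [Finset.sup_insert, sup_comm]
      have := Fact.mk q.2
      exact ((ih fun r hr => hT r (Finset.mem_insert_of_mem hr)).mul
        (Core.isPiNum_card_of_isPGroup (S q).isPGroup'
          (hT q (Finset.mem_insert_self q T)))).of_dvd (hprod T q).card_dvd
  refine Core.isSolvable_of_forall_isPiHall fun p hp => ?_
  let T : Finset Nat.Primes := ((Nat.card G).primeFactors.erase p).subtype Nat.Prime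
  refine ⟨T.sup fun q => (S q : Subgroup G), Core.isPiHall_iff.mpr ⟨hnum p T fun q hq =>
    (Finset.mem_erase.mp (Finset.mem_subtype.mp hq)).1, fun r hr hd hrp => ?_⟩⟩
  have := Fact.mk hr
  have hrT : (⟨r, hr⟩ : Nat.Primes) ∈ T := Finset.mem_subtype.mpr (Finset.mem_erase.mpr
    ⟨hrp, Nat.mem_primeFactors.mpr ⟨hr, hd.trans (Subgroup.index_dvd_card _), Nat.card_pos.ne'⟩⟩)
  exact (S ⟨r, hr⟩).not_dvd_index (hd.trans (Subgroup.index_dvd_of_le
    (Finset.le_sup (f := fun q => (S q : Subgroup G)) hrT)))

end Cfsg.Agent.S0021
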