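import Cfsg.Statements.S0031
import Cfsg.Agent.Core.Frobenius

set_option autoImplicit false
open Cfsg

namespace Cfsg.Agent.S0031

open Pointwise

/-- A fixed-point-free automorphism of a finite group maps some Sylow p-subgroup to itself. -/
theorem result {G : Type*} [Group G] [Finite G] (φ : G ≃* G)
    (hφ : MonoidHom.FixedPointFree (φ : G →* G)) (p : ℕ) [Fact p.Prime] :
    ∃ P : Sylow p G, (P : Subgroup G).map (φ : G →* G) = P := by
  obtain ⟨P⟩ : Nonempty (Sylow p G) := inferInstance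
  let ψ : MulAut G := φ
  obtain ⟨g, hg⟩ := MulAction.exists_smul_eq G P (ψ • P)
  obtain ⟨x, hx⟩ := hφ.commutatorMap_surjective g⁻¹
  rw [MonoidHom.commutatorMap_apply, div_eq_mul_inv, ← inv_eq_iff_eq_inv, mul_inv_rev, inv_inv] at hx
  have h1 : (P : Subgroup G).map (φ : G →* G) = MulAut.conj g • (P : Subgroup G) :=
    (congrArg Sylow.toSubgroup hg).symm
  refine ⟨x⁻¹ • P, ?_⟩
  rw [Sylow.coe_subgroup_smul, Core.map_conj_smul, h1, Core.conj_smul_conj_smul, ← hx, map_inv]
  simp

end Cfsg.Agent.S0031
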