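import Cfsg.Statements.S0035
import Cfsg.Agent.Char.TI

set_option autoImplicit false
open Cfsg

namespace Cfsg.Agent.S0035

open Cfsg.Agent.Char

/-- Frobenius' Theorem: if H is a Frobenius complement in a finite group, the identity together with the elements lying in no conjugate of H form a normal subgroup, which is a complement to H. -/
theorem result {G : Type*} [Group G] [Finite G] (H : Subgroup G) (hH : Cfsg.IsFrobeniusComplement H) :
    ∃ N : Subgroup G, (N : Set G) = Cfsg.frobeniusKernel H ∧ N.Normal ∧ Subgroup.IsComplement' N H := by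
  have key : ∀ g x : G, x ∈ (open Pointwise in MulAut.conj g • H) ↔ g⁻¹ * x * g ∈ H := fun g x => by
    rw [Subgroup.mem_pointwise_smul_iff_inv_smul_mem]
    simp
  obtain ⟨N, hN, h1, h2⟩ := frobenius_kernel H (fun g hg h hh hgh => by
    have h3 : h ∈ H ⊓ (open Pointwise in MulAut.conj g⁻¹ • H) := ⟨hh, (key _ _).2 (by simpa using hgh)⟩
    rw [hH.2.2 g⁻¹ (by simpa using hg)] at h3
    exact h3)
  refine ⟨N, ?_, hN, h2⟩
  ext x
  simp only [SetLike.mem_coe, h1, frobeniusKernel, Set.mem_ofPred_eq, key]
  refine or_congr_right ⟨fun h g => by simpa using h g⁻¹, fun h g => by simpa using h g⁻¹⟩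

end Cfsg.Agent.S0035
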