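import Cfsg.Statements.S0038
import Cfsg.Agent.Core.Frobenius
import Cfsg.Agent.S0035

set_option autoImplicit false
open Pointwise
open Cfsg

namespace Cfsg.Agent.S0038

/-- All Frobenius complements of a finite group are conjugate to one another. -/
theorem result {G : Type*} [Group G] [Finite G] (H H₀ : Subgroup G)
    (hH : Cfsg.IsFrobeniusComplement H) (hH₀ : Cfsg.IsFrobeniusComplement H₀) :
    ∃ g : G, MulAut.conj g • H₀ = H := by
  have key : ∀ H H₀ : Subgroup G, Cfsg.IsFrobeniusComplement H → Cfsg.IsFrobeniusComplement H₀ →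
      Nat.card H₀ ≤ Nat.card H → ∃ g : G, MulAut.conj g • H₀ = H := by
    intro H H₀ hH hH₀ hle
    obtain ⟨g, hg⟩ := Core.frob_exists_conj_le_of_card_le hH hH₀ hle
    rw [Core.le_conj_smul_iff_inv_le] at hg
    refine ⟨g⁻¹, ?_⟩
    have h₁ := Core.frob_conj hH₀ g⁻¹
    generalize MulAut.conj g⁻¹ • H₀ = H₁ at hg h₁
    by_contra hne
    obtain ⟨N, hN, hNn, hc⟩ := S0035.result H hH
    obtain ⟨N₁, hN₁, hNn₁, hc₁⟩ := S0035.result H₁ h₁
    -- `N ≤ N₁`, and `N₁ ⊓ H ≠ ⊥`
    have h2 : N₁ ⊓ H ≠ ⊥ := by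
      intro e
      have := Core.card_sup_of_disjoint (H := H) (N := N₁) Subgroup.le_normalizer_of_normal
        (by rw [inf_comm, e])
      have h3 : Nat.card ↥(H ⊔ N₁) ≤ Nat.card G := Subgroup.card_le_card_group _
      rw [this, ← hc₁.card_mul, mul_comm] at h3
      exact (Core.card_lt_of_lt (lt_of_le_of_ne hg hne)).not_ge
        (Nat.le_of_mul_le_mul_left h3 Nat.card_pos)
    have h3 := Core.eq_bot_of_fpf_of_frobenius (A := H) (V := N) (K := N₁ ⊓ H) (R := H₁)
      Subgroup.le_normalizer_of_normal (Core.frob_fpf hH hc.disjoint.eq_bot) inf_le_right hg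
      (Core.le_normalizer_inf Subgroup.le_normalizer_of_normal (hg.trans Subgroup.le_normalizer))
      (Core.fpf_mono (Core.frob_fpf h₁ hc₁.disjoint.eq_bot) le_rfl inf_le_left) h2 h₁.1
    apply hH.2.1
    simpa [h3] using hc.sup_eq_top
  rcases le_total (Nat.card H₀) (Nat.card H) with h | h
  · exact key H H₀ hH hH₀ h
  · obtain ⟨g, rfl⟩ := key H₀ H hH₀ hH h
    exact ⟨g⁻¹, Core.conj_inv_smul_conj_smul _ _⟩

end Cfsg.Agent.S0038
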