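import Cfsg.Statements.S0048
import Cfsg.Agent.Core.Schmidt

set_option autoImplicit false
open Cfsg

namespace Cfsg.Agent.S0048

theorem aux (G : Type*) [Group G] [Finite G] : Group.IsSolvable G →
    ∀ M : Subgroup G, IsCoatom M → IsPrimePow M.index := by
  induction G, ‹Group G›, ‹Finite G› using Core.card_induction' with | _ G ih => ?_
  intro hs M hM
  have : Nontrivial G := (Subgroup.nontrivial_iff (G := G)).mp ⟨⟨M, ⊤, hM.1⟩⟩
  obtain ⟨N, p, hN, hp, hNe, hNp⟩ := Core.exists_minNormal_elementaryAbelian (G := G)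
  have := hN.1
  have := Fact.mk hp
  by_cases h : N ≤ M
  · have := ih _ (Core.card_quotient_lt hN.2.1) inferInstance _ (Core.isCoatom_map_mk' hM h)
    rwa [Core.index_map_mk', sup_eq_left.mpr h] at this
  · rw [(hN.isComplement'_of_isCoatom hNe.1 hM h).index_eq_card]
    obtain ⟨n, hn⟩ := IsPGroup.iff_card.mp hNp
    refine ⟨p, n, hp.prime, Nat.pos_of_ne_zero ?_, hn.symm⟩
    rintro rfl
    exact hN.2.1 (Subgroup.card_eq_one.mp hn)

/-- In a finite solvable group every maximal subgroup has index a prime power. -/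
theorem result {G : Type*} [Group G] [Finite G] [Group.IsSolvable G]
    (M : Subgroup G) (hM : IsCoatom M) : IsPrimePow M.index := by
  exact aux G inferInstance M hM

end Cfsg.Agent.S0048
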