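import Cfsg.Statements.S0054
import Cfsg.Agent.Core.Primitive

set_option autoImplicit false
open Cfsg

namespace Cfsg.Agent.S0054

/-- A regular normal subgroup of a finite 2-transitive group is elementary abelian: it is commutative and all its elements have order dividing one prime. -/
theorem result {G : Type*} [Group G] [Finite G]
    {X : Type*} [Nonempty X] [MulAction G X] (h2 : MulAction.IsMultiplyPretransitive G X 2)
    (N : Subgroup G) [N.Normal] (htrans : MulAction.IsPretransitive N X) (hreg : ∀ x : X, MulAction.stabilizer N x = ⊥) :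
    IsMulCommutative N ∧ ∃ p : ℕ, p.Prime ∧ ∀ n ∈ N, n ^ p = 1 := by
  by_cases hN : N = ⊥
  · subst hN
    exact ⟨inferInstance, 2, Nat.prime_two, fun n hn => by rw [Subgroup.mem_bot.mp hn, one_pow]⟩
  obtain ⟨x⟩ : Nonempty X := inferInstance
  have hfree : ∀ n ∈ N, n • x = x → n = 1 := fun n hn e => by
    have : (⟨n, hn⟩ : N) ∈ MulAction.stabilizer N x := e
    rw [hreg, Subgroup.mem_bot] at this
    exact congrArg Subtype.val this
  have hconj : ∀ a ∈ N, ∀ b ∈ N, a ≠ 1 → b ≠ 1 → ∃ g : G, g * a * g⁻¹ = b := by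
    intro a ha b hb ha1 hb1
    obtain ⟨g, h1, h2⟩ := MulAction.is_two_pretransitive_iff.mp h2
      (show x ≠ a • x from fun e => ha1 (hfree a ha e.symm))
      (show x ≠ b • x from fun e => hb1 (hfree b hb e.symm))
    refine ⟨g, ?_⟩
    have h3 : b⁻¹ * (g * a * g⁻¹) = 1 := hfree _
      (N.mul_mem (N.inv_mem hb) (Subgroup.Normal.conj_mem inferInstance a ha g)) (by
        rw [mul_smul, mul_smul, mul_smul, inv_smul_eq_iff.mpr h1.symm, h2, inv_smul_smul])
    exact (inv_mul_eq_one.mp h3).symm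
  obtain ⟨p, hp, hd⟩ := Core.exists_prime_dvd_card hN
  obtain ⟨a, ha, hap⟩ := Core.exists_prime_orderOf_mem hp hd
  have ha1 : a ≠ 1 := by rintro rfl; rw [orderOf_one] at hap; exact hp.one_lt.ne hap
  have hpow : ∀ n ∈ N, n ^ p = 1 := fun n hn => by
    by_cases h1 : n = 1
    · rw [h1, one_pow]
    obtain ⟨g, rfl⟩ := hconj a ha n hn ha1 h1
    rw [conj_pow, ← hap, pow_orderOf_eq_one]; simp
  refine ⟨?_, p, hp, hpow⟩
  have := Fact.mk hp
  have hP := Core.isPGroup_of_pow_eq_one hpow
  obtain ⟨⟨z, hz, hzc⟩, hz1⟩ := Subgroup.ne_bot_iff_exists_ne_one.mp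
    (Core.inf_centralizer_ne_bot_of_isPGroup hP hP Subgroup.le_normalizer hN)
  refine Subgroup.le_centralizer_iff_isMulCommutative.mp fun n hn => ?_
  by_cases h1 : n = 1
  · rw [h1]; exact one_mem _
  obtain ⟨g, rfl⟩ := hconj z hz n hn (fun e => hz1 (Subtype.ext e)) h1
  exact Subgroup.Normal.conj_mem inferInstance z hzc g

end Cfsg.Agent.S0054
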