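import Cfsg.Statements.S0060
import Cfsg.Agent.Core.Schmidt

set_option autoImplicit false
open Pointwise
open Cfsg

namespace Cfsg.Agent.S0060

/-- Brodkey's Theorem: in a finite group with abelian Sylow p-subgroups and no nontrivial normal p-subgroup, some conjugate of a Sylow p-subgroup meets it trivially. -/
theorem result {G : Type*} [Group G] [Finite G] (p : ℕ) [Fact p.Prime]
    (S : Sylow p G) (hS : IsMulCommutative S) (hOp : Cfsg.pCore p G = ⊥) :
    ∃ g : G, (S : Subgroup G) ⊓ MulAut.conj g • (S : Subgroup G) = ⊥ := by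
  obtain ⟨⟨T, U⟩, hmin⟩ := exists_minimalFor_of_wellFoundedLT (fun _ : Sylow p G × Sylow p G => True)
    (fun x => Nat.card ↥((x.1 : Subgroup G) ⊓ (x.2 : Subgroup G))) ⟨(S, S), trivial⟩
  have hab : ∀ P : Sylow p G, IsMulCommutative (P : Subgroup G) := fun P => by
    obtain ⟨g, rfl⟩ := MulAction.exists_smul_eq G S P
    exact Core.isMulCommutative_map' hS _
  have hD : (T : Subgroup G) ⊓ U = ⊥ := by
    rw [eq_bot_iff, ← hOp, Core.pCore_eq_iInf_sylow]
    refine le_iInf fun P => ?_
    have hN : ∀ V : Sylow p G, (T : Subgroup G) ⊓ U ≤ V → (V : Subgroup G) ≤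
        Subgroup.normalizer (((T : Subgroup G) ⊓ U : Subgroup G) : Set G) := fun V hV =>
      ((Subgroup.le_centralizer_iff_isMulCommutative.mpr (hab V)).trans
        (Core.centralizer_anti hV)).trans (Subgroup.centralizer_le_normalizer _)
    obtain ⟨x, hx, h1⟩ := (Core.isSylowIn_of_le T (hN T inf_le_left)).exists_le_conj
      (U := (P : Subgroup G) ⊓ _) inf_le_right P.isPGroup'.to_inf_left
    have h2 : (P : Subgroup G) ⊓ (x • U : Sylow p G) ≤ (T : Subgroup G) ⊓ U := by
      rw [← Core.conj_smul_eq_of_mem_normalizer hx, Subgroup.smul_inf]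
      exact le_inf ((inf_le_inf_left _ (Core.conj_smul_le_of_mem (hN U inf_le_right) hx)).trans h1)
        inf_le_right
    have h3 := hmin.2 (j := (P, x • U)) trivial (Subgroup.card_le_of_le h2)
    rw [← Subgroup.eq_of_le_of_card_ge h2 h3]
    exact inf_le_left
  obtain ⟨a, rfl⟩ := MulAction.exists_smul_eq G S T
  obtain ⟨b, rfl⟩ := MulAction.exists_smul_eq G S U
  refine ⟨a⁻¹ * b, ?_⟩
  rw [← Core.smul_eq_bot_iff (MulAut.conj a), Subgroup.smul_inf, Core.conj_smul_conj_smul,
    mul_inv_cancel_left]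
  exact hD

end Cfsg.Agent.S0060
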