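import Cfsg.Statements.S0063
import Cfsg.Agent.Core.Frattini

set_option autoImplicit false
open Cfsg

namespace Cfsg.Agent.S0063

/-- A finite group of prime-power order p ^ m with m > 1 is nilpotent of class at most m - 1. -/
theorem result {G : Type*} [Group G] [Finite G] (p m : ℕ) [Fact p.Prime]
    (hG : Nat.card G = p ^ m) (hm : 1 < m) : Group.nilpotencyClass G ≤ m - 1 := by
  induction m using Nat.strong_induction_on generalizing G with | _ m ih => ?_
  have hp : p.Prime := Fact.out
  have hP : IsPGroup p G := IsPGroup.of_card hG
  have := hP.isNilpotent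
  have : Nontrivial G := hP.nontrivial_iff_card.mpr ⟨m, by omega, hG⟩
  obtain ⟨k, hk⟩ := (hP.to_quotient (Subgroup.center G)).exists_card_eq
  have hlt : k < m := by
    have := Core.card_quotient_lt (N := Subgroup.center G) hP.bot_lt_center.ne'
    rwa [hk, hG, Nat.pow_lt_pow_iff_right hp.one_lt] at this
  by_cases h1 : 1 < k
  · have := ih k hlt hk h1
    rw [Group.nilpotencyClass_eq_quotient_center_plus_one]
    omega
  · have : IsCyclic (G ⧸ Subgroup.center G) := by
      apply isCyclic_of_card_dvd_prime (p := p)
      rw [hk]
      exact (pow_dvd_pow p (not_lt.mp h1)).trans (by rw [pow_one])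
    have h2 : IsMulCommutative G := isMulCommutative_of_isCyclic_quotient_center_self G
    have := Group.IsNilpotent.nilpotencyClass_le_one_iff.mpr h2
    omega

end Cfsg.Agent.S0063
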