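import Cfsg.Statements.S0068
import Cfsg.Agent.Core.Frobenius
import Cfsg.Agent.Inv.Basic

set_option autoImplicit false
open Cfsg

namespace Cfsg.Agent.S0068

/-- Frobenius complements of even order: if H complements a nontrivial normal subgroup K, each nonidentity element of H has trivial centraliser in K, and H has even order, then H contains a unique involution s, K is abelian, and s inverts every element of K. -/
theorem result {G : Type*} [Group G] [Finite G] (K H : Subgroup G) [K.Normal]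
    (hc : Subgroup.IsComplement' K H) (hK : K ≠ ⊥) (hfpf : ∀ h ∈ H, h ≠ 1 → K ⊓ Subgroup.centralizer {h} = ⊥)
    (heven : 2 ∣ Nat.card H) :
    (∃ s ∈ H, orderOf s = 2 ∧ (∀ t ∈ H, orderOf t = 2 → t = s) ∧ ∀ k ∈ K, s * k * s⁻¹ = k⁻¹) ∧ IsMulCommutative K := by
  obtain ⟨s, hs, hs2⟩ := Core.exists_prime_orderOf_mem Nat.prime_two heven
  have hn : H ≤ Subgroup.normalizer (K : Set G) := Subgroup.le_normalizer_of_normal
  obtain ⟨h1, h2⟩ := Core.inv_of_fpf_involution (hn hs) (Inv.sq_of_ord2 hs2)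
    (hfpf s hs (Inv.ne_one_of_ord2 hs2))
  exact ⟨⟨s, hs, hs2, fun t ht ht2 => Core.fpf_unique_involution hn hK hfpf hs ht
    (Inv.ne_one_of_ord2 hs2) (Inv.ne_one_of_ord2 ht2) (Inv.sq_of_ord2 hs2) (Inv.sq_of_ord2 ht2),
    h1⟩, h2⟩

end Cfsg.Agent.S0068
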