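import Cfsg.Statements.S0073
import Cfsg.Agent.PLoc.Transfer2

set_option autoImplicit false
open Cfsg

namespace Cfsg.Agent.S0073

/-- For a finite non-abelian simple group, either the cube of the least prime divisor of the order divides the order, or 12 does. -/
theorem result {G : Type*} [Group G] [Finite G] [IsSimpleGroup G] (hG : ∃ x y : G, x * y ≠ y * x) : (Nat.card G).minFac ^ 3 ∣ Nat.card G ∨ 12 ∣ Nat.card G := by
  open Cfsg.Agent.PLoc Subgroup in
  focus
    obtain ⟨x, y, hxy⟩ := hG
    have hn1 : Nat.card G ≠ 1 := fun e => by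
      have := (Nat.card_eq_one_iff_unique.mp e).1
      exact hxy (Subsingleton.elim _ _)
    set p := (Nat.card G).minFac with hp
    have hpp : p.Prime := Nat.minFac_prime hn1
    have := Fact.mk hpp
    have hpd : p ∣ Nat.card G := Nat.minFac_dvd _
    by_contra hcon
    rw [not_or] at hcon
    obtain ⟨h3, h12⟩ := hcon
    let P : Sylow p G := default
    obtain ⟨k, hk⟩ := P.2.exists_card_eq
    have hk2 : k ≤ 2 := by
      by_contra h
      exact h3 ((pow_dvd_pow p (by omega)).trans (hk ▸ card_subgroup_dvd_card (P : Subgroup G)))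
    have hk0 : k ≠ 0 := by
      rintro rfl
      exact P.ne_bot_of_dvd_card hpd (card_eq_one.mp (by simpa using hk))
    have hcomm : IsMulCommutative (P : Subgroup G) := by
      rcases (by omega : k = 1 ∨ k = 2) with rfl | rfl
      · have := isCyclic_of_prime_card (p := p) (by simpa using hk)
        infer_instance
      · exact IsPGroup.isMulCommutative_of_card_eq_prime_sq hk
    have hNC : normalizer ((P : Subgroup G) : Set G) ≤ centralizer ((P : Subgroup G) : Set G) := by
      refine le_of_forall_isPGroup fun q hq Q hQ hQq => ?_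
      have := Fact.mk hq
      by_cases hqp : q = p
      · subst hqp
        exact ((isSylowOf_top P).le_of_le_normalizer hQq le_top hQ).trans
          (le_centralizer_iff_isMulCommutative.mpr hcomm)
      by_contra hQC
      have hQ1 : Q ≠ ⊥ := by rintro rfl; exact hQC bot_le
      have hqd : q ∣ Nat.card G :=
        (hQq.card_eq_or_dvd.resolve_left fun e => hQ1 (card_eq_one.mp e)).trans
          (card_subgroup_dvd_card Q)
      have hpq : p < q := lt_of_le_of_ne (Nat.minFac_le_of_dvd hq.two_le hqd) (Ne.symm hqp)
      have hmod := card_modEq_card_inf_centralizer hQq hQ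
      have hlt : (P : Subgroup G) ⊓ centralizer (Q : Set G) < P :=
        lt_of_le_of_ne inf_le_left fun e => hQC (le_centralizer_iff.mp (e.ge.trans inf_le_right))
      obtain ⟨j, hj⟩ := (P.2.to_le hlt.le).exists_card_eq
      have hjk : j < k := by
        have := card_lt_of_lt hlt
        rwa [hj, hk, Nat.pow_lt_pow_iff_right hpp.one_lt] at this
      rw [hj, hk] at hmod
      have hd := (Nat.modEq_iff_dvd' (Nat.pow_le_pow_right hpp.pos hjk.le)).mp hmod.symm
      have h2 := hpp.two_le
      have hsmall : ∀ m, 0 < m → m < q → ¬ q ∣ m := fun m h0 h1 h => (Nat.le_of_dvd h0 h).not_gt h1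
      rcases (by omega : (k = 1 ∧ j = 0) ∨ (k = 2 ∧ j = 1) ∨ (k = 2 ∧ j = 0)) with
        ⟨rfl, rfl⟩ | ⟨rfl, rfl⟩ | ⟨rfl, rfl⟩
      · exact hsmall _ (by simp; omega) (by simp; omega) hd
      · have e : p ^ 2 - p ^ 1 = p * (p - 1) := by rw [Nat.mul_sub_one, pow_one, sq]
        rw [e, hq.dvd_mul] at hd
        exact hd.elim (hsmall _ (by omega) hpq) (hsmall _ (by omega) (by omega))
      · have e : p ^ 2 - p ^ 0 = (p + 1) * (p - 1) := by
          rw [pow_zero, ← Nat.sq_sub_sq, one_pow]
        rw [e, hq.dvd_mul] at hd
        have h5 := Nat.le_of_dvd (by omega) (hd.resolve_right (hsmall _ (by omega) (by omega)))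
        have h6 : q = p + 1 := by omega
        have h7 : p = 2 := by
          rcases hpp.eq_two_or_odd' with h | h
          · exact h
          · have := hq.eq_two_or_odd'.resolve_left (by omega)
            rw [h6] at this
            exact absurd this (Nat.not_odd_iff_even.mpr h.add_one)
        apply h12
        have h8 : 4 ∣ Nat.card G := by
          have := card_subgroup_dvd_card (P : Subgroup G)
          rwa [hk, h7] at this
        rw [h6, h7] at hqd
        exact Nat.Coprime.mul_dvd_of_dvd_of_dvd (by norm_num : Nat.Coprime 4 3) h8 hqd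
    have hc := MonoidHom.ker_transferSylow_isComplement' P hNC
    rcases IsSimpleGroup.eq_bot_or_eq_top_of_normal (MonoidHom.transferSylow P hNC).ker
      inferInstance with e | e
    · rw [e, isComplement'_bot_left] at hc
      exact hxy (comm_of_mem hcomm (hc ▸ mem_top x) (hc ▸ mem_top y))
    · rw [e, isComplement'_top_left] at hc
      exact P.ne_bot_of_dvd_card hpd hc

end Cfsg.Agent.S0073
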