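import Cfsg.Statements.S0075
import Cfsg.Agent.PLoc.Transfer2

set_option autoImplicit false
open Cfsg

namespace Cfsg.Agent.S0075

/-- For an abelian Sylow p-subgroup T, its intersection with the subgroup generated by the elements of order prime to p is the commutator of T with its normalizer. -/
theorem result {G : Type*} [Group G] [Finite G] {p : ℕ} [Fact p.Prime] (T : Sylow p G) (hT : IsMulCommutative T) : (T : Subgroup G) ⊓ Cfsg.pResidual p G = ⁅(T : Subgroup G), Subgroup.normalizer (T : Set G)⁆ := by
  open Cfsg.Agent.PLoc Subgroup in
  focus
    refine le_antisymm (le_trans (le_inf (inf_pResidual_le_commutator T.2) inf_le_left)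
      (controlsFusion_normalizer_of_comm T hT).commutator_inf_le) (le_inf ?_ ?_)
    · exact le_normalizer_iff_commutator_le_left.mp le_rfl
    · rw [commutator_le]
      intro t ht n hn
      obtain ⟨a, ha, b, hb, rfl, -, ⟨k, hk⟩, hb'⟩ := exists_p_part p n
      have haT : a ∈ (T : Subgroup G) := zpowers_le.mp ((isSylowOf_top T).le_of_le_normalizer
        (isPGroup_zpowers hk) le_top (zpowers_le.mpr (zpowers_le.mpr hn ha)))
      rw [commutatorElement_mul_right_eq_mul_conj,
        commutatorElement_eq_one_iff_mul_comm.mpr (comm_of_mem hT ht haT), one_mul]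
      exact pResidual_normal.conj_mem _
        (commutator_le_right ⊤ _ (commutator_mem_commutator (mem_top t) (mem_pResidual hb'))) _

end Cfsg.Agent.S0075
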