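import Cfsg.Statements.S0076
import Cfsg.Agent.PLoc.Transfer2

set_option autoImplicit false
open Cfsg

namespace Cfsg.Agent.S0076

/-- Two P-invariant subsets of a Sylow p-subgroup P that are conjugate in G are conjugate under the normalizer of P. -/
theorem result {G : Type*} [Group G] [Finite G] {p : ℕ} [Fact p.Prime] (P : Sylow p G) (X Y : Set G) (hXP : X ⊆ P) (hYP : Y ⊆ P) (hX : ∀ x ∈ P, (fun y => x * y * x⁻¹) '' X = X) (hY : ∀ x ∈ P, (fun y => x * y * x⁻¹) '' Y = Y) (g : G) (hg : (fun y => g * y * g⁻¹) '' X = Y) : ∃ n ∈ Subgroup.normalizer (P : Set G), (fun y => n * y * n⁻¹) '' X = Y := by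
  open Cfsg.Agent.PLoc Subgroup in
  focus
    have hN : ∀ (Z : Set G) (x : G), x ∈ normalizer Z ↔ (fun y => x * y * x⁻¹) '' Z = Z :=
      fun Z x => mem_normalizer_iff_conj_image_eq
    have h1 : (P : Subgroup G) ≤ normalizer Y := fun x hx => (hN Y x).mpr (hY x hx)
    have h2 : cj g P ≤ normalizer Y := by
      intro x hx
      have := hX _ (mem_cj.mp hx)
      rw [hN, ← hg]
      conv_rhs => rw [← this]
      rw [Set.image_image, Set.image_image]
      congr 1
      ext y
      group
    obtain ⟨h, hh, e⟩ := (isSylowOf_sylow (g • P) h2).exists_cj_eq (isSylowOf_sylow P h1)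
    refine ⟨h * g, ?_, ?_⟩
    · rw [← P.coe_coe, ← cj_eq_self_iff, cj_mul]; exact e
    · rw [← (hN Y h).mp hh, ← hg, Set.image_image]
      congr 1
      ext y
      group

end Cfsg.Agent.S0076
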