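import Cfsg.Statements.S0078
import Cfsg.Agent.PLoc.Transfer2

set_option autoImplicit false
open Cfsg

namespace Cfsg.Agent.S0078

/-- In a p-normal group, a Sylow p-subgroup P meets O^p(G) exactly where it meets O^p(V), for any subgroup V containing the normalizer of the centre of P. -/
theorem result {G : Type*} [Group G] [Finite G] {p : ℕ} [Fact p.Prime] (P : Sylow p G) (hn : ∀ Q : Sylow p G, (P : Subgroup G) ⊓ Subgroup.centralizer (P : Set G) ≤ (Q : Subgroup G) → (Q : Subgroup G) ⊓ Subgroup.centralizer (Q : Set G) = (P : Subgroup G) ⊓ Subgroup.centralizer (P : Set G)) (V : Subgroup G) (hV : Subgroup.normalizer (((P : Subgroup G) ⊓ Subgroup.centralizer (P : Set G) : Subgroup G) : Set G) ≤ V) : (P : Subgroup G) ⊓ Cfsg.pResidual p G = (P : Subgroup G) ⊓ (Cfsg.pResidual p V).map V.subtype := by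
  open Cfsg.Agent.PLoc Subgroup in
  focus
    have hW : IsWeaklyClosed ((P : Subgroup G) ⊓ centralizer (P : Set G)) P := by
      refine ⟨inf_le_left, fun g hg => ?_⟩
      rw [cj_def] at hg ⊢
      have := hn (g⁻¹ • P) (cj_le_iff.mp hg)
      rw [← Sylow.coe_coe, coe_smul_sylow, ← cj_centralizer, ← cj_inf] at this
      conv_lhs => rw [← this]
      rw [cj_cj_inv]; rfl
    have hPN : (P : Subgroup G) ≤
        normalizer (((P : Subgroup G) ⊓ centralizer (P : Set G) : Subgroup G) : Set G) :=
      (le_centralizer_iff.mp inf_le_right).trans (centralizer_le_normalizer _)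
    have h := tate P (hPN.trans hV) ((controlsFusion_of_weaklyClosed P inf_le_right
      hW).commutator_inf_le.trans (commutator_mono (hPN.trans hV) hV))
    rw [map_pResidual_subtype, ← h, ← inf_assoc, inf_eq_left.mpr (hPN.trans hV)]

end Cfsg.Agent.S0078
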