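import Cfsg.Statements.S0079
import Cfsg.Agent.BG.XTop
import Cfsg.Agent.Core.Schmidt

set_option autoImplicit false
open Cfsg

namespace Cfsg.Agent.S0079

/-- A nilpotent Hall subgroup has a normal complement exactly when elements of it that are conjugate in the whole group are already conjugate inside it. -/
theorem result {G : Type*} [Group G] [Finite G] (H : Subgroup G) (hH : Group.IsNilpotent H) (hHall : Nat.Coprime (Nat.card H) H.index) : (∃ N : Subgroup G, N.Normal ∧ N.IsComplement' H) ↔ ∀ x ∈ H, ∀ y ∈ H, (∃ g : G, g * x * g⁻¹ = y) → ∃ h ∈ H, h * x * h⁻¹ = y := by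
  open Cfsg.Agent.BG Cfsg.Agent.BG.PHom Subgroup in
  open scoped commutatorElement in
  focus
    refine ⟨fun ⟨N, n1, n2⟩ x hx y hy ⟨g, e⟩ => ?_, fun h => Cfsg.Agent.Core.exists_normal_complement_of_fusion hH hHall
      fun p _ x hx _ g hg => h x hx _ hg ⟨g, rfl⟩⟩
    obtain ⟨⟨n, k⟩, rfl⟩ := n2.2 g
    refine ⟨k, k.2, ?_⟩
    have a : (k : G) * x * (k : G)⁻¹ ∈ H := H.mul_mem (H.mul_mem k.2 hx) (H.inv_mem k.2)
    have b : y * ((k : G) * x * (k : G)⁻¹)⁻¹ ∈ N ⊓ H := by
      refine ⟨?_, H.mul_mem hy (H.inv_mem a)⟩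
      have := N.mul_mem n.2 (n1.conj_mem _ (N.inv_mem n.2) ((k : G) * x * (k : G)⁻¹))
      rw [← e]; convert this using 1; group; rfl
    rw [disjoint_iff.1 n2.disjoint, mem_bot, mul_inv_eq_one] at b
    exact b.symm

end Cfsg.Agent.S0079
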