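import Cfsg.Statements.S0081
import Cfsg.Agent.PLoc.Transfer2

set_option autoImplicit false
open Cfsg

namespace Cfsg.Agent.S0081

/-- If a normal subgroup meets a Sylow p-subgroup P inside the Frattini subgroup of P, then it has a normal p-complement. -/
theorem result {G : Type*} [Group G] [Finite G] {p : ℕ} [Fact p.Prime] (P : Sylow p G) (N : Subgroup G) [N.Normal] (h : N ⊓ (P : Subgroup G) ≤ (frattini P).map (P : Subgroup G).subtype) : Cfsg.HasNormalPComplement p N := by
  open Cfsg.Agent.PLoc Subgroup in
  focus
    rw [hasNPC_iff]
    -- work in the subgroup `H = P N`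
    let H : Subgroup G := (P : Subgroup G) ⊔ N
    have hPH : (P : Subgroup G) ≤ H := le_sup_left
    have hNH : N ≤ H := le_sup_right
    have hS : IsSylowOf p (P : Subgroup G) H := isSylowOf_sylow P hPH
    have hK : pResOf p H = pResOf p N := by
      refine le_antisymm (pResOf_le_iff.mpr fun x hx hc => mem_pResOf ?_ hc) (pResOf_mono hNH)
      refine pResOf_le_of_relIndex (p := p) le_normalizer_of_normal ?_ (mem_pResOf hx hc)
      rw [relIndex_sup_right]
      exact relIndex_eq_pow_of_isPGroup P.2 N
    refine NPC.mono ?_ hNH
    rw [hS.npc_iff]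
    by_contra hne
    have hn : ((pResOf p H).subgroupOf H).Normal :=
      normal_subgroupOf_of_le_normalizer (le_normalizer_pResOf H)
    have hle := pResOf_le (p := p) H
    have hb : pResOf p ((P : Subgroup G).subgroupOf H) = ⊥ := pResOf_eq_bot_iff.mpr P.2.comap_subtype
    obtain ⟨C, hC, -, h2, h3, -⟩ := tate_aux (p := p) (V := (P : Subgroup G).subgroupOf H)
      (K := (pResOf p H).subgroupOf H)
      (by rw [← subgroupOf_sup hPH hle, hS.sup_pResOf, subgroupOf_self]) hS.coprime_relIndex
      (by
        apply map_injective H.subtype_injective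
        rw [map_pResOf, map_subgroupOf_eq_of_le hle, pResOf_pResOf])
      (by rw [hb]; exact bot_le)
      (by
        rw [hb]
        intro e
        apply hne
        have := congrArg (Subgroup.map H.subtype) e
        rwa [Subgroup.map_bot, map_inf _ _ _ H.subtype_injective, map_subgroupOf_eq_of_le hPH,
          map_subgroupOf_eq_of_le hle, eq_comm] at this)
    have h4 := congrArg (Subgroup.map H.subtype) h3
    rw [Subgroup.map_sup, map_inf _ _ _ H.subtype_injective, map_subgroupOf_eq_of_le hPH,
      map_subgroupOf_eq_of_le hle] at h4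
    have h5 : C.map H.subtype ≤ P := le_sup_left.trans h4.le
    have h6 : C.map H.subtype = P := by
      refine eq_of_sup_frattiniOf h5 (le_antisymm (sup_le h5 (frattiniOf_le _)) ?_)
      refine h4.ge.trans (sup_le_sup_left (le_trans ?_ h) _)
      rw [hK]
      exact le_inf (inf_le_right.trans (pResOf_le N)) inf_le_left
    refine h2 (inf_le_left.trans ?_)
    rw [← map_le_map_iff_of_injective H.subtype_injective, h6, map_subgroupOf_eq_of_le hPH]

end Cfsg.Agent.S0081
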