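import Cfsg.Statements.S0083
import Cfsg.Agent.PLoc.Transfer2

set_option autoImplicit false
open Cfsg

namespace Cfsg.Agent.S0083

/-- For an abelian Sylow p-subgroup P, a normal p-complement exists exactly when the normalizer of P is an internal direct product of P with some subgroup. -/
theorem result {G : Type*} [Group G] [Finite G] {p : ℕ} [Fact p.Prime] (P : Sylow p G) (hP : IsMulCommutative P) : Cfsg.HasNormalPComplement p G ↔ ∃ Q : Subgroup G, Q ≤ Subgroup.centralizer (P : Set G) ∧ Q ⊓ (P : Subgroup G) = ⊥ ∧ Q ⊔ (P : Subgroup G) = Subgroup.normalizer (P : Set G) := by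
  open Cfsg.Agent.PLoc Subgroup in
  focus
    have hPC : (P : Subgroup G) ≤ centralizer (P : Set G) :=
      le_centralizer_iff_isMulCommutative.mpr hP
    constructor
    · intro h
      have h' : NPC p (normalizer ((P : Subgroup G) : Set G)) := (hasNPC_iff_top.mp h).mono le_top
      have hS := isSylowOf_sylow P le_normalizer
      exact ⟨_, h'.pResOf_le_centralizer P.2 le_normalizer le_rfl,
        (inf_comm _ _).trans (hS.npc_iff.mp h'), (sup_comm _ _).trans hS.sup_pResOf⟩
    · rintro ⟨Q, h1, -, h3⟩
      exact ⟨P, _, inferInstance,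
        MonoidHom.ker_transferSylow_isComplement' P (h3.ge.trans (sup_le h1 hPC))⟩

end Cfsg.Agent.S0083
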