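import Cfsg.Statements.S0085
import Cfsg.Agent.PLoc.Transfer2

set_option autoImplicit false
open Cfsg

namespace Cfsg.Agent.S0085

/-- A group whose Sylow 2-subgroups are elementary abelian of order 8 and whose order is prime to 3 and to 7 has a normal 2-complement. -/
theorem result {G : Type*} [Group G] [Finite G] (T : Sylow 2 G) (h8 : Nat.card T = 8) (he : ∀ x : T, x * x = 1) (h3 : ¬ 3 ∣ Nat.card G) (h7 : ¬ 7 ∣ Nat.card G) : Cfsg.HasNormalPComplement 2 G := by
  open Cfsg.Agent.PLoc Subgroup in
  focus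
    have hc : IsMulCommutative (T : Subgroup G) := ⟨⟨fun x y => by
      have h1 := he (x * y)
      rw [← inv_eq_of_mul_eq_one_right h1, mul_inv_rev, inv_eq_of_mul_eq_one_right (he x),
        inv_eq_of_mul_eq_one_right (he y)]⟩⟩
    rw [hasNPC_iff_top]
    refine (isSylowOf_top T).npc_of_burnside (le_of_forall_isPGroup fun q hq Q hQ hQq => ?_)
    have hQN := hQ.trans inf_le_right
    have := Fact.mk hq
    by_cases hqp : q = 2
    · subst hqp
      exact ((isSylowOf_top T).le_of_le_normalizer hQq le_top hQN).trans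
        (le_centralizer_iff_isMulCommutative.mpr hc)
    by_contra hQC
    have hQ1 : Q ≠ ⊥ := by rintro rfl; exact hQC bot_le
    have hqd : q ∣ Nat.card G :=
      (hQq.card_eq_or_dvd.resolve_left fun e => hQ1 (card_eq_one.mp e)).trans
        (card_subgroup_dvd_card Q)
    have hmod := card_modEq_card_inf_centralizer hQq hQN
    have hlt : (T : Subgroup G) ⊓ centralizer (Q : Set G) < T :=
      lt_of_le_of_ne inf_le_left fun e => hQC (le_centralizer_iff.mp (e.ge.trans inf_le_right))
    have h4 : Nat.card (T : Subgroup G) = 8 := h8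
    have h5 := card_lt_of_lt hlt
    have h6 := card_dvd_of_le hlt.le
    rw [h4] at h5 h6 hmod
    have hd := (Nat.modEq_iff_dvd' h5.le).mp hmod.symm
    generalize Nat.card ((T : Subgroup G) ⊓ centralizer (Q : Set G) : Subgroup G) = c at *
    have h2 : ¬ q ∣ 2 := fun h => hqp ((Nat.prime_dvd_prime_iff_eq hq Nat.prime_two).mp h)
    interval_cases c <;> try (simp at h6; done)
    · exact h7 ((Nat.prime_dvd_prime_iff_eq hq (by norm_num)).mp (show q ∣ 7 from hd) ▸ hqd)
    · exact h3 ((Nat.prime_dvd_prime_iff_eq hq Nat.prime_three).mp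
        ((hq.dvd_mul.mp (show q ∣ 2 * 3 from hd)).resolve_left h2) ▸ hqd)
    · exact h2 (hq.dvd_of_dvd_pow (show q ∣ 2 ^ 2 from hd))

end Cfsg.Agent.S0085
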