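import Cfsg.Statements.S0087
import Cfsg.Agent.BG.XTop
import Cfsg.Agent.Core.Schmidt

set_option autoImplicit false
open Cfsg

namespace Cfsg.Agent.S0087

/-- A Hall subgroup that is central in its normalizer has a normal complement. -/
theorem result {G : Type*} [Group G] [Finite G] (H : Subgroup G) (hHall : Nat.Coprime (Nat.card H) H.index) (h : Subgroup.normalizer (H : Set G) ≤ Subgroup.centralizer (H : Set G)) : ∃ N : Subgroup G, N.Normal ∧ N.IsComplement' H := by
  open Cfsg.Agent.BG Cfsg.Agent.BG.PHom Subgroup in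
  open scoped commutatorElement in
  focus
    have ab : Abel H := (normG H).trans h
    refine Cfsg.Agent.Core.exists_normal_complement_of_fusion ab.nil hHall fun p _ x hx _ g hg => ⟨1, one_mem _, ?_⟩
    have a : Hall {q | q ∣ #H} H ⊤ := hall_of_coprime le_top (by rwa [relIndex_top_right])
    have b : cj g⁻¹ H ≤ C1[x] := (abel_cj.2 ab).trans (C_le_C1 (mem_cj_inv.2 hg))
    obtain ⟨c, c1, c2⟩ := Cfsg.Agent.Core.exists_le_conj_of_isNilpotent_of_isPiHallOf ab.nil
      (a.sub (ab.trans (C_le_C1 hx)) le_top).of b (a.pi.cj _)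
    rw [← cj_eq_smul, cj_le_iff, inv_inv, ← cj_mul] at c2
    have d : g * c ∈ N[H] := mem_N_iff_cj.2 (eq_of_card_le c2 (by rw [card_cj])).symm
    have e := mem_C.1 (h d) x hx
    have f := mem_C1.1 c1
    rw [one_mul, inv_one, mul_one, eq_mul_inv_iff_mul_eq]
    rw [mul_assoc, f, ← mul_assoc, ← mul_assoc] at e
    exact mul_right_cancel e

end Cfsg.Agent.S0087
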