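import Cfsg.Statements.S0089
import Cfsg.Agent.PLoc.Transfer2

set_option autoImplicit false
open Cfsg

namespace Cfsg.Agent.S0089

/-- When all Sylow subgroups are abelian, the derived subgroup meets the centre trivially. -/
theorem result {G : Type*} [Group G] [Finite G] (h : ∀ p : ℕ, p.Prime → ∀ P : Sylow p G, IsMulCommutative P) : commutator G ⊓ Subgroup.center G = ⊥ := by
  open Cfsg.Agent.PLoc Subgroup in
  focus
    rw [eq_bot_iff]
    refine le_of_forall_isPGroup fun q hq Q hQ hQq => ?_
    have := Fact.mk hq
    obtain ⟨P, hP⟩ := hQq.exists_le_sylow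
    rw [← inf_commutator_inf_center_eq_bot (h q hq P) P.card_coprime_index, inf_assoc]
    exact le_inf hP hQ

end Cfsg.Agent.S0089
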