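import Cfsg.Statements.S0090
import Cfsg.Agent.PLoc.Transfer2

set_option autoImplicit false
open Cfsg

namespace Cfsg.Agent.S0090

/-- An abelian normal Hall subgroup A splits as the internal direct product of G' ∩ A and Z(G) ∩ A, and [A, G] = G' ∩ A. -/
theorem result {G : Type*} [Group G] [Finite G] (A : Subgroup G) [A.Normal] (hc : IsMulCommutative A) (hHall : Nat.Coprime (Nat.card A) A.index) : ⁅A, (⊤ : Subgroup G)⁆ = commutator G ⊓ A ∧ (commutator G ⊓ A) ⊓ (Subgroup.center G ⊓ A) = ⊥ ∧ (commutator G ⊓ A) ⊔ (Subgroup.center G ⊓ A) = A := by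
  open Cfsg.Agent.PLoc Subgroup in
  focus
    have h0 : ⁅A, A⁆.relIndex A ∣ Nat.card A := relIndex_dvd_card _ _
    have h1 : ⁅A, (⊤ : Subgroup G)⁆ = _root_.commutator G ⊓ A := by
      refine le_antisymm (le_inf (commutator_mono le_top le_rfl) (commutator_le_left _ _)) ?_
      rw [← focal_eq_of_coprime A (hHall.symm.coprime_dvd_right h0)]
      exact ControlsFusion.focal_le fun x _ g _ => ⟨g, mem_top g, rfl⟩
    have h2 := fitting_decomp (A := ⊤) hc le_normalizer_of_normal (by
      rw [relIndex_top_right]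
      exact hHall.symm.coprime_dvd_left (index_dvd_of_le (le_centralizer_iff_isMulCommutative.mpr hc)))
    rw [coe_top, centralizer_univ, h1, inf_comm A] at h2
    exact ⟨h1, (inf_comm _ _).trans h2.1, (sup_comm _ _).trans h2.2⟩

end Cfsg.Agent.S0090
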