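import Cfsg.Statements.S0091
import Cfsg.Agent.PLoc.Transfer2

set_option autoImplicit false
open Cfsg

namespace Cfsg.Agent.S0091

/-- If a nontrivial Sylow p-subgroup controls its own fusion then it is not contained in the derived subgroup. -/
theorem result {G : Type*} [Group G] [Finite G] {p : ℕ} [Fact p.Prime] (P : Sylow p G) (hp : p ∣ Nat.card G) (h : ∀ x ∈ P, ∀ y ∈ P, (∃ g : G, g * x * g⁻¹ = y) → ∃ z ∈ P, z * x * z⁻¹ = y) : ¬ (P : Subgroup G) ≤ commutator G := by
  open Cfsg.Agent.PLoc Subgroup in
  focus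
    intro hle
    have h1 := ControlsFusion.commutator_inf_le (P := P)
      (controlsFusion_of (H := (P : Subgroup G)) (P := (P : Subgroup G)) h)
    rw [inf_eq_right.mpr hle] at h1
    exact (commutator_lt_of_isPGroup (P.ne_bot_of_dvd_card hp) le_rfl le_normalizer P.2).not_ge h1

end Cfsg.Agent.S0091
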