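import Cfsg.Statements.S0092
import Cfsg.Agent.BG.XTop
import Cfsg.Agent.BG.S06

set_option autoImplicit false
open Cfsg

namespace Cfsg.Agent.S0092

/-- If the Sylow p-subgroups of O^p(G) are abelian then G splits over O^p(G). -/
theorem result {G : Type*} [Group G] [Finite G] {p : ℕ} [Fact p.Prime] (h : ∀ Q : Sylow p (Cfsg.pResidual p G), IsMulCommutative Q) : ∃ K : Subgroup G, K.IsComplement' (Cfsg.pResidual p G) := by
  open Cfsg.Agent.BG Cfsg.Agent.BG.PHom Subgroup in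
  open scoped commutatorElement in
  focus
    have hp : p.Prime := Fact.out
    have r1 : Cfsg.Agent.PLoc.pResOf p (pResidual p G) = pResidual p G := by
      rw [← Cfsg.Agent.PLoc.pResOf_top, Cfsg.Agent.PLoc.pResOf_pResOf]
    obtain ⟨k, r2⟩ := Cfsg.Agent.PLoc.index_pResidual (p := p) (G := G)
    have r3 : ⊤ ≤ N[pResidual p G] := norm_of_normal _
    generalize pResidual p G = R at *
    obtain ⟨Q, hQ⟩ := syl_exists hp R
    have ab : Abel Q := by
      obtain ⟨S, rfl⟩ := hQ.exists_sylow hp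
      exact (abel_of (h S)).map _
    have q1 := hQ.sub (le_inf hQ.le (normG _)) inf_le_left
    obtain ⟨U, hU⟩ := q1.exists_sdprod inf_le_right
    have u1 := hU.hall_compl q1
    have c := PiN.coprime' u1.pi hQ.pi
    have a : Q ≤ ⁅Q, U⁆ := by
      have a1 : Q ≤ ⁅R, R⁆ := (le_inf le_rfl (hQ.le.trans r1.ge)).trans
        (Cfsg.Agent.PLoc.inf_pResOf_le_commutator (hQ.pi.pg hp))
      refine (le_inf le_rfl a1).trans (focal_le hp hQ fun x hx g hg e => ?_)
      have b1 : Syl p (cj g⁻¹ Q) (R ⊓ C1[x]) := (hQ.cj_mem (inv_mem hg)).sub (le_inf (hQ.cj_mem (inv_mem hg)).le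
        ((abel_cj.2 ab).trans (C_le_C1 (mem_cj_inv.2 e)))) inf_le_left
      obtain ⟨d, d1, d2⟩ := Syl.conj (hQ.sub (le_inf hQ.le (ab.trans (C_le_C1 hx))) inf_le_left) hp b1
      obtain ⟨q, d3, u, d4, d5⟩ := hU.prod.ex (g * d) ⟨mul_mem hg d1.1, mem_N_iff_cj.2 (by rw [cj_mul, d2, ← cj_mul]; simp)⟩
      have d6 : g * x * g⁻¹ = u * x * u⁻¹ := by
        calc _ = (g * d) * x * (g * d)⁻¹ := by rw [mul_assoc g d, mem_C1.1 d1.2]; group
          _ = q * (u * x * u⁻¹) * q⁻¹ := by rw [d5]; group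
          _ = _ := by rw [mem_C_comm ab d3 (conj_mem (hU.norm d4) hx)]; group
      simpa [d6, mul_assoc] using comm_mem (inv_mem hx) d4
    have b : Q ⊓ N[U] = ⊥ := by
      rw [cop_inf_N hU.norm c, eq_bot_iff, ← cop_abel_C_comm ab hU.norm c]; exact inf_le_inf_right _ a
    obtain ⟨K, hK⟩ := syl_exists hp (N[Q] ⊓ N[U])
    have d : ⊤ ≤ R ⊔ (N[Q] ⊓ N[U]) := (Syl.frattini hQ hp le_top r3).sup.ge.trans (sup_le le_sup_left fun g hg => by
      have e := hU.cj g
      rw [cj_of_mem_N hg.2, cj_of_mem_N (normI r3 (normN (normG _)) |> fun f => (normI (le_top.trans r3) (normG _)) hg.2)] at e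
      obtain ⟨q, e1, e2⟩ := sz_conj hU e c (Or.inr ab.sol)
      have : q⁻¹ * g ∈ N[U] := mem_N_iff_cj.2 (by rw [cj_mul, ← e2, ← cj_mul]; simp)
      simpa using mul_mem_sup' (hQ.le e1) (show q⁻¹ * g ∈ N[Q] ⊓ N[U] from mem_inf.2 ⟨mul_mem (inv_mem (normG _ e1)) hg.2, this⟩))
    have e := hK.prod_idx (inf_le_right (a := R)) (by
      rw [inf_relIndex_right, ← relIndex_sup_l (le_top.trans r3), top_le_iff.1 d, relIndex_top_right, r2]
      exact pin_pow_self hp k)
    have f : IsProd K R ⊤ := isProd_of_r (le_top.trans r3) (top_le_iff.1 (d.trans (sup_le le_sup_right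
      (e.sup.ge.trans (sup_le_sup_left inf_le_left _)))))
    refine ⟨K, isComplement'_of_disjoint_and_mul_eq_univ (disjoint_iff.2 (le_bot_iff.1 (b ▸ le_inf (q1.le_of_normal
      inf_le_right (hK.pi.of_le inf_le_left) (le_inf inf_le_right (inf_le_left.trans (hK.le.trans inf_le_left))))
      (inf_le_left.trans (hK.le.trans inf_le_right))))) (Set.eq_univ_of_forall fun g => ?_)⟩
    obtain ⟨x, x1, y, y1, rfl⟩ := f.ex g trivial
    exact Set.mul_mem_mul x1 y1

end Cfsg.Agent.S0092
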