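import Cfsg.Statements.S0093
import Cfsg.Agent.BG.XTop2

set_option autoImplicit false
open Cfsg

namespace Cfsg.Agent.S0093

section
open Cfsg.Agent.BG Cfsg.Agent.BG.PHom Subgroup
open scoped commutatorElement

theorem critical' {G : Type*} [Group G] [Finite G] {p : ℕ} {P : Subgroup G} (hP : PiG {p} P) :
    ∃ K ≤ P, N[P] ≤ N[K] ∧ (∀ x ∈ K, x ^ p ∈ C[K]) ∧ ⁅K, P⁆ ≤ Z[K] ∧ P ⊓ C[K] ≤ K := by
  obtain ⟨A, -, ⟨h1, h2, h3⟩, h4⟩ := exists_maximal (P := fun A => A ≤ P ∧ N[P] ≤ N[A] ∧ Abel A) (A := ⊥)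
    ⟨bot_le, norm_bot _, abel_bot⟩
  have nA : P ≤ N[A] := (normG P).trans h2
  set K := P ⊓ C[A] ⊓ (quo A).pre Ω[p](Z[P ÷ A]) with hK
  have nK : N[P] ≤ N[K] := normI (normI le_rfl (normC h2)) (norm_pre h2 (normOm _ (normZ (im_norm le_rfl))))
  have KP : K ≤ P := inf_le_left.trans inf_le_left
  have AK : A ≤ K := le_inf (le_inf h1 h3) (le_pre_quo _ _)
  have iK := (le_pre_iff (φ := quo A) (KP.trans nA)).1 inf_le_right
  have cK : ⁅K, P⁆ ≤ A := (quo_cent_iff (KP.trans nA) nA).1 (iK.trans (OmZ_cent _ _))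
  have AZ : A ≤ Z[K] := le_inf AK (cent_symm (inf_le_left.trans inf_le_right))
  have ZA : Z[K] = A := h4 _ ⟨inf_le_left.trans KP, normZ nK, abel_Z K⟩ AZ
  refine ⟨K, KP, nK, fun x hx => (AZ (quo_ker A ▸ ((abelem_im_iff (φ := quo A) (KP.trans nA)).1
    ((OmZ_abelem _ _).of_le iK)).2 x hx)).2, cK.trans AZ, ?_⟩
  by_contra hn
  have a := (hP.im (quo A)).meet_OmZ (im_mono (inf_le_left (b := C[K]))) (im_norm (normI (normG P)
    (normC ((normG P).trans nK)))) fun e => hn (((quo_bot_iff (inf_le_left.trans nA)).1 e).trans AK)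
  rw [← im_inf_pre] at a
  exact a ((quo_bot_iff (inf_le_left.trans (inf_le_left.trans nA))).2 (le_trans (le_inf
    (inf_le_inf_right _ (inf_le_inf_left _ (centS AK))) (inf_le_left.trans inf_le_right)) ZA.le))

end

/-- Every finite p-group has a critical subgroup: a characteristic subgroup H whose Frattini subgroup and whose commutator with the whole group lie in the centre of H, and whose centralizer is contained in H. -/
theorem result {P : Type*} [Group P] [Finite P] {p : ℕ} [Fact p.Prime] (hP : IsPGroup p P) : ∃ H : Subgroup P, H.Characteristic ∧ (frattini H).map H.subtype ≤ Subgroup.centralizer (H : Set P) ∧ ⁅H, (⊤ : Subgroup P)⁆ ≤ H ⊓ Subgroup.centralizer (H : Set P) ∧ Subgroup.centralizer (H : Set P) ≤ H := by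
  open Cfsg.Agent.BG Cfsg.Agent.BG.PHom Subgroup in
  open scoped commutatorElement in
  focus
    have hp : p.Prime := Fact.out
    have i := Cfsg.Agent.PLoc.holL_injective (A := (⊤ : Subgroup (MulAut P)))
    obtain ⟨K, a, b, c, d, e⟩ := critical' ((pig_top hp hP).map (Cfsg.Agent.PLoc.holL (⊤ : Subgroup (MulAut P))))
    obtain ⟨H, -, rfl⟩ := exists_map_eq_of_le a
    have f : ⁅H, ⊤⁆ ≤ C[H] := (cent_map_inj i).1 (by rw [map_commutator]; exact d.trans inf_le_right)
    refine ⟨H, characteristic_iff_le_comap.2 fun φ x hx => ?_, ((pig_top hp hP).of_le le_top).Phi_le hp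
      ((commS le_rfl le_top).trans f) fun x hx => ?_, le_inf (commL (le_top.trans ((norm_map_inj i).1
        ((normG _).trans b)))) f, fun x hx => ?_⟩
    · have := conj_mem (b (Cfsg.Agent.PLoc.holR_le_normalizer (H := ⊤) (fun _ _ _ _ => trivial) ⟨⟨φ, trivial⟩, rfl⟩))
        (mem_map_of_mem _ hx)
      rw [Cfsg.Agent.PLoc.hol_conj] at this
      exact (mem_map_iff_mem (K := H) i).1 this
    · have := c _ (mem_map_of_mem _ hx)
      rw [← map_pow] at this
      exact zpowers_le.1 ((cent_map_inj i).1 (by rw [MonoidHom.map_zpowers]; exact zpowers_le.2 this))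
    · exact (mem_map_iff_mem i).1 (e ⟨mem_map_of_mem _ trivial, cent_map le_rfl _ (mem_map_of_mem _ hx)⟩)

end Cfsg.Agent.S0093
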