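import Cfsg.Statements.S0094
import Cfsg.Agent.BG.XTop

set_option autoImplicit false
open Cfsg

namespace Cfsg.Agent.S0094

/-- In a special p-group every central element has order dividing p. -/
theorem result {P : Type*} [Group P] [Finite P] {p : ℕ} [Fact p.Prime] (h : Cfsg.IsSpecial p P) (z : P) (hz : z ∈ Subgroup.center P) : z ^ p = 1 := by
  open Cfsg.Agent.BG Cfsg.Agent.BG.PHom Subgroup in
  open scoped commutatorElement in
  focus
    have hp : p.Prime := Fact.out
    obtain ⟨h1, h2, h3⟩ := h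
    have a : ∀ x : P, x ^ p ∈ center P := fun x => h2 ▸ Cfsg.Agent.PLoc.pow_mem_frattini h1 x
    have b : ∀ x y : P, ⁅x, y⁆ ∈ center P := fun x y => h3 ▸ commutator_mem_commutator (mem_top x) (mem_top y)
    have c : ⁅(⊤ : Subgroup P), ⊤⁆ ≤ Ω[p](Z[(⊤ : Subgroup P)]) := commutator_le.2 fun x _ y _ => mem_Om ((Z_top (G := P)).ge (b x y)) (by
      rw [← Cfsg.Agent.PLoc.commutatorElement_pow_right (mem_center_iff.1 (b x y) y).symm,
        commutatorElement_eq_one_iff_mul_comm]
      exact mem_center_iff.1 (a y) x)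
    exact (OmZ_abelem p ⊤).pow z (c (h3 ▸ hz : z ∈ commutator P))

end Cfsg.Agent.S0094
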