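import Cfsg.Statements.S0095
import Cfsg.Agent.BG.S03a
import Cfsg.Agent.BG.XTop

set_option autoImplicit false
open Cfsg

namespace Cfsg.Agent.S0095
open Subgroup Cfsg.Agent.BG

/-- The order of an extraspecial p-group is an odd power p^(2n+1) of p with n ≥ 1. -/
theorem result {P : Type*} [Group P] [Finite P] {p : ℕ} [Fact p.Prime] (h : Cfsg.IsExtraspecial p P) : ∃ n : ℕ, 1 ≤ n ∧ Nat.card P = p ^ (2 * n + 1) := by
  have hp : p.Prime := Fact.out
  obtain ⟨⟨-, h1, h2⟩, h3⟩ := h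
  obtain ⟨m, hm⟩ := idx_Z_sq hp (⊤ : Subgroup P) (by rw [C_top]; exact h2.le) (by
    rw [show ⁅(⊤ : Subgroup P), ⊤⁆ = _ from h2, h3])
  rw [Z_top, relIndex_top_right] at hm
  refine ⟨m, Nat.pos_of_ne_zero fun e => ?_, by rw [← (center P).card_mul_index, hm, h3]; ring⟩
  rw [e, mul_zero, pow_zero, index_eq_one] at hm
  have : (⊤ : Subgroup P) = ⊥ := by
    rw [← hm, ← h2]; exact abel_iff_der.1 (by rw [Abel, C_top, hm])
  rw [hm, this, card_bot] at h3
  exact hp.one_lt.ne h3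

end Cfsg.Agent.S0095
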