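import Cfsg.Statements.S0097
import Cfsg.Agent.BG.XTop

set_option autoImplicit false
open Cfsg

namespace Cfsg.Agent.S0097

/-- For odd p and E extraspecial, the subgroup generated by the elements of order dividing p has exponent dividing p and index at most p. -/
theorem result {E : Type*} [Group E] [Finite E] {p : ℕ} [Fact p.Prime] (hp : p ≠ 2) (h : Cfsg.IsExtraspecial p E) : (Subgroup.closure {x : E | x ^ p = 1}).index ≤ p ∧ ∀ g ∈ Subgroup.closure {x : E | x ^ p = 1}, g ^ p = 1 := by
  open Cfsg.Agent.BG Cfsg.Agent.BG.PHom Subgroup in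
  open scoped commutatorElement in
  focus
    have hp' : p.Prime := Fact.out
    obtain ⟨⟨h1, h2, h3⟩, h4⟩ := h
    have pg := pig_top hp' h1
    have o := pg.odd_card hp' hp
    have c2 : Cls2 (⊤ : Subgroup E) := h3.le.trans C_top.ge
    rw [← Om_top]
    refine ⟨?_, exp_Om_odd_nil23 pg o (Or.inl c2)⟩
    have a := card_le_Om_mul (pow_morph_odd_nil23 pg o (Or.inl c2) (le_Om_of_card (h3 ▸ h4 : #(commutator E) = p) le_top))
      (T := center E) fun x _ => h2 ▸ Cfsg.Agent.PLoc.pow_mem_frattini h1 x
    rw [h4, ← card_mul_relIndex (Om_le p ⊤), relIndex_top_right] at a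
    exact Nat.le_of_mul_le_mul_left a (card_pos _)

end Cfsg.Agent.S0097
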