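import Cfsg.Statements.S0099
import Cfsg.Agent.PLoc.XS

set_option autoImplicit false
open Cfsg

namespace Cfsg.Agent.S0099

/-- Among three extraspecial 2-groups of equal order, some two are isomorphic. -/
theorem result {E₁ : Type*} {E₂ : Type*} {E₃ : Type*} [Group E₁] [Group E₂] [Group E₃] [Finite E₁] [Finite E₂] [Finite E₃] (h₁ : Cfsg.IsExtraspecial 2 E₁) (h₂ : Cfsg.IsExtraspecial 2 E₂) (h₃ : Cfsg.IsExtraspecial 2 E₃) (h12 : Nat.card E₁ = Nat.card E₂) (h23 : Nat.card E₂ = Nat.card E₃) : Nonempty (E₁ ≃* E₂) ∨ Nonempty (E₂ ≃* E₃) ∨ Nonempty (E₁ ≃* E₃) := by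
  open Cfsg.Agent.BG Cfsg.Agent.BG.PHom Cfsg.Agent.PG Subgroup in
  open scoped commutatorElement in
  focus
    obtain ⟨z, a⟩ := xs_top Nat.prime_two h₁
    obtain ⟨w, b⟩ := xs_top Nat.prime_two h₂
    obtain ⟨u, c⟩ := xs_top Nat.prime_two h₃
    have d : #(⊤ : Subgroup E₁) = #(⊤ : Subgroup E₂) := by simpa using h12
    have e : #(⊤ : Subgroup E₂) = #(⊤ : Subgroup E₃) := by simpa using h23
    exact (a.gr_two b c d e).imp (fun f => ⟨topEquiv.symm.trans ((f.equiv d).some.trans topEquiv)⟩) (Or.imp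
      (fun f => ⟨topEquiv.symm.trans ((f.equiv e).some.trans topEquiv)⟩)
      fun f => ⟨topEquiv.symm.trans ((f.equiv (d.trans e)).some.trans topEquiv)⟩)

end Cfsg.Agent.S0099
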