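import Cfsg.Statements.S0100
import Cfsg.Agent.BG.XTop

set_option autoImplicit false
open Cfsg

namespace Cfsg.Agent.S0100

/-- For odd p, a p-group without normal elementary abelian subgroups of order p^3 has p-rank at most 2. -/
theorem result {P : Type*} [Group P] [Finite P] {p : ℕ} [Fact p.Prime] (hp : p ≠ 2) (hP : IsPGroup p P) (h : ∀ A : Subgroup P, A.Normal → IsMulCommutative A → (∀ a ∈ A, a ^ p = 1) → Nat.card A ≠ p ^ 3) (E : Subgroup P) (hE : IsMulCommutative E) (hEe : ∀ e ∈ E, e ^ p = 1) : Nat.card E ≤ p ^ 2 := by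
  open Cfsg.Agent.BG Cfsg.Agent.BG.PHom Subgroup in
  open scoped commutatorElement in
  focus
    have hp' : p.Prime := Fact.out
    have h1 := pig_top hp' hP
    refine (Abelem.card_le ⟨abel_of hE, hEe⟩ hp' le_top).trans (Nat.pow_le_pow_right hp'.pos ?_)
    by_contra hn
    obtain ⟨A, a1, a2⟩ := rank3_normal_abelem h1 (h1.odd_card hp' hp) (by omega)
    exact h A (normal_iff.2 a2) a1.abel.comm a1.ab.pow a1.card

end Cfsg.Agent.S0100
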