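import Cfsg.Statements.S0102
import Cfsg.Agent.PLoc.Transfer2

set_option autoImplicit false
open Cfsg

namespace Cfsg.Agent.S0102

/-- A finite perfect group with cyclic Sylow p-subgroups has no perfect central extension whose kernel has order divisible by p. -/
theorem result {G : Type*} {H : Type*} [Group G] [Group H] [Finite G] [Finite H] (hG : commutator G = ⊤) {p : ℕ} [Fact p.Prime] (hcyc : ∀ P : Sylow p G, IsCyclic P) (σ : H →* G) (hσ : Function.Surjective σ) (hz : σ.ker ≤ Subgroup.center H) (hH : commutator H = ⊤) : ¬ p ∣ Nat.card σ.ker := by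
  open Cfsg.Agent.PLoc Subgroup in
  focus
    intro hd
    obtain ⟨z, hz1, hz2⟩ := exists_mem_orderOf_eq_prime Fact.out hd
    obtain ⟨P, hP⟩ := (isPGroup_zpowers (p := p) (x := z) (k := 1)
      (by rw [pow_one, ← hz2, pow_orderOf_eq_one])).exists_le_sylow
    have h1 : IsCyclic ((P : Subgroup H).map σ) := hcyc (P.mapSurjective hσ)
    have h2 : IsMulCommutative (P : Subgroup H) := by
      refine MonoidHom.isMulCommutative_of_isCyclic_of_ker_le_center (σ.subgroupMap P) ?_
      intro x hx
      rw [mem_center_iff]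
      intro y
      exact Subtype.ext (mem_center_iff.mp (hz (congrArg Subtype.val hx)) y)
    have h3 : z ∈ (⊥ : Subgroup H) := by
      rw [← inf_commutator_inf_center_eq_bot h2 P.card_coprime_index]
      exact ⟨⟨hP (mem_zpowers z), hH ▸ mem_top z⟩, hz hz1⟩
    rw [mem_bot.mp h3, orderOf_one] at hz2
    exact (Fact.out : p.Prime).ne_one hz2.symm

end Cfsg.Agent.S0102
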