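import Cfsg.Statements.S0104
import Cfsg.Agent.PLoc.Transfer2

set_option autoImplicit false
open Cfsg

namespace Cfsg.Agent.S0104

/-- A subgroup Z of a Sylow p-subgroup P that is normalized by N_G(P) is weakly closed in P exactly when it is normal in every Sylow p-subgroup containing it. -/
theorem result {G : Type*} [Group G] [Finite G] {p : ℕ} [Fact p.Prime] (P : Sylow p G) (Z : Subgroup G) (hZP : Z ≤ (P : Subgroup G)) (hZN : Subgroup.normalizer (P : Set G) ≤ Subgroup.normalizer (Z : Set G)) : Cfsg.IsWeaklyClosed Z P ↔ ∀ R : Sylow p G, Z ≤ (R : Subgroup G) → (R : Subgroup G) ≤ Subgroup.normalizer (Z : Set G) := by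
  open Cfsg.Agent.PLoc Subgroup in
  focus
    constructor
    · intro hW R hR
      obtain ⟨g, rfl⟩ := MulAction.exists_smul_eq G P R
      have h1 : cj g⁻¹ Z = Z := hW.2 _ (le_cj_iff.mp hR)
      rw [coe_smul_sylow]
      exact cj_le_of_mem (le_normalizer.trans hZN) (inv_mem_iff.mp (cj_eq_self_iff.mp h1))
    · refine fun h => ⟨hZP, fun g hg => ?_⟩
      have h1 := h (g⁻¹ • P) (cj_le_iff.mp hg)
      obtain ⟨n, hn, e⟩ := (isSylowOf_sylow _ h1).exists_cj_eq
        (isSylowOf_sylow P (le_normalizer.trans hZN))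
      rw [coe_smul_sylow, ← cj_mul, cj_eq_self_iff] at e
      have h2 := mul_mem (inv_mem (hZN e)) hn
      exact cj_eq_self_iff.mpr (by simpa using h2)

end Cfsg.Agent.S0104
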