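import Cfsg.Statements.S0105
import Cfsg.Agent.PLoc.Transfer2

set_option autoImplicit false
open Cfsg

namespace Cfsg.Agent.S0105

section
open Cfsg.Agent.PLoc Subgroup
open scoped commutatorElement

theorem aux {G : Type*} [Group G] {P F C : Subgroup G} (hF : F ≤ P) (hCP : C ≤ P)
    [(F.subgroupOf P).Normal] (h1 : C ⊓ F = ⊥) (h2 : C ⊔ F = P) :
    Nonempty ((P ⧸ F.subgroupOf P) ≃* C) := by
  have h3 : (C.subgroupOf P).IsComplement' (F.subgroupOf P) := by
    refine isComplement'_of_disjoint_and_mul_eq_univ ?_ ?_
    · rw [disjoint_iff, subgroupOf, subgroupOf, ← comap_inf, h1]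
      exact bot_subgroupOf _
    · rw [← mul_normal, ← subgroupOf_sup hCP hF, h2, subgroupOf_self, coe_top]
  exact ⟨h3.QuotientMulEquiv.trans (subgroupOfEquivOfLe hCP)⟩

end

/-- With an abelian Sylow p-subgroup P, some quotient of G is isomorphic to the part of P central in N_G(P). -/
theorem result {G : Type*} [Group G] [Finite G] {p : ℕ} [Fact p.Prime] (P : Sylow p G) (hP : IsMulCommutative P) : ∃ (N : Subgroup G) (hN : N.Normal), Nonempty (G ⧸ N ≃* ((P : Subgroup G) ⊓ Subgroup.centralizer (Subgroup.normalizer (P : Set G) : Set G) : Subgroup G)) := by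
  open Cfsg.Agent.PLoc Subgroup in
  focus
    have hPC : (P : Subgroup G) ≤ centralizer (P : Set G) :=
      le_centralizer_iff_isMulCommutative.mpr hP
    have h1 : (P : Subgroup G).focalSubgroup = ⁅(P : Subgroup G), normalizer (P : Set G)⁆ := by
      refine le_antisymm (controlsFusion_normalizer_of_comm P hP).focal_le ?_
      rw [← commutator_inf_eq_focalSubgroup]
      exact le_inf (commutator_mono le_top le_top) (le_normalizer_iff_commutator_le_left.mp le_rfl)
    rw [← P.coe_coe] at *
    have h2 := fitting_decomp (V := (P : Subgroup G)) (A := normalizer ((P : Subgroup G) : Set G)) hP le_rfl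
      (P.card_coprime_index.symm.coprime_dvd_left ((relIndex_dvd_of_le_left _ hPC).trans
        (relIndex_dvd_index_of_le le_normalizer)))
    rw [← h1] at h2
    have hn : ((P : Subgroup G).focalSubgroup.subgroupOf P).Normal :=
      (inferInstance : (P : Subgroup G).focalSubgroupOf.Normal)
    obtain ⟨e2⟩ := aux (focalSubgroup_le _) inf_le_left h2.1 h2.2
    have e1 := transferFocal.quotientKerMulEquivQuotientFocalSubroupOf P
    exact ⟨(P : Subgroup G).transferFocal.ker, MonoidHom.normal_ker _, ⟨e1.trans e2⟩⟩

end Cfsg.Agent.S0105
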