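import Cfsg.Statements.S0107
import Cfsg.Agent.BG.XTop
import Cfsg.Agent.Comp.Conn

set_option autoImplicit false
open Cfsg

namespace Cfsg.Agent.S0107

/-- A finite group with no nontrivial 2-group quotient and dihedral Sylow 2-subgroups of order at least 8 has a single class of involutions. -/
theorem result {G : Type*} [Group G] [Finite G] (T : Sylow 2 G) (n : ℕ) (hn : 2 ≤ n) (hT : Nonempty ((T : Subgroup G) ≃* DihedralGroup (2 ^ n))) (hO : Cfsg.pResidual 2 G = ⊤) (x y : G) (hx : orderOf x = 2) (hy : orderOf y = 2) : ∃ g : G, g * x * g⁻¹ = y := by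
  open Cfsg.Agent.BG Cfsg.Agent.BG.PHom Subgroup in
  open scoped commutatorElement in
  focus
    obtain ⟨a, a1, a2, a3, -⟩ := Cfsg.Agent.Comp.dihedral_struct hT.some
    have k : ∀ u : G, orderOf u = 2 → ∃ g : G, g * u * g⁻¹ ∈ zpowers a := fun u hu => by_contra fun e => by
      obtain ⟨M, b, c, d⟩ := Cfsg.Agent.PLoc.thompson_transfer T a3 hu (not_exists.1 e)
      exact d (Cfsg.Agent.PLoc.pResidual_le_of_index (p := 2) ⟨1, c⟩ (hO ▸ mem_top u))
    obtain ⟨g, b⟩ := k x hx
    obtain ⟨h, c⟩ := k y hy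
    have o : ∀ g u : G, orderOf u = 2 → #(zpowers (g * u * g⁻¹)) = 2 := fun g u e => by
      rw [card_zpowers', Cfsg.Agent.PLoc.orderOf_conj', e]
    have d := (cyc_zpowers a).eq_of_card (zpowers_le.2 b) (zpowers_le.2 c) ((o g x hx).trans (o h y hy).symm)
    have e := Cfsg.Agent.Core.eq_of_mem_zpowers_of_sq_eq_one (by rw [conj_pow, ← hy, pow_orderOf_eq_one]; simp)
      (d.le (mem_zpowers _)) (fun e => by rw [conj_eq_one_iff.1 e] at hx; simp at hx)
    exact ⟨h⁻¹ * g, by rw [mul_inv_rev, inv_inv, mul_assoc h⁻¹, mul_assoc h⁻¹, ← mul_assoc (g * x), e]; group⟩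

end Cfsg.Agent.S0107
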