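import Cfsg.Statements.S0109
import Cfsg.Agent.PLoc.Hol

set_option autoImplicit false
open Cfsg

namespace Cfsg.Agent.S0109

/-- The Thompson factorization Theorem for solvable groups states that, with p odd (and abelian Sylow 2-subgroups when p = 3) and no nontrivial normal subgroup of order prime to p, every element of G is a product of an element normalizing J(P) and an element centralizing the elements of order dividing p in the centre of P. -/
theorem result {G : Type*} [Group G] [Finite G] {p : ℕ} [Fact p.Prime] (hp : p ≠ 2) (hs : Group.IsSolvable G) (h3 : p = 3 → ∀ T : Sylow 2 G, IsMulCommutative T) (hF : ∀ N : Subgroup G, N.Normal → Nat.Coprime (Nat.card N) p → N = ⊥) (P : Sylow p G) (g : G) : ∃ a ∈ Subgroup.normalizer (Cfsg.thompsonSubgroupOf p (P : Subgroup G) : Set G), ∃ c ∈ Subgroup.centralizer {x : G | x ∈ (P : Subgroup G) ∧ (∀ y ∈ (P : Subgroup G), x * y = y * x) ∧ x ^ p = 1}, g = a * c := by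
  open Cfsg.Agent.PLoc Subgroup in
  open scoped commutatorElement in
  focus
    have hO : pPrimeCore p G = ⊥ := hF _ inferInstance pPrimeCore_coprime
    have hps : IsPSolvable p G := isPSolvable_of_isSolvable hs
    have hc := centralizer_pCore_le_of_isPSolvable hps hO
    have hP := isSylowOf_top P
    have hV := isEA_VOm hc
    have hst : StabOn p ⊤ (VOm p G) := by
      by_cases h : p = 3
      · obtain ⟨T⟩ : Nonempty (Sylow 2 G) := inferInstance
        exact stabOn_of_abSyl2 hp (abSyl2_of_isSylowOf (isSylowOf_top T) (h3 h T)) hV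
          le_normalizer_of_normal
      · exact stabOn_of_isPSolvable hp (isPSolvable_subgroup hps _) (fun h' => absurd h' h) hV
          le_normalizer_of_normal
    have hJ : JOf p (P : Subgroup G) ≤ centralizer (VOm p G : Set G) := by
      by_contra hJ
      obtain ⟨A, -, h1, h2⟩ := exists_quad_maxEA hV (((VOm_le_center hc).trans inf_le_left).trans
        (pCore_le_sylow P)) le_normalizer_of_normal hJ
      exact h2 (commutator_eq_bot_iff_le_centralizer.2 (le_centralizer_iff.1
        (le_centralizer_VOm_of_inOp (hst A le_top h1))))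
    obtain ⟨c, hc, n, hn, e⟩ := frattini_JOf hP hJ g⁻¹
    rw [thompsonSubgroupOf_eq]
    refine ⟨n⁻¹, inv_mem hn, c⁻¹, inv_mem fun x hx => hc x (OmZ_le_VOm hP (mem_omegaOne
      (mem_inf.2 ⟨hx.1, fun y hy => (hx.2.1 y hy).symm⟩) hx.2.2)), ?_⟩
    rw [← mul_inv_rev, ← e, inv_inv]

end Cfsg.Agent.S0109
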