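import Cfsg.Statements.S0110
import Cfsg.Agent.PLoc.XS

set_option autoImplicit false
open Cfsg

namespace Cfsg.Agent.S0110

/-- In a p-group G, an extraspecial subgroup E with [G, E] ≤ Z(E) satisfies G = E C_G(E). -/
theorem result {G : Type*} [Group G] [Finite G] {p : ℕ} [Fact p.Prime] (hG : IsPGroup p G) (E : Subgroup G) (hE : Cfsg.IsExtraspecial p E) (h : ⁅(⊤ : Subgroup G), E⁆ ≤ E ⊓ Subgroup.centralizer (E : Set G)) : E ⊔ Subgroup.centralizer (E : Set G) = ⊤ := by
  open Cfsg.Agent.BG Cfsg.Agent.BG.PHom Cfsg.Agent.PG Subgroup in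
  open scoped commutatorElement in
  focus
    have hp : p.Prime := Fact.out
    obtain ⟨z, a⟩ := xs_of hp hE
    have b : ⊤ ≤ N[zpowers z] := le_antisymm a.Z a.zle ▸ normZ (comm_le_r.1 (h.trans inf_le_left))
    have c := (pig_top hp hG).cent_of_prime hp a.card_z b
    exact top_le_iff.1 fun t _ => a.inner hp (mem_C.1 (c (mem_top t)) z (mem_zpowers z)) fun q hq =>
      a.Z (h (commutator_mem_commutator (mem_top t) hq))

end Cfsg.Agent.S0110
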