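import Cfsg.Statements.S0116
import Cfsg.Agent.PLoc.Transfer2

set_option autoImplicit false
open Cfsg

namespace Cfsg.Agent.S0116

/-- The Alperin fusion Theorem states that conjugation between subsets of a Sylow p-subgroup P factors through normalizers of tame intersections P ∩ Q_i with other Sylow p-subgroups, carrying the subset along step by step. -/
theorem result {G : Type*} [Group G] [Finite G] {p : ℕ} [Fact p.Prime] (P : Sylow p G) (A : Set G) (g : G) (hA : A ⊆ (P : Set G)) (hAg : (fun a => g⁻¹ * a * g) '' A ⊆ (P : Set G)) : ∃ (n : ℕ) (Q : Fin n → Sylow p G) (x : Fin n → G), (List.ofFn x).prod = g ∧ (∀ i : Fin n, x i ∈ Subgroup.normalizer ((((P : Subgroup G) ⊓ (Q i : Subgroup G)) : Subgroup G) : Set G) ∧ ¬ p ∣ ((P : Subgroup G) ⊓ Subgroup.normalizer ((((P : Subgroup G) ⊓ (Q i : Subgroup G)) : Subgroup G) : Set G)).relIndex (Subgroup.normalizer ((((P : Subgroup G) ⊓ (Q i : Subgroup G)) : Subgroup G) : Set G)) ∧ ¬ p ∣ ((Q i :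 Subgroup G) ⊓ Subgroup.normalizer ((((P : Subgroup G) ⊓ (Q i : Subgroup G)) : Subgroup G) : Set G)).relIndex (Subgroup.normalizer ((((P : Subgroup G) ⊓ (Q i : Subgroup G)) : Subgroup G) : Set G))) ∧ (∀ h : 0 < n, A ⊆ (((P : Subgroup G) ⊓ (Q ⟨0, h⟩ : Subgroup G) : Subgroup G) : Set G)) ∧ ∀ i : Fin n, ∀ h : i.val + 1 < n, (fun a => (((List.ofFn x).take (i.val + 1)).prod)⁻¹ * a * ((List.ofFn x).take (i.val + 1)).prod) '' A ⊆ (((P : Subgroup G) ⊓ (Q ⟨i.val + 1, h⟩ : Subgroup G) : Subgroup G) : Set G) := by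
  open Cfsg.Agent.PLoc Subgroup in
  focus
    have h1 : closure A ≤ (P : Subgroup G) := (closure_le _).mpr hA
    have h2 : cj g⁻¹ (closure A) ≤ (P : Subgroup G) := by
      rw [cj_le_iff, closure_le]
      intro a ha
      exact mem_cj.mpr (by simpa using (show g⁻¹ * a * g ∈ (P : Subgroup G) from hAg ⟨a, ha, rfl⟩))
    obtain ⟨n, Q, x, e, h3, h4⟩ := (alperin_chain P _ g h1 h2).exists_fin
    refine ⟨n, Q, x, e, fun i => ⟨(h3 i).1, (h3 i).2⟩, fun h a ha => ?_, fun i h => ?_⟩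
    · exact h4 ⟨0, h⟩ (by simpa using subset_closure ha)
    · rintro _ ⟨a, ha, rfl⟩
      exact h4 ⟨i + 1, h⟩ (by simpa [mul_assoc] using subset_closure ha)

end Cfsg.Agent.S0116
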