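import Cfsg.Statements.S0118
import Cfsg.Agent.PLoc.Qd

set_option autoImplicit false
open Cfsg

namespace Cfsg.Agent.S0118

/-- Glauberman's ZJ-Theorem, in the case of groups with no section isomorphic to SL(2,p), p odd: conjugation of subsets of a Sylow p-subgroup P inside P is always induced from the normalizer of Z(J(P)). -/
theorem result {G : Type*} [Group G] [Finite G] {p : ℕ} [Fact p.Prime] (hp : p ≠ 2) (hfree : ¬ ∃ (H K : Subgroup G) (hK : (K.subgroupOf H).Normal), Nonempty ((H ⧸ K.subgroupOf H) ≃* Matrix.SpecialLinearGroup (Fin 2) (ZMod p))) (P : Sylow p G) (A : Set G) (hA : A ⊆ (P : Set G)) (g : G) (hAg : (fun a => g⁻¹ * a * g) '' A ⊆ (P : Set G)) : ∃ n ∈ Subgroup.normalizer (Cfsg.centerThompsonOf p (P : Subgroup G) : Set G), ∀ a ∈ A, n⁻¹ * a * n = g⁻¹ * a * g := by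
  open Cfsg.Agent.PLoc Subgroup in
  open scoped commutatorElement in
  focus
    rw [centerThompsonOf_eq]
    obtain ⟨m, hm, h⟩ := charFun_fusion (X := fun G _ =>
        ¬ HasSection (⊤ : Subgroup G) (Matrix.SpecialLinearGroup (Fin 2) (ZMod p)))
      (charFun_ZcOf dvd_rfl) (fun _ _ _ h h' => h h'.of_subgroup) (fun _ _ _ _ h h' => h h'.of_quotient)
      (fun _ _ _ _ a b c => ZcOf_normal hp (stabN_of_not_hasSection hp a) c b) G
      (fun h => hfree (hasSection_top_iff.1 h)) P (isSylowOf_top P) (Subgroup.closure A)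
      ((closure_le _).2 hA) g (by
        rw [cj, MonoidHom.map_closure, closure_le]
        rintro _ ⟨a, ha, rfl⟩
        exact hAg ⟨a, ha, by simp⟩)
    exact ⟨m, hm, fun a ha => h a (subset_closure ha)⟩

end Cfsg.Agent.S0118
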