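import Cfsg.Statements.S0119
import Cfsg.Agent.BG.XTop2
import Cfsg.Agent.BG.S06

set_option autoImplicit false
open Cfsg

namespace Cfsg.Agent.S0119

/-- If a p'-group A of automorphisms of a p-group G satisfies G = [G, A] and acts trivially on every characteristic abelian subgroup, then G is special with centre equal to the fixed points of A. -/
theorem result {G : Type*} [Group G] [Finite G] {p : ℕ} [Fact p.Prime] (hG : IsPGroup p G) (A : Subgroup (MulAut G)) (hA : Nat.Coprime (Nat.card A) p) (hGA : Subgroup.closure {x : G | ∃ g : G, ∃ a ∈ A, x = g⁻¹ * a g} = ⊤) (hchar : ∀ H : Subgroup G, H.Characteristic → IsMulCommutative H → ∀ a ∈ A, ∀ h ∈ H, a h = h) : Cfsg.IsSpecial p G ∧ (∀ g : G, (g ∈ Subgroup.center G ↔ ∀ a ∈ A, a g = g)) := by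
  open Cfsg.Agent.BG Cfsg.Agent.BG.PHom Subgroup in
  open scoped commutatorElement in
  focus
    have hp : p.Prime := Fact.out
    have pg := pig_top hp hG
    have k : ∀ H : Subgroup G, H.Characteristic → Abel H → H ≤ center G := fun H a b => by
      rw [← C_top]
      refine cent_symm (hGA.ge.trans ((closure_le _).2 ?_))
      rintro _ ⟨g, φ, c, rfl⟩
      refine mem_C.2 fun x hx => ?_
      have := hchar H a b.comm φ c _ ((inferInstance : H.Normal).conj_mem x hx g)
      rw [map_mul, map_mul, map_inv, hchar H a b.comm φ c x hx, mul_inv_eq_iff_eq_mul] at this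
      rw [mul_assoc g⁻¹, this]; group
    have a : ⁅(⊤ : Subgroup G), ⊤⁆ ≤ C[(⊤ : Subgroup G)] := by_contra fun a => by
      obtain ⟨x, b, c, d⟩ := pg.nil.exists_Z_mod le_top (normC (normG _)) (der_norm _) le_top a
      have e : Z2 (⊤ : Subgroup G) ≤ C[⁅(⊤ : Subgroup G), ⊤⁆] := by
        have := comm_eq_bot.2 (le_Z2_iff.1 (le_refl (Z2 (⊤ : Subgroup G)))).2
        exact comm_eq_bot'.1 (three_subgroup (by rw [commC ⊤ (Z2 ⊤)]; exact this) this)
      exact c (C_top.ge (k (Z2 ⊤ ⊓ commutator G) (by rw [Z2_top]; infer_instance) (centSS e inf_le_left inf_le_right)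
        ⟨le_Z2_iff.2 ⟨le_top, d⟩ (mem_zpowers x), b⟩))
    have cm : ∀ x y z : G, Commute ⁅x, y⁆ z := fun x y z =>
      (mem_C.1 (a (commutator_mem_commutator trivial trivial)) z trivial).symm
    have b : ∀ n, (∀ x : G, x ^ p ^ (n + 1) ∈ center G) → ∀ x : G, x ^ p ∈ center G := by
      intro n
      induction n with
      | zero => simp
      | succ n ih =>
        refine fun h => ih fun x => k (powerClosure p (n + 1) ⊤) (characteristic_iff_map_le.2 fun φ => ?_) ?_
          (subset_closure ⟨x, trivial, rfl⟩)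
        · rw [powerClosure, MonoidHom.map_closure]
          refine closure_mono ?_
          rintro _ ⟨_, ⟨y, -, rfl⟩, rfl⟩
          exact ⟨_, trivial, map_pow _ _ _⟩
        refine (closure_le _).2 ?_
        rintro _ ⟨y, -, rfl⟩
        refine le_C1_iff.1 ((closure_le _).2 ?_)
        rintro _ ⟨z, -, rfl⟩
        refine mem_C1.2 (commutatorElement_eq_one_iff_mul_comm.1 ?_)
        rw [Cfsg.Agent.PLoc.commutatorElement_pow_right (cm _ _ _), ← Cfsg.Agent.PLoc.commutatorElement_pow_left (cm _ _ _),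
          ← pow_mul, ← pow_add, show n + 1 + (n + 1) = n + 1 + 1 + n by ring, pow_add, pow_mul,
          commutatorElement_eq_one_iff_mul_comm]
        exact (mem_center_iff.1 (pow_mem (h z) _) y).symm
    obtain ⟨n, hn⟩ := pg.card_pow hp
    have c := b n fun x => by rw [pow_succ, pow_mul, pow_eq_one_of_card hn (mem_top x), one_pow]; exact one_mem _
    have i := Cfsg.Agent.PLoc.holL_injective (A := A)
    have n1 := Cfsg.Agent.PLoc.holR_le_normalizer (A := A) (H := ⊤) fun _ _ _ _ => trivial
    have co : (#(Cfsg.Agent.PLoc.holR A).range).Coprime #((⊤ : Subgroup G).map (Cfsg.Agent.PLoc.holL A)) :=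
      PiN.coprime' (pin_compl_of_cop hp (Cfsg.Agent.PLoc.card_holR_range (A := A) ▸ hA)) (pg.map _)
    have d := (cop_der_sdprod (sdprod_sup (inf_bot_of_coprime co.symm) n1) co (pg.map _).sol (by
      refine le_trans ?_ (commS le_sup_left le_sup_right)
      rw [Cfsg.Agent.PLoc.commutator_holL_holR]
      refine map_mono (hGA.ge.trans (closure_mono ?_))
      rintro _ ⟨g, φ, e, rfl⟩
      exact ⟨g, trivial, φ, e, rfl⟩)).2
    rw [← map_commutator] at d
    have e : ∀ g : G, (∀ φ ∈ A, φ g = g) → g ∈ commutator G := fun g e => (mem_map_iff_mem i).1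
      (d ⟨mem_map_of_mem _ trivial, Cfsg.Agent.PLoc.holL_mem_centralizer_iff.2 e⟩)
    have f : ∀ g ∈ center G, ∀ φ ∈ A, φ g = g := fun g e φ f => hchar _ inferInstance inferInstance φ f g e
    have j : commutator G = center G := le_antisymm (a.trans C_top.le) fun g j => e g (f g j)
    exact ⟨⟨hG, le_antisymm (Cfsg.Agent.PLoc.frattini_le_of hG j.le c)
      (j.ge.trans (Cfsg.Agent.PLoc.commutator_le_frattini hG)), j⟩, fun g => ⟨f g, fun l => j.le (e g l)⟩⟩

end Cfsg.Agent.S0119
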