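import Cfsg.Statements.S0120
import Cfsg.Agent.PLoc.Hol

set_option autoImplicit false
open Cfsg

namespace Cfsg.Agent.S0120

/-- For odd p, a p'-automorphism of a p-group acting trivially on the elements of order dividing p is trivial. -/
theorem result {G : Type*} [Group G] [Finite G] {p : ℕ} [Fact p.Prime] (hp : p ≠ 2) (hG : IsPGroup p G) (a : MulAut G) (ha : Nat.Coprime (orderOf a) p) (h : ∀ x : G, x ^ p = 1 → a x = x) : a = 1 := by
  open Cfsg.Agent.PLoc Subgroup in
  open scoped commutatorElement in
  focus
    have h1 := le_centralizer_of_omegaOne hp (A := (holR (zpowers a)).range)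
      (by rwa [card_holR_range, Nat.card_zpowers]) ((⊤ : Subgroup G).map (holL _))
      ((hG.to_subgroup _).map _) (holR_le_normalizer fun _ _ _ _ => mem_top _) (by
        rintro _ ⟨x, -, rfl⟩ hx
        rw [← map_pow, map_eq_one_iff _ holL_injective] at hx
        exact holL_mem_centralizer_iff.2 fun b hb =>
          (zpowers_le.2 (show a ∈ MulAction.stabilizer (MulAut G) x from h x hx)) hb)
    ext x
    exact holL_mem_centralizer_iff.1 (h1 (mem_map_of_mem _ (mem_top x))) a (mem_zpowers a)

end Cfsg.Agent.S0120
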