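import Cfsg.Statements.S0121
import Cfsg.Agent.PLoc.Hol

set_option autoImplicit false
open Cfsg

namespace Cfsg.Agent.S0121

/-- A p'-automorphism of a p-group acting trivially on a critical subgroup is trivial. -/
theorem result {G : Type*} [Group G] [Finite G] {p : ℕ} [Fact p.Prime] (hG : IsPGroup p G) (H : Subgroup G) (hH : H.Characteristic) (h1 : (frattini H).map H.subtype ≤ Subgroup.centralizer (H : Set G)) (h2 : ⁅H, (⊤ : Subgroup G)⁆ ≤ H ⊓ Subgroup.centralizer (H : Set G)) (h3 : Subgroup.centralizer (H : Set G) ≤ H) (a : MulAut G) (ha : Nat.Coprime (orderOf a) p) (h : ∀ x ∈ H, a x = x) : a = 1 := by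
  open Cfsg.Agent.PLoc Subgroup in
  open scoped commutatorElement in
  focus
    have h1 := Core.le_centralizer_of_self_centralizing (A := (holR (zpowers a)).range)
      (K := (⊤ : Subgroup G).map (holL _)) (C := H.map (holL _))
      (((hG.to_subgroup _).map _).isNilpotent) (holR_le_normalizer fun _ _ _ _ => mem_top _)
      (coprime_card_card ((hG.to_subgroup _).map _)
        (by rwa [card_holR_range, Nat.card_zpowers])).symm (map_mono le_top) (by
        rintro _ ⟨x, hx, rfl⟩
        exact holL_mem_centralizer_iff.2 fun b hb =>
          (zpowers_le.2 (show a ∈ MulAction.stabilizer (MulAut G) x from h x hx)) hb) (by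
        rw [← map_inf_centralizer (inj_on_of_injective holL_injective _) le_top, top_inf_eq]
        exact map_mono h3)
    ext x
    exact holL_mem_centralizer_iff.1 (le_centralizer_iff.1 h1 (mem_map_of_mem _ (mem_top x))) a
      (mem_zpowers a)

end Cfsg.Agent.S0121
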