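import Cfsg.Statements.S0125
import Cfsg.Agent.PLoc.Transfer2

set_option autoImplicit false
open Cfsg

namespace Cfsg.Agent.S0125

/-- The centralizer of a self-centralizing normal subgroup A of a Sylow p-subgroup is the direct product of A with a normal p'-subgroup. -/
theorem result {G : Type*} [Group G] [Finite G] {p : ℕ} [Fact p.Prime] (R : Sylow p G) (A : Subgroup G) (hAR : A ≤ (R : Subgroup G)) (hAn : (R : Subgroup G) ≤ Subgroup.normalizer (A : Set G)) (hC : (R : Subgroup G) ⊓ Subgroup.centralizer (A : Set G) = A) : ∃ H : Subgroup G, H ≤ Subgroup.centralizer (A : Set G) ∧ Nat.Coprime (Nat.card H) p ∧ Subgroup.centralizer (A : Set G) ≤ Subgroup.normalizer (H : Set G) ∧ H ⊓ A = ⊥ ∧ H ⊔ A = Subgroup.centralizer (A : Set G) := by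
  open Cfsg.Agent.PLoc Subgroup in
  focus
    have hAp : IsPGroup p A := R.2.to_le hAR
    have hAC : A ≤ centralizer (A : Set G) := hC.ge.trans inf_le_right
    have h1 := (isSylowOf_sylow R hAn).inf_of_le (centralizer_le_normalizer _)
      (le_normalizer_centralizer hAn)
    rw [hC] at h1
    have h2 : NPC p (centralizer (A : Set G)) := h1.npc_of_burnside inf_le_left
    exact ⟨pResOf p _, pResOf_le _, npc_iff_coprime.mp h2, le_normalizer_pResOf _,
      (inf_comm _ _).trans (h1.npc_iff.mp h2), (sup_comm _ _).trans h1.sup_pResOf⟩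

end Cfsg.Agent.S0125
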