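import Cfsg.Statements.S0129
import Cfsg.Agent.BG.XTop2
import Cfsg.Agent.BG.S06

set_option autoImplicit false
open Cfsg

namespace Cfsg.Agent.S0129

/-- The order of a p-group is bounded by p^(a(a+1)/2) when it has a maximal normal abelian subgroup of order p^a. -/
theorem result {G : Type*} [Group G] [Finite G] {p : ℕ} [Fact p.Prime] (hG : IsPGroup p G) (A : Subgroup G) [A.Normal] (hA : IsMulCommutative A) (hmax : ∀ B : Subgroup G, B.Normal → IsMulCommutative B → A ≤ B → B = A) (a : ℕ) (ha : Nat.card A = p ^ a) : Nat.card G ≤ p ^ (a * (a + 1) / 2) := by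
  open Cfsg.Agent.BG Cfsg.Agent.BG.PHom Subgroup in
  open scoped commutatorElement in
  focus
    have hp : p.Prime := Fact.out
    have pg := pig_top hp hG
    have key : ∀ k, ∀ K : Subgroup G, #K = p ^ k → ⊤ ≤ N[K] → (C[K]).relIndex ⊤ ≤ p ^ k.choose 2 := by
      intro k
      induction k with
      | zero => intro K a _; rw [card_eq_one.1 (a.trans (pow_zero p)), C_bot]; simp
      | succ k ih =>
        intro K a b
        obtain ⟨L, c, d, e⟩ := pg.exists_normal hp le_top b (a ▸ pow_dvd_pow p k.le_succ)
        have i : L.relIndex K = p := Nat.eq_of_mul_eq_mul_left (card_pos L) (by rw [card_mul_relIndex c, a, e, pow_succ])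
        obtain ⟨x, x1, x2⟩ := SetLike.not_le_iff_exists.1 (fun f : K ≤ L => hp.ne_one (i ▸ relIndex_eq_one.2 f))
        have f : ⁅K, ⊤⁆ ≤ L := (quo_cent_iff (le_top.trans d) d).1 ((pg.im _).cent_of_dvd hp (im_norm b)
          (by rw [card_quo (le_top.trans d), i]))
        have g := idx_C1_le (R := C[L]) (x := x) (K := L) fun g _ => by
          simpa [mul_assoc] using inv_mem (f (comm_mem x1 (mem_top g)))
        rw [← sup_zpowers_of_prime (i ▸ hp) c x1 x2, C_sup, C_zpowers, ← relIndex_mul_relIndex _ _ _ inf_le_left le_top,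
          inf_comm, inf_relIndex_right, Nat.choose_succ_succ, Nat.choose_one_right, pow_add]
        exact Nat.mul_le_mul (e ▸ g) (ih L e d)
    obtain ⟨B, b1, b2⟩ := pg.nil.exists_scn le_top (norm_of_normal _) (abel_of hA)
    obtain rfl := hmax B (normal_iff.2 b2.norm) b2.abel.comm b1
    have c := key a B ha b2.norm
    rw [← top_inf_eq C[B], b2.cent, relIndex_top_right] at c
    rw [← card_mul_index B, ha, show a * (a + 1) / 2 = a + a.choose 2 by
      have := Nat.choose_two_right (a + 1)
      rw [Nat.choose_succ_succ', Nat.choose_one_right, Nat.add_sub_cancel, mul_comm] at this; exact this.symm, pow_add]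
    exact Nat.mul_le_mul_left _ c

end Cfsg.Agent.S0129
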