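import Cfsg.Statements.S0131
import Cfsg.Agent.PLoc.Transfer2

set_option autoImplicit false
open Cfsg

namespace Cfsg.Agent.S0131

/-- P/P' has a normal complement in G exactly when the focal subgroup G' ∩ P is as small as possible, namely P'. -/
theorem result {G : Type*} [Group G] [Finite G] {p : ℕ} [Fact p.Prime] (P : Sylow p G) : (∃ N : Subgroup G, N.Normal ∧ N ⊓ (P : Subgroup G) = ⁅(P : Subgroup G), (P : Subgroup G)⁆ ∧ N ⊔ (P : Subgroup G) = ⊤) ↔ commutator G ⊓ (P : Subgroup G) = ⁅(P : Subgroup G), (P : Subgroup G)⁆ := by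
  open Cfsg.Agent.PLoc Subgroup in
  focus
    constructor
    · rintro ⟨N, hN, h1, h2⟩
      refine le_antisymm (le_trans (inf_le_inf_right _ ?_) h1.le)
        (le_inf (commutator_mono le_top le_top) (commutator_le_self _))
      rw [← Normal.quotient_commutative_iff_commutator_le]
      refine ⟨⟨fun x y => ?_⟩⟩
      have key : ∀ x : G ⧸ N, ∃ a ∈ (P : Subgroup G), (a : G ⧸ N) = x := by
        intro x
        obtain ⟨x, rfl⟩ := QuotientGroup.mk_surjective x
        obtain ⟨n, hn, a, ha, rfl⟩ := mem_sup_of_normal_left.mp (h2 ▸ mem_top x)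
        exact ⟨a, ha, by simp [(QuotientGroup.eq_one_iff n).mpr hn]⟩
      obtain ⟨a, ha, rfl⟩ := key x
      obtain ⟨b, hb, rfl⟩ := key y
      rw [← commutatorElement_eq_one_iff_mul_comm]
      exact (map_commutatorElement (QuotientGroup.mk' N) a b).symm.trans
        ((QuotientGroup.eq_one_iff _).mpr (h1.ge (commutator_mem_commutator ha hb)).1)
    · intro h
      have hc := P.card_coprime_index.symm.coprime_dvd_right
        (relIndex_dvd_card ⁅(P : Subgroup G), (P : Subgroup G)⁆ P)
      obtain ⟨h1, h2, -⟩ := focal_kernel (P : Subgroup G) hc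
      exact ⟨_, inferInstance, by rw [h1, focal_eq_of_coprime _ hc, h], h2⟩

end Cfsg.Agent.S0131
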