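import Cfsg.Statements.S0132
import Cfsg.Agent.BG.XTop

set_option autoImplicit false
open Cfsg

namespace Cfsg.Agent.S0132

/-- A minimal non-p-nilpotent finite group is a minimal non-nilpotent group with a normal Sylow p-subgroup. -/
theorem result {G : Type*} [Group G] [Finite G] {p : ℕ} [Fact p.Prime] (h1 : ¬ Cfsg.HasNormalPComplement p G) (h2 : ∀ H : Subgroup G, H ≠ ⊤ → Cfsg.HasNormalPComplement p H) : (∀ H : Subgroup G, H ≠ ⊤ → Group.IsNilpotent H) ∧ ¬ Group.IsNilpotent G ∧ ∀ P : Sylow p G, (P : Subgroup G).Normal := by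
  open Cfsg.Agent.BG Cfsg.Agent.BG.PHom Subgroup in
  open scoped commutatorElement in
  focus
    have hp : p.Prime := Fact.out
    obtain ⟨P⟩ : Nonempty (Sylow p G) := inferInstance
    have h1' : ¬ PNil p (⊤ : Subgroup G) := fun e => h1 ((pnil_top hp).2 e)
    have h2' : ∀ H : Subgroup G, H ≠ ⊤ → PNil p H := fun H a => (pnil_iff hp).1 (h2 H a)
    obtain ⟨Q, -, g, a, b, c⟩ : ∃ Q : Subgroup G, PiG {p} Q ∧ ∃ X ≤ N[Q], (∃ q, q ≠ p ∧ PiG {q} X) ∧ ¬ X ≤ C[Q] ∧
        PiG {p} Q := by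
      by_contra! e
      refine h1' ((pnil_iff_npc hp).2 (Cfsg.Agent.PLoc.npc_top_of_frobenius P fun Q a _ g b c => ?_))
      have d := (syl_top hp P).pi.of_le a
      refine zpowers_le.1 (le_of_pig fun q hq X f i => ?_)
      by_cases j : q = p
      · rw [PiG.eq_bot i ((pig_zpowers.2 ((pin_compl_cop hp).2 c)).of_le f |> (j ▸ ·))]; exact bot_le
      · exact by_contra fun k => e Q d X (f.trans (zpowers_le.2 b)) ⟨q, j, i⟩ k d
    obtain ⟨⟨q, qp, b⟩, d⟩ := (⟨b, c.1⟩ : _ ∧ _)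
    have pQ := c.2
    have e : Q ⊔ g = ⊤ := by_contra fun e => d (cent_symm (pQ.cent (O_pig {p}ᶜ (Q ⊔ g)) (le_sup_left.trans (O_norm _ _))
      ((O_le _ _).trans (sup_le (normG _) a)) |>.trans (centS ((h2' _ e).le_O le_sup_right (b.ne_compl qp)))))
    have sy : Syl p Q ⊤ := (isProd_of_l a e).hall pQ (b.ne_compl qp)
    have nQ : ⊤ ≤ N[Q] := e ▸ sup_le (normG _) a
    refine ⟨fun H f => ?_, fun f => h1' ((nil_top.2 f).hall_O _), fun S => ?_⟩
    · have i := sy.norm_inf le_top (le_top.trans nQ) (K := H)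
      have j := (h2' H f).sdprod i
      have k : PiG {q} O[{p}ᶜ](H) := fun r hr l => by
        rcases (Nat.Prime.dvd_mul hr).1 ((l.trans (cardS le_top)).trans (isProd_of_l a e).card_dvd) with m | m
        · exact absurd (pQ r hr m) (O_pig _ _ r hr l)
        · exact b r hr m
      exact (j.dprod ((O_le _ _).trans (normI (le_top.trans nQ) (normG _)))).nil k.nil i.pi.nil
    · rw [← sy.eq_of_le (syl_top hp S) ((syl_top hp S).le_of_norm' pQ le_top (le_top.trans nQ))]
      exact normal_iff.2 nQ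

end Cfsg.Agent.S0132
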