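import Cfsg.Statements.S0138
import Cfsg.Agent.Char.Column

set_option autoImplicit false
open Cfsg

namespace Cfsg.Agent.S0138

open Cfsg.Agent.Char

/-- A character value has absolute value equal to the degree exactly when the group element acts by a scalar. -/
theorem result {G : Type*} [Group G] [Finite G] {V : Type*} [AddCommGroup V] [Module ℂ V] [FiniteDimensional ℂ V] (ρ : Representation ℂ G V) (g : G) : ‖ρ.character g‖ = (Module.finrank ℂ V : ℝ) ↔ ∃ ω : ℂ, ρ g = ω • (LinearMap.id : V →ₗ[ℂ] V) := by
  constructor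
  · intro h
    obtain ⟨ω, -, h⟩ := rep_eq_smul_of_norm_char_eq ρ g h
    exact ⟨ω, h⟩
  · rintro ⟨ω, h⟩
    rcases subsingleton_or_nontrivial V with hV | hV
    · simp [char_eq_zero_of_subsingleton, Module.finrank_zero_of_subsingleton]
    have h1 : ω ^ orderOf g = 1 := by
      have e : ρ (g ^ orderOf g) = ω ^ orderOf g • (1 : V →ₗ[ℂ] V) := by
        rw [map_pow, h, smul_pow, ← Module.End.one_eq_id, one_pow]
      rw [pow_orderOf_eq_one, map_one] at e
      obtain ⟨v, hv⟩ := exists_ne (0 : V)
      have e2 : v = ω ^ orderOf g • v := congrArg (fun T : V →ₗ[ℂ] V => T v) e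
      have e3 : (ω ^ orderOf g - 1) • v = 0 := by rw [sub_smul, ← e2, one_smul, sub_self]
      exact sub_eq_zero.1 ((smul_eq_zero.1 e3).resolve_right hv)
    simp [Representation.character, h, norm_eq_one_of_pow_orderOf h1]

end Cfsg.Agent.S0138
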