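import Cfsg.Statements.S0157
import Cfsg.Agent.Char.Misc

set_option autoImplicit false
open Cfsg

namespace Cfsg.Agent.S0157

open Cfsg.Agent.Char

/-- For a transitive action of a finite group on a finite set with at least two points: the action is 2-transitive if and only if the function sending g to (number of fixed points of g) − 1 is an irreducible character. -/
theorem result {G : Type*} [Group G] [Finite G] (X : Type*) [MulAction G X] [Finite X] [MulAction.IsPretransitive G X] (hX : 2 ≤ Nat.card X) : Cfsg.IsIrrCharacter G (fun g => (Nat.card (MulAction.fixedBy X g) : ℂ) - 1) ↔ MulAction.IsMultiplyPretransitive G X 2 := by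
  have := Fintype.ofFinite G
  set π : G → ℂ := fun g => (Nat.card (MulAction.fixedBy X g) : ℂ) with hπ
  have hc : IsCharacter G π := isCharacter_perm X
  have hnt : Nontrivial X := Finite.one_lt_card_iff_nontrivial.1 hX
  have h1 : classInner π (fun _ => 1) = 1 := by
    rw [hπ, classInner_perm_one]
    have : Nat.card (Quotient (MulAction.orbitRel G X)) = 1 := by
      rw [Nat.card_eq_one_iff_unique]
      refine ⟨⟨fun a b => ?_⟩, ⟨Quotient.mk _ (Classical.arbitrary X)⟩⟩
      induction a using Quotient.inductionOn with | _ a => ?_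
      induction b using Quotient.inductionOn with | _ b => ?_
      exact Quotient.sound (MulAction.exists_smul_eq G b a)
    rw [this, Nat.cast_one]
  have h2 : classInner π π = Nat.card (Quotient (MulAction.orbitRel G (X × X))) := by
    rw [← classInner_perm_one, classInner_eq_one_right]
    congr 1
    ext g
    simp only [hπ, Pi.mul_apply, map_natCast, ← Nat.cast_mul, ← Nat.card_prod]
    congr 1
    refine Nat.card_congr ⟨fun p => ⟨(p.1.1, p.2.1), Prod.ext p.1.2 p.2.2⟩,
      fun p => (⟨p.1.1, congrArg Prod.fst p.2⟩, ⟨p.1.2, congrArg Prod.snd p.2⟩),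
      fun _ => rfl, fun _ => rfl⟩
  have hsub : IsCharacter G (π - fun _ => 1) := hc.sub_irr isIrrCharacter_one (by simp [h1])
  have h3 : classInner (π - fun _ => 1) (π - fun _ => 1) =
      (Nat.card (Quotient (MulAction.orbitRel G (X × X))) : ℂ) - 1 := by
    rw [classInner_sub_left, classInner_sub_right, classInner_sub_right, h1, h2,
      ← hc.classInner_comm isCharacter_one, h1, isIrrCharacter_one.classInner_self]
    ring
  have h4 : IsIrrCharacter G (π - fun _ => 1) ↔
      Nat.card (Quotient (MulAction.orbitRel G (X × X))) = 2 := by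
    rw [isIrrCharacter_iff, h3, and_iff_right hsub, sub_eq_iff_eq_add]
    norm_cast
  refine h4.trans ?_
  rw [MulAction.is_two_pretransitive_iff]
  obtain ⟨u, v, huv⟩ := exists_pair_ne X
  have hne : ∀ {a b : X}, a ≠ b → (Quotient.mk (MulAction.orbitRel G (X × X)) (u, u)) ≠
      Quotient.mk _ (a, b) := fun {a b} hab h => by
    obtain ⟨g, hg⟩ := Quotient.exact h
    have e1 : g • a = u := congrArg Prod.fst hg
    have e2 : g • b = u := congrArg Prod.snd hg
    exact hab (smul_left_cancel g (e1.trans e2.symm))
  constructor
  · intro h a b c d hab hcd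
    obtain ⟨y, -, hy⟩ := (Nat.card_eq_two_iff' (Quotient.mk _ (u, u))).1 h
    have e := (hy _ (hne hcd).symm).trans (hy _ (hne hab).symm).symm
    obtain ⟨g, hg⟩ := Quotient.exact e
    exact ⟨g, congrArg Prod.fst hg, congrArg Prod.snd hg⟩
  · intro h
    rw [Nat.card_eq_two_iff' (Quotient.mk _ (u, u))]
    refine ⟨Quotient.mk _ (u, v), (hne huv).symm, fun y hy => ?_⟩
    induction y using Quotient.inductionOn with | _ y => ?_
    obtain ⟨a, b⟩ := y
    by_cases hab : a = b
    · subst hab
      obtain ⟨g, hg⟩ := MulAction.exists_smul_eq G u a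
      exact (hy (Quotient.sound ⟨g, Prod.ext hg hg⟩)).elim
    · obtain ⟨g, h1, h2⟩ := h huv hab
      exact Quotient.sound ⟨g, Prod.ext h1 h2⟩

end Cfsg.Agent.S0157
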