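import Cfsg.Statements.S0162
import Cfsg.Agent.Char.Misc
import Cfsg.Agent.Char.Integral

set_option autoImplicit false
open Cfsg

namespace Cfsg.Agent.S0162

open Cfsg.Agent.Char

/-- If a finite group has odd order, its order is congruent to its number of conjugacy classes modulo 16. -/
theorem result {G : Type*} [Group G] [Finite G] (hodd : Odd (Nat.card G)) : Nat.card G ≡ Nat.card (ConjClasses G) [MOD 16] := by
  classical
  choose d hd0 hd using fun χ : IrrCharacter G => χ.2.exists_nat
  have h1 : Nat.card G = ∑ χ, d χ ^ 2 := by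
    have := sum_irr_one_sq (G := G)
    simp only [hd] at this
    exact_mod_cast this.symm
  rw [← card_irr_eq_card_conjClasses, ← ZMod.natCast_eq_natCast_iff, h1, Nat.card_eq_fintype_card,
    ← sub_eq_zero]
  have h2 : ((∑ χ, d χ ^ 2 : ℕ) : ZMod 16) - (Fintype.card (IrrCharacter G) : ℕ) =
      ∑ χ : IrrCharacter G, ((d χ : ZMod 16) ^ 2 - 1) := by
    simp [Finset.sum_sub_distrib]
  rw [h2]
  refine Finset.sum_involution (fun χ _ => ⟨_, χ.2.conj⟩) (fun χ _ => ?_) (fun χ _ hne h => ?_)
    (fun _ _ => Finset.mem_univ _) (fun χ _ => Subtype.ext (by simp))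
  · have e : d ⟨_, χ.2.conj⟩ = d χ := by
      have := hd ⟨_, χ.2.conj⟩
      simp only [hd χ, map_natCast] at this
      exact_mod_cast this.symm
    rw [e]
    obtain ⟨k, hk⟩ : Odd (d χ) := hodd.of_dvd_nat (χ.2.degree_dvd_card (hd χ))
    obtain ⟨j, hj⟩ := Nat.even_mul_succ_self k
    have : ((k : ZMod 16) * (k + 1)) = j + j := by exact_mod_cast congrArg (Nat.cast : ℕ → ZMod 16) hj
    rw [hk]
    push_cast
    have h16 : (16 : ZMod 16) = 0 := rfl
    linear_combination 8 * this + j * h16
  · apply hne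
    have h3 := χ.2.eq_one_of_real hodd (real_iff_conj_eq.2 (congrArg Subtype.val h))
    have h4 := hd χ
    rw [h3] at h4
    have : d χ = 1 := by exact_mod_cast (show ((d χ : ℕ) : ℂ) = 1 from h4.symm)
    simp [this]

end Cfsg.Agent.S0162
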