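import Cfsg.Statements.S0167
import Cfsg.Agent.Char.Misc

set_option autoImplicit false
open Cfsg

namespace Cfsg.Agent.S0167

open Cfsg.Agent.Char

/-- An element g of a finite group is a commutator if and only if the sum over the irreducible characters χ of χ g / χ 1 is nonzero. -/
theorem result {G : Type*} [Group G] [Finite G] (g : G) : (∃ a b : G, g = a * b * a⁻¹ * b⁻¹) ↔ ∑ᶠ χ : Cfsg.IrrCharacter G, (χ : G → ℂ) g / (χ : G → ℂ) 1 ≠ 0 := by
  classical
  have := Fintype.ofFinite G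
  rw [finsum_eq_sum_of_fintype]
  have key : ((Finset.univ.filter (fun p : G × G => p.1 * p.2 * p.1⁻¹ * p.2⁻¹ * g⁻¹ = 1)).card : ℂ) *
      Nat.card G = Nat.card G * Nat.card G *
        ∑ χ : IrrCharacter G, (χ : G → ℂ) g⁻¹ / (χ : G → ℂ) 1 := by
    rw [← nsmul_eq_mul, ← Finset.sum_const, Finset.sum_filter]
    simp only [← sum_irr_one_mul]
    rw [Finset.sum_comm, Finset.mul_sum]
    refine Finset.sum_congr rfl fun χ _ => ?_
    rw [← Finset.mul_sum, Fintype.sum_prod_type_right]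
    simp only [mul_assoc _ _ g⁻¹, χ.2.sum_conj_mul]
    have h1 := χ.2.sum_inv_mul_mul g⁻¹
    rw [← Equiv.sum_comp (Equiv.inv G)] at h1
    simp only [Equiv.inv_apply, inv_inv] at h1
    simp only [mul_assoc, ← Finset.sum_div, ← Finset.mul_sum, h1]
    have := χ.2.one_ne_zero
    field_simp
  have h2 : ∑ χ : IrrCharacter G, (χ : G → ℂ) g⁻¹ / (χ : G → ℂ) 1 =
      (starRingEnd ℂ) (∑ χ : IrrCharacter G, (χ : G → ℂ) g / (χ : G → ℂ) 1) := by
    rw [map_sum]
    refine Finset.sum_congr rfl fun χ _ => ?_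
    rw [map_div₀, χ.2.isCharacter.conj_apply_one, χ.2.isCharacter.apply_inv]
  rw [h2] at key
  have h0 := card_ne_zero G
  rw [← map_ne_zero (starRingEnd ℂ), ← mul_ne_zero_iff_left (mul_ne_zero h0 h0), ← key,
    mul_ne_zero_iff_right h0, Nat.cast_ne_zero, Finset.card_ne_zero]
  constructor
  · rintro ⟨a, b, rfl⟩
    exact ⟨(a, b), by simp⟩
  · rintro ⟨⟨a, b⟩, h⟩
    exact ⟨a, b, (mul_inv_eq_one.1 (Finset.mem_filter.1 h).2).symm⟩

end Cfsg.Agent.S0167
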