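import Cfsg.Statements.S0168
import Cfsg.Agent.Char.Misc

set_option autoImplicit false
open Cfsg

namespace Cfsg.Agent.S0168

open Cfsg.Agent.Char

/-- The Burnside–Brauer Theorem. Let χ be the character of a faithful complex representation of a finite group, taking m distinct values. Then every irreducible character has nonzero inner product with χ ^ i for some i < m. -/
theorem result {G : Type*} [Group G] [Fintype G] {V : Type*} [AddCommGroup V] [Module ℂ V] [FiniteDimensional ℂ V] (ρ : Representation ℂ G V) (hfaithful : Function.Injective ρ) (ψ : G → ℂ) (hψ : Cfsg.IsIrrCharacter G ψ) : ∃ i : ℕ, i < Nat.card (Set.range ρ.character) ∧ Cfsg.classInner (fun g => ρ.character g ^ i) ψ ≠ 0 := by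
  classical
  by_contra hcon
  push Not at hcon
  let s : Finset ℂ := (Set.finite_range ρ.character).toFinset.erase (ρ.character 1)
  let P : Polynomial ℂ := ∏ a ∈ s, (Polynomial.X - Polynomial.C a)
  have hdeg : P.natDegree < Nat.card (Set.range ρ.character) := by
    rw [Polynomial.natDegree_prod_of_monic _ _ (fun a _ => Polynomial.monic_X_sub_C a)]
    simp only [Polynomial.natDegree_X_sub_C, Finset.sum_const, smul_eq_mul, mul_one]
    rw [Nat.card_eq_card_finite_toFinset (Set.finite_range _)]
    exact Finset.card_erase_lt_of_mem (by simpa using ⟨1, by simp⟩)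
  have h1 : (fun g => P.eval (ρ.character g)) = ∑ i ∈ Finset.range (Nat.card (Set.range ρ.character)),
      P.coeff i • fun g => ρ.character g ^ i := by
    ext g
    rw [Polynomial.eval_eq_sum_range' hdeg]
    simp
  have h2 : classInner (fun g => P.eval (ρ.character g)) ψ = 0 := by
    rw [h1, classInner_sum_left]
    refine Finset.sum_eq_zero fun i hi => ?_
    rw [classInner_smul_left, hcon i (Finset.mem_range.1 hi), mul_zero]
  rw [classInner, Finset.sum_eq_single 1] at h2
  · simp only [mul_eq_zero, inv_eq_zero, card_ne_zero G, false_or, map_eq_zero,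
      hψ.one_ne_zero, or_false] at h2
    simp only [P, Polynomial.eval_prod, Finset.prod_eq_zero_iff] at h2
    obtain ⟨a, ha, h3⟩ := h2
    simp only [Polynomial.eval_sub, Polynomial.eval_X, Polynomial.eval_C, sub_eq_zero] at h3
    exact (Finset.mem_erase.1 ha).1 h3.symm
  · intro g _ hg
    have : ρ.character g ∈ s := by
      refine Finset.mem_erase.2 ⟨fun h => hg (hfaithful ?_), by simp⟩
      rw [(rep_eq_one_iff ρ g).1 h, map_one]
    rw [mul_eq_zero]
    left
    simp only [P, Polynomial.eval_prod]
    exact Finset.prod_eq_zero this (by simp)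
  · simp

end Cfsg.Agent.S0168
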