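import Cfsg.Statements.S0172
import Cfsg.Agent.Char.Clifford2

set_option autoImplicit false
open Cfsg

namespace Cfsg.Agent.S0172

open Cfsg.Agent.Char

theorem sum_cent (G : Type*) [Group G] [Fintype G] :
    ∑ g : G, Nat.card (Subgroup.centralizer ({g} : Set G)) =
      Nat.card G * Nat.card (ConjClasses G) := by
  classical
  have := Fintype.ofFinite (ConjClasses G)
  have h := sum_mk_mul_card_centralizer (G := G) fun _ => 1
  simp only [one_mul, Finset.sum_const, Finset.card_univ, nsmul_eq_mul, mul_one,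
    ← Nat.card_eq_fintype_card] at h
  exact_mod_cast h

theorem aux {G Q : Type*} [Group G] [Finite G] [Group Q] (f : G →* Q) (hf : Function.Surjective f)
    (hF : ∀ k ∈ f.ker, ∀ g, g * k = k * g → k = 1 ∨ g ∈ f.ker) :
    Nat.card Q * Nat.card (ConjClasses G) + 1 =
      Nat.card Q * Nat.card (ConjClasses Q) + Nat.card (ConjClasses f.ker) := by
  classical
  have := Fintype.ofFinite G
  have := Finite.of_surjective f hf
  have := Fintype.ofFinite Q
  have := Fintype.ofFinite f.ker
  have h1 : ∀ g, g ∉ f.ker → Nat.card (Subgroup.centralizer ({g} : Set G)) =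
      Nat.card (Subgroup.centralizer ({f g} : Set Q)) := fun g hg => by
    refine Nat.card_congr (Equiv.ofBijective (fun x => ⟨f x, by
      rw [Subgroup.mem_centralizer_singleton_iff, ← map_mul, ← map_mul,
        Subgroup.mem_centralizer_singleton_iff.1 x.2]⟩) ⟨fun x y e => ?_, fun y => ?_⟩)
    · have e1 : ((x : G)⁻¹ * y : G) ∈ f.ker := by
        rw [MonoidHom.mem_ker, map_mul, map_inv, inv_mul_eq_one]; exact congrArg Subtype.val e
      rcases hF _ e1 g (Subgroup.mem_centralizer_singleton_iff.1 (x⁻¹ * y).2).symm with e2 | e2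
      · exact Subtype.ext (inv_mul_eq_one.1 e2)
      · exact absurd e2 hg
    · obtain ⟨x, hx⟩ := hf y
      obtain ⟨k, hk, e⟩ := exists_conj_of_centralizer_trivial f.ker (g := g)
        (fun h hh => (inferInstance : f.ker.Normal).conj_mem h hh g)
        (fun h hh e => (hF h hh g e.symm).resolve_right hg) (h := x * g * x⁻¹ * g⁻¹) (by
          rw [MonoidHom.mem_ker, map_mul, map_mul, map_mul, hx,
            Subgroup.mem_centralizer_singleton_iff.1 y.2]
          simp [hx])
      refine ⟨⟨k⁻¹ * x, Subgroup.mem_centralizer_singleton_iff.2 ?_⟩, Subtype.ext ?_⟩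
      · calc k⁻¹ * x * g = k⁻¹ * (x * g * x⁻¹ * g⁻¹ * g) * x := by group
          _ = _ := by rw [← e]; group
      · simp [hx, MonoidHom.mem_ker.1 hk]
  have h2 : ∀ k : f.ker, k ≠ 1 → Nat.card (Subgroup.centralizer ({(k : G)} : Set G)) =
      Nat.card (Subgroup.centralizer ({k} : Set f.ker)) := fun k hk => by
    refine (Nat.card_congr (Equiv.ofBijective
      (fun x : Subgroup.centralizer ({k} : Set f.ker) => (⟨(x : f.ker), by
      rw [Subgroup.mem_centralizer_singleton_iff]
      exact congrArg Subtype.val (Subgroup.mem_centralizer_singleton_iff.1 x.2)⟩ :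
        Subgroup.centralizer ({(k : G)} : Set G)))
      ⟨fun x y e => by
        simp only [Subtype.mk.injEq] at e
        exact Subtype.ext (Subtype.ext e), fun y => ?_⟩)).symm
    have e := Subgroup.mem_centralizer_singleton_iff.1 y.2
    exact ⟨⟨⟨y, (hF k k.2 y e).resolve_left fun e => hk (Subtype.ext e)⟩,
      Subgroup.mem_centralizer_singleton_iff.2 (Subtype.ext e)⟩, rfl⟩
  have h3 := sum_comp_of_surjective f hf
    fun q => if q = 1 then 0 else (Nat.card (Subgroup.centralizer ({q} : Set Q)) : ℂ)
  have h4 := sum_subgroup_add_sum_compl (H := f.ker)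
    fun g => (Nat.card (Subgroup.centralizer ({g} : Set G)) : ℂ)
  have c1 : ∀ (A : Type _) [Group A], Nat.card (Subgroup.centralizer ({1} : Set A)) = Nat.card A :=
    fun A _ => by
      rw [show Subgroup.centralizer ({1} : Set A) = ⊤ by
        ext; simp [Subgroup.mem_centralizer_singleton_iff], Subgroup.card_top]
  have c2 : Nat.card (Subgroup.centralizer ({1} : Set Q)) = Nat.card Q := by
    rw [show Subgroup.centralizer ({1} : Set Q) = ⊤ by
      ext; simp [Subgroup.mem_centralizer_singleton_iff], Subgroup.card_top]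
  have h5 : ∑ g ∈ Finset.univ.filter (· ∉ f.ker), (Nat.card (Subgroup.centralizer ({g} : Set G)) : ℂ)
      = ∑ g, if f g = 1 then 0 else (Nat.card (Subgroup.centralizer ({f g} : Set Q)) : ℂ) := by
    rw [Finset.sum_filter]
    refine Finset.sum_congr rfl fun g _ => ?_
    by_cases hg : g ∈ f.ker
    · simp [hg, MonoidHom.mem_ker.1 hg]
    · rw [if_pos hg, if_neg (show ¬ f g = 1 from hg), h1 g hg]
  have h6 : ∑ q : Q, (if q = 1 then 0 else (Nat.card (Subgroup.centralizer ({q} : Set Q)) : ℂ)) +
      Nat.card Q = ∑ q : Q, (Nat.card (Subgroup.centralizer ({q} : Set Q)) : ℂ) := by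
    rw [← Finset.add_sum_erase _ _ (Finset.mem_univ 1), ← Finset.add_sum_erase _ _ (Finset.mem_univ 1),
      if_pos rfl, c2, zero_add, add_comm]
    congr 1
    exact Finset.sum_congr rfl fun q hq => if_neg (Finset.ne_of_mem_erase hq)
  have h7 : ∑ k : f.ker, (Nat.card (Subgroup.centralizer ({(k : G)} : Set G)) : ℂ) + Nat.card f.ker =
      ∑ k : f.ker, (Nat.card (Subgroup.centralizer ({k} : Set f.ker)) : ℂ) + Nat.card G := by
    rw [← Finset.add_sum_erase _ _ (Finset.mem_univ 1), ← Finset.add_sum_erase _ _ (Finset.mem_univ 1),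
      c1, OneMemClass.coe_one, c1, Finset.sum_congr rfl fun q hq => by
        rw [h2 q (Finset.ne_of_mem_erase hq)]]
    ring
  have h8 : (Nat.card G : ℂ) = Nat.card Q * Nat.card f.ker := by
    rw [← f.ker.index_mul_card, Subgroup.index_ker, f.range_eq_top_of_surjective hf,
      Subgroup.card_top, Nat.cast_mul]
  have s1 := congrArg (Nat.cast : ℕ → ℂ) (sum_cent G)
  have s2 := congrArg (Nat.cast : ℕ → ℂ) (sum_cent Q)
  have s3 := congrArg (Nat.cast : ℕ → ℂ) (sum_cent f.ker)
  push_cast at s1 s2 s3
  rw [h5, h3, s1] at h4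
  rw [s2] at h6
  rw [s3] at h7
  apply Nat.cast_injective (R := ℂ)
  apply mul_left_cancel₀ (card_ne_zero f.ker)
  push_cast
  rw [h8] at h4 h7
  linear_combination h7 - h4 + (Nat.card f.ker : ℂ) * h6

/-- Class number of a Frobenius group: if G = K H with K normal, K ⊓ H trivial and no non-identity element of H commuting with a non-identity element of K, then |H| * k(G) + 1 = |H| * k(H) + k(K), where k denotes the number of conjugacy classes. -/
theorem result {G : Type*} [Group G] [Finite G] (K H : Subgroup G) [K.Normal] (hKH : K ⊓ H = ⊥) (hKH' : K ⊔ H = ⊤) (hfpf : ∀ h ∈ H, h ≠ 1 → ∀ k ∈ K, h * k = k * h → k = 1) : Nat.card H * Nat.card (ConjClasses G) + 1 = Nat.card H * Nat.card (ConjClasses H) + Nat.card (ConjClasses K) := by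
  have hc : K.IsComplement' H := Subgroup.isComplement'_of_disjoint_and_mul_eq_univ
    (disjoint_iff.2 hKH) (by rw [← Subgroup.normal_mul, hKH']; rfl)
  have e : (hc.symm.QuotientMulEquiv.toMonoidHom.comp (QuotientGroup.mk' K)).ker = K := by
    ext; simp
  have := aux (hc.symm.QuotientMulEquiv.toMonoidHom.comp (QuotientGroup.mk' K))
    (hc.symm.QuotientMulEquiv.surjective.comp (QuotientGroup.mk'_surjective K))
    (by rw [e]; exact frobenius_of_complement hKH' hfpf)
  rwa [e] at this

end Cfsg.Agent.S0172
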