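import Cfsg.Statements.S0175
import Cfsg.Agent.Char.Induce
import Cfsg.Agent.Char.Integral

set_option autoImplicit false
open Cfsg

namespace Cfsg.Agent.S0175

open Cfsg.Agent.Char

/-- Taketa's Theorem on M-groups: if every irreducible complex character of a finite group is induced from a linear character (a homomorphism to ℂˣ) of some subgroup, the group is solvable. -/
theorem result {G : Type*} [Group G] [Fintype G] (hM : ∀ χ : G → ℂ, Cfsg.IsIrrCharacter G χ → ∃ (H : Subgroup G) (lam : H →* ℂˣ), χ = Cfsg.indFun H (fun h => (lam h : ℂ))) : Group.IsSolvable G := by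
  classical
  have key : ∀ n : ℕ, ∀ χ, IsIrrCharacter G χ → (χ 1).re ≤ n → ∀ x ∈ derivedSeries G n,
      χ x = χ 1 := fun n => by
    induction n with
    | zero => exact fun χ hχ h => absurd (hχ.one_le_re_one.trans h) (by simp)
    | succ n ih =>
      intro χ hχ h x hx
      obtain ⟨H, l, rfl⟩ := hM χ hχ
      have hc : IsCharacter G (indFun H fun _ => 1) := isCharacter_one.indFun
      have h1 : classInner (indFun H fun _ => 1) (fun _ => 1) ≠ 0 := by
        rw [classInner_indFun_left _ _ (isClassFunction_const 1),
          (isIrrCharacter_one (G := H)).classInner_self]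
        exact one_ne_zero
      have hc' := hc.sub_irr isIrrCharacter_one h1
      have h2 : ∀ y ∈ derivedSeries G n, ∀ g, g⁻¹ * y * g ∈ H := fun y hy => by
        have e : (indFun H (fun _ => 1) - fun _ => 1 : G → ℂ) y =
            (indFun H (fun _ => 1) - fun _ => 1 : G → ℂ) 1 := by
          rw [hc'.isClassFunction.apply_eq_sum_irr, hc'.isClassFunction.apply_eq_sum_irr 1]
          refine Finset.sum_congr rfl fun ψ _ => ?_
          by_cases e : classInner (indFun H (fun _ => 1) - fun _ => 1) ψ = 0
          · rw [e, zero_mul, zero_mul]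
          rw [ih ψ ψ.2 ((hc'.degree_le_of_constituent ψ.2 e).trans ?_) y hy]
          simp only [indFun_one, map_one, Units.val_one, mul_one, Pi.sub_apply] at h ⊢
          simp only [Complex.natCast_re, Complex.sub_re, Complex.one_re] at h ⊢
          push_cast at h
          linarith
        simp only [Pi.sub_apply, sub_left_inj] at e
        have e1 := card_mul_indFun_one_apply (H := H) y
        rw [e, card_mul_indFun_one_apply, Nat.cast_inj] at e1
        have e2 : {g : G | g⁻¹ * y * g ∈ H} = Set.univ := Set.eq_of_subset_of_ncard_le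
          (Set.subset_univ _) (by
            rw [Set.ncard_univ]
            refine le_of_eq_of_le ?_ (le_of_eq e1)
            simp [H.one_mem])
        exact fun g => (e2.ge (Set.mem_univ g) :)
      have h3 : ∀ y ∈ derivedSeries G (n + 1), ∃ h : y ∈ H, l ⟨y, h⟩ = 1 := by
        have : derivedSeries G (n + 1) ≤ l.ker.map H.subtype := by
          rw [derivedSeries_succ, Subgroup.commutator_le]
          intro a ha b hb
          have ha' : a ∈ H := by simpa using h2 a ha 1
          have hb' : b ∈ H := by simpa using h2 b hb 1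
          refine ⟨⟨a, ha'⟩ * ⟨b, hb'⟩ * ⟨a, ha'⟩⁻¹ * ⟨b, hb'⟩⁻¹, ?_, rfl⟩
          simp only [SetLike.mem_coe, MonoidHom.mem_ker, map_mul, map_inv]
          simp [mul_comm]
        intro y hy
        obtain ⟨z, hz, rfl⟩ := this hy
        exact ⟨z.2, hz⟩
      rw [indFun_apply', indFun_apply']
      congr 1
      refine Finset.sum_congr rfl fun g _ => ?_
      obtain ⟨e1, e2⟩ := h3 _ ((derivedSeries_normal G (n + 1)).conj_mem x hx g)
      rw [extendByZero_of_mem _ _ e1, e2, mul_one, mul_inv_cancel,
        extendByZero_of_mem _ _ H.one_mem]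
      simp [show (⟨1, H.one_mem⟩ : H) = 1 from rfl]
  refine ⟨⟨Nat.card G, eq_bot_iff.2 fun x hx => eq_one_of_forall_irr fun χ hχ => key _ χ hχ ?_ x hx⟩⟩
  obtain ⟨d, -, hd⟩ := hχ.exists_nat
  rw [hd]
  exact_mod_cast Nat.le_of_dvd Nat.card_pos (hχ.degree_dvd_card hd)

end Cfsg.Agent.S0175
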