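import Cfsg.Statements.S0178
import Cfsg.Agent.Char.Misc

set_option autoImplicit false
open Cfsg

namespace Cfsg.Agent.S0178

open Cfsg.Agent.Char

/-- The degree of an irreducible complex representation of a finite group is at most the index of any abelian subgroup. -/
theorem result {G : Type*} [Group G] [Finite G] {V : Type*} [AddCommGroup V] [Module ℂ V] [FiniteDimensional ℂ V] (ρ : Representation ℂ G V) [ρ.IsIrreducible] (A : Subgroup G) (hA : ∀ a ∈ A, ∀ b ∈ A, a * b = b * a) : Module.finrank ℂ V ≤ A.index := by
  have := Fintype.ofFinite G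
  have := Fintype.ofFinite A
  have hχ := isIrrCharacter_rep ρ inferInstance
  obtain ⟨l, hl, h1⟩ := (hχ.isCharacter.restrict A).exists_irr_constituent
    (fun h => hχ.one_ne_zero (congrFun h 1))
  rw [← classInner_indFun_right A l hχ.isClassFunction, Ne, classInner_eq_zero_comm] at h1
  have h2 := hl.isCharacter.indFun.degree_le_of_constituent hχ h1
  rw [indFun_one, hl.one_eq_one_of_comm (fun a b => Subtype.ext (hA a a.2 b b.2))] at h2
  simpa using h2

end Cfsg.Agent.S0178
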