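import Cfsg.Statements.S0192
import Cfsg.Agent.Char.Misc

set_option autoImplicit false
open Cfsg

namespace Cfsg.Agent.S0192

open Cfsg.Agent.Char

/-- Brauer's generation criterion. Let G be a finite simple group, H₁ and H₂ subgroups, and χ a non-principal irreducible character. If the multiplicity of the principal character in χ restricted to H₁ ⊓ H₂ is less than the sum of the corresponding multiplicities for H₁ and H₂, then H₁ and H₂ do not generate G. -/
theorem result {G : Type*} [Group G] [Fintype G] [IsSimpleGroup G] (H₁ H₂ : Subgroup G) [Fintype H₁] [Fintype H₂] [Fintype ↥(H₁ ⊓ H₂)] (χ : G → ℂ) (hχ : Cfsg.IsIrrCharacter G χ) (hχ1 : χ ≠ fun _ => 1) (hlt : (Cfsg.classInner (fun x : ↥(H₁ ⊓ H₂) => χ x) (fun _ => 1)).re < (Cfsg.classInner (fun x : H₁ => χ x) (fun _ => 1)).re + (Cfsg.classInner (fun x : H₂ => χ x) (fun _ => 1)).re) : H₁ ⊔ H₂ ≠ ⊤ := by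
  intro htop
  obtain ⟨n, ρ, hρ, rfl⟩ := hχ
  have e1 := classInner_one_rep (G := H₁) (ρ.comp H₁.subtype)
  have e2 := classInner_one_rep (G := H₂) (ρ.comp H₂.subtype)
  have e3 := classInner_one_rep (G := ↥(H₁ ⊓ H₂)) (ρ.comp (H₁ ⊓ H₂).subtype)
  simp only [char_comp, Subgroup.coe_subtype] at e1 e2 e3
  rw [e1, e2, e3] at hlt
  simp only [Complex.natCast_re] at hlt
  have e0 := classInner_one_rep ρ
  rw [(isIrrCharacter_rep ρ hρ).classInner_of_ne isIrrCharacter_one hχ1, eq_comm, Nat.cast_eq_zero,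
    Submodule.finrank_eq_zero] at e0
  set U₁ := Representation.invariants (ρ.comp H₁.subtype)
  set U₂ := Representation.invariants (ρ.comp H₂.subtype)
  have hinf : U₁ ⊓ U₂ = ⊥ := by
    rw [eq_bot_iff, ← e0]
    rintro v ⟨h1, h2⟩ g
    let S : Subgroup G :=
      { carrier := {g | ρ g v = v}
        one_mem' := by simp
        mul_mem' := fun {a b} ha hb => by
          simp only [Set.mem_ofPred_eq, map_mul, Module.End.mul_apply] at ha hb ⊢
          rw [hb, ha]
        inv_mem' := fun {a} ha => by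
          simp only [Set.mem_ofPred_eq] at ha ⊢
          rw [ρ.inv_apply_eq_iff, ha] }
    have : H₁ ⊔ H₂ ≤ S := sup_le (fun x hx => h1 ⟨x, hx⟩) (fun x hx => h2 ⟨x, hx⟩)
    exact this (htop ▸ Subgroup.mem_top g)
  have hsup : U₁ ⊔ U₂ ≤ Representation.invariants (ρ.comp (H₁ ⊓ H₂).subtype) :=
    sup_le (fun v hv g => hv ⟨g, g.2.1⟩) (fun v hv g => hv ⟨g, g.2.2⟩)
  have h1 := Submodule.finrank_sup_add_finrank_inf_eq U₁ U₂
  rw [hinf, finrank_bot, add_zero] at h1
  have h2 := Submodule.finrank_mono hsup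
  rw [h1] at h2
  exact absurd hlt (not_lt.2 (by exact_mod_cast h2))

end Cfsg.Agent.S0192
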