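import Cfsg.Statements.S0194
import Cfsg.Agent.Char.Clifford

set_option autoImplicit false
open scoped ComplexConjugate
open Cfsg

namespace Cfsg.Agent.S0194

open Cfsg.Agent.Char

/-- Let G have odd order, H be a normal subgroup and θ a non-principal irreducible character of H. Then the function induced from θ is orthogonal to its complex conjugate. -/
theorem result {G : Type*} [Group G] [Fintype G] (hodd : Odd (Nat.card G)) (H : Subgroup G) [H.Normal] (θ : H → ℂ) (hθ : Cfsg.IsIrrCharacter H θ) (hθ1 : θ ≠ fun _ => 1) : Cfsg.classInner (fun g => conj (Cfsg.indFun H θ g)) (Cfsg.indFun H θ) = 0 := by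
  rw [← indFun_conj]
  refine classInner_indFun_indFun_eq_zero hθ.conj hθ fun g hg => ?_
  have h1 : conjBy θ g = fun h => conj (θ h) := by
    ext n; simpa [conjBy_apply] using congrArg conj (congrFun hg n)
  have h2 : g ^ 2 ∈ inertia θ := by
    rw [mem_inertia, sq, conjBy_mul, h1, hg]
  have h3 : g ∈ inertia θ := by
    obtain ⟨k, hk⟩ := hodd
    have : g = (g ^ 2) ^ (k + 1) := by
      rw [← pow_mul, show 2 * (k + 1) = Nat.card G + 1 by omega, pow_succ, pow_card_eq_one',
        one_mul]
    rw [this]; exact Subgroup.pow_mem _ h2 _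
  exact hθ.conj_ne_of_odd (hodd.of_dvd_nat H.card_subgroup_dvd_card) hθ1 (h1.symm.trans h3)

end Cfsg.Agent.S0194
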