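import Cfsg.Statements.S0196
import Cfsg.Agent.Char.Basic

set_option autoImplicit false
open Cfsg

namespace Cfsg.Agent.S0196

open Cfsg.Agent.Char

theorem aux {G X : Type*} [Group G] [MulAction G X] [Finite X] {d : ℕ}
    (h : ∀ x : X, (MulAction.stabilizer G x).index = d) : d ∣ Nat.card X := by
  classical
  have := Fintype.ofFinite (MulAction.orbitRel.Quotient G X)
  rw [Nat.card_congr (MulAction.selfEquivSigmaOrbits G X), Nat.card_sigma]
  refine Finset.dvd_sum fun q _ => ?_
  rw [← h q.out, MulAction.index_stabilizer]
  exact dvd_of_eq rfl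

/-- Let A be a subgroup of a finite group G that equals the centralizer of each of its non-identity elements, and let N be its normalizer. Then the index of A in N divides |A| − 1 (N/A permutes the non-identity elements of A in orbits of full length). -/
theorem result {G : Type*} [Group G] [Finite G] (A : Subgroup G) (hA : ∀ x ∈ A, x ≠ 1 → Subgroup.centralizer ({x} : Set G) = A) : (A.subgroupOf (Subgroup.normalizer (A : Set G))).index ∣ Nat.card A - 1 := by
  let _ : MulAction G G := MulAction.compHom G (MulAut.conj : G →* MulAut G)
  let B : SubMulAction (Subgroup.normalizer (A : Set G)) G := ⟨(A : Set G) \ {1}, fun g a ha =>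
    ⟨(Subgroup.mem_normalizer_iff.1 g.2 a).1 ha.1, fun h => ha.2 (by
      have : g * a * g⁻¹ = 1 := h
      simpa using this)⟩⟩
  have h := aux (G := Subgroup.normalizer (A : Set G)) (X := B)
    (d := (A.subgroupOf (Subgroup.normalizer (A : Set G))).index) fun b => by
      congr 1
      ext g
      rw [Subgroup.mem_subgroupOf]
      refine Iff.trans ?_ (SetLike.ext_iff.1 (hA b b.2.1 b.2.2) (g : G))
      rw [Subgroup.mem_centralizer_singleton_iff, ← mul_inv_eq_iff_eq_mul]
      exact Subtype.ext_iff
  have h1 : Nat.card B = ((A : Set G) \ {1}).ncard := rfl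
  rwa [h1, Set.ncard_diff_singleton_of_mem A.one_mem] at h

end Cfsg.Agent.S0196
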