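import Cfsg.Statements.S0197
import Cfsg.Agent.H3.Suz2

set_option autoImplicit false
open Cfsg

namespace Cfsg.Agent.S0197

open Cfsg.Agent.Char

/-- If a finite simple group has an involution whose centralizer is isomorphic to the general linear group GL(2, 3), then the group has order 5616 or 7920. -/
theorem result {G : Type*} [Group G] [Finite G] [IsSimpleGroup G] (t : G) (ht : orderOf t = 2) (e : Subgroup.centralizer ({t} : Set G) ≃* Matrix.GeneralLinearGroup (Fin 2) (ZMod 3)) : Nat.card G = 5616 ∨ Nat.card G = 7920 := by
  refine H3.s0197 (Inv.index_ne_two_of_simple fun h => ?_) t ht (e.trans H3.g23Equiv)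
  have h1 := Subgroup.card_subgroup_dvd_card (Subgroup.centralizer ({t} : Set G))
  rw [Nat.card_congr (e.trans H3.g23Equiv).toEquiv, h,
    show Nat.card H3.G23 = 48 by rw [Nat.card_eq_fintype_card]; decide +kernel] at h1
  omega

end Cfsg.Agent.S0197
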