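import Cfsg.Statements.S0204
import Cfsg.Agent.PF.FT
import Cfsg.Agent.Blk.ZStar

set_option autoImplicit false
open Cfsg

namespace Cfsg.Agent.S0204

open Cfsg.Agent.Char

/-- A non-cyclic finite simple group contains a subgroup which is a Klein four-group; this combines the Odd Order Theorem, Burnside's transfer argument for cyclic Sylow 2-subgroups and the Brauer–Suzuki Theorem. -/
theorem result {G : Type*} [Group G] [Finite G] [IsSimpleGroup G] (hG : ¬ IsCyclic G) : ∃ E : Subgroup G, IsKleinFour E := by
  have hna : ¬ ∀ a b : G, a * b = b * a := fun h => hG (by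
    letI : CommGroup G := { (inferInstance : Group G) with mul_comm := h }
    exact IsSimpleGroup.isCyclic)
  have he := PF.even_of_simple hna
  obtain ⟨t, ht⟩ := exists_prime_orderOf_dvd_card' (G := G) 2 he.two_dvd
  by_contra h
  have hi : IsIsolatedInvolution t := ⟨ht, fun g hc => by
    by_contra e
    exact h ⟨_, Inv.kf_sup ht (by rw [Inv.orderOf_conj', ht]) (Ne.symm e) hc⟩⟩
  have h0 : pPrimeCore 2 G = ⊥ := (Subgroup.Normal.eq_bot_or_eq_top inferInstance).resolve_right
    fun e => Core.not_dvd_card_pPrimeCore (G := G) 2 (by rw [e]; simpa using he.two_dvd)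
  have hz : t ∈ Subgroup.center G := Subgroup.mem_center_iff.2 fun g => by
    have := Blk.zstar hi g
    rw [h0, Subgroup.mem_bot, mul_inv_eq_one, mul_inv_eq_iff_eq_mul] at this
    exact this.symm
  rcases (inferInstance : (Subgroup.center G).Normal).eq_bot_or_eq_top with e | e
  · rw [e, Subgroup.mem_bot] at hz; simp [hz] at ht
  · exact hna fun a b => Subgroup.mem_center_iff.1 (e ▸ Subgroup.mem_top b) a

end Cfsg.Agent.S0204
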