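import Cfsg.Statements.S0221
import Cfsg.Agent.H8.Iso

set_option autoImplicit false
open Cfsg

namespace Cfsg.Agent.S0221



/-- Let G be a finite group with no subgroup of index 2 whose 2-rank is at least 3 (it contains an elementary abelian subgroup of order 8). Then the centralizer of every involution of G also contains an elementary abelian subgroup of order 8. -/
theorem result {G : Type*} [Group G] [Finite G] (hno : ∀ H : Subgroup G, H.index ≠ 2) (hrank : ∃ E : Subgroup G, Nat.card E = 8 ∧ ∀ e ∈ E, e ^ 2 = 1) (x : G) (hx : orderOf x = 2) : ∃ E : Subgroup G, E ≤ Subgroup.centralizer ({x} : Set G) ∧ Nat.card E = 8 ∧ ∀ e ∈ E, e ^ 2 = 1 := by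
  obtain ⟨E, e1, e2⟩ := hrank
  have k : ∀ a : G, a ^ 2 = 1 → a⁻¹ = a := fun a h => inv_eq_of_mul_eq_one_right (by rwa [← sq])
  have h : BG.PnElem 2 3 E ⊤ := ⟨le_top, ⟨BG.le_C_iff.2 fun a ha b hb => by
    rw [← k _ (e2 _ (mul_mem ha hb)), mul_inv_rev, k a (e2 a ha), k b (e2 b hb)], e2⟩, e1⟩
  obtain ⟨F, f⟩ := BG.exists_pnElem Nat.prime_two (H8.s0221 hno (h.le_pRank Nat.prime_two) hx)
  exact ⟨F, f.le, f.card, f.ab.pow⟩

end Cfsg.Agent.S0221
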