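import Cfsg.Statements.S0225
import Cfsg.Agent.Blk.BS3

set_option autoImplicit false
open Cfsg

namespace Cfsg.Agent.S0225

open Cfsg.Agent.Blk Cfsg.Agent.Char Cfsg.Agent.PLoc


theorem result {G : Type*} [Group G] [Finite G] (heven : Even (Nat.card G)) (hrank : ∀ E : Subgroup G, ¬ IsKleinFour E) : ∃ z : G, orderOf z = 2 ∧ ∃ N : Subgroup G, N.Normal ∧ Odd (Nat.card N) ∧ ∀ g : G, z * g * z⁻¹ * g⁻¹ ∈ N := by
  obtain ⟨z, hz⟩ := exists_prime_orderOf_dvd_card' (G := G) 2 (even_iff_two_dvd.mp heven)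
  exact ⟨z, hz, pPrimeCore 2 G, inferInstance, Nat.coprime_two_right.mp pPrimeCore_coprime,
    bs_main _ G rfl (fun u v hu hv hc => by_contra fun h => hrank _ (Inv.kf_sup hu hv h hc)) z hz⟩

end Cfsg.Agent.S0225
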