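import Cfsg.Statements.S0250
import Cfsg.Agent.Class.Dick5

set_option autoImplicit false
open Cfsg

namespace Cfsg.Agent.S0250

/-- SL_2(2) is isomorphic to S_3. -/
theorem result {F : Type*} [Field F] [Fintype F] (hF : Fintype.card F = 2) : Nonempty (Matrix.SpecialLinearGroup (Fin 2) F ≃* Equiv.Perm (Fin 3)) := by
  have h2 : (2 : F) = 0 := by simpa [hF] using FiniteField.cast_card_eq_zero F
  have e : Class.P1 F ≃ Fin 3 := Finite.equivFinOfCardEq (by rw [Class.card_P1, Nat.card_eq_fintype_card, hF])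
  let f := e.permCongrHom.toMonoidHom.comp (MulAction.toPermHom (Matrix.SpecialLinearGroup (Fin 2) F) (Class.P1 F))
  refine ⟨MulEquiv.ofBijective f ((Nat.bijective_iff_injective_and_card f).2 ⟨?_, ?_⟩)⟩
  · refine e.permCongrHom.injective.comp ((injective_iff_map_eq_one _).2 fun A hA => ?_)
    have h3 : (A : Matrix.ProjectiveSpecialLinearGroup (Fin 2) F) = 1 :=
      eq_of_smul_eq_smul (α := Class.P1 F) fun x => (DFunLike.congr_fun hA x).trans (one_smul _ x).symm
    rcases Class.psl_eq_one_iff.1 h3 with h | h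
    · exact h
    · rwa [Class.sl2_neg_eq h2] at h
  · rw [Class.card_SL2, hF, Nat.card_perm]; simp [Nat.factorial]

end Cfsg.Agent.S0250
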