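import Cfsg.Statements.S0257
import Cfsg.Agent.Class.Dick5
import Cfsg.Agent.S0251
import Cfsg.Agent.S0261

set_option autoImplicit false
open Cfsg

namespace Cfsg.Agent.S0257

/-- SL_2(3) has a normal subgroup of index 3 isomorphic to the quaternion group of order 8, and its centre has order 2. -/
theorem result {F : Type*} [Field F] [Fintype F] (hF : Fintype.card F = 3) : (∃ Q : Subgroup (Matrix.SpecialLinearGroup (Fin 2) F), Q.Normal ∧ Q.index = 3 ∧ Nonempty (Q ≃* QuaternionGroup 2)) ∧ Nat.card (Subgroup.center (Matrix.SpecialLinearGroup (Fin 2) F)) = 2 := by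
  refine ⟨?_, by rw [Class.card_center_SL, hF]; rfl⟩
  obtain ⟨e⟩ := S0251.result hF
  let f := e.toMonoidHom.comp (QuotientGroup.mk' (Subgroup.center (Matrix.SpecialLinearGroup (Fin 2) F)))
  have h4 : Nat.card (Fin 4) = 4 := by simp
  have := alternatingGroup.normal_kleinFour h4
  have h1 : ((alternatingGroup.kleinFour (Fin 4)).comap f).index = 3 := by
    rw [Subgroup.index_comap_of_surjective _ (e.surjective.comp (QuotientGroup.mk'_surjective _))]
    have := (alternatingGroup.kleinFour (Fin 4)).card_mul_index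
    rw [alternatingGroup.kleinFour_card_of_card_eq_four h4, Class.card_A4] at this
    omega
  have h2 := ((alternatingGroup.kleinFour (Fin 4)).comap f).card_mul_index
  have h3 := Class.card_SL2 (F := F)
  rw [hF] at h3
  rw [h1, h3] at h2
  have h5 : Nat.card ((alternatingGroup.kleinFour (Fin 4)).comap f) = 2 ^ 3 := by omega
  refine ⟨_, inferInstance, h1, ?_⟩
  obtain ⟨k, -, ⟨g⟩⟩ := S0261.result (F := F) (by rw [hF]; decide)
    (Sylow.ofCard ((alternatingGroup.kleinFour (Fin 4)).comap f) (p := 2) (by
      rw [h5, h3, ← Nat.primeFactorsList_count_eq]; simp))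
  have h6 := Nat.card_congr g.toEquiv
  have : NeZero (2 ^ k) := ⟨by positivity⟩
  rw [Sylow.coe_ofCard, h5, Nat.card_eq_fintype_card, QuaternionGroup.card] at h6
  have h7 : 2 ^ k = 2 := by omega
  rw [h7] at g
  exact ⟨g⟩

end Cfsg.Agent.S0257
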