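import Cfsg.Statements.S0260
import Cfsg.Agent.Class.Dick3

set_option autoImplicit false
open Cfsg

namespace Cfsg.Agent.S0260

/-- Any two distinct Sylow p-subgroups of SL_2(q), p the characteristic, generate SL_2(q). -/
theorem result {F : Type*} [Field F] [Fintype F] (p : ℕ) [Fact p.Prime] [CharP F p] (P Q : Sylow p (Matrix.SpecialLinearGroup (Fin 2) F)) (h : P ≠ Q) : (P : Subgroup (Matrix.SpecialLinearGroup (Fin 2) F)) ⊔ (Q : Subgroup (Matrix.SpecialLinearGroup (Fin 2) F)) = ⊤ := by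
  obtain ⟨x, hx⟩ := Class.sylow_sl p P
  obtain ⟨y, hy⟩ := Class.sylow_sl p Q
  have hxy : x ≠ y := fun h' => h (Sylow.ext (by rw [hx, hy, h']))
  obtain ⟨t, e1, e2⟩ := Class.sl_two_trans x y hxy
  have := Class.SL2_eq_top (((P : Subgroup _) ⊔ (Q : Subgroup _)).comap (MulAut.conj t).toMonoidHom)
    (fun a => Subgroup.mem_sup_left (by
      rw [hx, ← e1]
      exact (Class.mem_uni_gl_iff p).2 ⟨a, by simp⟩))
    (fun a => Subgroup.mem_sup_right (by
      rw [hy, ← e2, Class.uni_smul']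
      exact ⟨_, Class.slL_mem_uni p a, by simp⟩))
  rw [eq_top_iff]
  intro A _
  have h1 : t⁻¹ * A * t ∈ ((P : Subgroup _) ⊔ (Q : Subgroup _)).comap (MulAut.conj t).toMonoidHom :=
    this ▸ Subgroup.mem_top _
  simpa [mul_assoc] using h1

end Cfsg.Agent.S0260
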