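import Cfsg.Statements.S0262
import Cfsg.Agent.Class.Dick4

set_option autoImplicit false
open Cfsg

namespace Cfsg.Agent.S0262

/-- For an odd prime r different from the characteristic, the Sylow r-subgroups of SL_2(q) are cyclic. -/
theorem result {F : Type*} [Field F] [Fintype F] (p : ℕ) [Fact p.Prime] [CharP F p] (r : ℕ) [Fact r.Prime] (hr : r ≠ 2) (hrp : r ≠ p) (R : Sylow r (Matrix.SpecialLinearGroup (Fin 2) F)) : IsCyclic (R : Subgroup (Matrix.SpecialLinearGroup (Fin 2) F)) := by
  obtain ⟨k, hk⟩ := R.isPGroup'.exists_card_eq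
  have hodd : Odd (r ^ k) := (Nat.Prime.odd_of_ne_two Fact.out hr).pow
  let f := Matrix.SpecialLinearGroup.toPGL.comp (R : Subgroup (Matrix.SpecialLinearGroup (Fin 2) F)).subtype
  have hf : Function.Injective f := by
    rw [injective_iff_map_eq_one]
    intro a ha
    have h1 : a.1 ^ r ^ k = 1 := by
      rw [← hk]; exact congrArg Subtype.val (pow_card_eq_one' (x := a))
    rcases Class.toPGL_eq_one_iff.1 ha with h | h
    · exact Subtype.ext h
    · rw [show a.1 = -1 from h, hodd.neg_one_pow] at h1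
      exact Subtype.ext (h.trans h1)
  have e := MonoidHom.ofInjective hf
  have h2 : Nat.card f.range = r ^ k := by rw [← hk, Nat.card_congr e.toEquiv]
  refine e.isCyclic.2 (Class.isCyclic_of_odd p _ (h2 ▸ hodd) fun h => hrp ?_)
  exact ((Nat.prime_dvd_prime_iff_eq Fact.out Fact.out).1
    ((Fact.out : p.Prime).dvd_of_dvd_pow (h2 ▸ h))).symm

end Cfsg.Agent.S0262
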