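import Cfsg.Statements.S0263
import Cfsg.Agent.Class.Dick3

set_option autoImplicit false
open Cfsg

namespace Cfsg.Agent.S0263

/-- A Sylow p-subgroup of GL_n(q), p the characteristic, has order q^(n(n-1)/2). -/
theorem result {F : Type*} [Field F] [Fintype F] {q : ℕ} (hF : Fintype.card F = q) (p : ℕ) [Fact p.Prime] [CharP F p] (n : ℕ) (P : Sylow p (Matrix.GeneralLinearGroup (Fin n) F)) : Nat.card P = q ^ (n * (n - 1) / 2) := by
  obtain ⟨k, -, hk⟩ := FiniteField.card F p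
  have hq : 1 ≤ q := hF ▸ Fintype.card_pos
  have h1 : Nat.card (Matrix.GeneralLinearGroup (Fin n) F) =
      p ^ (k * (n * (n - 1) / 2)) * ∏ i : Fin n, (q ^ (n - i) - 1) := by
    rw [Matrix.card_GL_field, pow_mul, ← hk, hF, ← Finset.sum_range_id, ← Fin.sum_univ_eq_sum_range (fun i => i),
      ← Finset.prod_pow_eq_pow_sum, ← Finset.prod_mul_distrib]
    refine Finset.prod_congr rfl fun i _ => ?_
    rw [Nat.mul_sub, ← pow_add, Nat.add_sub_cancel' i.2.le, mul_one]
  rw [Inv.card_sylow_of_card P h1, pow_mul, ← hk, hF]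
  rw [(Nat.Prime.prime Fact.out).dvd_finset_prod_iff]
  rintro ⟨i, -, hi⟩
  have h2 : p ∣ q ^ (n - i) := dvd_pow (by rw [← hF, hk]; exact dvd_pow_self p k.ne_zero) (by omega)
  exact (Fact.out : p.Prime).not_dvd_one ((Nat.dvd_sub_iff_right (Nat.one_le_pow _ _ hq) h2).1 hi)

end Cfsg.Agent.S0263
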