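import Cfsg.Statements.S0264
import Cfsg.Agent.Class.Lin2

set_option autoImplicit false
open Cfsg

namespace Cfsg.Agent.S0264

/-- GL_n(F)' = SL_n(F) (as the kernel of det), for every field F and every n, except n = 2 over the field of two elements. -/
theorem result {F : Type*} [Field F] (n : ℕ) (h : n = 2 → ∃ a : F, a ≠ 0 ∧ a ≠ 1) : commutator (Matrix.GeneralLinearGroup (Fin n) F) = (Matrix.GeneralLinearGroup.det : Matrix.GeneralLinearGroup (Fin n) F →* Fˣ).ker := by
  refine le_antisymm (Abelianization.commutator_subset_ker _) ?_
  rw [← Class.range_toGL]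
  rintro _ ⟨s, rfl⟩
  induction s using Class.SL_transvection_induction with
  | h1 => rw [map_one]; exact one_mem _
  | hmul A B hA hB => rw [map_mul]; exact mul_mem hA hB
  | htransvec i j hij c =>
    by_cases hn : 3 ≤ n
    · obtain ⟨k, hki, hkj⟩ := Class.exists_ne_ne_of_three_le (by simpa using hn) i j
      rw [← one_mul c, ← Class.transvection_commutator hki.symm hkj hij, map_commutatorElement]
      exact Subgroup.commutator_mem_commutator trivial trivial
    · obtain ⟨a, ha0, ha1⟩ := h (by omega)
      have h1 := sub_ne_zero.2 ha1
      let d := Class.rk1 (Pi.single i (a - 1)) (Pi.single i 1) (by simpa using ha0)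
      let t := Matrix.SpecialLinearGroup.toGL (Matrix.SpecialLinearGroup.transvection hij (c / (a - 1)))
      have : Matrix.SpecialLinearGroup.toGL (Matrix.SpecialLinearGroup.transvection hij c) =
          d * t * d⁻¹ * t⁻¹ := by
        rw [eq_mul_inv_iff_mul_eq, eq_mul_inv_iff_mul_eq]
        refine Units.ext (Class.matrix_ext_mulVec fun x => ?_)
        simp only [d, t, Class.transvection_eq_tv, Units.val_mul, ← Matrix.mulVec_mulVec,
          Matrix.SpecialLinearGroup.coe_GL_coe_matrix, Class.tv_coe, Class.rk1_coe,
          Class.one_add_vecMulVec_mulVec]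
        ext k
        simp [Pi.single_apply, hij.symm]
        split_ifs
        · field_simp; ring
        · ring
      rw [this]
      exact Subgroup.commutator_mem_commutator trivial trivial

end Cfsg.Agent.S0264
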