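import Cfsg.Statements.S0266
import Cfsg.Agent.Class.Dick3

set_option autoImplicit false
open scoped MatrixGroups
open Cfsg

namespace Cfsg.Agent.S0266

/-- PGL_2(F) is sharply 3-transitive on the projective line: it is 3-transitive and the stabiliser of three distinct points is trivial. -/
theorem result {F : Type*} [Field F] : MulAction.IsMultiplyPretransitive (Matrix.ProjGenLinGroup (Fin 2) F) (Projectivization F (Fin 2 → F)) 3 ∧ ∀ (g : Matrix.ProjGenLinGroup (Fin 2) F) (a b c : Projectivization F (Fin 2 → F)), a ≠ b → a ≠ c → b ≠ c → g • a = a → g • b = b → g • c = c → g = 1 := by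
  refine ⟨?_, fun g a b c => Class.pgl_three g a b c⟩
  rw [MulAction.isMultiplyPretransitive_iff]
  intro x y
  obtain ⟨A, a1, a2, a3⟩ := Class.gl_three_trans (x 0) (x 1) (x 2) (by simp) (by simp) (by simp)
  obtain ⟨B, b1, b2, b3⟩ := Class.gl_three_trans (y 0) (y 1) (y 2) (by simp) (by simp) (by simp)
  refine ⟨Matrix.ProjGenLinGroup.mk (B * A⁻¹), ?_⟩
  ext i
  change Matrix.ProjGenLinGroup.mk (B * A⁻¹) • x i = y i
  rw [Class.pgl_smul, mul_smul]
  fin_cases i
  · simp only [Fin.zero_eta]; rw [← a1, inv_smul_smul, b1]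
  · simp only [Fin.mk_one]; rw [← a2, inv_smul_smul, b2]
  · simp only [Fin.reduceFinMk]; rw [← a3, inv_smul_smul, b3]

end Cfsg.Agent.S0266
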