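import Cfsg.Statements.S0267
import Cfsg.Agent.Class.Dick3

set_option autoImplicit false
open Cfsg

namespace Cfsg.Agent.S0267

/-- SL_2(q) is 3-transitive on the q+1 points of the projective line if and only if q is even. -/
theorem result {F : Type*} [Field F] [Fintype F] : MulAction.IsMultiplyPretransitive (Matrix.SpecialLinearGroup (Fin 2) F) (Projectivization F (Fin 2 → F)) 3 ↔ ringChar F = 2 := by
  rw [MulAction.isMultiplyPretransitive_iff]
  have hs : ∀ (A : Matrix.SpecialLinearGroup (Fin 2) F) (x : Class.P1 F),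
      A • x = (A : Matrix.GeneralLinearGroup (Fin 2) F) • x := fun A x => rfl
  constructor
  · intro h
    by_contra h2
    obtain ⟨a, ha⟩ := FiniteField.exists_nonsquare h2
    have ha0 : a ≠ 0 := by rintro rfl; simp at ha
    have e : ∀ b : F, b ≠ 0 → Function.Injective ![Class.pinf F, Class.ppt 0, Class.ppt b] := by
      intro b hb i j
      fin_cases i <;> fin_cases j <;>
        simp [Class.ppt_ne_pinf, (Class.ppt_ne_pinf _).symm, Class.ppt_inj, hb, hb.symm]
    obtain ⟨A, hA⟩ := h ⟨_, e 1 one_ne_zero⟩ ⟨_, e a ha0⟩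
    have h0 : A 1 0 = 0 := (Class.smul_pinf_pinf (A := (A : Matrix.GeneralLinearGroup (Fin 2) F))).1
      (DFunLike.congr_fun hA 0)
    have h1 : A 0 1 = 0 := by simpa using (Class.smul_ppt_ppt (A := (A : Matrix.GeneralLinearGroup (Fin 2) F))).1 (DFunLike.congr_fun hA 1)
    have h3 : A 0 0 = A 1 1 * a := by
      simpa [h0, h1] using (Class.smul_ppt_ppt (A := (A : Matrix.GeneralLinearGroup (Fin 2) F))).1 (DFunLike.congr_fun hA 2)
    have h4 := A.det_coe
    rw [Matrix.det_fin_two, h0, h1] at h4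
    exact ha ⟨A 0 0, by linear_combination -a * h4 - A 0 0 * h3⟩
  · intro h x y
    obtain ⟨A, a1, a2, a3⟩ := Class.gl_three_trans (x 0) (x 1) (x 2) (by simp) (by simp) (by simp)
    obtain ⟨B, b1, b2, b3⟩ := Class.gl_three_trans (y 0) (y 1) (y 2) (by simp) (by simp) (by simp)
    obtain ⟨u, hu⟩ := FiniteField.isSquare_of_char_two h (B * A⁻¹).1.det
    obtain ⟨g, hg⟩ := (Class.mem_range_toPGL (A := B * A⁻¹)).2 ⟨u, by rw [hu]; simp [sq]⟩
    induction g using QuotientGroup.induction_on with | H C =>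
    refine ⟨C, ?_⟩
    ext i
    change Matrix.ProjectiveSpecialLinearGroup.toPGL (C : Matrix.ProjectiveSpecialLinearGroup (Fin 2) F) • x i = y i
    rw [hg, Class.pgl_smul, mul_smul]
    fin_cases i
    · simp only [Fin.zero_eta]; rw [← a1, inv_smul_smul, b1]
    · simp only [Fin.mk_one]; rw [← a2, inv_smul_smul, b2]
    · simp only [Fin.reduceFinMk]; rw [← a3, inv_smul_smul, b3]

end Cfsg.Agent.S0267
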