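import Cfsg.Statements.S0268
import Cfsg.Agent.Class.Lin

set_option autoImplicit false
open Cfsg

namespace Cfsg.Agent.S0268

/-- For q odd, -1 is the unique involution of SL_2(q). -/
theorem result {F : Type*} [Field F] [Fintype F] (hF : Odd (Fintype.card F)) (g : Matrix.SpecialLinearGroup (Fin 2) F) (h1 : g ≠ 1) (h2 : g * g = 1) : (g : Matrix (Fin 2) (Fin 2) F) = -1 := by
  have h2' : (2 : F) ≠ 0 := by
    intro h
    have : ringChar F = 2 := by
      have := (CharP.ringChar_of_prime_eq_zero Nat.prime_two (by exact_mod_cast h))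
      exact this
    have h3 := FiniteField.even_card_iff_char_two.1 this
    rw [Nat.odd_iff] at hF
    omega
  have hinv : g⁻¹ = g := inv_eq_of_mul_eq_one_right h2
  have hd := g.2
  rw [Matrix.det_fin_two] at hd
  rw [Matrix.SpecialLinearGroup.SL2_inv_expl] at hinv
  have h00 := congrArg (fun x : Matrix.SpecialLinearGroup (Fin 2) F => x.1 0 0) hinv
  have h01 := congrArg (fun x : Matrix.SpecialLinearGroup (Fin 2) F => x.1 0 1) hinv
  have h10 := congrArg (fun x : Matrix.SpecialLinearGroup (Fin 2) F => x.1 1 0) hinv
  simp at h00 h01 h10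
  have e01 : g.1 0 1 = 0 := by
    have : 2 * g.1 0 1 = 0 := by linear_combination -h01
    exact (mul_eq_zero.1 this).resolve_left h2'
  have e10 : g.1 1 0 = 0 := by
    have : 2 * g.1 1 0 = 0 := by linear_combination -h10
    exact (mul_eq_zero.1 this).resolve_left h2'
  rw [e01, h00] at hd
  have : (g.1 0 0 - 1) * (g.1 0 0 + 1) = 0 := by linear_combination hd
  rcases mul_eq_zero.1 this with h | h
  · exfalso
    apply h1
    have : g.1 0 0 = 1 := by linear_combination h
    ext i j
    fin_cases i <;> fin_cases j <;> simp_all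
  · have : g.1 0 0 = -1 := by linear_combination h
    ext i j
    fin_cases i <;> fin_cases j <;> simp_all

end Cfsg.Agent.S0268
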