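import Cfsg.Statements.S0272
import Cfsg.Agent.Class.Dick3

set_option autoImplicit false
open Cfsg

namespace Cfsg.Agent.S0272

/-- The normaliser in GL_2(q) of a Sylow p-subgroup, p the characteristic, has order q (q-1)^2. -/
theorem result {F : Type*} [Field F] [Fintype F] {q : ℕ} (hF : Fintype.card F = q) (p : ℕ) [Fact p.Prime] [CharP F p] (P : Sylow p (Matrix.GeneralLinearGroup (Fin 2) F)) : Nat.card (Subgroup.normalizer ((P : Subgroup (Matrix.GeneralLinearGroup (Fin 2) F)) : Set (Matrix.GeneralLinearGroup (Fin 2) F))) = q * (q - 1) ^ 2 := by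
  obtain ⟨x, rfl⟩ := (Class.sylowGL_bijective p).2 P
  have h1 := (Class.sylowGL p x).card_eq_index_normalizer
  rw [← Nat.card_congr (Equiv.ofBijective _ (Class.sylowGL_bijective (F := F) p)), Class.card_P1,
    Nat.card_eq_fintype_card, hF] at h1
  have h2 := (Subgroup.normalizer ((Class.sylowGL p x : Subgroup (Matrix.GeneralLinearGroup (Fin 2) F)) :
    Set (Matrix.GeneralLinearGroup (Fin 2) F))).card_mul_index
  erw [← h1] at h2
  rw [Class.card_GL2, hF] at h2
  obtain ⟨k, rfl⟩ : ∃ k, q = k + 1 := ⟨q - 1, by have := Fintype.card_pos (α := F); omega⟩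
  apply Nat.eq_of_mul_eq_mul_right (by omega : 0 < k + 1 + 1)
  rw [h2]
  have e1 : (k + 1) ^ 2 - 1 = k * (k + 2) := Nat.sub_eq_of_eq_add (by ring)
  simp only [e1, Nat.add_sub_cancel]
  ring

end Cfsg.Agent.S0272
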