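import Cfsg.Statements.S0273
import Cfsg.Agent.Class.Dick3

set_option autoImplicit false
open Cfsg

namespace Cfsg.Agent.S0273

/-- In GL_2(q) the centraliser of a non-trivial element of a Sylow p-subgroup (p the characteristic) has order q (q-1): the Sylow subgroup times the scalars. -/
theorem result {F : Type*} [Field F] [Fintype F] {q : ℕ} (hF : Fintype.card F = q) (p : ℕ) [Fact p.Prime] [CharP F p] (P : Sylow p (Matrix.GeneralLinearGroup (Fin 2) F)) (a : Matrix.GeneralLinearGroup (Fin 2) F) (ha : a ∈ P) (ha1 : a ≠ 1) : Nat.card (Subgroup.centralizer ({a} : Set (Matrix.GeneralLinearGroup (Fin 2) F))) = q * (q - 1) := by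
  classical
  obtain ⟨x, rfl⟩ := (Class.sylowGL_bijective p).2 P
  obtain ⟨t, rfl⟩ := Class.sl_trans x
  obtain ⟨b, rfl⟩ := (Class.mem_uni_gl_iff p).1 ha
  have hb : b ≠ 0 := by rintro rfl; simp at ha1
  have h1 : Subgroup.centralizer ({(t : Matrix.GeneralLinearGroup (Fin 2) F) * (Class.slU b : Matrix.GeneralLinearGroup (Fin 2) F) * (t : Matrix.GeneralLinearGroup (Fin 2) F)⁻¹} : Set _) =
      (Subgroup.centralizer {(Class.slU b : Matrix.GeneralLinearGroup (Fin 2) F)}).map (MulAut.conj (t : Matrix.GeneralLinearGroup (Fin 2) F)).toMonoidHom := by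
    ext g
    rw [Subgroup.mem_map_equiv]
    simp only [Subgroup.mem_centralizer_singleton_iff, MulAut.conj_symm_apply]
    constructor <;> intro h
    · have := congrArg (fun z => (t : Matrix.GeneralLinearGroup (Fin 2) F)⁻¹ * z * t) h
      simpa [mul_assoc] using this
    · have := congrArg (fun z => (t : Matrix.GeneralLinearGroup (Fin 2) F) * z * t⁻¹) h
      simpa [mul_assoc] using this
  rw [h1, Inv.card_map_conj, ← hF, ← Fintype.card_units, ← Fintype.card_prod, ← Nat.card_eq_fintype_card]
  have h0 : ∀ x : F × Fˣ, Class.gl2 (x.2 : F) x.1 0 x.2 (by simp) ∈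
      Subgroup.centralizer {(Class.slU b : Matrix.GeneralLinearGroup (Fin 2) F)} := fun x => by
    rw [Subgroup.mem_centralizer_singleton_iff]
    ext i j; fin_cases i <;> fin_cases j <;> simp [Matrix.mul_apply]; ring
  refine Nat.card_congr (Equiv.ofBijective (fun x : F × Fˣ => ⟨_, h0 x⟩)
    ⟨fun x y h => ?_, fun ⟨g, hg⟩ => ?_⟩).symm
  · have h2 := congrArg (fun g => g.1.1) h
    exact Prod.ext (by simpa using congrFun (congrFun h2 0) 1)
      (Units.ext (by simpa using congrFun (congrFun h2 0) 0))
  · rw [Subgroup.mem_centralizer_singleton_iff] at hg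
    have h2 := congrArg Units.val hg
    have h3 := congrFun (congrFun h2 0) 0
    have h4 := congrFun (congrFun h2 0) 1
    simp [Matrix.mul_apply, hb] at h3 h4
    have h5 : g 0 0 = g 1 1 := mul_left_cancel₀ hb (by linear_combination h4)
    have h6 : g 0 0 ≠ 0 := fun h => Class.det_ne g (by simp [h, h3])
    refine ⟨(g 0 1, Units.mk0 _ h6), Subtype.ext ?_⟩
    ext i j; fin_cases i <;> fin_cases j <;> simp [h3, h5]

end Cfsg.Agent.S0273
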