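import Cfsg.Statements.S0827
import Cfsg.Agent.Class.Exc4
import Cfsg.Agent.Inv.Basic

set_option autoImplicit false
open Cfsg

namespace Cfsg.Agent.S0827

open Subgroup Matrix in
theorem aux {G : Type*} [Group G] (hG : Nat.card G = 72) (x y a s : G) (hx : x ^ 3 = 1)
    (hy : y ^ 3 = 1) (hxy : x * y = y * x) (hx1 : x ≠ 1) (hy1 : y ∉ zpowers x) (ha : a ^ 4 = 1)
    (ha2 : a ^ 2 ≠ 1) (hs : s * s = a ^ 2) (has : a * s * a = s) (h1 : a * x = y * a)
    (h2 : a * y = x ^ 2 * a) (h3 : s * x = x ^ 2 * y * s) (h4 : s * y = x * y * s) :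
    ∃ (N : Subgroup G) (_ : N.Normal), Nat.card N = 9 ∧ (∀ x ∈ N, x ^ 3 = 1) ∧
      Nonempty (G ⧸ N ≃* QuaternionGroup 2) := by
  have : Finite G := Nat.finite_of_card_ne_zero (by omega)
  let N := closure {x, y}
  have hxN : x ∈ N := subset_closure (by simp)
  have hyN : y ∈ N := subset_closure (by simp)
  have hc : ∀ g ∈ N, ∀ h ∈ N, Commute g h := fun g hg h hh => by
    refine closure_induction₂ (p := fun g h _ _ => Commute g h) ?_ (fun _ _ => .one_left _)
      (fun _ _ => .one_right _) (fun _ _ _ _ _ _ => .mul_left) (fun _ _ _ _ _ _ => .mul_right)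
      (fun _ _ _ _ => .inv_left) (fun _ _ _ _ => .inv_right) hg hh
    rintro _ _ (rfl | rfl) (rfl | rfl)
    exacts [rfl, hxy, hxy.symm, rfl]
  have he : ∀ g ∈ N, g ^ 3 = 1 := fun g hg => by
    refine closure_induction (p := fun g _ => g ^ 3 = 1) ?_ (by simp)
      (fun a b ha hb h h' => by rw [(hc a ha b hb).mul_pow, h, h', mul_one]) (by simp) hg
    rintro _ (rfl | rfl) <;> assumption
  have hN : Nat.card N = 9 := by
    obtain ⟨k, hk⟩ := IsPGroup.iff_card.1 (fun g => ⟨1, Subtype.ext (he g g.2)⟩ : IsPGroup 3 N)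
    have h5 := card_subgroup_dvd_card N
    have h6 : Nat.card (zpowers x) < Nat.card N := Set.ncard_lt_ncard (s := (zpowers x : Set G))
      (t := (N : Set G)) ⟨zpowers_le.2 hxN, fun h => hy1 (h hyN)⟩
    rw [Nat.card_zpowers, orderOf_eq_prime hx hx1, hk] at h6
    rw [hG, hk] at h5
    rw [hk]
    rcases k with _ | _ | _ | k
    · omega
    · omega
    · rfl
    · exact absurd ((Dvd.intro_left _ (pow_add 3 k 3).symm).trans h5) (by decide)
  have hs' : s * a * s⁻¹ = a⁻¹ := by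
    rw [eq_inv_iff_mul_eq_one, mul_eq_one_comm, ← mul_assoc, ← mul_assoc, has, mul_inv_cancel]
  obtain ⟨e⟩ := Inv.quaternion_equiv (n := 2) (orderOf_eq_prime_pow (p := 2) (n := 1) ha2 ha) hs hs' (by
    rintro ⟨k, rfl⟩
    exact ha2 (by rw [sq, ← eq_inv_iff_mul_eq_one, ← hs']; group))
  have hQ : Nat.card (closure {a, s}) = 8 := by
    rw [Nat.card_congr e.toEquiv, Nat.card_eq_fintype_card, QuaternionGroup.card]
  have hn : ∀ g, g * x * g⁻¹ ∈ N → g * y * g⁻¹ ∈ N → g ∈ normalizer (N : Set G) := fun g h h' =>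
    mem_normalizer_fintype fun n hn => (closure_le (N.comap (MulAut.conj g).toMonoidHom)).2
      (by rintro _ (rfl | rfl) <;> assumption) hn
  have h5 : closure {a, s} ≤ normalizer (N : Set G) := (closure_le _).2 (by
    rintro _ (rfl | rfl) <;> refine hn _ ?_ ?_ <;>
      simp only [h1, h2, h3, h4, mul_inv_cancel_right] <;>
      simp [hxN, hyN, mul_mem, pow_mem])
  have h6 : normalizer (N : Set G) = ⊤ := (card_eq_iff_eq_top _).1 (Nat.dvd_antisymm
    (card_subgroup_dvd_card _) (hG ▸ Nat.Coprime.mul_dvd_of_dvd_of_dvd (m := 9) (n := 8) (by decide)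
      (hN ▸ card_dvd_of_le le_normalizer) (hQ ▸ card_dvd_of_le h5)))
  have := normalizer_eq_top_iff.1 h6
  refine ⟨N, this, hN, he, (Class.equiv_of_inj_card ((QuotientGroup.mk' N).comp (closure {a, s}).subtype)
    ((injective_iff_map_eq_one _).2 fun g hg => Subtype.ext ?_) ?_).map fun e' => e'.symm.trans e⟩
  · exact mem_bot.1 (disjoint_of_coprime_natCard (by rw [hN, hQ]; decide) |>.le_bot
      ⟨(QuotientGroup.eq_one_iff _).1 hg, g.2⟩)
  · have := card_eq_card_quotient_mul_card_subgroup N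
    rw [hG, hN] at this
    rw [hQ]; omega

theorem card_72 {F : Type*} [Field F] [Fintype F] (hF : Fintype.card F = 4) :
    Nat.card (Cfsg.PSU 3 F 2) = 72 := by
  obtain ⟨σ, h⟩ := Class.exists_UF (q := 2) hF
  have := Class.card_PSU h (n := 3) (by omega)
  simp [Class.guCard, Class.uFac, Finset.prod_range_succ] at this
  omega

/-- U_3(2) ≅ 3².Q_8: PSU_3(2) (form over the field with 4 elements) has a normal subgroup N which is elementary abelian of order 9 such that the quotient by N is isomorphic to the quaternion group of order 8. -/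
theorem result {F : Type*} [Field F] [Fintype F] (hF : Fintype.card F = 4) : ∃ (N : Subgroup (Cfsg.PSU 3 F 2)) (_ : N.Normal), Nat.card N = 9 ∧ (∀ x ∈ N, x ^ 3 = 1) ∧ Nonempty (Cfsg.PSU 3 F 2 ⧸ N ≃* QuaternionGroup 2) := by
  obtain ⟨σ, h⟩ := Class.exists_UF (q := 2) hF
  have h2 : (2 : F) = 0 := by
    have := FiniteField.cast_card_eq_zero F
    rw [hF] at this
    exact mul_self_eq_zero.1 (by linear_combination this)
  obtain ⟨w, hw1, hw⟩ := h.exists_norm_ne one_ne_zero (map_one σ) 1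
  replace hw : w ^ 2 + w + 1 = 0 := mul_left_cancel₀ (sub_ne_zero.2 hw1) (by
    rw [h.eq] at hw; linear_combination hw)
  have hm : ∀ (A : Matrix (Fin 3) (Fin 3) F), A.det = 1 ∧ (A.map (· ^ 2)).transpose * A = 1 →
      ∃ g : Cfsg.SU 3 F 2, g.1.1 = A := fun A hA =>
    ⟨⟨⟨A, hA.1⟩, (Class.mem_SU_iff h).2 (Eq.trans (by congr; ext; exact h.eq _) hA.2)⟩, rfl⟩
  obtain ⟨x, hx⟩ := hm !![1, 0, 0; 0, w, 0; 0, 0, w ^ 2] ⟨by simp [Matrix.det_fin_three]; grind, by
    ext i j; fin_cases i <;> fin_cases j <;> simp [Matrix.mul_apply, Fin.sum_univ_succ] <;>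
      (clear * - h2 hw; grind)⟩
  obtain ⟨y, hy⟩ := hm !![0, 1, 0; 0, 0, 1; 1, 0, 0] ⟨by simp [Matrix.det_fin_three], by
    ext i j; fin_cases i <;> fin_cases j <;> simp [Matrix.mul_apply, Fin.sum_univ_succ]⟩
  obtain ⟨a, ha⟩ := hm !![1, 1, 1; 1, w, w ^ 2; 1, w ^ 2, w] ⟨by simp [Matrix.det_fin_three]; grind, by
    ext i j; fin_cases i <;> fin_cases j <;> simp [Matrix.mul_apply, Fin.sum_univ_succ] <;>
      (clear * - h2 hw; grind)⟩
  obtain ⟨s, hs⟩ := hm !![1, w, w; w ^ 2, w, w ^ 2; w ^ 2, w ^ 2, w]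
    ⟨by simp [Matrix.det_fin_three]; grind, by
    ext i j; fin_cases i <;> fin_cases j <;> simp [Matrix.mul_apply, Fin.sum_univ_succ] <;>
      (clear * - h2 hw; grind)⟩
  obtain ⟨z, hz⟩ := hm (w • 1) ⟨by simp; grind, by
    ext i j; fin_cases i <;> fin_cases j <;> simp [Matrix.mul_apply, Fin.sum_univ_three] <;>
      (clear * - h2 hw; grind)⟩
  have hc : ∀ g h : Cfsg.SU 3 F 2, (g * h).1.1 = g.1.1 * h.1.1 := fun _ _ => rfl
  have hz' : (z : Cfsg.PSU 3 F 2) = 1 := (QuotientGroup.eq_one_iff _).2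
    (Subgroup.mem_center_iff.2 fun g => Subtype.ext (Subtype.ext (by simp [hc, hz])))
  have key : ∀ g g' : Cfsg.SU 3 F 2, g.1.1 = g'.1.1 ∨ g.1.1 = w • g'.1.1 ∨ w • g.1.1 = g'.1.1 →
      (g : Cfsg.PSU 3 F 2) = g' := by
    rintro g g' (h | h | h)
    · rw [Subtype.ext (Subtype.ext h : g.1 = g'.1)]
    · rw [show g = z * g' from Subtype.ext (Subtype.ext (by simp [hc, hz, h]))]; simp [hz']
    · rw [show g' = z * g from Subtype.ext (Subtype.ext (by simp [hc, hz, h]))]; simp [hz']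
  have hxy : y * x ≠ x * y := fun h => by
    have := congrFun₂ (congrArg (·.1.1) h) 0 1
    simp [hc, hx, hy] at this
    exact hw1 this
  refine aux (card_72 hF) x y a s ?_ ?_ ?_ ?_ ?_ ?_ ?_ ?_ ?_ ?_ ?_ ?_ ?_
  case refine_4 => exact fun h => hxy (Subgroup.mem_center_iff.1 ((QuotientGroup.eq_one_iff _).1 h) y)
  case refine_5 =>
    rintro ⟨k, hk⟩
    have h3 := Subgroup.mem_center_iff.1 (QuotientGroup.eq.1 (hk : ((x ^ k : Cfsg.SU 3 F 2) : Cfsg.PSU 3 F 2) = y)) x
    exact hxy (mul_left_cancel (a := (x ^ k)⁻¹) (by rw [← mul_assoc, ← h3]; group))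
  case refine_7 =>
    intro h
    have h3 := Subgroup.mem_center_iff.1 ((QuotientGroup.eq_one_iff (a ^ 2)).1 h) y
    have := congrFun₂ (congrArg (·.1.1) h3) 0 1
    simp [sq, hc, ha, hy] at this
    clear * - this h2 hw
    grind
  all_goals
    simp only [pow_succ, pow_zero, one_mul, ← QuotientGroup.mk_mul, ← QuotientGroup.mk_one]
    apply key
    simp only [hc, hx, hy, ha, hs, Matrix.mul_fin_three, show (1 : Cfsg.SU 3 F 2).1.1 = 1 from rfl,
      Matrix.one_fin_three, ← Matrix.ext_iff, Fin.forall_fin_succ]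
    clear * - h2 hw
    simp
    try grind

end Cfsg.Agent.S0827
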