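import Cfsg.Statements.S0282
import Cfsg.Agent.S0827

set_option autoImplicit false
open Cfsg

namespace Cfsg.Agent.S0282

/-- PSU_3(2) is a solvable group of order 72. -/
theorem result {F : Type*} [Field F] [Fintype F] (hF : Fintype.card F = 4) : Nat.card (Cfsg.PSU 3 F 2) = 72 ∧ Group.IsSolvable (Cfsg.PSU 3 F 2) := by
  refine ⟨S0827.card_72 hF, ?_⟩
  obtain ⟨N, hN, -, h3, ⟨e⟩⟩ := S0827.result hF
  have : Finite (Cfsg.PSU 3 F 2) := Nat.finite_of_card_ne_zero (by rw [S0827.card_72 hF]; decide)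
  have h1 : IsPGroup 3 N := fun g => ⟨1, Subtype.ext (h3 g g.2)⟩
  have h2 : IsPGroup 2 (Cfsg.PSU 3 F 2 ⧸ N) := IsPGroup.of_card (n := 3) (by
    rw [Nat.card_congr e.toEquiv, Nat.card_eq_fintype_card, QuaternionGroup.card]; rfl)
  have := h1.isNilpotent
  have := h2.isNilpotent
  exact solvable_of_ker_le_range N.subtype (QuotientGroup.mk' N) (by simp)

end Cfsg.Agent.S0282
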