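import Cfsg.Statements.S0284
import Cfsg.Agent.Class.Uni

set_option autoImplicit false
open Cfsg

namespace Cfsg.Agent.S0284

/-- The standard Hermitian form on F^n, |F| = q^2, has exactly q^(n-1) (q^n - (-1)^n) vectors of norm 1. -/
theorem result {F : Type*} [Field F] [Fintype F] {q : ℕ} (hF : Fintype.card F = q ^ 2) (n : ℕ) : Nat.card {v : Fin n → F // Cfsg.hermForm n F q v v = 1} = (if Even n then q ^ (n - 1) * (q ^ n - 1) else q ^ (n - 1) * (q ^ n + 1)) := by
  obtain ⟨σ, h⟩ := Class.exists_UF hF
  simp only [← Class.uFS_Q h]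
  rcases n with _ | n
  · have : IsEmpty {v : Fin 0 → F // (Class.uFS h 0).Q v = 1} :=
      ⟨fun v => by
        have := v.2
        rw [Subsingleton.elim v.1 0, Class.FS.Q_zero] at this
        exact zero_ne_one this⟩
    simp
  · rw [Class.FS.herm_card_one h (Class.uFS_nondeg h) (n := n) (by simp)]
    by_cases hn : Even n <;> simp [Class.uFac, Nat.even_add_one, hn]

end Cfsg.Agent.S0284
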