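import Cfsg.Statements.S0285
import Cfsg.Agent.Class.Uni

set_option autoImplicit false
open Cfsg

namespace Cfsg.Agent.S0285

/-- The standard Hermitian form on F^n, |F| = q^2, has exactly (q^n - (-1)^n)(q^(n-1) + (-1)^n) non-zero isotropic vectors; counting the zero vector too: -/
theorem result {F : Type*} [Field F] [Fintype F] {q : ℕ} (hF : Fintype.card F = q ^ 2) (n : ℕ) : Nat.card {v : Fin n → F // Cfsg.hermForm n F q v v = 0} = (if Even n then (q ^ n - 1) * (q ^ (n - 1) + 1) else (q ^ n + 1) * (q ^ (n - 1) - 1)) + 1 := by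
  obtain ⟨σ, h⟩ := Class.exists_UF hF
  simp only [← Class.uFS_Q h]
  rcases n with _ | _ | n
  · have : Unique {v : Fin 0 → F // (Class.uFS h 0).Q v = 0} :=
      ⟨⟨⟨0, Class.FS.Q_zero _⟩⟩, fun v => Subtype.ext (Subsingleton.elim _ _)⟩
    simp
  · have h1 := Class.FS.herm_card_Q h (map_zero σ) 1 (Class.uFS_nondeg h (n := 1)) (by simp)
    have h2 : (q : ℤ) ≠ 0 := by have := h.two_le; positivity
    apply Nat.cast_injective (R := ℤ)
    apply mul_left_cancel₀ h2
    simp only [zero_add]
    rw [h1]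
    simp
    ring
  · rw [Class.FS.herm_card_zero h (Class.uFS_nondeg h) (n := n) (by simp)]
    by_cases hn : Even n <;> simp [Class.uFac, Nat.even_add_one, hn]

end Cfsg.Agent.S0285
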