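import Cfsg.Statements.S0289
import Cfsg.Agent.Class.Orth1

set_option autoImplicit false
open Cfsg

namespace Cfsg.Agent.S0289

/-- The hyperbolic quadratic form on F^(2m), m at least 1, has q^(2m-1) + q^m - q^(m-1) zeros (that is, (q^m - 1)(q^(m-1) + 1) non-zero isotropic vectors). -/
theorem result {F : Type*} [Field F] [Fintype F] {q : ℕ} (hF : Fintype.card F = q) (m : ℕ) (hm : 1 ≤ m) : Nat.card {v : Fin m ⊕ Fin m → F // Cfsg.quadFormPlus m F v = 0} = q ^ (2 * m - 1) + q ^ m - q ^ (m - 1) := by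
  rw [← hF, ← Nat.card_eq_fintype_card]
  obtain ⟨m, rfl⟩ : ∃ k, m = k + 1 := ⟨m - 1, by omega⟩
  have h := Class.FS.card_Q_even 0 (m + 1) (Class.plusOS_nondeg F (m + 1)) (Class.plusOS_finrank F _)
  rw [Class.FS.sg, if_pos (Class.plusOS_wi F _), if_pos rfl] at h
  have h0 : 0 < Nat.card F := Nat.card_pos
  have : Nat.card F ^ m ≤ Nat.card F ^ (m + 1) := Nat.pow_le_pow_right h0 (by omega)
  rw [show 2 * (m + 1) - 1 = 2 * m + 1 by omega, Nat.add_sub_cancel, Nat.add_sub_assoc this]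
  zify [this]
  apply mul_left_cancel₀ (a := (Nat.card F : ℤ)) (by exact_mod_cast h0.ne')
  exact h.trans (by ring)

end Cfsg.Agent.S0289
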