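import Cfsg.Statements.S0304
import Cfsg.Agent.Class.Exc4

set_option autoImplicit false
open Cfsg

namespace Cfsg.Agent.S0304

/-- In characteristic 2, O_{2m+1}(q) is isomorphic to Sp_{2m}(q). -/
theorem result {F : Type*} [Field F] [Fintype F] [CharP F 2] (m : ℕ) : Nonempty (Cfsg.isometryGroup F (Cfsg.quadFormOdd m F) ≃* Matrix.symplecticGroup (Fin m) F) := by
  have h2 : (2 : F) = 0 := CharP.cast_eq_zero F 2
  let f := Class.oddOS F m
  let ι : (Fin m ⊕ Fin m → F) →ₗ[F] (Unit ⊕ (Fin m ⊕ Fin m) → F) :=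
    { toFun := fun x => Sum.elim 0 x
      map_add' := fun _ _ => by ext (i | i) <;> simp
      map_smul' := fun _ _ => by ext (i | i) <;> simp }
  let π : (Unit ⊕ (Fin m ⊕ Fin m) → F) →ₗ[F] (Fin m ⊕ Fin m → F) := LinearMap.funLeft F F Sum.inr
  let e : Unit ⊕ (Fin m ⊕ Fin m) → F := Pi.single (.inl ()) 1
  have hB : ∀ x y, (Class.spFS m F).B (π x) (π y) = f.B x y := fun x y => by
    simp only [Class.spFS_B, Class.sympForm_eq, f, Class.oddOS_B, h2, zero_mul, zero_add]
    exact Finset.sum_congr rfl fun i _ => by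
      simp [π]; linear_combination -x (.inr (.inl i)) * y (.inr (.inr i)) * h2
  have hd : ∀ x, x = x (.inl ()) • e + ι (π x) := fun x => by ext (⟨⟨⟩⟩ | i) <;> simp [e, ι, π]
  have he : π e = 0 := by ext i; simp [π, e]
  have hQ : ∀ c x, f.Q (c • e + x) = c * c + f.Q x := fun c x => by
    rw [Class.FS.orth_Q_add, ← hB, map_smul, he, Class.FS.orth_Q_smul]
    simp [f, Class.oddOS_Q, e]
  have hinj : ∀ a b : F, a * a = b * b → a = b := fun a b h =>
    (mul_self_eq_mul_self_iff.1 h).elim id fun h => by linear_combination h - b * h2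
  have hg : ∀ g : f.Isom, g.1 e = e := fun g => by
    have h1 : π (g.1 e) = 0 := (Class.spFS_nondeg m F).eq_zero fun y => by
      rw [show y = π (g.1 (g.1.symm (ι y))) by simp; rfl, hB, Class.FS.Isom_B g.2, ← hB, he]; simp
    have h3 := Class.FS.Isom_Q g.2 e
    rw [hd (g.1 e), h1, map_zero, hQ] at h3
    rw [hd (g.1 e), h1, hinj (g.1 e (.inl ())) 1 (by simpa [f, Class.oddOS_Q, e] using h3)]; simp
  have hπ : ∀ (g : f.Isom) x, π (g.1 (ι (π x))) = π (g.1 x) := fun g x => by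
    conv_rhs => rw [hd x]
    simp [hg, he]
  obtain ⟨ρ, hρ⟩ := (Class.spFS m F).exists_hom_of_emb' (G := f.Isom) id Function.injective_id
    (fun g x => π (g.1 (ι x))) (fun _ => rfl) (fun g h x => (hπ g _).symm) fun g =>
      ⟨π ∘ₗ g.1.toLinearMap ∘ₗ ι, fun _ => rfl, fun x y =>
        (hB _ _).trans ((Class.FS.Isom_B g.2 _ _).trans (hB _ _).symm), fun _ => rfl⟩
  refine ⟨((Class.oEquiv f).trans (MulEquiv.ofBijective ρ ⟨(injective_iff_map_eq_one _).2
    fun g h => ?_, fun k => ?_⟩)).trans (Class.spEquiv m F).symm⟩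
  · refine Subtype.ext (LinearEquiv.ext fun x => ?_)
    have h1 : π (g.1 x) = π x := by rw [← hπ]; exact (hρ g _).symm.trans (by rw [h]; rfl)
    have h3 := Class.FS.Isom_Q g.2 x
    rw [hd (g.1 x), h1, hQ, congrArg f.Q (hd x), hQ, add_left_inj] at h3
    rw [hd (g.1 x), h1, hinj _ _ h3, ← hd x]; rfl
  · choose r hr using Class.exists_sq_char_two h2
    let l : (Fin m ⊕ Fin m → F) →ₗ[F] F :=
      { toFun := fun x => r (f.Q (ι x) + f.Q (ι (k.1 x)))
        map_add' := fun x y => hinj _ _ (by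
          have h4 : f.B (ι (k.1 x)) (ι (k.1 y)) = f.B (ι x) (ι y) :=
            (hB _ _).symm.trans ((Class.FS.Isom_B k.2 x y).trans (hB (ι x) (ι y)))
          simp only [map_add, Class.FS.orth_Q_add, hr, h4]
          linear_combination -hr (f.Q (ι x) + f.Q (ι (k.1 x))) - hr (f.Q (ι y) + f.Q (ι (k.1 y))) +
            (f.B (ι x) (ι y) - r (f.Q (ι x) + f.Q (ι (k.1 x))) * r (f.Q (ι y) + f.Q (ι (k.1 y)))) * h2)
        map_smul' := fun c x => hinj _ _ (by
          simp only [map_smul, Class.FS.orth_Q_smul, hr, RingHom.id_apply, smul_eq_mul]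
          linear_combination -c * c * hr (f.Q (ι x) + f.Q (ι (k.1 x)))) }
    let L : (Unit ⊕ (Fin m ⊕ Fin m) → F) →ₗ[F] (Unit ⊕ (Fin m ⊕ Fin m) → F) :=
      (LinearMap.proj (R := F) (φ := fun _ => F) (Sum.inl ()) + l ∘ₗ π).smulRight e + ι ∘ₗ k.1.toLinearMap ∘ₗ π
    have hL : ∀ x, L x = (x (.inl ()) + l (π x)) • e + ι (k.1 (π x)) := fun _ => rfl
    have hπL : ∀ x, π (L x) = k.1 (π x) := fun x => by rw [hL, map_add, map_smul, he]; simp; rfl
    refine ⟨⟨LinearEquiv.ofInjectiveEndo L ((injective_iff_map_eq_zero _).2 fun x hx => ?_),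
      Class.FS.orth_mem_Isom.2 fun x => ?_⟩, Subtype.ext (LinearEquiv.ext fun x => ?_)⟩
    · have h1 : π x = 0 := k.1.map_eq_zero_iff.1 (by rw [← hπL, hx, map_zero])
      rw [hd x, h1]
      simpa [hL, h1] using hx
    · change f.Q (L x) = _
      rw [hL, hQ, congrArg f.Q (hd x), hQ]
      linear_combination hr (f.Q (ι (π x)) + f.Q (ι (k.1 (π x)))) +
        (x (.inl ()) * l (π x) + f.Q (ι (k.1 (π x)))) * h2
    · exact (hρ _ x).trans (hπL _)

end Cfsg.Agent.S0304
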