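import Cfsg.Statements.S0305
import Cfsg.Agent.Class.Orth1

set_option autoImplicit false
open Cfsg

namespace Cfsg.Agent.S0305

/-- GO^+_2(q) is dihedral of order 2(q-1). -/
theorem result {F : Type*} [Field F] [Fintype F] {q : ℕ} (hF : Fintype.card F = q) : Nonempty (Cfsg.isometryGroup F (Cfsg.quadFormPlus 1 F) ≃* DihedralGroup (q - 1)) := by
  rw [← hF, ← Nat.card_eq_fintype_card]
  obtain ⟨u, hu, hQ⟩ := Class.FS.wi_one.1 (Class.plusOS_wi F 1)
  obtain ⟨v, h⟩ := (Class.plusOS_nondeg F 1).exists_partner' hQ hu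
  obtain ⟨e⟩ := h.dihedral (Class.plusOS_finrank F 1)
  exact ⟨(Class.oEquiv (Class.plusOS F 1)).trans e⟩

end Cfsg.Agent.S0305
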