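import Cfsg.Statements.S0307
import Cfsg.Agent.Class.Lin2
import Cfsg.Agent.Class.FS5

set_option autoImplicit false
open Cfsg

namespace Cfsg.Agent.S0307

/-- PSL_n(q) is normal in PGL_n(q) with cyclic quotient of order gcd(n, q-1): the image of the natural map PSL_n → PGL_n is the kernel of a surjective homomorphism onto the cyclic group of that order. -/
theorem result {F : Type*} [Field F] [Fintype F] {q : ℕ} (hF : Fintype.card F = q) (n : ℕ) (hn : 1 ≤ n) : ∃ g : Matrix.ProjGenLinGroup (Fin n) F →* Multiplicative (ZMod (Nat.gcd n (q - 1))), Function.Surjective g ∧ g.ker = (Matrix.ProjectiveSpecialLinearGroup.toPGL : Matrix.ProjectiveSpecialLinearGroup (Fin n) F →* Matrix.ProjGenLinGroup (Fin n) F).range := by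
  have : Nonempty (Fin n) := ⟨⟨0, by omega⟩⟩
  have key := Class.exists_zmod_quot Fˣ n
  rw [Nat.card_units, Nat.card_eq_fintype_card, hF] at key
  obtain ⟨ψ, h1, h2⟩ := key
  refine ⟨Matrix.ProjGenLinGroup.lift (ψ.comp Matrix.GeneralLinearGroup.det) ?_, fun y => ?_, ?_⟩
  · ext1 u
    exact h2.ge ⟨u, Units.ext (by simp)⟩
  · obtain ⟨u, rfl⟩ := h1 y
    obtain ⟨g, rfl⟩ := Matrix.GeneralLinearGroup.det_surjective (n := Fin n) u
    exact ⟨.mk g, rfl⟩
  · ext g
    obtain ⟨g, rfl⟩ := Matrix.ProjGenLinGroup.mk_surjective g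
    rw [Class.mem_range_toPGL, MonoidHom.mem_ker, Matrix.ProjGenLinGroup.lift_mk, MonoidHom.comp_apply,
      ← MonoidHom.mem_ker, h2, Fintype.card_fin]
    refine ⟨fun ⟨u, hu⟩ => ⟨u, congrArg Units.val hu⟩, fun ⟨u, hu⟩ => ⟨Units.mk0 u ?_, Units.ext hu⟩⟩
    rintro rfl
    exact g.det_ne_zero (by rw [← hu, zero_pow (by omega)])

end Cfsg.Agent.S0307
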