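import Cfsg.Statements.S0316
import Cfsg.Agent.Lie.BN

set_option autoImplicit false
open Cfsg

namespace Cfsg.Agent.S0316

open Cfsg.Agent.Lie Cfsg.Agent.Lie.BN


/-- The map `J ↦ P_J` is a lattice isomorphism from the power set of the set of distinguished generators onto the
subgroups containing `B`. -/
theorem result {G : Type*} [Group G] (P : Cfsg.BNPair G) :
    ∃ e : Set P.S ≃o {M : Subgroup G // P.B ≤ M},
      ∀ J : Set P.S, ((e J : {M : Subgroup G // P.B ≤ M}) : Subgroup G) = P.parabolic (Subtype.val '' J) := by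
  have hsub : ∀ J : Set P.S, Subtype.val '' J ⊆ P.S := by
    rintro J x ⟨y, -, rfl⟩; exact y.2
  let e : Set P.S ≃ {M : Subgroup G // P.B ≤ M} :=
    { toFun := fun J => ⟨P.parabolic (Subtype.val '' J), B_le_parabolic _⟩
      invFun := fun M => {i | (i : G) ∈ M.1}
      left_inv := by
        intro J
        ext i
        constructor
        · intro h
          obtain ⟨y, hy, e⟩ := mem_of_mem_parabolic (hsub J) i.2 h
          exact Subtype.ext e ▸ hy
        · intro h
          exact subset_parabolic _ ⟨i, h, rfl⟩
      right_inv := by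
        intro M
        apply Subtype.ext
        change P.parabolic _ = M.1
        conv_rhs => rw [eq_parabolic M.2]
        congr 1
        ext x
        constructor
        · rintro ⟨y, hy, rfl⟩; exact ⟨y.2, hy⟩
        · rintro ⟨h1, h2⟩; exact ⟨⟨x, h1⟩, h2, rfl⟩ }
  refine ⟨⟨e, ?_⟩, fun J => rfl⟩
  intro J K
  constructor
  · intro h i hi
    have h' : P.parabolic (Subtype.val '' J) ≤ P.parabolic (Subtype.val '' K) := h
    obtain ⟨y, hy, e⟩ := mem_of_mem_parabolic (hsub K) i.2 (h' (subset_parabolic _ ⟨i, hi, rfl⟩))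
    exact Subtype.ext e ▸ hy
  · intro h
    exact sup_le_sup_left (Subgroup.closure_mono (Set.image_mono h)) P.B

end Cfsg.Agent.S0316
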