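import Cfsg.Statements.S0320
import Cfsg.Agent.Lie.BN

set_option autoImplicit false
open Cfsg

namespace Cfsg.Agent.S0320

open Cfsg.Agent.Lie Cfsg.Agent.Lie.BN


/-- The Weyl group `W = N / (B ⊓ N)` of a (B,N)-pair, with its distinguished involutions, is a Coxeter system. -/
theorem result {G : Type*} [Group G] (P : Cfsg.BNPair G)
    [hN : ((P.B ⊓ P.N).subgroupOf P.N).Normal] :
    ∃ (M : CoxeterMatrix P.S) (cs : CoxeterSystem M (P.N ⧸ (P.B ⊓ P.N).subgroupOf P.N)),
      ∀ s : P.S, cs.simple s = QuotientGroup.mk (⟨(s : G), P.subset s.2⟩ : P.N) := by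
  let M : CoxeterMatrix P.S :=
    { M := fun i j => orderOf (s P i * s P j)
      isSymm := by
        ext i j
        change orderOf (s P j * s P i) = orderOf (s P i * s P j)
        rw [← orderOf_inv, mul_inv_rev, (invGen P).inv_s, (invGen P).inv_s]
      diagonal := fun i => by
        change orderOf (s P i * s P i) = 1
        rw [s_sq, orderOf_one]
      off_diagonal := fun i j hij h => by
        change orderOf (s P i * s P j) = 1 at h
        rw [orderOf_eq_one_iff, mul_eq_one_iff_eq_inv, (invGen P).inv_s] at h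
        exact hij (s_inj P h) }
  obtain ⟨cs, hcs⟩ := exch.exists_coxeterSystem (invGen P) M (fun i j => rfl)
  exact ⟨M, cs, hcs⟩

end Cfsg.Agent.S0320
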