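import Cfsg.Statements.S0321
import Cfsg.Agent.Lie.BN

set_option autoImplicit false
open Cfsg

namespace Cfsg.Agent.S0321

open Cfsg.Agent.Lie Cfsg.Agent.Lie.BN


/-- For `n ∈ N` not in `B`, the union `B ∪ B n B` is (the underlying set of) a subgroup exactly when `n` agrees
modulo `B ⊓ N` with one of the distinguished representatives; thus the distinguished involutions are
determined by `B` and `N`. -/
theorem result {G : Type*} [Group G] (P : Cfsg.BNPair G) {n : G}
    (hn : n ∈ P.N) (hnB : n ∉ P.B) :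
    (∃ H : Subgroup G, (H : Set G) = (P.B : Set G) ∪ DoubleCoset.doubleCoset n (P.B : Set G) P.B) ↔ ∃ s ∈ P.S, s⁻¹ * n ∈ P.B := by
  constructor
  · rintro ⟨H, hH⟩
    have hB : P.B ≤ H := fun b hb => by
      change b ∈ (H : Set G); rw [hH]; exact Or.inl hb
    have hnH : n ∈ H := by
      change n ∈ (H : Set G); rw [hH]; exact Or.inr (DoubleCoset.mem_doubleCoset_self _ _ _)
    have hne : (P.S ∩ H).Nonempty := by
      by_contra hc
      rw [Set.not_nonempty_iff_eq_empty] at hc
      rw [eq_parabolic hB, hc, Cfsg.BNPair.parabolic, Subgroup.closure_empty, sup_bot_eq] at hnH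
      exact hnB hnH
    obtain ⟨x, hx, hxH⟩ := hne
    refine ⟨x, hx, ?_⟩
    rw [hH] at hxH
    rcases hxH with h | h
    · exact absurd h (not_mem_B P hx)
    · rw [← C_π P ⟨n, hn⟩] at h
      exact (π_eq_iff P ⟨x, P.subset hx⟩ ⟨n, hn⟩).1 (eq_of_mem_C (self_mem_C ⟨x, P.subset hx⟩) h)
  · rintro ⟨x, hx, h⟩
    have e : s P ⟨x, hx⟩ = π P ⟨n, hn⟩ := (π_eq_iff P ⟨x, P.subset hx⟩ ⟨n, hn⟩).2 h
    refine ⟨PJ P {⟨x, hx⟩}, ?_⟩
    rw [← C_π P ⟨n, hn⟩, ← e]
    ext g
    constructor
    · rintro ⟨w, hw, hg⟩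
      have : w = 1 ∨ w = s P ⟨x, hx⟩ := by
        clear hg
        induction hw using Subgroup.closure_induction with
        | mem y hy => obtain ⟨i, rfl, rfl⟩ := hy; exact Or.inr rfl
        | one => exact Or.inl rfl
        | mul a b _ _ iha ihb =>
          rcases iha with rfl | rfl <;> rcases ihb with rfl | rfl <;> simp [s_sq]
        | inv a _ ih => rcases ih with rfl | rfl <;> simp [(invGen P).inv_s]
      rcases this with rfl | rfl
      · exact Or.inl (mem_C_one.1 hg)
      · exact Or.inr hg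
    · rintro (h | h)
      · exact ⟨1, Subgroup.one_mem _, mem_C_one.2 h⟩
      · exact ⟨_, Subgroup.subset_closure ⟨_, rfl, rfl⟩, h⟩

end Cfsg.Agent.S0321
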