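import Cfsg.Statements.S0322
import Cfsg.Agent.Lie.BN

set_option autoImplicit false
open Cfsg

namespace Cfsg.Agent.S0322

open Cfsg.Agent.Lie Cfsg.Agent.Lie.BN


/-- A group with a (B,N)-pair of rank one acts doubly transitively on the left cosets of `B`. -/
theorem result {G : Type*} [Group G] (P : Cfsg.BNPair G) (h : P.rank = 1) : MulAction.IsMultiplyPretransitive G (G ⧸ P.B) 2 := by
  obtain ⟨i, hi⟩ := (Nat.card_eq_one_iff_exists.1 h)
  have hw : ∀ w : W P, w = 1 ∨ w = s P i := by
    intro w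
    induction w using (invGen P).induction_left with
    | one => exact Or.inl rfl
    | step j w _ ih =>
      rw [hi j]
      rcases ih with rfl | rfl <;> simp [s_sq]
  have key : ∀ a b : G ⧸ P.B, a ≠ b → ∃ g : G, g • a = ((1 : G) : G ⧸ P.B) ∧
      g • b = ((i : G) : G ⧸ P.B) := by
    intro a b hab
    induction a using QuotientGroup.induction_on with | _ a => ?_
    induction b using QuotientGroup.induction_on with | _ b => ?_
    obtain ⟨w, hw'⟩ := exists_mem_C (P := P) (a⁻¹ * b)
    rcases hw w with rfl | rfl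
    · exact absurd (QuotientGroup.eq.2 (mem_C_one.1 hw')) hab
    · obtain ⟨x, hx, y, hy, e⟩ := (mem_C (sN P i) rfl).1 hw'
      refine ⟨x⁻¹ * a⁻¹, ?_, ?_⟩
      · rw [MulAction.Quotient.smul_mk, QuotientGroup.eq]; simpa using hx
      · rw [MulAction.Quotient.smul_mk, QuotientGroup.eq, smul_eq_mul, mul_assoc, e]
        have : (x⁻¹ * (x * (sN P i : G) * y))⁻¹ * i = y⁻¹ := by simp [sN, mul_assoc]
        rw [this]; exact P.B.inv_mem hy
  rw [MulAction.is_two_pretransitive_iff]
  intro a b c d hab hcd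
  obtain ⟨g, h1, h2⟩ := key a b hab
  obtain ⟨g', h1', h2'⟩ := key c d hcd
  exact ⟨g'⁻¹ * g, by rw [mul_smul, h1, ← h1', inv_smul_smul], by rw [mul_smul, h2, ← h2', inv_smul_smul]⟩

end Cfsg.Agent.S0322
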