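import Cfsg.Statements.S0330
import Cfsg.Agent.Lie.Sz2

set_option autoImplicit false
open Cfsg

namespace Cfsg.Agent.S0330

open Cfsg.Agent.Lie Cfsg.Agent.Lie.Suz


/-- A Sylow 2-subgroup `P` of the Suzuki group (field with `q = 2^(2m+1)` elements, `m ≥ 1`) has order `q²` and
exponent `4`; its centre coincides with its commutator subgroup and has order `q`. -/
theorem result {F : Type*} [Field F] [Fintype F] {m : ℕ} (hm : 1 ≤ m)
    (hF : Fintype.card F = 2 ^ (2 * m + 1)) (P : Sylow 2 (Cfsg.Sz F m)) :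
    Nat.card P = (2 ^ (2 * m + 1)) ^ 2 ∧ Monoid.exponent P = 4 ∧
      Subgroup.center P = commutator P ∧ Nat.card (Subgroup.center P) = 2 ^ (2 * m + 1) := by
  obtain ⟨_, θ, hθ, hθ', k, hk⟩ := exists_setup hm hF
  have : Fact (Nat.Prime 2) := ⟨Nat.prime_two⟩
  obtain ⟨S, hS, -⟩ := (szk hθ hθ' hk).exists_sylow hF
  have e : P ≃* UU hθ (m := m) := (P.equiv S).trans (MulEquiv.subgroupCongr hS)
  obtain ⟨h1, h2, h3⟩ := sylow_facts hθ hθ' hk
  have h4 : ∀ {G H : Type _} [Group G] [Group H] (e : G ≃* H), commutator G = (commutator H).comap e.toMonoidHom :=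
    fun e => by
      rw [commutator_def, commutator_def, ← Subgroup.map_top_of_surjective e.toMonoidHom e.surjective,
        ← Subgroup.map_commutator, Subgroup.comap_map_eq_self_of_injective e.injective]
  refine ⟨by rw [Nat.card_congr e.toEquiv, card_UU hθ hθ', Nat.card_eq_fintype_card, hF],
    by rw [Monoid.exponent_eq_of_mulEquiv e, h1], ?_,
    by rw [Nat.card_congr (Subgroup.centerCongr e).toEquiv, h3, Nat.card_eq_fintype_card, hF]⟩
  rw [h4 e, ← h2]
  ext x
  exact ⟨fun h => (Subgroup.centerCongr e ⟨x, h⟩).2, fun h => Subgroup.mem_center_iff.2 fun y =>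
    e.injective (by simpa using Subgroup.mem_center_iff.1 h (e y))⟩

end Cfsg.Agent.S0330
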