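import Cfsg.Statements.S0343
import Cfsg.Agent.JT.C7
import Cfsg.Agent.JT.LocM
import Cfsg.Agent.Class.Lin

set_option autoImplicit false
open Cfsg

namespace Cfsg.Agent.S0343

/-- If a finite simple group has abelian Sylow `2`-subgroups and an involution whose centraliser is isomorphic to
`Z₂ × PSL₂(F)` with `|F| = q ≥ 3`, then either `q = 3^(2m+1)` with `m ≥ 1` and the group has the small-Ree order
`q³(q³+1)(q-1)`, or `q = 4` or `q = 5` and the group is simple of the order of the smallest Janko group. -/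
theorem result {G : Type*} [Group G] [Finite G]
    [IsSimpleGroup G] (hab : ∀ P : Sylow 2 G, ∀ a b : P, a * b = b * a)
    {F : Type*} [Field F] [Fintype F] (hq : 3 ≤ Fintype.card F) (t : G) (ht : orderOf t = 2)
    (hC : Nonempty (Subgroup.centralizer ({t} : Set G) ≃* Multiplicative (ZMod 2) × Matrix.ProjectiveSpecialLinearGroup (Fin 2) F)) :
    (∃ m : ℕ, 1 ≤ m ∧ Fintype.card F = 3 ^ (2 * m + 1) ∧
        Nat.card G = (3 ^ (2 * m + 1)) ^ 3 * ((3 ^ (2 * m + 1)) ^ 3 + 1) * (3 ^ (2 * m + 1) - 1)) ∨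
      ((Fintype.card F = 4 ∨ Fintype.card F = 5) ∧ Cfsg.IsJ1 G) := by
  rcases JT.reduce hab hq t ht hC with h | ⟨h2, t', j, u, K, ρ, H⟩
  · exact Or.inr h
  · obtain ⟨p, hp, e, pp, he⟩ := FiniteField.card' F
    have hL := Class.card_PSL2 (F := F)
    rw [Nat.gcd_eq_left (by omega), he] at hL
    rw [he] at h2 ⊢
    exact Or.inl (H.main pp (by rintro rfl; exact h2 (dvd_pow_self 2 e.ne_zero)) hL)

end Cfsg.Agent.S0343
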