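import Cfsg.Statements.S0353
import Cfsg.Agent.Stn.W24

set_option autoImplicit false
open Cfsg

namespace Cfsg.Agent.S0353

open Finset Gol

/-- In an S(5, 8, 24), the symmetric difference of two blocks meeting in four points is a block. -/
theorem result {α : Type*} [Fintype α] [DecidableEq α] (hα : Fintype.card α = 24) {B : Set (Finset α)} (hB : Cfsg.IsSteinerSystem 5 8 B) {b c : Finset α} (hb : b ∈ B) (hc : c ∈ B) (h4 : (b ∩ c).card = 4) : symmDiff b c ∈ B := by
  obtain ⟨j, h⟩ := Stn.model24 hα hB
  have h1 := ((h.blk b).1 hb).2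
  have h2 := ((h.blk c).1 hc).2
  rw [union_empty] at h1 h2
  have e : (symmDiff b c).map j = symmDiff (b.map j) (c.map j) := by
    simp only [map_eq_image]
    exact image_symmDiff _ _ j.injective
  refine (h.blk _).2 ⟨by simp, ?_⟩
  rw [union_empty, mem_octads, card_map, e]
  refine ⟨(oct_cw h1).symmDiff (oct_cw h2), ?_⟩
  have := card_symmDiff' b c
  rw [hB.1 b hb, hB.1 c hc] at this
  omega

end Cfsg.Agent.S0353
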