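import Cfsg.Statements.S0358
import Cfsg.Agent.Gol.M24

set_option autoImplicit false
open Cfsg

namespace Cfsg.Agent.S0358

open Cfsg.Agent.Gol Finset


theorem result : Module.finrank (ZMod 2) Cfsg.golayCode = 12 := by
  have h1 : Nat.card golayCode = 4096 := by
    have := ncard_eq_countP (f := fun k => wd (toF (cw k))) (L := List.range 4096)
      List.nodup_range (fun a ha b hb e => cw_inj (List.mem_range.1 ha) (List.mem_range.1 hb) (wd_inj e))
      (S := (golayCode : Set (GolayPt → ZMod 2))) (q := fun _ => true)
      (fun x hx => by
        obtain ⟨k, hk, e⟩ := (mem_code_iff.1 hx).exists_cw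
        exact ⟨k, List.mem_range.2 hk, by rw [e, wd_support]⟩)
      (fun n hn => iff_of_true (cw_iff.1 (cw_cw (List.mem_range.1 hn))) rfl)
    rw [lcnt_eq] at this
    simp only [List.countP_true, List.length_range] at this
    exact this
  have h2 := Module.natCard_eq_pow_finrank (K := ZMod 2) (V := golayCode)
  rw [h1, Nat.card_zmod] at h2
  exact Nat.pow_right_injective (le_refl 2) (h2.symm.trans (by norm_num))

end Cfsg.Agent.S0358
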