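import Cfsg.Statements.S0362
import Cfsg.Agent.Gol.M24

set_option autoImplicit false
open Cfsg

namespace Cfsg.Agent.S0362

open Cfsg.Agent.Gol Finset


theorem result (v w : Cfsg.GolayPt → ZMod 2) (hv : v ∈ Cfsg.golayCode) (hw : w ∈ Cfsg.golayCode) : ∑ i, v i * w i = 0 := by
  have h := (mem_code_iff.1 hv).even_inter (mem_code_iff.1 hw)
  rw [← wd_support v, ← wd_support w]
  generalize support₂ v = s at *
  generalize support₂ w = t at *
  have : ∀ i, wd s i * wd t i = if i ∈ s ∩ t then 1 else 0 := fun i => by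
    by_cases h1 : i ∈ s <;> by_cases h2 : i ∈ t <;> simp [wd, h1, h2]
  simp only [this, sum_boole, filter_mem_eq_inter, univ_inter]
  exact (ZMod.natCast_eq_zero_iff _ _).2 (Nat.dvd_of_mod_eq_zero h)

end Cfsg.Agent.S0362
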