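import Cfsg.Statements.S0369
import Cfsg.Agent.Gol.M24

set_option autoImplicit false
open Cfsg

namespace Cfsg.Agent.S0369

open Cfsg.Agent.Gol Finset

theorem bas_oct : ∀ k ∈ basL, ∃ a ∈ octL, ∃ b ∈ octL, k = a ∨ k = a ^^^ b := by
  intro k hk
  have h : lall (fun k => lany (fun a => bif' (Nat.beq k a) true
    (bif' (isCW (Nat.xor k a)) (Nat.beq (pc (Nat.xor k a)) 8) false)) octL) basL = true := by
    decide +kernel
  obtain ⟨a, ha, h⟩ := lany_iff.1 (lall_iff.1 h k hk)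
  rw [bif'_eq, bif'_eq] at h
  split_ifs at h with h1 h2
  · exact ⟨a, ha, a, ha, Or.inl (Nat.eq_of_beq_eq_true h1)⟩
  · refine ⟨a, ha, k ^^^ a, mem_octL.2 ⟨h2, Nat.eq_of_beq_eq_true h⟩, Or.inr ?_⟩
    rw [Nat.xor_comm k a, ← Nat.xor_assoc, Nat.xor_self, Nat.zero_xor]


theorem result : Cfsg.M24 = Cfsg.setSystemAut Cfsg.octads := by
  ext g
  open scoped Pointwise in rw [MulAction.mem_stabilizer_set' (Set.toFinite octads)]
  refine ⟨fun h o ho => (oct_smul_iff ⟨g, h⟩).2 ho, fun h => mem_M24_of_bas fun k hk => ?_⟩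
  obtain ⟨a, ha, b, hb, rfl | rfl⟩ := bas_oct k hk
  · exact (h (octads_iff.2 ⟨_, ha, rfl⟩)).1
  · rw [toF_xor, smul_symmDiff']
    exact CW.symmDiff (h (octads_iff.2 ⟨_, ha, rfl⟩)).1 (h (octads_iff.2 ⟨_, hb, rfl⟩)).1

end Cfsg.Agent.S0369
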