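import Cfsg.Statements.S0371
import Cfsg.Agent.Gol.M24

set_option autoImplicit false
open Cfsg

namespace Cfsg.Agent.S0371

open Cfsg.Agent.Gol Finset


theorem result (u : (ZMod 23)ˣ) (hu : IsSquare u) : Equiv.optionCongr (Units.mulLeft u) ∈ Cfsg.M24 := by
  obtain ⟨r, rfl⟩ := hu
  have h2 : Equiv.optionCongr (Units.mulLeft (ZMod.unitOfCoprime 2 (by decide) : (ZMod 23)ˣ)) ∈ M24 := by
    rw [← pm_ext (c := 983435072843990828779021698901151808) (g := Equiv.optionCongr (Units.mulLeft (ZMod.unitOfCoprime 2 (by decide) : (ZMod 23)ˣ))) (by decide +kernel) (by decide +kernel)]; exact (pm _).2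
  have h3 : ∀ r : (ZMod 23)ˣ, ∃ k < 11, r * r = (ZMod.unitOfCoprime 2 (by decide) : (ZMod 23)ˣ) ^ k := by
    decide +kernel
  obtain ⟨k, _, e⟩ := h3 r
  rw [e]
  generalize (ZMod.unitOfCoprime 2 (by decide) : (ZMod 23)ˣ) = u at h2
  clear e
  induction k with
  | zero =>
    have : Equiv.optionCongr (Units.mulLeft (u ^ 0)) = 1 := by
      ext p : 1; cases p <;> simp
    rw [this]; exact one_mem _
  | succ k ih =>
    have : Equiv.optionCongr (Units.mulLeft (u ^ (k + 1))) =
        Equiv.optionCongr (Units.mulLeft (u ^ k)) * Equiv.optionCongr (Units.mulLeft u) := by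
      ext p : 1; cases p <;> simp [pow_succ, mul_assoc]
    rw [this]; exact mul_mem (ih (by omega)) h2

end Cfsg.Agent.S0371
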