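import Cfsg.Statements.S0374
import Cfsg.Agent.Gol.M24

set_option autoImplicit false
open Cfsg

namespace Cfsg.Agent.S0374

open Cfsg.Agent.Gol Finset


theorem result : Subgroup.closure {Equiv.optionCongr (Equiv.addRight (1 : ZMod 23)), Cfsg.projInv, Cfsg.cubeTwist} = Cfsg.M24 := by
  have h := congrArg (Subgroup.map M24.subtype) M24_gen
  rw [gsub, MonoidHom.map_closure, ← MonoidHom.range_eq_map, Subgroup.range_subtype] at h
  refine Eq.trans ?_ h
  congr 1
  ext g
  simp only [← pm_add, ← pm_inv, ← pm_cube, Set.mem_insert_iff, Set.mem_singleton_iff,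
    List.mem_cons, List.not_mem_nil, or_false, exists_eq_or_imp, exists_eq_left, Set.mem_image,
    Set.mem_ofPred_eq, Subgroup.coe_subtype]
  constructor
  · rintro (rfl | rfl | rfl)
    · exact ⟨_, Or.inl rfl, rfl⟩
    · exact ⟨_, Or.inr (Or.inl rfl), rfl⟩
    · exact ⟨_, Or.inr (Or.inr rfl), rfl⟩
  · rintro ⟨_, rfl | rfl | rfl, rfl⟩ <;> simp

end Cfsg.Agent.S0374
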