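import Cfsg.Statements.S0375
import Cfsg.Agent.Gol.Uniq

set_option autoImplicit false
open Cfsg

namespace Cfsg.Agent.S0375

open Cfsg.Agent.Gol Finset
open scoped Pointwise


theorem result (C : Submodule (ZMod 2) (Fin 24 → ZMod 2)) (hdim : Module.finrank (ZMod 2) C = 12) (horth : ∀ v ∈ C, ∀ w ∈ C, ∑ i, v i * w i = 0) (h4 : ∀ w ∈ C, 4 ∣ hammingNorm w) (hno4 : ∀ w ∈ C, hammingNorm w ≠ 4) : ∃ e : Fin 24 ≃ Cfsg.GolayPt, ∀ w : Cfsg.GolayPt → ZMod 2, w ∈ Cfsg.golayCode ↔ (fun i => w (e i)) ∈ C := by
  classical
  let ind : Finset (Fin 24) → Fin 24 → ZMod 2 := fun s i => if i ∈ s then 1 else 0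
  have hn : ∀ s, hammingNorm (ind s) = s.card := fun s => by
    unfold hammingNorm
    congr 1
    ext i
    simp [ind]
  have z2 : ∀ a : ZMod 2, a = if a ≠ 0 then 1 else 0 := by decide
  have sur : ∀ w : Fin 24 → ZMod 2, ind (univ.filter fun i => w i ≠ 0) = w := fun w =>
    funext fun i => by
      simp only [ind, mem_filter, mem_univ, true_and]
      exact (z2 _).symm
  have gc : GC (univ.filter fun s => ind s ∈ C) := by
    refine ⟨?_, fun s hs t ht => ?_, fun s hs => ?_, fun s hs => ?_, ?_⟩
    · have : ind ∅ = 0 := by funext i; simp [ind]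
      simp [this]
    · have : ind (symmDiff s t) = ind s + ind t := by
        funext i
        simp only [ind, mem_symmDiff, Pi.add_apply]
        by_cases a : i ∈ s <;> by_cases b : i ∈ t <;> simp [a, b]
        decide
      simp only [mem_filter, mem_univ, true_and, this] at *
      exact add_mem hs ht
    · have := h4 _ (mem_filter.1 hs).2
      rw [hn] at this
      omega
    · simpa [hn] using hno4 _ (mem_filter.1 hs).2
    · have h2 := Module.natCard_eq_pow_finrank (K := ZMod 2) (V := C)
      rw [hdim, Nat.card_zmod, Nat.card_eq_fintype_card] at h2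
      have := card_le_card_of_injOn (s := (univ : Finset C)) (t := univ.filter fun s => ind s ∈ C)
        (fun w => univ.filter fun i => w.1 i ≠ 0) (fun w _ => by simp only [coe_filter, mem_univ, true_and, Set.mem_setOf_eq, sur]; exact w.2)
        fun w _ w' _ e => Subtype.ext (by rw [← sur w, ← sur w']; exact congrArg ind e)
      rw [card_univ, h2] at this
      omega
  obtain ⟨e, he⟩ := gc.uniq (by simp)
  refine ⟨e.symm, fun w => ?_⟩
  rw [mem_code_iff, he, mem_filter]
  simp only [mem_univ, true_and]
  refine iff_of_eq (congrArg (· ∈ C) (funext fun i => ?_))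
  simp only [ind, mem_map_equiv, support₂, mem_filter, mem_univ, true_and]
  exact (z2 _).symm

end Cfsg.Agent.S0375
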