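import Cfsg.Statements.S0376
import Cfsg.Agent.Gol.M24

set_option autoImplicit false
open Cfsg

namespace Cfsg.Agent.S0376

open Cfsg.Agent.Gol Finset


theorem result (p : Cfsg.GolayPt) : Nat.card (MulAction.stabilizer Cfsg.M24 p) = 10200960 := by
  haveI : MulAction.IsPretransitive M24 GolayPt := ⟨fun x y => by
    obtain ⟨g, rfl⟩ := std1 x
    obtain ⟨h, rfl⟩ := std1 y
    exact ⟨h * g⁻¹, by rw [mul_smul, inv_smul_smul]⟩⟩
  have h := (MulAction.stabilizer M24 p).card_mul_index
  rw [MulAction.index_stabilizer_of_transitive, card_M24, Nat.card_eq_fintype_card (α := GolayPt), card_pt] at h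
  omega

end Cfsg.Agent.S0376
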