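import Cfsg.Statements.S0377
import Cfsg.Agent.Gol.Simp

set_option autoImplicit false
open Cfsg

namespace Cfsg.Agent.S0377

open Cfsg.Agent.Gol Finset
open scoped Pointwise


theorem result (p : Cfsg.GolayPt) : IsSimpleGroup (MulAction.stabilizer Cfsg.M24 p) := by
  obtain ⟨g, rfl⟩ := std1 p
  have := simple_m23
  exact (conjEquiv g (K := St 8388608 []) fun x => by simp [mem_St, toF_f1, cj_iff]).symm.isSimpleGroup

end Cfsg.Agent.S0377
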