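import Cfsg.Statements.S0378
import Cfsg.Agent.Gol.Flag

set_option autoImplicit false
open Cfsg

namespace Cfsg.Agent.S0378

open Cfsg.Agent.Gol Finset


theorem result (p q : Cfsg.GolayPt) (hpq : p ≠ q) : Nat.card ↥(MulAction.stabilizer Cfsg.M24 p ⊓ MulAction.stabilizer Cfsg.M24 q) = 443520 := by
  obtain ⟨g, rfl, rfl⟩ := std2 hpq
  rw [← card_m22]
  exact (Nat.card_congr (conjEquiv g fun x => by simp [mem_St, toF_f2, cj_iff]).toEquiv).symm

end Cfsg.Agent.S0378
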