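import Cfsg.Statements.S0379
import Cfsg.Agent.Gol.Simp

set_option autoImplicit false
open Cfsg

namespace Cfsg.Agent.S0379

open Cfsg.Agent.Gol Finset
open scoped Pointwise


theorem result (p q : Cfsg.GolayPt) (hpq : p ≠ q) : IsSimpleGroup ↥(MulAction.stabilizer Cfsg.M24 p ⊓ MulAction.stabilizer Cfsg.M24 q) := by
  obtain ⟨g, rfl, rfl⟩ := std2 hpq
  have := simple_m22
  exact (conjEquiv g (K := St 8388609 []) fun x => by simp [mem_St, toF_f2, cj_iff]).symm.isSimpleGroup

end Cfsg.Agent.S0379
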