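import Cfsg.Statements.S0380
import Cfsg.Agent.Gol.Simp

set_option autoImplicit false
open Cfsg

namespace Cfsg.Agent.S0380

open Cfsg.Agent.Gol Finset
open scoped Pointwise


theorem result (p q r : Cfsg.GolayPt) (hpq : p ≠ q) (hpr : p ≠ r) (hqr : q ≠ r) (F : Type) [Field F] [Fintype F] (hF : Fintype.card F = 4) : Nonempty (↥(MulAction.stabilizer Cfsg.M24 p ⊓ MulAction.stabilizer Cfsg.M24 q ⊓ MulAction.stabilizer Cfsg.M24 r) ≃* Matrix.ProjectiveSpecialLinearGroup (Fin 3) F) := by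
  obtain ⟨g, rfl, rfl, rfl⟩ := std3 (a := p) (b := q) (c := r) (by simp [*])
  obtain ⟨e⟩ := m21_iso F hF
  exact ⟨(conjEquiv g (K := St 8388611 []) fun x => by simp [mem_St, toF_f3, cj_iff, and_assoc]).symm.trans e⟩

end Cfsg.Agent.S0380
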