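import Cfsg.Statements.S0381
import Cfsg.Agent.Gol.Flag

set_option autoImplicit false
open Cfsg

namespace Cfsg.Agent.S0381

open Cfsg.Agent.Gol Finset
open scoped Pointwise


theorem result (o : Finset Cfsg.GolayPt) (ho : o ∈ Cfsg.octads) : Nat.card ↥(Cfsg.M24 ⊓ fixingSubgroup (Equiv.Perm Cfsg.GolayPt) (o : Set Cfsg.GolayPt)) = 16 ∧ ∀ g ∈ Cfsg.M24 ⊓ fixingSubgroup (Equiv.Perm Cfsg.GolayPt) (o : Set Cfsg.GolayPt), g * g = 1 := by
  obtain ⟨g, rfl⟩ := std_oct ho
  let e : St 8536111 [] ≃* ↥(Cfsg.M24 ⊓ fixingSubgroup (Equiv.Perm Cfsg.GolayPt) ((g • toF 8536111 : Finset GolayPt) : Set Cfsg.GolayPt)) :=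
    conjEquiv' g inf_le_left fun x => by
      rw [Subgroup.mem_inf, and_iff_right (g * x * g⁻¹).2, mem_fixingSubgroup_iff, mem_St]
      simp only [List.not_mem_nil, false_imp_iff, implies_true, and_true, mem_coe]
      constructor
      · intro h p hp
        exact (cj_iff g x p p).1 (h _ (smul_mem_smul_finset hp))
      · intro h p hp
        obtain ⟨q, hq, rfl⟩ := mem_smul_finset.1 hp
        exact cj g (h q hq)
  refine ⟨by rw [← card_e16]; exact (Nat.card_congr e.toEquiv).symm, fun x hx => ?_⟩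
  obtain ⟨y, hy⟩ := e.surjective ⟨x, hx⟩
  have h1 : y * y = 1 := Subtype.ext (e16_sq y y.2)
  have := congrArg e h1
  rw [map_mul, map_one, hy] at this
  exact congrArg Subtype.val this

end Cfsg.Agent.S0381
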