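import Cfsg.Statements.S0384
import Cfsg.Agent.Gol.Flag

set_option autoImplicit false
open scoped Pointwise
open Cfsg

namespace Cfsg.Agent.S0384

open Cfsg.Agent.Gol Finset
open scoped Pointwise


theorem result (d : Finset Cfsg.GolayPt) (hd : d ∈ Cfsg.dodecads) (x y : Fin 5 ↪ Cfsg.GolayPt) (hx : ∀ i, x i ∈ d) (hy : ∀ i, y i ∈ d) : ∃! g : MulAction.stabilizer Cfsg.M24 d, ∀ i, ((g : Cfsg.M24) : Equiv.Perm Cfsg.GolayPt) (x i) = y i := by
  have key : ∀ x : Fin 5 ↪ GolayPt, (∀ i, x i ∈ d) →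
      ∃ g : M24, g • toF 340831 = d ∧ ∀ i : Fin 5, g • pt i = x i := by
    intro x hx
    obtain ⟨g, h0, h1, h2, h3, h4, h5⟩ := dod_pts hd (a := x 0) (b := x 1) (c := x 2) (d := x 3)
      (e := x 4) (List.nodup_ofFn_ofInjective x.injective) (by simp [hx])
    refine ⟨g, h0, fun i => ?_⟩
    fin_cases i <;> assumption
  obtain ⟨g, g0, hg⟩ := key x hx
  obtain ⟨h, h0, hh⟩ := key y hy
  refine ⟨⟨h * g⁻¹, by rw [MulAction.mem_stabilizer_iff, ← g0, tr2, h0, g0]⟩, fun i => ?_, fun k hk => ?_⟩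
  · show (h * g⁻¹) • x i = y i
    rw [← hg, tr2, hh]
  · have : h⁻¹ * k * g ∈ St 31 [340831] := by
      refine ⟨fun p hp => ?_, fun s hs => ?_⟩
      · have : ∀ p ∈ toF 31, ∃ i : Fin 5, pt i = p := by decide +kernel
        obtain ⟨i, rfl⟩ := this p hp
        rw [mul_smul, mul_smul, hg, inv_smul_eq_iff, hh]; exact hk i
      · rw [List.mem_singleton.1 hs, mul_smul, mul_smul, g0, k.2, inv_smul_eq_iff, h0]
    rw [m12_sharp, Subgroup.mem_bot] at this
    ext : 1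
    show (k : M24) = h * g⁻¹
    rw [mul_assoc, inv_mul_eq_one] at this
    rw [this, mul_inv_cancel_right]

end Cfsg.Agent.S0384
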