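import Cfsg.Statements.S0385
import Cfsg.Agent.Gol.Flag

set_option autoImplicit false
open Cfsg

namespace Cfsg.Agent.S0385

open Cfsg.Agent.Gol Finset


theorem result (d : Finset Cfsg.GolayPt) (hd : d ∈ Cfsg.dodecads) : Cfsg.IsSteinerSystem 5 6 {h : Finset {p : Cfsg.GolayPt // p ∈ d} | ∃ o ∈ Cfsg.octads, (o ∩ d).card = 6 ∧ h = Finset.subtype (fun p => p ∈ d) o} := by
  have h6 : ∀ o ∈ octads, 5 ≤ (o ∩ d).card → (o ∩ d).card = 6 := fun o ho h => by
    have h1 := CW.even_inter ho.1 hd.1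
    have h2 := card_symmDiff' o d
    have h3 := (CW.symmDiff ho.1 hd.1).card
    have h4 : (o ∩ d).card ≤ o.card := card_le_card inter_subset_left
    rw [ho.2, hd.2] at *
    omega
  constructor
  · rintro _ ⟨o, _, h, rfl⟩
    rw [card_subtype, filter_mem_eq_inter, h]
  · intro s hs
    obtain ⟨o, ⟨ho, h1⟩, h2⟩ := steiner_octads.2 (s.map (Function.Embedding.subtype _)) (by simpa using hs)
    have h3 : s.map (Function.Embedding.subtype _) ⊆ o ∩ d := subset_inter h1 fun p hp => by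
      obtain ⟨q, _, rfl⟩ := mem_map.1 hp
      exact q.2
    refine ⟨o.subtype _, ⟨⟨o, ho, h6 o ho (by simpa [hs] using card_le_card h3), rfl⟩, fun p hp => ?_⟩, ?_⟩
    · exact mem_subtype.2 (h1 (mem_map_of_mem _ hp))
    · rintro _ ⟨⟨o', ho', _, rfl⟩, h⟩
      rw [h2 o' ⟨ho', fun p hp => ?_⟩]
      obtain ⟨q, hq, rfl⟩ := mem_map.1 hp
      exact mem_subtype.1 (h hq)

end Cfsg.Agent.S0385
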