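import Cfsg.Statements.S0386
import Cfsg.Agent.Gol.Flag

set_option autoImplicit false
open Cfsg

namespace Cfsg.Agent.S0386

open Cfsg.Agent.Gol Finset
open scoped Pointwise


theorem result (d : Finset Cfsg.GolayPt) (hd : d ∈ Cfsg.dodecads) : {o : Finset Cfsg.GolayPt | o ∈ Cfsg.octads ∧ (o ∩ d).card = 6}.ncard = 132 ∧ {o : Finset Cfsg.GolayPt | o ∈ Cfsg.octads ∧ (o ∩ d).card = 2}.ncard = 132 ∧ {o : Finset Cfsg.GolayPt | o ∈ Cfsg.octads ∧ (o ∩ d).card = 4}.ncard = 495 := by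
  obtain ⟨g, rfl⟩ := std_dod hd
  have key : ∀ k, {o : Finset GolayPt | o ∈ octads ∧ (o ∩ g • toF 340831).card = k}.ncard =
      lcnt (fun n => decide (pc (n &&& 340831) = k)) octL := fun k => by
    rw [ncard_smul_eq g]
    refine ncard_oct' _ (fun n => ?_) (fun x hx => (oct_smul_iff g).1 hx.1)
    simp only [Set.mem_ofPred_eq, oct_smul_iff, ← smul_finset_inter, card_smul_finset, card_inter_toF]
  simp only [key]
  decide +kernel

end Cfsg.Agent.S0386
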