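import Cfsg.Statements.S0387
import Cfsg.Agent.Gol.Flag

set_option autoImplicit false
open scoped Pointwise
open Cfsg

namespace Cfsg.Agent.S0387

open Cfsg.Agent.Gol Finset


theorem result (d : Finset Cfsg.GolayPt) (hd : d ∈ Cfsg.dodecads) (p : Cfsg.GolayPt) (hp : p ∈ d) : Nat.card ↥(MulAction.stabilizer Cfsg.M24 d ⊓ MulAction.stabilizer Cfsg.M24 p) = 7920 := by
  obtain ⟨g, rfl, rfl⟩ := dod_pt hd hp
  rw [← card_m11]
  exact (Nat.card_congr (conjEquiv g fun x => by simp [mem_St, toF_1, cj_iff, and_comm]).toEquiv).symm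

end Cfsg.Agent.S0387
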