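import Cfsg.Statements.S0389
import Cfsg.Agent.Gol.Flag

set_option autoImplicit false
open scoped Pointwise
open Cfsg

namespace Cfsg.Agent.S0389

open Cfsg.Agent.Gol Finset


theorem result (d : Finset Cfsg.GolayPt) (hd : d ∈ Cfsg.dodecads) (p : Cfsg.GolayPt) (hp : p ∈ d) (x y : Fin 3 ↪ Cfsg.GolayPt) (hx : ∀ i, x i ∉ d) (hy : ∀ i, y i ∉ d) : ∃ g ∈ MulAction.stabilizer Cfsg.M24 d ⊓ MulAction.stabilizer Cfsg.M24 p, ∀ i, (g : Equiv.Perm Cfsg.GolayPt) (x i) = y i := by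
  have key : ∀ x : Fin 3 ↪ GolayPt, (∀ i, x i ∉ d) →
      ∃ g : M24, g • toF 340831 = d ∧ g • pt 0 = p ∧ ∀ i : Fin 3, g • pt (![23, 5, 7] i) = x i := by
    intro x hx
    obtain ⟨g, h0, h1, h2, h3, h4⟩ := m11_pts hd hp (a := x 0) (b := x 1) (c := x 2)
      (List.nodup_ofFn_ofInjective x.injective) (by simp [hx])
    refine ⟨g, h0, h1, fun i => ?_⟩
    fin_cases i <;> assumption
  obtain ⟨g, g0, g1, hg⟩ := key x hx
  obtain ⟨h, h0, h1, hh⟩ := key y hy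
  refine ⟨h * g⁻¹, ⟨?_, ?_⟩, fun i => ?_⟩
  · show (h * g⁻¹) • d = d
    rw [← g0, tr2, h0, g0]
  · show (h * g⁻¹) • p = p
    rw [← g1, tr2, h1, g1]
  · show (h * g⁻¹) • x i = y i
    rw [← hg, tr2, hh]

end Cfsg.Agent.S0389
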