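import Cfsg.Statements.S0393
import Cfsg.Agent.Lee.Lat

set_option autoImplicit false
open Cfsg

namespace Cfsg.Agent.S0393

open Cfsg.Agent.Gol Finset
open scoped Pointwise
open Cfsg.Agent.Lee


theorem result : Cfsg.leechLattice.index = 2 ^ 36 := by
  exact index_lat

end Cfsg.Agent.S0393
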