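import Cfsg.Statements.S0412
import Cfsg.Agent.Stn.W24

set_option autoImplicit false
open Cfsg

namespace Cfsg.Agent.S0412

open Finset Gol

/-- Aut of an S(5, 8, 24) is simple of order 244823040 and 5-transitive on points. -/
theorem result {α : Type*} [Fintype α] [DecidableEq α] (hα : Fintype.card α = 24) {B : Set (Finset α)} (hB : Cfsg.IsSteinerSystem 5 8 B) : Cfsg.IsM24 (Cfsg.setSystemAut B) ∧ MulAction.IsMultiplyPretransitive (Cfsg.setSystemAut B) α 5 := by
  obtain ⟨j, h⟩ := Stn.model24 hα hB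
  obtain ⟨φ, hφ⟩ := Stn.aut24 h
  have := simple_M24
  let ψ := φ.symm.trans Subgroup.topEquiv
  refine ⟨⟨ψ.isSimpleGroup, by rw [Nat.card_congr ψ.toEquiv, card_M24]⟩,
    Stn.multi_of φ hφ 5 fun x y => ?_⟩
  obtain ⟨g, hg⟩ := MulAction.exists_smul_eq M24 (x.trans j) (y.trans j)
  exact ⟨g, trivial, fun i => congrFun (congrArg DFunLike.coe hg) i⟩

end Cfsg.Agent.S0412
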