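import Cfsg.Statements.S0413
import Cfsg.Agent.Stn.W24

set_option autoImplicit false
open Cfsg

namespace Cfsg.Agent.S0413

open Finset Gol

/-- Aut of an S(4, 7, 23) is simple of order 10200960 and 4-transitive. -/
theorem result {α : Type*} [Fintype α] [DecidableEq α] (hα : Fintype.card α = 23) {B : Set (Finset α)} (hB : Cfsg.IsSteinerSystem 4 7 B) : Cfsg.IsM23 (Cfsg.setSystemAut B) ∧ MulAction.IsMultiplyPretransitive (Cfsg.setSystemAut B) α 4 := by
  obtain ⟨j, h⟩ := Stn.model23 hα hB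
  obtain ⟨φ, hφ⟩ := Stn.aut23 h
  have := simple_m23
  refine ⟨⟨φ.symm.isSimpleGroup, by rw [← Nat.card_congr φ.toEquiv, card_m23]⟩,
    Stn.multi_of φ hφ 4 fun x y => ?_⟩
  have hj : ∀ a, pt 23 ≠ j a := fun a e => by
    have := (h.rng _).2 ⟨a, rfl⟩
    rw [← e, toF_f1] at this
    simp at this
  have key : ∀ x : Fin 4 ↪ α, ∃ g : M24, g • pt 23 = pt 23 ∧
      ∀ i : Fin 4, g • pt (![0, 1, 2, 3] i) = j (x i) := by
    intro x
    obtain ⟨g, h1, h2, h3, h4, h5⟩ := std5 (a := pt 23) (b := j (x 0)) (c := j (x 1)) (d := j (x 2))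
      (e := j (x 3)) (List.nodup_cons.2 ⟨by simp [hj], List.nodup_ofFn_ofInjective (x.trans j).injective⟩)
    refine ⟨g, h1, fun i => ?_⟩
    fin_cases i <;> assumption
  obtain ⟨g, g1, hg⟩ := key x
  obtain ⟨k, k1, hk⟩ := key y
  refine ⟨k * g⁻¹, mem_St.2 ⟨fun p hp => ?_, by simp⟩, fun i => ?_⟩
  · rw [toF_f1, mem_singleton] at hp
    rw [hp, mul_smul, inv_smul_eq_iff.2 g1.symm, k1]
  · rw [← hg, ← hk, mul_smul, inv_smul_smul]

end Cfsg.Agent.S0413
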