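import Cfsg.Statements.S0414
import Cfsg.Agent.Stn.W24

set_option autoImplicit false
open Cfsg

namespace Cfsg.Agent.S0414

open Finset Gol

/-- Aut of an S(3, 6, 22) has order 887040, is 3-transitive, and contains a simple subgroup of index 2. -/
theorem result {α : Type*} [Fintype α] [DecidableEq α] (hα : Fintype.card α = 22) {B : Set (Finset α)} (hB : Cfsg.IsSteinerSystem 3 6 B) : Nat.card (Cfsg.setSystemAut B) = 887040 ∧ MulAction.IsMultiplyPretransitive (Cfsg.setSystemAut B) α 3 ∧ ∃ H : Subgroup (Cfsg.setSystemAut B), H.index = 2 ∧ Cfsg.IsM22 H := by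
  obtain ⟨j, h⟩ := Stn.model22 hα hB
  obtain ⟨φ, hφ⟩ := Stn.aut22 h
  have := simple_m22
  let ψ := ((φ.subgroupMap ((St 8388609 []).subgroupOf (St 0 [8388609]))).symm).trans
    (Subgroup.subgroupOfEquivOfLe Stn.St22_le)
  refine ⟨by rw [← Nat.card_congr φ.toEquiv, Stn.card_m22_2], Stn.multi_of φ hφ 3 fun x y => ?_,
    _, (Subgroup.index_map_equiv _ φ).trans Stn.index_m22, ψ.isSimpleGroup,
    by rw [Nat.card_congr ψ.toEquiv, card_m22]⟩
  have hj : ∀ a, pt 23 ≠ j a ∧ pt 0 ≠ j a := fun a => by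
    have := (h.rng _).2 ⟨a, rfl⟩
    rw [toF_f2] at this
    simp only [mem_compl, mem_insert, mem_singleton, not_or] at this
    exact ⟨Ne.symm this.1, Ne.symm this.2⟩
  have key : ∀ x : Fin 3 ↪ α, ∃ g : M24, g • pt 23 = pt 23 ∧ g • pt 0 = pt 0 ∧
      ∀ i : Fin 3, g • pt (![1, 2, 3] i) = j (x i) := by
    intro x
    obtain ⟨g, h1, h2, h3, h4, h5⟩ := std5 (a := pt 23) (b := pt 0) (c := j (x 0)) (d := j (x 1))
      (e := j (x 2)) (List.nodup_cons.2 ⟨by simp [hj, Stn.ne_23_0], List.nodup_cons.2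
        ⟨by simp [hj], List.nodup_ofFn_ofInjective (x.trans j).injective⟩⟩)
    refine ⟨g, h1, h2, fun i => ?_⟩
    fin_cases i <;> assumption
  obtain ⟨g, g1, g2, hg⟩ := key x
  obtain ⟨k, k1, k2, hk⟩ := key y
  refine ⟨k * g⁻¹, Stn.St22_le (mem_St.2 ⟨fun p hp => ?_, by simp⟩), fun i => ?_⟩
  · rw [toF_f2, mem_insert, mem_singleton] at hp
    rcases hp with rfl | rfl
    · rw [mul_smul, inv_smul_eq_iff.2 g1.symm, k1]
    · rw [mul_smul, inv_smul_eq_iff.2 g2.symm, k2]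
  · rw [← hg, ← hk, mul_smul, inv_smul_smul]

end Cfsg.Agent.S0414
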