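import Cfsg.Statements.S0419
import Cfsg.Agent.Perm.Sharp

set_option autoImplicit false
open Cfsg

namespace Cfsg.Agent.S0419

open Cfsg.Agent.Perm Subgroup MulAction
open scoped Pointwise


/-- A sharply 5-transitive group of degree 12 is simple of order 95040. -/
theorem result {α : Type*} [Fintype α] [DecidableEq α] (hα : Fintype.card α = 12) (G : Subgroup (Equiv.Perm α)) [MulAction.IsMultiplyPretransitive G α 5] (hsharp : ∀ x : Fin 5 ↪ α, MulAction.stabilizer G x = ⊥) : Cfsg.IsM12 G := by
  rw [← Nat.card_eq_fintype_card] at hα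
  have h1 : KT α (⊤ : Subgroup G) 5 := kt_top_of_multi inferInstance (by omega)
  have h2 := shp_of_emb hsharp
  have h3 : Nat.card G = 95040 := by rw [h2.card_eq h1 (by omega), hα]; rfl
  have : Nontrivial G := Finite.one_lt_card_iff_nontrivial.1 (by omega)
  refine ⟨⟨fun N hN => or_iff_not_imp_left.2 fun h => ?_⟩, h3⟩
  have h4 := (jordan_normal (Ω := α) (k := 4) (by norm_num) inferInstance (by omega) h).resolve_right
    (by simp)
  obtain ⟨a⟩ := (Nat.card_pos_iff.1 (show 0 < Nat.card α by omega)).1
  have h5 := card_ofFixing (G := G) {a}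
  have h6 := sharp_eleven (h1.fixing_top (t := {a}) (m := 4)) (h2.fixing (t := {a}) (m := 4))
    (by rw [Finset.card_singleton] at h5; omega)
  rw [← sup_stab_eq_top (h4.of_le (by norm_num)) a, eq_comm, sup_eq_left]
  rcases h6.eq_bot_or_eq_top_of_normal (N.subgroupOf _) inferInstance with e | e
  · obtain ⟨b, ba, -⟩ := exists_ne_two (by omega) a a
    obtain ⟨c, ca, cb⟩ := exists_ne_two (by omega) a b
    obtain ⟨g, g1, g2, g3⟩ := h4.two (by norm_num) ba.symm ca.symm
    have := e.le (x := ⟨g, (mem_fixingSubgroup_iff _).2 (by simpa using g2)⟩) g1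
    rw [show g = 1 from congrArg Subtype.val this, one_smul] at g3
    exact absurd g3.symm cb
  · exact fun g hg => subgroupOf_eq_top.1 e ((mem_fixingSubgroup_iff _).2 (by simpa using hg))

end Cfsg.Agent.S0419
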