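import Cfsg.Statements.S0422
import Cfsg.Agent.H3.M24b
import Cfsg.Agent.H3.M24f
import Cfsg.Agent.H3.No3840
import Cfsg.Agent.H3.M24w9
import Cfsg.Agent.S0364
import Cfsg.Agent.S0365

set_option autoImplicit false
open Cfsg

namespace Cfsg.Agent.S0422

theorem aux {G : Type*} [Group G] [Finite G] [IsSimpleGroup G] (h : Nat.card G = 244823040) :
    Nonempty (G ≃* H3.KP 24 H3.g24) := by
  have := Fintype.ofFinite G
  exact H3.m24_equiv_of h (fun hy => H3.m24_11 h hy) (H3.no3840 h fun hy => H3.m24_11 h hy)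
    (H3.bw9 h (fun hy => H3.m24_11 h hy) (H3.no3840 h fun hy => H3.m24_11 h hy))

/-- Simple groups of order 244823040 are all isomorphic to the concrete largest Mathieu group. -/
theorem result {G : Type*} [Group G] [Finite G] (hG : Cfsg.IsM24 G) : Nonempty (G ≃* Cfsg.M24) := by
  have := hG.1
  have := S0365.result
  obtain ⟨e1⟩ := aux hG.2
  obtain ⟨e2⟩ := aux S0364.result
  exact ⟨e1.trans e2.symm⟩

end Cfsg.Agent.S0422
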