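import Cfsg.Statements.S0423
import Cfsg.Agent.HJ.Simp

set_option autoImplicit false
open Cfsg

namespace Cfsg.Agent.S0423

/-- Existence of a simple group of order 604800. -/
theorem result : ∃ G : Subgroup (Equiv.Perm (Fin 100)), Cfsg.IsJ2 G := by
    let G := (HJ.clo HJ.gG).comap (HJ.PC.equiv (w := 7) (n := 100)).toMonoidHom
    let φ : G →* HJ.Γ := (HJ.PC.equiv (w := 7) (n := 100)).toMonoidHom.comp G.subtype
    have hi : Function.Injective φ := HJ.PC.equiv.injective.comp G.subtype_injective
    have hr : φ.range = HJ.clo HJ.gG := by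
      rw [← MonoidHom.map_range, Subgroup.range_subtype]
      exact Subgroup.map_comap_eq_self_of_surjective HJ.PC.equiv.surjective _
    exact ⟨G, HJ.simple_of_hom hi hr, by
      rw [← HJ.cardG, ← hr, Nat.card_congr (MonoidHom.ofInjective hi).toEquiv]⟩

end Cfsg.Agent.S0423
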