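import Cfsg.Statements.S0425
import Cfsg.Agent.Stn.W12

set_option autoImplicit false
open Cfsg

namespace Cfsg.Agent.S0425

open Finset Gol
open scoped Pointwise

/-- Aut of an S(5, 6, 12) is simple of order 95040 and sharply 5-transitive on points. -/
theorem result {α : Type*} [Fintype α] [DecidableEq α] (hα : Fintype.card α = 12) {B : Set (Finset α)} (hB : Cfsg.IsSteinerSystem 5 6 B) : Cfsg.IsM12 (Cfsg.setSystemAut B) ∧ MulAction.IsMultiplyPretransitive (Cfsg.setSystemAut B) α 5 ∧ ∀ x : Fin 5 ↪ α, MulAction.stabilizer (Cfsg.setSystemAut B) x = ⊥ := by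
  obtain ⟨j, h⟩ := Stn.model12 hα hB
  obtain ⟨φ, hφ⟩ := Stn.aut12 h
  have := simple_m12
  have hj : ∀ x : Fin 5 ↪ α, ∀ p ∈ [j (x 0), j (x 1), j (x 2), j (x 3), j (x 4)], p ∈ toF 340831 :=
    fun x p hp => by
      simp only [List.mem_cons, List.not_mem_nil, or_false] at hp
      rcases hp with rfl | rfl | rfl | rfl | rfl <;> exact (h.rng _).2 ⟨_, rfl⟩
  refine ⟨⟨φ.symm.isSimpleGroup, by rw [← Nat.card_congr φ.toEquiv, card_m12]⟩,
    Stn.multi_of φ hφ 5 fun x y => ?_, Stn.sharp_of φ hφ 5 fun x g hg h => ?_⟩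
  · have key : ∀ x : Fin 5 ↪ α, ∃ g : M24, g • toF 340831 = toF 340831 ∧
        ∀ i : Fin 5, g • pt (![0, 1, 2, 3, 4] i) = j (x i) := by
      intro x
      obtain ⟨g, h0, h1, h2, h3, h4, h5⟩ := dod_pts D0_mem
        (List.nodup_ofFn_ofInjective (x.trans j).injective) (hj x)
      refine ⟨g, h0, fun i => ?_⟩
      fin_cases i <;> assumption
    obtain ⟨g, g1, hg⟩ := key x
    obtain ⟨k, k1, hk⟩ := key y
    refine ⟨k * g⁻¹, Stn.St12.2 ?_, fun i => ?_⟩
    · rw [mul_smul, inv_smul_eq_iff.2 g1.symm, k1]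
    · rw [← hg, ← hk, mul_smul, inv_smul_smul]
  · exact Stn.fix5 (Stn.St12.1 hg) (List.nodup_ofFn_ofInjective (x.trans j).injective) (hj x)
      (by simp [h])

end Cfsg.Agent.S0425
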