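import Cfsg.Statements.S0426
import Cfsg.Agent.Stn.W12

set_option autoImplicit false
open Cfsg

namespace Cfsg.Agent.S0426

open Finset Gol
open scoped Pointwise

/-- Aut of an S(4, 5, 11) is simple of order 7920 and sharply 4-transitive on points. -/
theorem result {α : Type*} [Fintype α] [DecidableEq α] (hα : Fintype.card α = 11) {B : Set (Finset α)} (hB : Cfsg.IsSteinerSystem 4 5 B) : Cfsg.IsM11 (Cfsg.setSystemAut B) ∧ MulAction.IsMultiplyPretransitive (Cfsg.setSystemAut B) α 4 ∧ ∀ x : Fin 4 ↪ α, MulAction.stabilizer (Cfsg.setSystemAut B) x = ⊥ := by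
  obtain ⟨j, h⟩ := Stn.model11 hα hB
  obtain ⟨φ, hφ⟩ := Stn.aut11 h
  have := simple_m11
  have h0 : ∀ a, j a ∈ toF 340831 ∧ j a ≠ pt 0 := fun a => Stn.mem_X11.1 ((h.rng _).2 ⟨a, rfl⟩)
  have hj : ∀ x : Fin 4 ↪ α, ∀ p ∈ [pt 0, j (x 0), j (x 1), j (x 2), j (x 3)], p ∈ toF 340831 :=
    fun x p hp => by
      simp only [List.mem_cons, List.not_mem_nil, or_false] at hp
      rcases hp with rfl | rfl | rfl | rfl | rfl
      · exact Stn.pt0_D0
      all_goals exact (h0 _).1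
  have hn : ∀ x : Fin 4 ↪ α, [pt 0, j (x 0), j (x 1), j (x 2), j (x 3)].Nodup := fun x =>
    List.nodup_cons.2 ⟨by simp [fun a => (h0 a).2.symm],
      List.nodup_ofFn_ofInjective (x.trans j).injective⟩
  refine ⟨⟨φ.symm.isSimpleGroup, by rw [← Nat.card_congr φ.toEquiv, card_m11]⟩,
    Stn.multi_of φ hφ 4 fun x y => ?_, Stn.sharp_of φ hφ 4 fun x g hg h => ?_⟩
  · have key : ∀ x : Fin 4 ↪ α, ∃ g : M24, g • toF 340831 = toF 340831 ∧ g • pt 0 = pt 0 ∧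
        ∀ i : Fin 4, g • pt (![1, 2, 3, 4] i) = j (x i) := by
      intro x
      obtain ⟨g, h0, h1, h2, h3, h4, h5⟩ := dod_pts D0_mem (hn x) (hj x)
      refine ⟨g, h0, h1, fun i => ?_⟩
      fin_cases i <;> assumption
    obtain ⟨g, g1, g2, hg⟩ := key x
    obtain ⟨k, k1, k2, hk⟩ := key y
    refine ⟨k * g⁻¹, Stn.St11.2 ⟨?_, ?_⟩, fun i => ?_⟩
    · rw [mul_smul, inv_smul_eq_iff.2 g2.symm, k2]
    · rw [mul_smul, inv_smul_eq_iff.2 g1.symm, k1]
    · rw [← hg, ← hk, mul_smul, inv_smul_smul]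
  · exact Stn.fix5 (Stn.St11.1 hg).2 (hn x) (hj x) (by simp [h, (Stn.St11.1 hg).1])

end Cfsg.Agent.S0426
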