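import Cfsg.Statements.S0437
import Cfsg.Agent.H9.TT1

set_option autoImplicit false
open Cfsg

namespace Cfsg.Agent.S0437
open Cfsg.Agent.H9

/-- For three distinct, pairwise commuting members a, b, c of a set of 3-transpositions E, a member e of E centralises a * b * c if and only if it centralises each of a, b and c. -/
theorem result {G : Type*} [Group G] {E : Set G} (hE : Cfsg.IsThreeTranspositionSet E) {a b c e : G} (ha : a ∈ E) (hb : b ∈ E) (hc : c ∈ E) (he : e ∈ E) (hab : a ≠ b) (hac : a ≠ c) (hbc : b ≠ c) (h₁ : Commute a b) (h₂ : Commute a c) (h₃ : Commute b c) : Commute e (a * b * c) ↔ (Commute e a ∧ Commute e b ∧ Commute e c) := by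
  refine ⟨fun h => ?_, fun h => (h.1.mul_right h.2.1).mul_right h.2.2⟩
  have canc : ∀ {x y : G}, y ∈ E → Commute e (x * y) → Commute e y → Commute e x := by
    intro x y hy h1 h2
    have := h1.mul_right h2
    rwa [mul_assoc, tt_sq hE hy, mul_one] at this
  by_cases hec : Commute e c
  · have := tt_comm_mul hE ha hb he hab h₁ (canc hc h hec)
    exact ⟨this.1, this.2, hec⟩
  by_cases heb : Commute e b
  · have := tt_comm_mul hE ha hc he hac h₂ (canc hb (by rwa [mul_assoc, ← h₃.eq, ← mul_assoc]) heb)
    exact absurd this.2 hec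
  by_cases hea : Commute e a
  · have := tt_comm_mul hE hb hc he hbc h₃ (canc ha (by
      rwa [mul_assoc, ← h₂.eq, ← mul_assoc, ← h₁.eq]) hea)
    exact absurd this.2 hec
  exfalso
  have h1 : a * b * e * b * a = c * e * c := by
    have e1 : a * b * c * e = e * (a * b * c) := h.eq.symm
    calc a * b * e * b * a = c * (a * b * c * e) * (b * a) := by
          rw [mul_assoc a b c, h₃.eq, ← mul_assoc a c b, h₂.eq]
          simp [mul_assoc, tt_cancel hE hc]
      _ = c * e * (a * b * c) * (b * a) := by rw [e1]; simp [mul_assoc]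
      _ = c * e * c := by
          rw [mul_assoc a b c, h₃.eq, ← mul_assoc a c b, h₂.eq]
          simp [mul_assoc, tt_cancel hE hb, tt_sq hE ha]
  have h2 : c = a * b * e * b * a := by
    calc c = e * (e * c * e) * e := by simp [mul_assoc, tt_cancel hE he, tt_sq hE he]
      _ = e * (a * (b * e * b) * a) * e := by rw [tt_braid hE he hc hec, ← h1]; simp [mul_assoc]
      _ = (e * a * e) * b * (e * a * e) := by rw [← tt_braid hE he hb heb]; simp [mul_assoc]
      _ = a * e * (a * b * a) * e * a := by rw [tt_braid hE he ha hea]; simp [mul_assoc]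
      _ = a * (e * b * e) * a := by rw [h₁.eq]; simp [mul_assoc, tt_cancel hE ha]
      _ = _ := by rw [tt_braid hE he hb heb]; simp [mul_assoc]
  rw [h1] at h2
  have h3 : e * c = 1 := by
    have : c * (e * c) = c * 1 := by rw [mul_one, ← mul_assoc]; exact h2.symm
    exact mul_left_cancel this
  exact hec (by rw [eq_inv_of_mul_eq_one_left h3]; exact (Commute.refl c).inv_left)

end Cfsg.Agent.S0437
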