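import Cfsg.Statements.S0439


set_option autoImplicit false
open Cfsg

namespace Cfsg.Agent.S0439

/-- In the symmetric group of degree n ≥ 2, the set of transpositions is a conjugacy class of 3-transpositions which generates the group. -/
theorem result (n : ℕ) (hn : 2 ≤ n) : Cfsg.IsThreeTranspositionClass {σ : Equiv.Perm (Fin n) | σ.IsSwap} := by
  refine ⟨⟨?_, ?_⟩, ?_, Equiv.Perm.closure_isSwap⟩
  · rintro _ ⟨x, y, hxy, rfl⟩
    exact orderOf_eq_prime (by simp [sq]) (by simpa using hxy)
  · rintro _ ⟨x, y, hxy, rfl⟩ _ ⟨z, w, hzw, rfl⟩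
    have three : ∀ a b c : Fin n, a ≠ b → a ≠ c → b ≠ c → (Equiv.swap a b * Equiv.swap a c) ^ 3 = 1 := by
      intro a b c h1 h2 h3
      rw [← (Equiv.Perm.isThreeCycle_swap_mul_swap_same h1 h2 h3).orderOf, pow_orderOf_eq_one]
    by_cases h1 : x = z
    · subst h1
      by_cases h2 : y = w
      · subst h2; simp
      · exact Or.inr (three _ _ _ hxy hzw h2)
    by_cases h2 : x = w
    · subst h2
      by_cases h3 : y = z
      · subst h3; simp [Equiv.swap_comm y x]
      · rw [Equiv.swap_comm z x]; exact Or.inr (three _ _ _ hxy h1 h3)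
    by_cases h3 : y = z
    · subst h3
      rw [Equiv.swap_comm x y]; exact Or.inr (three _ _ _ hxy.symm hzw h2)
    by_cases h4 : y = w
    · subst h4
      rw [Equiv.swap_comm x y, Equiv.swap_comm z y]; exact Or.inr (three _ _ _ hxy.symm h3 h1)
    left
    have : Commute (Equiv.swap x y) (Equiv.swap z w) := by
      apply Equiv.Perm.Disjoint.commute
      intro t
      by_cases ht : t = x ∨ t = y
      · right; rcases ht with rfl | rfl <;> exact Equiv.swap_apply_of_ne_of_ne ‹_› ‹_›
      · left; push Not at ht; exact Equiv.swap_apply_of_ne_of_ne ht.1 ht.2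
    rw [this.mul_pow]; simp [sq]
  · have h01 : (⟨0, by omega⟩ : Fin n) ≠ ⟨1, by omega⟩ := by simp
    refine ⟨Equiv.swap ⟨0, by omega⟩ ⟨1, by omega⟩, ⟨_, _, h01, rfl⟩, ?_⟩
    ext σ
    constructor
    · rintro ⟨x, y, hxy, rfl⟩
      exact Equiv.Perm.isConj_swap h01 hxy
    · intro h
      obtain ⟨g, rfl⟩ := isConj_iff.1 h
      exact ⟨g _, g _, g.injective.ne h01, (Equiv.swap_apply_apply g _ _).symm⟩

end Cfsg.Agent.S0439
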