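import Cfsg.Statements.S0441
import Cfsg.Agent.Fis.C

set_option autoImplicit false
open Cfsg

namespace Cfsg.Agent.S0441

/-- Fischer's rank-three property. Let a finite group be generated by a conjugacy class D of 3-transpositions, with non-abelian simple commutator subgroup. Then for a in D there are members of D other than a commuting with a and members not commuting with a, and the centraliser of a acts transitively on each of these two sets. -/
theorem result {G : Type*} [Group G] [Finite G] {D : Set G} (hD : Cfsg.IsThreeTranspositionClass D) (hsimple : IsSimpleGroup (commutator G)) (hnonab : ∃ x y : commutator G, x * y ≠ y * x) {a : G} (ha : a ∈ D) : (∃ b ∈ D, b ≠ a ∧ Commute a b) ∧ (∃ c ∈ D, ¬ Commute a c) ∧ (∀ b ∈ D, ∀ b' ∈ D, b ≠ a → b' ≠ a → Commute a b → Commute a b' → ∃ g : G, Commute g a ∧ g * b * g⁻¹ = b') ∧ (∀ c ∈ D, ∀ c' ∈ D, ¬ Commute a c → ¬ Commute a c' → ∃ g : G, Commute g a ∧ g * c * g⁻¹ = c') := by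
  haveI := Fis.tt_of_class hD
  have hcl := Fis.cl_of_class hD
  obtain ⟨x, y, hxy⟩ := hnonab
  have hperf : ⁅commutator G, commutator G⁆ = commutator G := by
    rcases hsimple.eq_bot_or_eq_top_of_normal (commutator (commutator G)) inferInstance with h | h
    · exfalso; apply hxy
      have := Subgroup.commutator_mem_commutator (Subgroup.mem_top x) (Subgroup.mem_top y)
      rwa [← commutator_def, h, Subgroup.mem_bot, commutatorElement_eq_one_iff_mul_comm] at this
    · have := congrArg (Subgroup.map (commutator G).subtype) h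
      rwa [Subgroup.map_subtype_commutator, ← MonoidHom.range_eq_map,
        Subgroup.range_subtype] at this
  have h : Fis.Prim D := by
    refine ⟨hcl, hperf, fun N hN hs => ?_⟩
    rcases hsimple.eq_bot_or_eq_top_of_normal (N.subgroupOf (commutator G)) inferInstance with h | h
    · rw [Subgroup.subgroupOf_eq_bot] at h
      intro n hn
      rw [Subgroup.mem_center_iff]
      intro g
      rw [← commutatorElement_eq_one_iff_mul_comm]
      refine Subgroup.disjoint_def.1 h ?_ (Subgroup.commutator_mem_commutator trivial trivial)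
      exact Subgroup.commutator_le_right ⊤ N (Subgroup.commutator_mem_commutator trivial hn)
    · rw [Subgroup.subgroupOf_eq_top] at h
      have := Comp.perfect_solvable_eq_bot hperf (Comp.solvable_of_le h hs)
      exfalso; apply hxy
      have hx : (x : G) = 1 := Subgroup.mem_bot.1 (this.le x.2)
      apply Subtype.ext; simp [hx]
  obtain ⟨b, hb⟩ : ∃ b : Fis.Pt D, (⟨a, ha⟩ : Fis.Pt D) ≠ b := by
    by_contra hne
    push Not at hne
    apply hxy
    have : (x : G) ∈ Subgroup.center G := hcl.mem_center_iff.2 (fun z => by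
      rw [← hne z, ← hne (_ • _)])
    exact Subtype.ext (Subgroup.mem_center_iff.1 this y).symm
  refine ⟨?_, ?_, ?_, ?_⟩
  · obtain ⟨z, h1, h2, -⟩ := h.sep hb
    exact ⟨z.t, z.mem, fun e => h1 (Fis.Pt.ext e), Fis.cm_iff.1 h2⟩
  · obtain ⟨z, hz⟩ := hcl.exists_nc hb ⟨a, ha⟩
    exact ⟨z.t, z.mem, fun e => hz (Fis.cm_iff.2 e.symm)⟩
  · intro b hb b' hb' h1 h2 h3 h4
    obtain ⟨g, hg, e⟩ := h.trD (x := ⟨a, ha⟩) (y := ⟨b, hb⟩) (z := ⟨b', hb'⟩)
      ⟨fun e => h1 (congrArg Fis.Pt.t e), Fis.cm_iff.2 h3⟩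
      ⟨fun e => h2 (congrArg Fis.Pt.t e), Fis.cm_iff.2 h4⟩
    exact ⟨g, Fis.smul_eq_iff_commute.1 (Fis.HH_fix hg), congrArg Fis.Pt.t e⟩
  · intro c hc c' hc' h1 h2
    obtain ⟨g, hg, e⟩ := h.trA (d := ⟨a, ha⟩) (a := ⟨c, hc⟩) (b := ⟨c', hc'⟩)
      (fun e => h1 (Fis.cm_iff.1 e)) (fun e => h2 (Fis.cm_iff.1 e))
    exact ⟨g, Fis.smul_eq_iff_commute.1 hg, congrArg Fis.Pt.t e⟩

end Cfsg.Agent.S0441
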