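import Cfsg.Statements.S0442
import Cfsg.Agent.H9.TT1


set_option autoImplicit false
open Cfsg

namespace Cfsg.Agent.S0442

/-- A standard trick for producing elements of an involution centraliser: for an involution a and an element g, let b be the conjugate g⁻¹ * a * g. If a * b has odd order 2m + 1 then g * (a * b) ^ m commutes with a; if a * b has even order 2m then (a * b) ^ m and (a * (g * a * g⁻¹)) ^ m commute with a. -/
theorem result {G : Type*} [Group G] (a g : G) (ha : orderOf a = 2) : (∀ m : ℕ, orderOf (a * (g⁻¹ * a * g)) = 2 * m + 1 → Commute (g * (a * (g⁻¹ * a * g)) ^ m) a) ∧ (∀ m : ℕ, orderOf (a * (g⁻¹ * a * g)) = 2 * m → Commute ((a * (g⁻¹ * a * g)) ^ m) a ∧ Commute ((a * (g * a * g⁻¹)) ^ m) a) := by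
  have haa : a * a = 1 := by have := pow_orderOf_eq_one a; rwa [ha, sq] at this
  have hai : a⁻¹ = a := inv_eq_of_mul_eq_one_right haa
  have key : ∀ b : G, b * b = 1 → ∀ m : ℕ, a * (a * b) ^ m * a = ((a * b) ^ m)⁻¹ := by
    intro b hb m
    have hbi : b⁻¹ = b := inv_eq_of_mul_eq_one_right hb
    rw [← inv_pow, mul_inv_rev, hai, hbi]
    have := conj_pow (a := a) (b := a * b) (i := m)
    rw [hai] at this
    rw [← this, ← mul_assoc, haa, one_mul]
  have key2 : ∀ b : G, b * b = 1 → ∀ m : ℕ, (a * b) ^ (2 * m) = 1 → Commute ((a * b) ^ m) a := by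
    intro b hb m hm
    have h1 := key b hb m
    rw [two_mul, pow_add] at hm
    rw [inv_eq_of_mul_eq_one_right hm] at h1
    calc (a * b) ^ m * a = a * (a * (a * b) ^ m * a) := by rw [← mul_assoc, ← mul_assoc, haa, one_mul]
      _ = _ := by rw [h1]
  have hb : (g⁻¹ * a * g) * (g⁻¹ * a * g) = 1 := by
    calc _ = g⁻¹ * (a * a) * g := by group
      _ = 1 := by rw [haa]; group
  have hb' : (g * a * g⁻¹) * (g * a * g⁻¹) = 1 := by
    calc _ = g * (a * a) * g⁻¹ := by group
      _ = 1 := by rw [haa]; group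
  refine ⟨fun m hm => ?_, fun m hm => ⟨key2 _ hb m (by rw [← hm, pow_orderOf_eq_one]), key2 _ hb' m ?_⟩⟩
  · have h1 := pow_orderOf_eq_one (a * (g⁻¹ * a * g))
    have h2 := key _ hb m
    rw [hm, two_mul, add_assoc, pow_add, pow_succ'] at h1
    generalize (a * (g⁻¹ * a * g)) ^ m = t at *
    have h3 : t⁻¹ = a * (g⁻¹ * a * g) * t := inv_eq_of_mul_eq_one_right h1
    rw [h3] at h2
    have h4 : t * a = g⁻¹ * a * g * t := by
      apply mul_left_cancel (a := a); rw [← mul_assoc, h2, mul_assoc]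
    calc g * t * a = g * (g⁻¹ * a * g * t) := by rw [mul_assoc, h4]
      _ = _ := by group
  · have h1 := pow_orderOf_eq_one (a * (g⁻¹ * a * g))
    rw [hm] at h1
    have h2 : a * (g * a * g⁻¹) = g * (a * (g⁻¹ * a * g))⁻¹ * g⁻¹ := by
      simp [mul_assoc, hai]
    rw [h2, conj_pow, inv_pow, h1]; simp

end Cfsg.Agent.S0442
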