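import Cfsg.Statements.S0444
import Cfsg.Agent.H9.TT1

set_option autoImplicit false
open Cfsg

namespace Cfsg.Agent.S0444
open Cfsg.Agent.H9

/-- Two members of a set of 3-transpositions which do not commute generate a subgroup isomorphic to the symmetric group on three letters. -/
theorem result {G : Type*} [Group G] {E : Set G} (hE : Cfsg.IsThreeTranspositionSet E) {d e : G} (hd : d ∈ E) (he : e ∈ E) (h : ¬ Commute d e) : Nonempty (Subgroup.closure ({d, e} : Set G) ≃* Equiv.Perm (Fin 3)) := by
  classical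
  have dd := tt_sq hE hd
  have ee := tt_sq hE he
  have dd' := tt_cancel hE hd
  have ee' := tt_cancel hE he
  have br : e * (d * e) = d * (e * d) := by simpa [mul_assoc] using (tt_braid hE hd he h).symm
  have br' := (tt_braid' hE hd he h · |>.symm)
  let f0 : Equiv.Perm (Fin 3) → G := fun σ =>
    if σ 0 = 0 then (if σ 1 = 1 then 1 else e) else
    if σ 0 = 1 then (if σ 1 = 0 then d else d * e) else (if σ 1 = 0 then e * d else d * (e * d))
  have hall : ∀ σ : Equiv.Perm (Fin 3), σ = 1 ∨ σ = Equiv.swap 0 1 ∨ σ = Equiv.swap 1 2 ∨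
      σ = Equiv.swap 0 1 * Equiv.swap 1 2 ∨ σ = Equiv.swap 1 2 * Equiv.swap 0 1 ∨
      σ = Equiv.swap 0 2 := by decide
  let f : Equiv.Perm (Fin 3) →* G := MonoidHom.mk' f0 (by
    intro σ τ
    rcases hall σ with rfl | rfl | rfl | rfl | rfl | rfl <;>
    rcases hall τ with rfl | rfl | rfl | rfl | rfl | rfl <;>
    simp +decide [f0, Equiv.swap_apply_def, mul_assoc, dd, ee, dd', ee', br, br'])
  have hf : ∀ σ, f σ = f0 σ := fun _ => rfl
  have hde : d * e ≠ 1 := fun h1 => h (by
    rw [eq_inv_of_mul_eq_one_left h1]; exact (Commute.refl e).inv_left)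
  have hed : e * d ≠ 1 := fun h1 => h (by
    rw [eq_inv_of_mul_eq_one_left h1]; exact (Commute.refl d).inv_right)
  have hded : d * (e * d) ≠ 1 := fun h1 => tt_ne_one hE he (by
    calc e = d * (d * (e * d)) * d := by simp [mul_assoc, dd, dd']
      _ = 1 := by rw [h1, mul_one, dd])
  have hinj : Function.Injective f := by
    rw [injective_iff_map_eq_one]
    intro σ
    rcases hall σ with rfl | rfl | rfl | rfl | rfl | rfl <;>
    simp +decide [hf, f0, Equiv.swap_apply_def, tt_ne_one hE hd, tt_ne_one hE he, hde, hed, hded]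
  have hr : f.range = Subgroup.closure ({d, e} : Set G) := by
    apply le_antisymm
    · rintro _ ⟨σ, rfl⟩
      have h1 : d ∈ Subgroup.closure ({d, e} : Set G) := Subgroup.subset_closure (by simp)
      have h2 : e ∈ Subgroup.closure ({d, e} : Set G) := Subgroup.subset_closure (by simp)
      simp only [hf, f0]
      split_ifs <;> first | exact one_mem _ | exact h1 | exact h2 | exact mul_mem h1 h2 | exact mul_mem h2 h1 | exact mul_mem h1 (mul_mem h2 h1)
    · rw [Subgroup.closure_le]
      rintro _ (rfl | rfl)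
      · exact ⟨Equiv.swap 0 1, by simp +decide [hf, f0]⟩
      · exact ⟨Equiv.swap 1 2, by simp +decide [hf, f0, Equiv.swap_apply_def]⟩
  exact ⟨(MulEquiv.subgroupCongr hr.symm).trans (MonoidHom.ofInjective hinj).symm⟩

end Cfsg.Agent.S0444
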