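import Cfsg.Statements.S0447
import Cfsg.Agent.Cov.Cl

set_option autoImplicit false
open Cfsg

namespace Cfsg.Agent.S0447

/-- Involutions in double covers of alternating groups: for n ≤ 7, a finite non-split double cover of the alternating group of degree n has exactly one element of order 2 (the central one); for degree 8 there is a non-split double cover with two distinct involutions. -/
theorem result : (∀ (n : ℕ) (H : Type) (_ : Group H) (_ : Finite H), n ≤ 7 → Cfsg.IsNonsplitDoubleCover H (alternatingGroup (Fin n)) → ∀ x y : H, orderOf x = 2 → orderOf y = 2 → x = y) ∧ ∃ (H : Type) (_ : Group H) (_ : Finite H), Cfsg.IsNonsplitDoubleCover H (alternatingGroup (Fin 8)) ∧ ∃ x y : H, x ≠ y ∧ orderOf x = 2 ∧ orderOf y = 2 := by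
  refine ⟨fun n H _ _ hn ⟨h1, ⟨e⟩, h3⟩ => ?_, ?_⟩
  · let π : H →* alternatingGroup (Fin n) :=
      e.toMonoidHom.comp (QuotientGroup.mk' (Subgroup.center H))
    have hk : π.ker = Subgroup.center H := by
      ext x
      simp [π]
    have hs : Function.Surjective π := e.surjective.comp (QuotientGroup.mk'_surjective _)
    have hsq : ∀ w ∈ Subgroup.center H, w * w = 1 := fun w hw => by
      have := pow_card_eq_one' (x := (⟨w, hw⟩ : Subgroup.center H))
      rw [h1, pow_two] at this
      exact congrArg Subtype.val this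
    have key : ∀ x : H, orderOf x = 2 → x ∈ Subgroup.center H := by
      intro x hx
      by_contra hc
      have hx2 : x * x = 1 := by rw [← pow_two, ← hx, pow_orderOf_eq_one]
      have c1 : (π x : Equiv.Perm (Fin n)) ^ 2 = 1 := by
        rw [← SubgroupClass.coe_pow, ← map_pow, pow_two, hx2, map_one, OneMemClass.coe_one]
      have c2 := Equiv.Perm.cycleType_of_pow_prime_eq_one c1
      have c3 := Equiv.Perm.sign_of_cycleType (π x : Equiv.Perm (Fin n))
      have c4 := Equiv.Perm.sum_cycleType_le (π x : Equiv.Perm (Fin n))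
      have c5 : (π x : Equiv.Perm (Fin n)).cycleType.card ≠ 0 := by
        rw [Ne, Equiv.Perm.card_cycleType_eq_zero]
        exact fun e => hc (hk ▸ Subtype.ext e)
      rw [Equiv.Perm.mem_alternatingGroup.1 (π x).2] at c3
      generalize (π x : Equiv.Perm (Fin n)).cycleType.card = k at c2 c3 c5
      rw [c2, Multiset.sum_replicate] at c3 c4
      simp only [smul_eq_mul, Fintype.card_fin] at c3 c4
      have c6 : k = 2 := by
        have : k ≤ 3 := by omega
        interval_cases k <;> simp_all (config := {decide := true})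
      subst c6
      obtain ⟨a, b, c, d, n1, n2, n3, n4, n5, n6⟩ := Cov.four_pts (α := Fin n) (by simp; omega)
      obtain ⟨g, hg⟩ := isConj_iff.1 (Equiv.Perm.isConj_iff_cycleType_eq.2
        ((Equiv.Perm.cycleType_swap_mul_swap_of_nodup (x := b) (y := c) (z := a) (t := d)
          (by simp [n1, n2, n3.symm, n4.symm, n5.symm, n6])).trans c2.symm))
      rw [← conj_mul, ← Equiv.swap_apply_apply, ← Equiv.swap_apply_apply] at hg
      have m1 := g.injective.ne n1
      have m2 := g.injective.ne n2
      have m3 := g.injective.ne n3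
      have m4 := g.injective.ne n4
      have m5 := g.injective.ne n5
      have m6 := g.injective.ne n6
      obtain ⟨hL, -⟩ := Cov.lifts_two hs hk.le (IsPGroup.of_card (n := 1) (by rw [hk, h1, pow_one]))
      obtain ⟨u, pu, hu⟩ := hL.ex _ _ _ m1.symm m2.symm m3.symm
      obtain ⟨v, pv, hv⟩ := hL.ex _ _ _ m1.symm m4.symm m5.symm
      have hw : x⁻¹ * (u * v) ∈ Subgroup.center H := by
        rw [← hk, MonoidHom.mem_ker, map_mul, map_inv, inv_mul_eq_one]
        refine Subtype.ext ?_
        rw [map_mul, Subgroup.coe_mul, hu, hv, Cov.c3_mul m2 m3, hg]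
      have hz : u * v * u * v = 1 := by
        obtain ⟨w, hw'⟩ : ∃ w, w = x⁻¹ * (u * v) := ⟨_, rfl⟩
        rw [← hw'] at hw
        have : u * v = x * w := by rw [hw', mul_inv_cancel_left]
        rw [mul_assoc (u * v), this, mul_assoc, ← mul_assoc w, ← Subgroup.mem_center_iff.1 hw,
          mul_assoc, hsq w hw, mul_one, hx2]
      obtain ⟨ψ, hψ⟩ := hL.section_of m1 m2 m3 m4 m5 m6 pu pv hu hv (MonoidHom.id H) π
        (fun _ => rfl) hz
      refine h3 ψ.range (Subgroup.isComplement'_of_disjoint_and_mul_eq_univ ?_ ?_)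
      · rw [Subgroup.disjoint_def]
        rintro _ h ⟨a, rfl⟩
        rw [← hk, MonoidHom.mem_ker, hψ] at h
        rw [h, map_one]
      · refine Set.eq_univ_of_forall fun y => ⟨y * (ψ (π y))⁻¹, ?_, ψ (π y), ⟨_, rfl⟩, by simp⟩
        rw [SetLike.mem_coe, ← hk, MonoidHom.mem_ker, map_mul, map_inv, hψ, mul_inv_cancel]
    intro x y hx hy
    have hx1 : x ≠ 1 := fun e => by simp [e] at hx
    have hy1 : y ≠ 1 := fun e => by simp [e] at hy
    obtain ⟨w, -, hw⟩ := (Nat.card_eq_two_iff' (1 : Subgroup.center H)).1 h1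
    exact congrArg Subtype.val ((hw ⟨x, key x hx⟩ fun e => hx1 (congrArg Subtype.val e)).trans
      (hw ⟨y, key y hy⟩ fun e => hy1 (congrArg Subtype.val e)).symm)
  · obtain ⟨Γ, _, _, π, z, h1, h2, h3, h4, h5, h6⟩ := Cov.exists_cover (α := Fin 8) (by simp)
    have hc : Subgroup.center Γ = π.ker := by
      refine le_antisymm (fun x hx => ?_) (h2 ▸ Subgroup.zpowers_le.2 h3)
      rw [MonoidHom.mem_ker, ← Subgroup.mem_bot, ← alternatingGroup.center_eq_bot (by simp),
        Subgroup.mem_center_iff]
      intro a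
      obtain ⟨a, rfl⟩ := h1 a
      rw [← map_mul, Subgroup.mem_center_iff.1 hx, map_mul]
    obtain ⟨x, hx, hx'⟩ := h6 0 1 2 3 4 5 6 7 (by decide)
    have hx1 : π x ≠ 1 := fun e => by
      rw [e] at hx'; exact absurd hx' (by decide)
    refine ⟨Γ, inferInstance, inferInstance, ⟨by rw [hc, h2, Nat.card_zpowers, h4],
      ⟨(QuotientGroup.quotientMulEquivOfEq hc).trans
      (QuotientGroup.quotientKerEquivOfSurjective π h1)⟩, fun L hL => ?_⟩, x, z, ?_, ?_, h4⟩
    · have hle : commutator Γ ≤ L := by
        rw [_root_.commutator_def, Subgroup.commutator_le]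
        intro a _ b _
        obtain ⟨⟨⟨u, hu⟩, ⟨p, hp⟩⟩, rfl⟩ := hL.2 a
        obtain ⟨⟨⟨v, hv⟩, ⟨q, hq⟩⟩, rfl⟩ := hL.2 b
        have hu' := Subgroup.mem_center_iff.1 hu
        have hv' := Subgroup.mem_center_iff.1 hv
        have : u * p * (v * q) * (u * p)⁻¹ * (v * q)⁻¹ = p * q * p⁻¹ * q⁻¹ := by
          rw [← hu' p, ← hv' q, mul_inv_rev, mul_inv_rev, mul_assoc p u,
            ← hu', mul_assoc p, mul_assoc _ u, mul_inv_cancel_left, mul_assoc q v, ← hv']
          group
        simp only [commutatorElement_def, this]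
        exact L.mul_mem (L.mul_mem (L.mul_mem hp hq) (L.inv_mem hp)) (L.inv_mem hq)
      have := Subgroup.disjoint_def.1 hL.disjoint h3 (hle h5)
      simp [this] at h4
    · rintro rfl
      exact hx1 (h2 ▸ Subgroup.mem_zpowers x : x ∈ π.ker)
    · exact orderOf_eq_prime (by rw [pow_two, hx]) (fun e => hx1 (by rw [e, map_one]))

end Cfsg.Agent.S0447
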