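import Cfsg.Statements.S0454
import Cfsg.Agent.Spor.LyB.Main

set_option autoImplicit false
open Cfsg

namespace Cfsg.Agent.S0454

open Cfsg.Agent.Spor

/-- Existence of the Lyons group: there is a transitive permutation group of degree 8835156, simple of order 51765179004000000, whose point stabiliser is simple of the order of a group of type G2, and which has an involution whose centraliser is a non-split double cover of the alternating group of degree 11. -/
theorem result : ∃ H : Subgroup (Equiv.Perm (Fin 8835156)), Cfsg.IsLy H ∧ MulAction.IsPretransitive H (Fin 8835156) ∧ Cfsg.IsG2 (MulAction.stabilizer H (0 : Fin 8835156)) ∧ ∃ t : H, orderOf t = 2 ∧ Cfsg.IsNonsplitDoubleCover (Subgroup.centralizer ({t} : Set H)) (alternatingGroup (Fin 11)) := by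
  obtain ⟨P, ⟨e⟩, h1, ⟨e1⟩⟩ := exists_perm_rep' (LyS.exact LyM.pres LyM.top LyK.lb).index
    (LyS.core LyM.pres LyM.top LyK.lb)
  obtain ⟨e2⟩ := LyS.equiv LyM.pres LyM.top LyK.lb
  obtain ⟨h2, h3⟩ := simple_card_congr (e2.trans e1) ⟨Ly3906.simpleP, Ly3906.cardP⟩
  refine ⟨P, simple_card_congr e ⟨LyS.simpleH, LyS.cardH⟩, h1,
    ⟨h2, 5, (show Nat.Prime 5 by norm_num).isPrimePow, by norm_num, h3.trans (by norm_num)⟩, e (LyM.X.el LyK.gt),
    (e.orderOf_eq _).trans LyK.cK.ord, ?_⟩
  have h4 := LyK.nonsplit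
  rw [← LyB.centz] at h4
  exact nonsplit_congr h4 (centralizerMap e (LyM.X.el LyK.gt))

end Cfsg.Agent.S0454
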