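import Cfsg.Statements.S0458
import Cfsg.Agent.Spor.J3a.K

set_option autoImplicit false
open Cfsg

namespace Cfsg.Agent.S0458

open Cfsg.Agent.Spor

/-- Janko's third group exists as a transitive permutation group of degree 6156 with point stabiliser of order 8160: a simple group of order 50232960. -/
theorem result : ∃ H : Subgroup (Equiv.Perm (Fin 6156)), Cfsg.IsJ3 H ∧ MulAction.IsPretransitive H (Fin 6156) ∧ Nat.card (MulAction.stabilizer H (0 : Fin 6156)) = 8160 := by
  haveI := J3a.simpleP
  obtain ⟨P, ⟨e1⟩, h1, ⟨e2⟩⟩ := exists_perm_rep' J3a.indexK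
    (core_eq_bot_of_simple (by rw [J3a.indexK]; norm_num))
  exact ⟨P, simple_card_congr e1 ⟨J3a.simpleP, J3a.cardP⟩, h1,
    (Nat.card_congr e2.toEquiv).symm.trans J3a.cardK⟩

end Cfsg.Agent.S0458
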