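import Cfsg.Statements.S0460
import Cfsg.Agent.Spor.ONSub

set_option autoImplicit false
open Cfsg

namespace Cfsg.Agent.S0460

open Cfsg.Agent.Spor

/-- The O'Nan group exists as a transitive permutation group of degree 122760: simple of order 460815505920, point stabiliser of order 3753792, and containing simple subgroups of orders 175560 and 7920. -/
theorem result : ∃ H : Subgroup (Equiv.Perm (Fin 122760)), Cfsg.IsON H ∧ MulAction.IsPretransitive H (Fin 122760) ∧ Nat.card (MulAction.stabilizer H (0 : Fin 122760)) = 3753792 ∧ (∃ K : Subgroup H, Cfsg.IsJ1 K) ∧ (∃ K : Subgroup H, Cfsg.IsM11 K) := by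
  obtain ⟨P, e, h1, h2⟩ := exists_perm_rep ON122760.act.index ONG.core
  refine ⟨P, simple_card_congr e ⟨ONG.simple, ONG.card⟩, h1, ?_,
    ⟨_, simple_card_congr (e.subgroupMap _) ONG.subJ⟩, ⟨_, simple_card_congr (e.subgroupMap _) ONG.subM⟩⟩
  rw [← h2]
  exact (Nat.card_congr (e.subgroupMap _).toEquiv).symm.trans ONG.cardH

end Cfsg.Agent.S0460
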