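import Cfsg.Statements.S0463
import Cfsg.Agent.Spor.HNZ

set_option autoImplicit false
open Cfsg

namespace Cfsg.Agent.S0463

open Cfsg.Agent.Spor

/-- The Harada–Norton group exists as a transitive permutation group of degree 1140000: simple of order 273030912000000 with point stabiliser isomorphic to the alternating group of degree 12. -/
theorem result : ∃ H : Subgroup (Equiv.Perm (Fin 1140000)), Cfsg.IsHN H ∧ MulAction.IsPretransitive H (Fin 1140000) ∧ Nonempty (MulAction.stabilizer H (0 : Fin 1140000) ≃* alternatingGroup (Fin 12)) := by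
  obtain ⟨e0⟩ := HNL.isoA
  obtain ⟨e1⟩ := An12.altP
  have := HNZ.simpleH
  have hi : (gsub 10 (HNV.X.gen HNL.TA)).index = 1140000 :=
    index_of_card (M := 239500800) HNZ.cardH ((Nat.card_congr e0.toEquiv).symm.trans An12.cardP)
      (by norm_num)
  obtain ⟨P, ⟨e⟩, h1, ⟨e2⟩⟩ := exists_perm_rep' hi (core_eq_bot_of_simple (by rw [hi]; norm_num))
  exact ⟨P, simple_card_congr e ⟨HNZ.simpleH, HNZ.cardH⟩, h1, ⟨e2.symm.trans (e0.symm.trans e1)⟩⟩

end Cfsg.Agent.S0463
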