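import Cfsg.Statements.S0464
import Cfsg.Agent.Spor.ThZ

set_option autoImplicit false
open Cfsg

namespace Cfsg.Agent.S0464

open Cfsg.Agent.Spor

/-- The Thompson group exists as a group of 248 × 248 matrices over the field with three elements: a simple subgroup of GL(248, 3) of order 90745943887872000, possessing a subgroup of index 143127000 which contains a simple subgroup of the order of a triality-twisted D4 group. -/
theorem result : ∃ H : Subgroup (GL (Fin 248) (ZMod 3)), Cfsg.IsTh H ∧ ∃ K : Subgroup H, K.index = 143127000 ∧ ∃ L : Subgroup H, L ≤ K ∧ Cfsg.Is3D4 L := by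
  have h : ∃ H : Subgroup (GL (Fin ThV.A.d) (ZMod 3)), Cfsg.IsTh H ∧ ∃ K : Subgroup H,
      K.index = 143127000 ∧ ∃ L : Subgroup H, L ≤ K ∧ Cfsg.Is3D4 L :=
    ⟨ThV.H, ⟨ThZ.simpleH, ThZ.cardH⟩, _, (ThC.exact ThV.pres ThV.top ThZ.lbH).index, gsub 6 ThV.h,
      (ThC.range ThV.pres).symm ▸ gsub_mono (by decide) _, ThZ.simpleL,
      2, Nat.prime_two.isPrimePow, ThZ.cardL.trans (by norm_num)⟩
  rwa [show ThV.A.d = 248 from rfl] at h

end Cfsg.Agent.S0464
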