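import Cfsg.Statements.S0473
import Cfsg.Agent.Spor.Fi24Sub

set_option autoImplicit false
open Cfsg

namespace Cfsg.Agent.S0473

open Cfsg.Agent.Spor

/-- The largest Fischer 3-transposition group: a group of order 2 · 1255205709190661721292800 generated by a conjugacy class of 306936 3-transpositions, in which a transposition centraliser has order 2 · 4089470473293004800 and contains a simple subgroup of order 4089470473293004800; its subgroup of index 2 is simple and contains simple subgroups of orders 4089470473293004800 and 4030387200. -/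
theorem result : ∃ (G : Type) (_ : Group G) (_ : Finite G), Nat.card G = 2 * 1255205709190661721292800 ∧ ∃ D : Set G, Cfsg.IsThreeTranspositionClass D ∧ Nat.card D = 306936 ∧ (∀ d ∈ D, Nat.card (Subgroup.centralizer ({d} : Set G)) = 2 * 4089470473293004800 ∧ ∃ K : Subgroup G, K ≤ Subgroup.centralizer ({d} : Set G) ∧ Cfsg.IsFi23 K) ∧ ∃ H : Subgroup G, H.index = 2 ∧ Cfsg.IsFi24' H ∧ (∃ K : Subgroup H, Cfsg.IsFi23 K) ∧ (∃ K : Subgroup H, Cfsg.IsHe K) := by
  obtain ⟨K, hK⟩ := Fi24G.subHe
  refine ⟨Cfsg.Spor.Fi24, inferInstance, inferInstance, Fi24G.card, _, Fi24G.tt, ?_, fun d hd => ?_,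
    _, Fi24G.index_comm, ⟨Fi24G.simple, Fi24G.card'⟩,
    exists_sub_of_le (le_commutator_of_simple Fi24G.K23_simple.1
      (by rw [Fi24G.K23_simple.2]; norm_num)) Fi24G.K23_simple,
    exists_sub_of_le (le_commutator_of_simple hK.1 (by rw [hK.2]; norm_num)) hK⟩
  · rw [card_conjugatesOf, Fi24G.cent, Fi306936.act.index]
  · let e := (MulEquiv.subgroupCongr Fi24G.cent.symm).trans (centralizerConj hd)
    obtain ⟨L, hL⟩ := exists_sub_of_le Fi24G.K23_le Fi24G.K23_simple
    exact ⟨(Nat.card_congr e.toEquiv).symm.trans Fi24G.cardH,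
      (L.map e.toMonoidHom).map (Subgroup.subtype _), Subgroup.map_subtype_le _,
      simple_card_congr ((e.subgroupMap L).trans
        (Subgroup.equivMapOfInjective _ _ (Subgroup.subtype_injective _))) hL⟩

end Cfsg.Agent.S0473
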