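import Cfsg.Statements.S0478
import Cfsg.Agent.Spor.J3M.Main

set_option autoImplicit false
open Cfsg

namespace Cfsg.Agent.S0478

open Cfsg.Agent.Spor

/-- A triple cover of Janko's third group inside a unitary group: for a field F with four elements, the special unitary group of dimension 9 (with respect to the form with q = 2) has a subgroup whose centre has order 3 and whose quotient by its centre is simple of order 50232960. -/
theorem result : ∃ (F : Type) (_ : Field F) (_ : Fintype F), Fintype.card F = 4 ∧ ∃ H : Subgroup (Cfsg.SU 9 F 2), Nat.card (Subgroup.center H) = 3 ∧ Cfsg.IsJ3 (H ⧸ Subgroup.center H) := by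
  obtain ⟨F, _, _, hF⟩ := exists_F4
  obtain ⟨ω, hω⟩ := exists_omega (F := F) (by rw [hF])
  let X : Ctx J3M.A F (Fin 9) :=
    Ctx.f4 J3M.A (Equiv.refl _) (cast_eq_zero_of_card (k := 2) hF) ω hω (by decide +kernel)
  obtain ⟨σ, hσ⟩ := Class.exists_UF (q := 2) hF
  have hc := Ctx.codA_gen J3M.gensOk
    (Ctx.exists_SU (X := X) hσ.eq rfl X.hw J3M.gensOk J3M.detOk J3M.uniOk)
  obtain ⟨h1, -, h3⟩ := J3M.main hF (X := X) hω (ρ := (suToMat 9 F 2).comp (gsub 4 _).subtype)
    ((suToMat_inj 9 2).comp Subtype.val_injective) (gsub_lift 4 _) hc.lift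
  exact ⟨F, inferInstance, inferInstance, hF, _, h1, h3⟩

end Cfsg.Agent.S0478
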