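import Cfsg.Statements.S0481


set_option autoImplicit false
open Cfsg

namespace Cfsg.Agent.S0481

/-- Large extraspecial subgroups: let z be an involution of a finite group G whose centraliser C contains a normal 2-subgroup Q with centre of order 2 and all squares central, such that every element of G centralising Q lies in Q. Then C contains a Sylow 2-subgroup of G, and any involution of G whose centraliser contains a Sylow 2-subgroup of G is conjugate to z. -/
theorem result {G : Type*} [Group G] [Finite G] (z : G) (hz : orderOf z = 2) (Q : Subgroup G) (hQC : Q ≤ Subgroup.centralizer ({z} : Set G)) (hQn : ∀ g ∈ Subgroup.centralizer ({z} : Set G), ∀ q ∈ Q, g * q * g⁻¹ ∈ Q) (hQ2 : IsPGroup 2 Q) (hZ : Nat.card (Subgroup.center Q) = 2) (hsq : ∀ x : Q, x ^ 2 ∈ Subgroup.center Q) (hlarge : Subgroup.centralizer (Q : Set G) ≤ Q) : (∃ P : Sylow 2 G, (P : Subgroup G) ≤ Subgroup.centralizer ({z} : Set G)) ∧ ∀ u : G, orderOf u = 2 → (∃ P : Sylow 2 G, (P : Subgroup G) ≤ Subgroup.centralizer ({u} : Set G))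 → IsConj z u := by
  have h1 : z ≠ 1 := by rintro rfl; simp at hz
  have key : ∀ w : G, w ≠ 1 → w ∈ Subgroup.centralizer (Q : Set G) → w = z := by
    have hzc : z ∈ Subgroup.centralizer (Q : Set G) := fun q hq =>
      Subgroup.mem_centralizer_singleton_iff.1 (hQC hq)
    have mk : ∀ w (hw : w ∈ Subgroup.centralizer (Q : Set G)),
        (⟨w, hlarge hw⟩ : Q) ∈ Subgroup.center Q := fun w hw =>
      Subgroup.mem_center_iff.2 fun q => Subtype.ext (hw q q.2)
    obtain ⟨y, -, hy⟩ := (Nat.card_eq_two_iff' (1 : Subgroup.center Q)).1 hZ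
    intro w hw1 hw
    have a := hy ⟨_, mk w hw⟩ fun e => hw1 (congrArg (fun x : Subgroup.center Q => ((x : Q) : G)) e)
    have b := hy ⟨_, mk z hzc⟩ fun e => h1 (congrArg (fun x : Subgroup.center Q => ((x : Q) : G)) e)
    exact congrArg (fun x : Subgroup.center Q => ((x : Q) : G)) (a.trans b.symm)
  obtain ⟨S, hS⟩ := hQ2.exists_le_sylow
  have hzQ : z ∈ Q := hlarge fun q hq => Subgroup.mem_centralizer_singleton_iff.1 (hQC hq)
  refine ⟨⟨S, ?_⟩, fun u hu ⟨P, hP⟩ => ?_⟩
  · have : Nontrivial S := ⟨⟨⟨z, hS hzQ⟩, 1, fun e => h1 (congrArg Subtype.val e)⟩⟩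
    have := S.isPGroup'.center_nontrivial
    obtain ⟨w, hw⟩ := exists_ne (1 : Subgroup.center S)
    have hc : ∀ s ∈ S, s * (w : S) = (w : S) * s := fun s hs =>
      congrArg Subtype.val (Subgroup.mem_center_iff.1 w.2 ⟨s, hs⟩)
    have e := key ((w : S) : G) (fun e => hw (Subtype.ext (Subtype.ext e))) fun q hq => hc q (hS hq)
    intro s hs
    rw [Subgroup.mem_centralizer_singleton_iff, ← e]
    exact hc s hs
  · obtain ⟨g, hg⟩ := MulAction.exists_smul_eq G P S
    have := key (g * u * g⁻¹) (fun e => by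
      have : u = 1 := by simpa using e
      simp [this] at hu) fun q hq => by
        have h2 : q ∈ ((g • P : Sylow 2 G) : Subgroup G) := hg ▸ hS hq
        rw [Sylow.coe_subgroup_smul, Subgroup.mem_pointwise_smul_iff_inv_smul_mem] at h2
        have h3 := Subgroup.mem_centralizer_singleton_iff.1 (hP h2)
        simp only [MulAut.smul_def, MulAut.conj_inv_apply] at h3
        calc q * (g * u * g⁻¹) = g * (g⁻¹ * q * g * u) * g⁻¹ := by group
          _ = g * u * g⁻¹ * q := by rw [h3]; group
    exact (isConj_iff.2 ⟨g, this⟩).symm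

end Cfsg.Agent.S0481
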