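import Cfsg.Statements.S0498
import Cfsg.Agent.H9.Sm1

set_option autoImplicit false
open Cfsg

namespace Cfsg.Agent.S0498

/-- A simple group of order 660, respectively 1092, is isomorphic to the projective special linear group of dimension 2
over the field with 11, respectively 13, elements. -/
theorem result {G : Type*} [Group G] [Finite G] [IsSimpleGroup G] (p : ℕ)
    (hp : p = 11 ∨ p = 13) (h : 2 * Nat.card G = p * (p ^ 2 - 1)) {F : Type*} [Field F] [Fintype F]
    (hF : Fintype.card F = p) : Nonempty (G ≃* Matrix.ProjectiveSpecialLinearGroup (Fin 2) F) := by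
  have key : (Nat.card G = 660 ∧ p = 11) ∨ (Nat.card G = 1092 ∧ p = 13) := by
    rcases hp with rfl | rfl <;> norm_num at h <;> omega
  clear h hp
  rcases key with ⟨h, rfl⟩ | ⟨h, rfl⟩
  · rcases H9.big_prime (G := G) (by rw [h]; norm_num) 11 (by norm_num) (by rw [h]; norm_num)
      (by rw [h]; norm_num) with ⟨h0, h1⟩ | ⟨h0, h1⟩
    · exact h1 F hF
    · rw [h] at h0; norm_num at h0
  · rcases H9.big_prime (G := G) (by rw [h]; norm_num) 13 (by norm_num) (by rw [h]; norm_num)
      (by rw [h]; norm_num) with ⟨h0, h1⟩ | ⟨h0, h1⟩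
    · exact h1 F hF
    · rw [h] at h0; norm_num at h0

end Cfsg.Agent.S0498
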