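import Cfsg.Statements.S0502
import Cfsg.Agent.Comp.Conn
import Cfsg.Agent.Inv.Small

set_option autoImplicit false
open Cfsg

namespace Cfsg.Agent.S0502

open Cfsg.Agent.Comp Subgroup


/-- If a finite 2-group has a normal elementary abelian subgroup of order at least 8, then any two of its Klein
four-subgroups are joined by a chain of Klein four-subgroups with consecutive members commuting elementwise. -/
theorem result {P : Type*} [Group P] [Finite P] (hP : IsPGroup 2 P)
    (E : Subgroup P) [E.Normal] (hE : IsMulCommutative E) (hE2 : ∀ e ∈ E, e ^ 2 = 1) (hE8 : 8 ≤ Nat.card E) :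
    Cfsg.IsFourConnected P := by
  have hE' : IsElementaryAbelian 2 E := ⟨hE, hE2⟩
  obtain ⟨U, -, hn, hU, hc⟩ := exists_normal_sq hP hE' (le_trans (by norm_num) hE8)
  have kf : ∀ {X : Subgroup P}, IsElementaryAbelian 2 X → Nat.card X = 2 ^ 2 → IsKleinFour X :=
    fun h1 h2 => Inv.kf_of_card h2 fun x hx => sq x ▸ h1.2 x hx
  have br : ∀ X : Subgroup P, IsKleinFour X → ∃ F : Subgroup P, IsKleinFour F ∧
      F ≤ centralizer (U : Set P) ∧ F ≤ centralizer (X : Set P) := fun X h => by
    obtain ⟨F, f1, f2, f3⟩ := exists_three_centralizing hP hE' hE8 (fun x hx => by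
      have := hE8.trans (card_le_sq_centralizer hE' (le_normalizer_of_normal (mem_top x))
        (hx ▸ one_mem _))
      refine pow_succ_le_card (k := 1) (hP.to_subgroup _) ?_
      nlinarith) (X := X) ⟨⟨⟨fun a b => Subtype.ext (Inv.kf_comm h a.2 b.2)⟩⟩,
        fun x hx => (sq x).trans (Inv.kf_sq h hx)⟩ (Inv.kf_card h).ge
    obtain ⟨D, d1, d2, d3, d4⟩ := exists_bridge hP hU hc f2 f3
    exact ⟨D, kf d2 d3, d4, d1.trans f1⟩
  intro X Y hX hY
  obtain ⟨F, f1, f2, f3⟩ := br X hX
  obtain ⟨D, d1, d2, d3⟩ := br Y hY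
  exact (((Relation.ReflTransGen.single ⟨hX, f1, fun a ha b hb => f3 hb a ha⟩).tail
    ⟨f1, kf hU hc, fun a ha b hb => (f2 ha b hb).symm⟩).tail
    ⟨kf hU hc, d1, fun a ha b hb => d2 hb a ha⟩).tail ⟨d1, hY, fun a ha b hb => (d3 ha b hb).symm⟩

end Cfsg.Agent.S0502
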