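import Cfsg.Statements.S0512
import Cfsg.Agent.U2.Main
import Cfsg.Agent.U2.Mod

set_option autoImplicit false
open Cfsg

namespace Cfsg.Agent.S0512

/-- A finite simple group whose Sylow 2-subgroups are isomorphic to a Sylow 2-subgroup of the projective special
linear group of dimension 5 over the field with 2 elements is isomorphic to that linear group, or is simple of order
244823040 or 4030387200 (the orders of the largest Mathieu group and of the Held group). -/
theorem result {G : Type*} [Group G] [Finite G] [IsSimpleGroup G]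
    {F : Type*} [Field F] [Fintype F] (hF : Fintype.card F = 2) (S : Sylow 2 G)
    (P : Sylow 2 (Matrix.ProjectiveSpecialLinearGroup (Fin 5) F))
    (hS : Nonempty ((S : Subgroup G) ≃* (P : Subgroup (Matrix.ProjectiveSpecialLinearGroup (Fin 5) F)))) :
    Nonempty (G ≃* Matrix.ProjectiveSpecialLinearGroup (Fin 5) F) ∨ Cfsg.IsM24 G ∨ Cfsg.IsHe G := by
  obtain ⟨ι, h⟩ := U2.exists_iota hF S P hS
  obtain ⟨ψ⟩ := U2.iso_L52 hF
  exact h.main.imp (fun ⟨φ⟩ => ⟨φ.trans ψ⟩) (Or.imp (fun ⟨φ⟩ => ⟨‹_›, (Nat.card_congr φ.toEquiv).trans Gol.card_M24⟩)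
    fun ⟨φ⟩ => ⟨‹_›, (Nat.card_congr φ.toEquiv).trans Spor.HeG.card⟩)

end Cfsg.Agent.S0512
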