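import Cfsg.Statements.S0515
import Cfsg.Agent.SFT.C

set_option autoImplicit false
open Cfsg

namespace Cfsg.Agent.S0515

/-- Inside a finite group, let A be an elementary abelian p-subgroup of order at least p^3 normalizing a subgroup K of
order prime to p. If the centralizer in K of every non-identity element of A is solvable, then K is solvable. -/
theorem result {X : Type*} [Group X] [Finite X]
    (p : ℕ) [Fact p.Prime] (A K : Subgroup X) (hA : IsMulCommutative A) (hAp : ∀ a ∈ A, a ^ p = 1)
    (hA3 : p ^ 3 ≤ Nat.card A) (hK : (Nat.card K).Coprime p) (hAK : A ≤ Subgroup.normalizer (K : Set X))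
    (hC : ∀ a ∈ A, a ≠ 1 → Group.IsSolvable ((K ⊓ Subgroup.centralizer ({a} : Set X) : Subgroup X))) :
    Group.IsSolvable K := by
  have e : BG.Abelem p A := ⟨BG.abel_of hA, hAp⟩
  have c : ∀ a ∈ A, A ≤ Subgroup.centralizer {a} := fun a b => e.abel.trans (BG.C_le_C1 b)
  have h := SFT.complete (p := p) (A := A) (θ := fun a => K ⊓ Subgroup.centralizer {a}) ⟨BG.abelem_iff.1 e,
    fun _ _ _ => inf_le_right, fun _ _ _ => hK.coprime_dvd_left (BG.cardS inf_le_left),
    fun a b _ => BG.normI hAK (BG.normC1 (c a b)), fun _ _ _ _ _ _ => inf_le_inf_right _ inf_le_left, hC⟩ hA3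
  exact BG.Sol.of_le h.solv (Comp.le_of_elements (BG.abelem_iff.1 e) ((Nat.pow_le_pow_right (Fact.out : p.Prime).pos
    (by omega)).trans hA3) hK hAK fun a b c => SFT.le_Gen (θ := fun a => K ⊓ Subgroup.centralizer {a}) b c)

end Cfsg.Agent.S0515
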