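import Cfsg.Statements.S0516
import Cfsg.Agent.Dih.Rank2
import Cfsg.Agent.S0949
import Cfsg.Agent.PF.FT

set_option autoImplicit false
open Cfsg

namespace Cfsg.Agent.S0516

/-- In a non-abelian finite simple group of 2-rank at most 2, a Sylow 2-subgroup is dihedral (of order at least 4),
quasi-dihedral, wreathed, or isomorphic to a Sylow 2-subgroup of the projective special unitary group of dimension 3
over the field with 16 elements. -/
theorem result {G : Type*} [Group G] [Finite G] [IsSimpleGroup G]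
    (hG : ¬ IsMulCommutative G) (h2 : Cfsg.PRankLE 2 2 G) (S : Sylow 2 G) {F : Type*} [Field F] [Fintype F]
    (hF : Fintype.card F = 16) (P : Sylow 2 (Cfsg.PSU 3 F 4)) :
    (∃ n : ℕ, 2 ≤ n ∧ Nonempty ((S : Subgroup G) ≃* DihedralGroup n)) ∨ Cfsg.IsQuasiDihedral (S : Subgroup G) ∨
      Cfsg.IsWreathed (S : Subgroup G) ∨ Nonempty ((S : Subgroup G) ≃* (P : Subgroup (Cfsg.PSU 3 F 4))) := by
  open Cfsg.Agent.Dih Cfsg.Agent.Inv Cfsg.Agent.PLoc Subgroup in
  open scoped commutatorElement in
  focus
    have hev : Even (Nat.card G) := Cfsg.Agent.PF.even_of_not_solvable fun h =>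
      hG ⟨⟨IsSimpleGroup.comm_iff_isSolvable.2 h⟩⟩
    have hO : ∀ N : Subgroup G, N.Normal → Odd (Nat.card N) → N = ⊥ := fun N hN h =>
      hN.eq_bot_or_eq_top.resolve_right fun e => by
        rw [e, card_top] at h
        exact Nat.not_odd_iff_even.2 hev h
    have hiso : ∀ z : G, ¬ IsIsolatedInvolution z := fun z hz => by
      have h1 : z ∈ center G := mem_center_iff.2 fun g => by
        have := Cfsg.Agent.Blk.zstar hz g
        rw [hO _ inferInstance (Nat.coprime_two_right.1 pPrimeCore_coprime), mem_bot, mul_inv_eq_one,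
          mul_inv_eq_iff_eq_mul] at this
        exact this.symm
      rcases (inferInstance : (center G).Normal).eq_bot_or_eq_top with e | e
      · exact ne_one_of_ord2 hz.1 (mem_bot.1 (e ▸ h1))
      · exact hG ⟨⟨fun a b => mem_center_iff.1 (e ▸ mem_top b) a⟩⟩
    have h1 : ¬ PRankLE 2 1 G := fun h => by
      obtain ⟨z, hz⟩ := exists_prime_orderOf_dvd_card' 2 hev.two_dvd
      refine hiso z ⟨hz, fun g hg => ?_⟩
      by_contra hne
      have hk := kf_sup hz ((Cfsg.Agent.Inv.orderOf_conj' g z).trans hz) (Ne.symm hne) hg.eq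
      have := h _ hk.isMulCommutative fun a ha => sq a ▸ kf_sq hk ha
      rw [kf_card hk] at this
      omega
    rcases rank2_sylow h2 h1 hiso S hF P with h | h | h | ⟨n, hn, ⟨e⟩⟩ | h
    · exact .inl h
    · exact .inr (.inl h)
    · exact .inr (.inr (.inl h))
    · exfalso
      rcases (Cfsg.Agent.S0949.result S n hn e hO).1.eq_bot_or_eq_top with h | h
      · exact S.ne_bot_of_dvd_card hev.two_dvd h
      · exact not_isPGroup_of_simple hG (isPGroup_top_iff.1 (h ▸ S.isPGroup'))
    · exact .inr (.inr (.inr h))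

end Cfsg.Agent.S0516
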