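import Cfsg.Statements.S0520
import Cfsg.Agent.Comp.Conn

set_option autoImplicit false
open Cfsg

namespace Cfsg.Agent.S0520

open Cfsg.Agent.Comp Subgroup PLoc


/-- Let G be a finite group of 2-rank at least 2 and S a Sylow 2-subgroup whose commuting graph of Klein four-subgroups is
connected. Then the commuting graph of Klein four-subgroups of G is disconnected if and only if the 2-generated core — the
subgroup generated by the normalizers N_G(Q) of the subgroups Q of S that contain a Klein four-group — is a proper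
subgroup of G. -/
theorem result {G : Type*} [Group G] [Finite G] (h2 : ¬ Cfsg.PRankLE 2 1 G)
    (S : Sylow 2 G) (hS : Cfsg.IsFourConnected (S : Subgroup G)) :
    ¬ Cfsg.IsFourConnected G ↔
      (⨆ Q : {Q : Subgroup G // Q ≤ (S : Subgroup G) ∧ ¬ Cfsg.PRankLE 2 1 Q},
          Subgroup.normalizer ((Q : Subgroup G) : Set G)) ≠ ⊤ := by
  have kf : ∀ {X : Subgroup G}, ¬ PRankLE 2 1 X ↔ ∃ F ≤ X, IsKleinFour F := by
    intro X
    rw [not_rank_iff]
    constructor
    · rintro ⟨E, e1, e2, e3⟩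
      obtain ⟨F, f1, f2⟩ := exists_le_card_eq_pow (elemAb_isPGroup e2) e3
      exact ⟨F, f1.trans e1, Inv.kf_of_card f2 fun x hx => sq x ▸ e2.2 x (f1 hx)⟩
    · rintro ⟨F, f1, h⟩
      exact ⟨F, f1, ⟨⟨⟨fun a b => Subtype.ext (Inv.kf_comm h a.2 b.2)⟩⟩,
        fun x hx => (sq x).trans (Inv.kf_sq h hx)⟩, (Inv.kf_card h).ge⟩
  obtain ⟨E, e1, e2⟩ : ∃ E ≤ (S : Subgroup G), IsKleinFour E := kf.1 fun h => h2 fun A a1 a2 =>
    Inv.pRankLE_iff.1 (Inv.pRankLE_of_sylow (isSylowOf_top S) h) A le_top a1 a2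
  set R := fun A B : Subgroup G => IsKleinFour A ∧ IsKleinFour B ∧ ∀ a ∈ A, ∀ b ∈ B, a * b = b * a
  have hs : ∀ A B, R A B → R B A := fun A B h =>
    ⟨h.2.1, h.1, fun b hb a ha => (h.2.2 a ha b hb).symm⟩
  have hc : ∀ g A B, R A B → R (cj g A) (cj g B) := fun g A B h =>
    ⟨Inv.kf_cj h.1 g, Inv.kf_cj h.2.1 g, comm_cj h.2.2 g⟩
  set Γ := ⨆ Q : {Q : Subgroup G // Q ≤ (S : Subgroup G) ∧ ¬ PRankLE 2 1 Q},
    normalizer ((Q : Subgroup G) : Set G)
  have hΓ : ∀ Q ≤ (S : Subgroup G), ¬ PRankLE 2 1 Q → normalizer (Q : Set G) ≤ Γ := fun Q q1 q2 =>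
    le_iSup (fun Q : {Q : Subgroup G // Q ≤ (S : Subgroup G) ∧ ¬ PRankLE 2 1 Q} =>
      normalizer ((Q : Subgroup G) : Set G)) ⟨Q, q1, q2⟩
  constructor
  · intro h e
    have k0 : ∀ A ≤ (S : Subgroup G), IsKleinFour A → IsKleinFour (A.subgroupOf S) := fun A a1 a2 =>
      Inv.kf_of_card (by rw [PLoc.card_subgroupOf_of_le a1, Inv.kf_card a2])
        fun x hx => Subtype.ext (Inv.kf_sq a2 hx)
    have k1 : ∀ A ≤ (S : Subgroup G), IsKleinFour A → Relation.ReflTransGen R A E := by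
      intro A a1 a2
      have := Relation.ReflTransGen.lift (p := R) (fun B => B.map (S : Subgroup G).subtype)
        (fun B C h => ?_) _ _ (hS _ _ (k0 A a1 a2) (k0 E e1 e2))
      · simpa only [Function.onFun, map_subgroupOf_eq_of_le a1, map_subgroupOf_eq_of_le e1] using this
      have k : ∀ B : Subgroup S, IsKleinFour B → IsKleinFour (B.map (S : Subgroup G).subtype) :=
        fun B h => Inv.kf_of_card (by rw [card_subtype, Inv.kf_card h]) (by
          rintro _ ⟨x, hx, rfl⟩; exact congrArg Subtype.val (Inv.kf_sq h hx))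
      refine ⟨k B h.1, k C h.2.1, ?_⟩
      rintro _ ⟨a, ha, rfl⟩ _ ⟨b, hb, rfl⟩
      exact congrArg Subtype.val (h.2.2 a ha b hb)
    have k2 : Γ ≤ compStab hs hc E := iSup_le fun Q g hg => by
      obtain ⟨F, f1, f2⟩ := kf.1 Q.2.2
      exact (rtg_symm hs (rtg_cj hc g (k1 F (f1.trans Q.2.1) f2))).trans
        (k1 _ ((cj_le_of_mem_normalizer f1 hg).trans Q.2.1) (Inv.kf_cj f2 g))
    have k3 : ∀ A : Subgroup G, IsKleinFour A → Relation.ReflTransGen R A E := fun A a2 => by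
      obtain ⟨g, -, g2⟩ := (isSylowOf_top S).exists_cj_le (Inv.kf_isPGroup a2) le_top
      have := rtg_cj hc g⁻¹ (k1 _ g2 (Inv.kf_cj a2 g))
      rw [cj_inv_cj] at this
      exact this.trans (k2 (e ▸ mem_top _))
    exact h fun A B a b => (k3 A a).trans (rtg_symm hs (k3 B b))
  · intro h hG
    have k0 : ∀ (X : Subgroup G) (g : G), ¬ PRankLE 2 1 X → ¬ PRankLE 2 1 (cj g X) := by
      intro X g h h'
      have := Inv.pRankLE_cj g⁻¹ h'
      rw [cj_inv_cj] at this
      exact h this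
    have k1 : ∀ X : Subgroup G, IsPGroup 2 X → X ≤ Γ → ¬ PRankLE 2 1 X →
        normalizer (X : Set G) ≤ Γ := fun X => Inv.normalizer_le_of_sylow (isSylowOf_sylow S
      (le_normalizer.trans (hΓ S le_rfl (kf.2 ⟨E, e1, e2⟩)))) (fun X => ¬ PRankLE 2 1 X) k0 hΓ
    have k2 : E ≤ Γ := le_normalizer.trans (hΓ E e1 (kf.2 ⟨E, le_rfl, e2⟩))
    refine h (eq_top_iff.2 fun g _ => ?_)
    have k3 : cj g E ≤ Γ := by
      have := hG E _ e2 (Inv.kf_cj e2 g)
      generalize cj g E = F at this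
      induction this with
      | refl => exact k2
      | tail _ h ih =>
        exact fun b hb => k1 _ (Inv.kf_isPGroup h.1) ih (kf.2 ⟨_, le_rfl, h.1⟩)
          (centralizer_le_normalizer _ fun a ha => h.2.2 a ha b hb)
    obtain ⟨Q, hQ, q⟩ := exists_isSylowOf_ge (Inv.kf_isPGroup (Inv.kf_cj e2 g))
      (le_inf k3 (cj_mono g k2))
    have q1 := kf.2 ⟨_, q, Inv.kf_cj e2 g⟩
    exact Inv.mem_of_normalizer_le hQ (k1 Q hQ.isP (hQ.le.trans inf_le_left) q1)
      (k1 _ (isPGroup_cj _ hQ.isP) (le_cj_iff.1 (hQ.le.trans inf_le_right)) (k0 _ _ q1))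

end Cfsg.Agent.S0520
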