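import Cfsg.Statements.S0522
import Cfsg.Agent.Comp.TB

set_option autoImplicit false
open Cfsg

namespace Cfsg.Agent.S0522

open Cfsg.Agent.Comp Subgroup
open scoped commutatorElement


/-- Transitivity Theorem (odd-order setting). Let X be a finite group of odd order in which the normalizer of every
nontrivial p-subgroup is solvable, P a Sylow p-subgroup, and B an abelian subgroup of P, normalized by P, with
C_P(B) = B and containing an elementary abelian subgroup of order p^3. Then for every prime q ≠ p, any two q-subgroups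
that are maximal among the q-subgroups normalized by B are conjugate by an element of the centralizer of B. -/
theorem result {X : Type*} [Group X] [Finite X] (hX : Odd (Nat.card X)) (p : ℕ)
    [Fact p.Prime] (hloc : ∀ T : Subgroup X, IsPGroup p T → T ≠ ⊥ → Group.IsSolvable (Subgroup.normalizer (T : Set X)))
    (P : Sylow p X) (B : Subgroup X) (hBP : B ≤ (P : Subgroup X))
    (hBn : ∀ x ∈ (P : Subgroup X), ∀ b ∈ B, x * b * x⁻¹ ∈ B) (hBa : IsMulCommutative B)
    (hBc : (P : Subgroup X) ⊓ Subgroup.centralizer (B : Set X) = B)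
    (hB3 : ∃ E : Subgroup X, E ≤ B ∧ (∀ e ∈ E, e ^ p = 1) ∧ p ^ 3 ≤ Nat.card E)
    (q : ℕ) [Fact q.Prime] (hqp : q ≠ p) (Q₁ Q₂ : Subgroup X)
    (h₁ : IsPGroup q Q₁ ∧ B ≤ Subgroup.normalizer (Q₁ : Set X) ∧
      ∀ R : Subgroup X, IsPGroup q R → B ≤ Subgroup.normalizer (R : Set X) → Q₁ ≤ R → R = Q₁)
    (h₂ : IsPGroup q Q₂ ∧ B ≤ Subgroup.normalizer (Q₂ : Set X) ∧
      ∀ R : Subgroup X, IsPGroup q R → B ≤ Subgroup.normalizer (R : Set X) → Q₂ ≤ R → R = Q₂) :
    ∃ c ∈ Subgroup.centralizer (B : Set X), Q₂ = Q₁.map (MulAut.conj c).toMonoidHom := by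
  obtain ⟨E, e1, e2, e3⟩ := hB3
  have hBc' : B ≤ centralizer (B : Set X) := fun a ha b hb =>
    congrArg Subtype.val (hBa.is_comm.comm ⟨b, hb⟩ ⟨a, ha⟩)
  have hE : IsElementaryAbelian p E := elemAb_of (fun a ha b hb => hBc' (e1 hb) a (e1 ha)) e2
  have hBp : IsPGroup p B := P.isPGroup'.to_le hBP
  have hS : SylIn p B (centralizer (B : Set X)) := by
    have := (sylIn_top P).inf_normal (N := centralizer (B : Set X)) le_top
      ((le_normalizer_iff_mem.2 hBn).trans (centralizer_normalizer B))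
    rwa [hBc] at this
  have hfull : ∀ x ∈ centralizer (B : Set X), ∀ k, x ^ p ^ k = 1 → x ∈ B := fun x hx k hk => by
    have := hS.eq_of_le (Q := zpowers x ⊔ B) le_sup_right (sup_le (zpowers_le.2 hx) hBc')
      ((isPGroup_zpowers hk).to_sup_of_normal_right' hBp
        ((zpowers_le.2 hx).trans (centralizer_le_normalizer _)))
    rw [← this]; exact mem_sup_left (mem_zpowers x)
  have hp2 : p ≠ 2 := by
    rintro rfl
    have := ne_bot_of_pow_le (by norm_num) e3
    exact this (eq_bot_of_pgroup_coprime (elemAb_isPGroup hE)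
      (Nat.Coprime.coprime_dvd_left (card_subgroup_dvd_card E) (Nat.coprime_two_right.2 hX)))
  have key : ∀ Q : Subgroup X, (IsPGroup q Q ∧ B ≤ normalizer (Q : Set X) ∧
      ∀ R : Subgroup X, IsPGroup q R → B ≤ normalizer (R : Set X) → Q ≤ R → R = Q) →
      MaxQ (fun U => (Nat.card U).Coprime p ∧ B ≤ normalizer (U : Set X)) q Q :=
    fun Q h => ⟨⟨pgroup_coprime_prime hqp h.1, h.2.1⟩, h.1, fun R a b c => h.2.2 R b a.2 c⟩
  obtain ⟨c, hc, e⟩ := transitivity_local hE e3 e1 hBp hBc' hfull (fun a ha h1 K k1 k2 k3 =>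
    thompson_bender hp2 (PLay_eq_bot_of_solvable (solvable_of_le
      ((centralizer_zpowers a).ge.trans (centralizer_le_normalizer _))
      (hloc _ (elemAb_zpowers_isPGroup hE ha) (zpowers_ne_bot.2 h1))))
      (hBc'.trans (centralizer_le (Set.singleton_subset_iff.2 (e1 ha)))) k1 hBp k2 k3
      fun x _ h2 h3 => hfull x h2 1 (by rwa [pow_one])) (key _ h₁) (key _ h₂)
  exact ⟨c, Opp_le hc, e.symm⟩

end Cfsg.Agent.S0522
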