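import Cfsg.Statements.S0535
import Cfsg.Agent.Core.Product

set_option autoImplicit false
open Cfsg

namespace Cfsg.Agent.S0535

/-- Suppose that for every nontrivial subgroup H of a finite group and every prime p dividing the order of H there is a proper subgroup of H whose index in H is a power of p. Then the group is solvable. -/
theorem result {G : Type*} [Group G] [Finite G] (h : ∀ H : Subgroup G, H ≠ ⊥ → ∀ p : ℕ, p.Prime → p ∣ Nat.card H → ∃ K : Subgroup H, K ≠ ⊤ ∧ ∃ k : ℕ, K.index = p ^ k) : Group.IsSolvable G := by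
  refine Core.isSolvable_of_forall_isPiHall fun p hp => ?_
  obtain ⟨H, -, hH, hm⟩ := Core.exists_minimal_le
    (P := fun H : Subgroup G => Core.IsPiNum {p} H.index) (H := ⊤)
    (by rw [Subgroup.index_top]; exact Core.isPiNum_one _)
  refine ⟨H, Core.isPiHall_iff.mpr ⟨(Core.isPiNum_compl_singleton_iff hp).mpr
    (hp.coprime_iff_not_dvd.mpr fun hd => ?_).symm, by rwa [compl_compl]⟩⟩
  obtain ⟨K, hK, k, hk⟩ := h H (by
    rintro rfl; rw [Subgroup.card_bot] at hd; exact hp.one_lt.ne' (Nat.dvd_one.mp hd)) p hp hd
  apply hK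
  have := hm (K.map H.subtype) (by
    rw [← Subgroup.relIndex_mul_index (Subgroup.map_subtype_le K), Subgroup.relIndex,
      Core.map_subtype_subgroupOf, hk]
    exact ((Core.isPiNum_prime hp (Set.mem_singleton p)).pow k).mul hH) (Subgroup.map_subtype_le K)
  rw [← Core.map_subtype_subgroupOf K, this, Subgroup.subgroupOf_self]

end Cfsg.Agent.S0535
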