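import Cfsg.Statements.S0537
import Cfsg.Agent.Core.Schmidt

set_option autoImplicit false
open Cfsg

namespace Cfsg.Agent.S0537

/-- A finite non-abelian group in which every proper subgroup is abelian is either of prime-power order, or is generated by a cyclic Sylow p-subgroup and a normal Sylow q-subgroup that is elementary abelian, for distinct primes p and q. -/
theorem result {G : Type*} [Group G] [Finite G] (hna : ¬ IsMulCommutative G) (h : ∀ H : Subgroup G, H ≠ ⊤ → IsMulCommutative H) : (∃ p : ℕ, p.Prime ∧ IsPGroup p G) ∨ ∃ p q : ℕ, p.Prime ∧ q.Prime ∧ p ≠ q ∧ ∃ (P : Sylow p G) (Q : Sylow q G), IsCyclic P ∧ (Q : Subgroup G).Normal ∧ Cfsg.IsElementaryAbelian q (Q : Subgroup G) ∧ (P : Subgroup G) ⊔ Q = ⊤ := by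
  by_cases hpg : ∃ p : ℕ, p.Prime ∧ IsPGroup p G
  · exact Or.inl hpg
  right
  have hnn : ¬ Group.IsNilpotent G := by
    intro hn
    apply hna
    have hn' : Group.IsNilpotent (⊤ : Subgroup G) := inferInstance
    have key : ∀ (p : ℕ) [Fact p.Prime] (P : Subgroup G), Core.IsSylowIn p P ⊤ →
        P ≤ Subgroup.centralizer ((⊤ : Subgroup G) : Set G) := by
      intro p hp P hP
      rw [Subgroup.le_centralizer_iff]
      refine Core.le_of_forall_isSylowIn_le fun r hr => ?_
      by_cases e : r = p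
      · subst e
        refine ⟨P, hP, Subgroup.le_centralizer_iff_isMulCommutative.mpr (h P ?_)⟩
        rintro rfl
        exact hpg ⟨r, hr.out, hP.2.1.of_equiv Subgroup.topEquiv⟩
      · obtain ⟨R, hR⟩ := Core.exists_isSylowIn r (⊤ : Subgroup G)
        exact ⟨R, hR, Core.le_centralizer_of_isNilpotent_of_coprime hn' le_top le_top
          (IsPGroup.coprime_card_of_ne r p e _ _ hR.2.1 hP.2.1)⟩
    have : (⊤ : Subgroup G) ≤ Subgroup.centralizer ((⊤ : Subgroup G) : Set G) :=
      Core.le_of_forall_isSylowIn_le fun p _ => by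
        obtain ⟨P, hP⟩ := Core.exists_isSylowIn p (⊤ : Subgroup G)
        exact ⟨P, hP, key p P hP⟩
    exact ⟨⟨fun a b => this (Subgroup.mem_top b) a (Subgroup.mem_top a)⟩⟩
  obtain ⟨p, q, x, Q, hp, hq, hpq, hP, hQ, hQn, hsup, hx⟩ :=
    Core.minimal_nonnilpotent_structure hnn fun H hH => Core.isNilpotent_of_comm (h H hH)
  have := Fact.mk hp
  have := Fact.mk hq
  have hQa : IsMulCommutative Q := h Q (by
    rintro rfl
    exact hpg ⟨q, hq, hQ.2.1.of_equiv Subgroup.topEquiv⟩)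
  have hc := IsPGroup.coprime_card_of_ne p q hpq _ _ hP.2.1 hQ.2.1
  have hW := Core.powKer_normal Q hQa q
  have hsup' : Subgroup.zpowers x ⊔ Core.powKer Q hQa q = ⊤ := by
    by_contra h1
    refine hx (Core.le_centralizer_of_prime_order hQa Subgroup.le_normalizer_of_normal hc
      (fun v hv hvp y hy => ?_) (Subgroup.mem_zpowers x))
    refine Core.isMulCommutative_iff_mem.mp (h _ h1) y (Subgroup.mem_sup_left hy) v
      (Subgroup.mem_sup_right ⟨hv, ?_⟩)
    obtain ⟨n, hn⟩ := IsPGroup.iff_orderOf.mp hQ.2.1 ⟨v, hv⟩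
    rw [Subgroup.orderOf_mk] at hn
    rw [← (Nat.prime_dvd_prime_iff_eq hvp hq).mp (hvp.dvd_of_dvd_pow (dvd_of_eq hn))]
    exact pow_orderOf_eq_one v
  have hWs : Core.IsSylowIn q (Core.powKer Q hQa q) ⊤ := by
    refine ⟨le_top, hQ.2.1.to_le (Core.powKer_le _ _ _), fun d => ?_⟩
    have h2 := (Core.isProd_sup_of_le_normalizer (H := Subgroup.zpowers x)
      (K := Core.powKer Q hQa q) Subgroup.le_normalizer_of_normal).symm.relIndex_dvd
    rw [hsup'] at h2
    exact hq.one_lt.ne' (Nat.eq_one_of_dvd_coprimes (Core.IsPGroup_coprime_card hP.2.1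
      ((Nat.coprime_primes hq hp).mpr hpq.symm)) (d.trans h2) dvd_rfl)
  have e := hWs.eq_of_le hQ.2.1 le_top (Core.powKer_le _ _ _)
  obtain ⟨P, hP⟩ := hP.exists_sylow_top
  obtain ⟨Q, rfl⟩ := hQ.exists_sylow_top
  refine ⟨p, q, hp, hq, hpq, P, Q, ?_, hQn, ⟨hQa, fun a ha => (e.le ha).2⟩, hP ▸ hsup⟩
  change IsCyclic (P : Subgroup G)
  rw [hP]; infer_instance

end Cfsg.Agent.S0537
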