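import Cfsg.Statements.S0547
import Cfsg.Agent.Core.Primitive

set_option autoImplicit false
open Cfsg

namespace Cfsg.Agent.S0547

/-- Let a finite solvable group G act faithfully and primitively on a set, and let M be a minimal normal subgroup of G. Then M is transitive with trivial point stabilizers, and the number of points equals the order of M, which is a prime power p ^ d with d ≥ 1. -/
theorem result {G : Type*} [Group G] [Finite G] [Group.IsSolvable G] {Ω : Type*} [Nonempty Ω] [MulAction G Ω] [FaithfulSMul G Ω] (hprim : MulAction.IsPreprimitive G Ω) (M : Subgroup G) [M.Normal] (hM : M ≠ ⊥) (hmin : ∀ K : Subgroup G, K.Normal → K ≤ M → K = ⊥ ∨ K = M) : MulAction.IsPretransitive M Ω ∧ (∀ ω : Ω, MulAction.stabilizer M ω = ⊥) ∧ ∃ p d : ℕ, p.Prime ∧ 0 < d ∧ Nat.card Ω = p ^ d ∧ Nat.card M = p ^ d := by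
  have : Nontrivial G := (Subgroup.nontrivial_iff (G := G)).mp ⟨⟨M, ⊥, hM⟩⟩
  have mM : Core.IsMinNormal M := ⟨inferInstance, hM, hmin⟩
  have ha := mM.isMulCommutative inferInstance
  have hc : ∀ ω : Ω, Subgroup.IsComplement' M (MulAction.stabilizer G ω) := fun ω =>
    Core.corefree_isComplement' (Core.isCoatom_stabilizer_of_nontrivial ω)
      (Core.normalCore_stabilizer_eq_bot ω) hM ha
  refine ⟨⟨fun x y => ?_⟩, fun ω => ?_, ?_⟩
  · obtain ⟨g, rfl⟩ := MulAction.exists_smul_eq G x y
    obtain ⟨n, hn, h, hh, rfl⟩ := Core.exists_mul_of_isComplement' (hc x) g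
    exact ⟨⟨n, hn⟩, by rw [mul_smul, MulAction.mem_stabilizer_iff.mp hh]; rfl⟩
  · rw [eq_bot_iff]
    intro m hm
    exact Subgroup.mem_bot.mpr (Subtype.ext (Subgroup.disjoint_def.mp (hc ω).disjoint m.2 hm))
  · obtain ⟨p, hp, hP⟩ := mM.exists_isPGroup inferInstance
    have := Fact.mk hp
    obtain ⟨d, hd⟩ := IsPGroup.iff_card.mp hP
    obtain ⟨ω⟩ : Nonempty Ω := inferInstance
    refine ⟨p, d, hp, Nat.pos_of_ne_zero ?_, ?_, hd⟩
    · rintro rfl
      exact hM (Subgroup.card_eq_one.mp hd)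
    · rw [← hd, ← (hc ω).index_eq_card, MulAction.index_stabilizer_of_transitive]

end Cfsg.Agent.S0547
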