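import Cfsg.Statements.S0548
import Cfsg.Agent.Core.Primitive

set_option autoImplicit false
open Cfsg

namespace Cfsg.Agent.S0548

/-- Let a finite solvable group G act faithfully and primitively on a set, let M be a minimal normal subgroup and H the stabilizer of a point. Then H is a complement to M, no non-identity element of H centralizes M, and the only subgroups of M normalized by H are the trivial subgroup and M. -/
theorem result {G : Type*} [Group G] [Finite G] [Group.IsSolvable G] {Ω : Type*} [MulAction G Ω] [FaithfulSMul G Ω] (hprim : MulAction.IsPreprimitive G Ω) (M : Subgroup G) [M.Normal] (hM : M ≠ ⊥) (hmin : ∀ K : Subgroup G, K.Normal → K ≤ M → K = ⊥ ∨ K = M) (ω : Ω) : Subgroup.IsComplement' M (MulAction.stabilizer G ω) ∧ MulAction.stabilizer G ω ⊓ Subgroup.centralizer (M : Set G) = ⊥ ∧ ∀ K : Subgroup G, K ≤ M → MulAction.stabilizer G ω ≤ Subgroup.normalizer (K : Set G) → K = ⊥ ∨ K = M := by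
  have : Nontrivial G := (Subgroup.nontrivial_iff (G := G)).mp ⟨⟨M, ⊥, hM⟩⟩
  have mM : Core.IsMinNormal M := ⟨inferInstance, hM, hmin⟩
  have ha := mM.isMulCommutative inferInstance
  have h1 := Core.isCoatom_stabilizer_of_nontrivial (G := G) ω
  have h2 := Core.normalCore_stabilizer_eq_bot (G := G) ω
  refine ⟨Core.corefree_isComplement' h1 h2 hM ha,
    by rw [inf_comm]; exact Core.corefree_centralizer_inf h1 h2 hM, fun K hK hn => hmin K ?_ hK⟩
  exact Core.normal_of_sup_eq_top (Core.corefree_sup_eq_top h1 h2 hM) hn
    (((Subgroup.le_centralizer_iff_isMulCommutative.mpr ha).trans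
        (Core.centralizer_anti hK)).trans (Subgroup.centralizer_le_normalizer _))

end Cfsg.Agent.S0548
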