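import Cfsg.Statements.S0550
import Cfsg.Agent.Core.Primitive

set_option autoImplicit false
open Cfsg

namespace Cfsg.Agent.S0550

/-- Let U be a maximal subgroup with trivial normal core in a finite group G, and A ≠ B two minimal normal subgroups. Then A is the centralizer of B and B that of A, U complements each of them, A and B are non-abelian, and A, B and (A ⊔ B) ∩ U are pairwise isomorphic. -/
theorem result {G : Type*} [Group G] [Finite G] (U : Subgroup G) (hU : IsCoatom U) (hcore : U.normalCore = ⊥) (A B : Subgroup G) [A.Normal] [B.Normal] (hA : A ≠ ⊥) (hB : B ≠ ⊥) (hAmin : ∀ K : Subgroup G, K.Normal → K ≤ A → K = ⊥ ∨ K = A) (hBmin : ∀ K : Subgroup G, K.Normal → K ≤ B → K = ⊥ ∨ K = B) (hAB : A ≠ B) : Subgroup.centralizer (B : Set G) = A ∧ Subgroup.centralizer (A : Set G) = B ∧ Subgroup.IsComplement' A U ∧ Subgroup.IsComplement' B U ∧ ¬ IsMulCommutative A ∧ Nonempty (A ≃* B) ∧ Nonempty (A ≃* ↥((A ⊔ B) ⊓ U)) := by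
  have mA : Core.IsMinNormal A := ⟨inferInstance, hA, hAmin⟩
  have mB : Core.IsMinNormal B := ⟨inferInstance, hB, hBmin⟩
  have nAB : ¬ A ≤ B := fun h => hAB (mB.eq_of_le h hA)
  have nBA : ¬ B ≤ A := fun h => hAB (mA.eq_of_le h hB).symm
  have key : ∀ (A B : Subgroup G) [A.Normal] [B.Normal], Core.IsMinNormal A → B ≠ ⊥ → ¬ A ≤ B →
      Subgroup.centralizer (B : Set G) = A ∧ A ⊓ U = ⊥ ∧ Subgroup.IsComplement' A U := by
    intro A B _ _ mA hB h
    have h1 := mA.le_centralizer h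
    have h2 := Core.corefree_centralizer_inf hU hcore hB
    have h3 := (Core.corefree_isMinNormal hU hcore
      (fun e => mA.2.1 (eq_bot_iff.mpr (e ▸ h1))) h2).eq_of_le h1 mA.2.1
    rw [← h3] at h2
    exact ⟨h3.symm, h2, Core.isComplement'_of_normal h2
      (by rw [sup_comm]; exact Core.corefree_sup_eq_top hU hcore mA.2.1)⟩
  obtain ⟨a1, a2, a3⟩ := key A B mA hB nAB
  obtain ⟨b1, b2, b3⟩ := key B A mB hA nBA
  have hD : ∀ (C : Subgroup G) [C.Normal], C ≤ A ⊔ B → Subgroup.IsComplement' C U →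
      ((A ⊔ B) ⊓ U) ⊓ C = ⊥ ∧ ((A ⊔ B) ⊓ U) ⊔ C = A ⊔ B := fun C _ h1 h2 => by
    refine ⟨eq_bot_iff.mpr (h2.symm.disjoint.eq_bot ▸ inf_le_inf_right C inf_le_right), ?_⟩
    have := (Core.isProd_sup_of_le_normalizer (H := U) (K := C) Subgroup.le_normalizer_of_normal)
    rw [sup_comm, h2.sup_eq_top] at this
    exact (this.of_le_right h1 le_top).sup_eq
  obtain ⟨e₁⟩ := Core.nonempty_mulEquiv_of_sup_eq (mA.inf_eq_bot nAB) (hD B le_sup_right b3).1
    (hD B le_sup_right b3).2.symm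
  obtain ⟨e₂⟩ := Core.nonempty_mulEquiv_of_sup_eq (mB.inf_eq_bot nBA) (hD A le_sup_left a3).1
    ((sup_comm _ _).trans (hD A le_sup_left a3).2.symm)
  refine ⟨a1, b1, a3, b3, fun h => nAB ?_, ⟨e₁.trans e₂.symm⟩, ⟨e₁⟩⟩
  exact b1 ▸ Subgroup.le_centralizer_iff_isMulCommutative.mpr h

end Cfsg.Agent.S0550
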