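import Cfsg.Statements.S0553
import Cfsg.Agent.Core.Schmidt

set_option autoImplicit false
open Cfsg

namespace Cfsg.Agent.S0553

theorem aux (G : Type*) [Group G] [Finite G] : Group.IsSolvable G → Nontrivial G →
    (∀ M : Subgroup G, IsCoatom M → (Nat.card M).Coprime M.index) →
    ∃ p : ℕ, p.Prime ∧ p ∣ Nat.card G ∧ ∀ P : Sylow p G, (P : Subgroup G).Normal := by
  induction G, ‹Group G›, ‹Finite G› using Core.card_induction' with | _ G ih => ?_
  intro hs hn h
  obtain ⟨N, p, hN, hp, hNe, hNp⟩ := Core.exists_minNormal_elementaryAbelian (G := G)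
  have := hN.1
  have := Fact.mk hp
  have hd := Core.dvd_card_of_isPGroup_of_ne_bot hNp hN.2.1
  by_cases hΦ : N ≤ frattini G
  · have : Nontrivial (G ⧸ N) := by
      rw [QuotientGroup.nontrivial_iff]
      rintro rfl
      exact bot_ne_top (Core.eq_top_of_sup_eq_top_of_le_frattini hΦ (bot_sup_eq _))
    obtain ⟨q, hq, hqd, hQ⟩ := ih (G ⧸ N) (Core.card_quotient_lt hN.2.1) inferInstance this
      fun M hM => by
        have := h _ (Core.isCoatom_comap_mk' hM)
        rw [Core.card_comap_mk', Subgroup.index_comap_of_surjective _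
          (QuotientGroup.mk'_surjective N)] at this
        exact this.coprime_mul_right
    have := Fact.mk hq
    refine ⟨q, hq, hqd.trans (Subgroup.card_quotient_dvd_card N), fun P => ?_⟩
    obtain ⟨Q⟩ : Nonempty (Sylow q (G ⧸ N)) := inferInstance
    have := hQ Q
    have h1 : Group.IsNilpotent ((Q : Subgroup (G ⧸ N)).comap (QuotientGroup.mk' N)) :=
      Core.isNilpotent_of_map_mk'_of_le_frattini (Core.le_comap_mk' N _) hΦ
        (by rw [Core.map_comap_mk']; exact Q.isPGroup'.isNilpotent)
    obtain ⟨R, hR⟩ := Core.exists_isSylowIn q ((Q : Subgroup (G ⧸ N)).comap (QuotientGroup.mk' N))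
    have : R.Normal := Core.normal_iff_top_le_normalizer.mpr (Subgroup.le_normalizer_of_normal.trans
      (hR.normalizer_le (hR.le_normalizer_of_isNilpotent h1)))
    refine Core.sylow_normal_of_not_dvd_index hR.2.1 ?_ P
    rw [← Subgroup.relIndex_top_right]
    refine (hR.trans le_top ?_).2.2
    rw [Subgroup.relIndex_top_right, Subgroup.index_comap_of_surjective _
      (QuotientGroup.mk'_surjective N)]
    exact Q.not_dvd_index
  · rw [Core.le_frattini_iff] at hΦ
    push Not at hΦ
    obtain ⟨M, hM, hNM⟩ := hΦ
    have hc := hN.isComplement'_of_isCoatom hNe.1 hM hNM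
    refine ⟨p, hp, hd.trans (Subgroup.card_subgroup_dvd_card N), fun P =>
      Core.sylow_normal_of_not_dvd_index hNp (fun d => ?_) P⟩
    have := h M hM
    rw [hc.index_eq_card, ← hc.symm.index_eq_card] at this
    exact hp.one_lt.ne' (Nat.eq_one_of_dvd_coprimes this d hd)

/-- Let G be a nontrivial finite solvable group in which every maximal subgroup has order coprime to its index. Then for some prime p dividing the order of G the Sylow p-subgroups of G are normal. -/
theorem result {G : Type*} [Group G] [Finite G] [Group.IsSolvable G] [Nontrivial G] (h : ∀ M : Subgroup G, IsCoatom M → (Nat.card M).Coprime M.index) : ∃ p : ℕ, p.Prime ∧ p ∣ Nat.card G ∧ ∀ P : Sylow p G, (P : Subgroup G).Normal := by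
  exact aux G inferInstance inferInstance h

end Cfsg.Agent.S0553
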