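import Cfsg.Statements.S0554
import Cfsg.Agent.Core.Primitive

set_option autoImplicit false
open Cfsg

namespace Cfsg.Agent.S0554

theorem move {G : Type*} [Group G] (N : Subgroup G) [N.Normal] (t : ℕ) (s : Fin t → G) (i : Fin t)
    (n : G) (hn : n ∈ N) :
    ∃ n' ∈ N, n * (List.ofFn s).prod = (List.ofFn (Function.update s i (n' * s i))).prod := by
  induction t generalizing n with
  | zero => exact i.elim0
  | succ t ih =>
    refine Fin.cases ?_ (fun j => ?_) i
    · refine ⟨n, hn, ?_⟩
      simp [List.ofFn_succ, mul_assoc]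
    · obtain ⟨n', hn', e⟩ := ih (fun k => s k.succ) j ((s 0)⁻¹ * n * s 0)
        (Subgroup.Normal.conj_mem' inferInstance n hn _)
      refine ⟨n', hn', ?_⟩
      rw [List.ofFn_succ, List.ofFn_succ, List.prod_cons, List.prod_cons,
        Function.update_of_ne (Fin.succ_ne_zero j).symm]
      have : (fun k : Fin t => Function.update s j.succ (n' * s j.succ) k.succ) =
          Function.update (fun k => s k.succ) j (n' * s j.succ) := by
        funext k
        by_cases h : k = j
        · subst h; simp
        · rw [Function.update_of_ne h, Function.update_of_ne (by simpa using h)]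
      rw [this, ← e]; group

theorem aux (t : ℕ) (p : Fin t → ℕ) (hp : ∀ i, (p i).Prime) (G : Type*) [Group G] [Finite G] :
    Group.IsSolvable G → (∀ q : ℕ, q.Prime → q ∣ Nat.card G → ∃ i, p i = q) →
    ∀ S : Fin t → Subgroup G, (∀ i, Core.IsSylowIn (p i) (S i) ⊤) →
    ∀ g : G, ∃ s : (i : Fin t) → G, (∀ i, s i ∈ S i) ∧ g = (List.ofFn s).prod := by
  induction G, ‹Group G›, ‹Finite G› using Core.card_induction' with | _ G ih => ?_
  intro hs hall S hS g
  rcases subsingleton_or_nontrivial G with h | h
  · exact ⟨fun _ => 1, fun _ => one_mem _, Subsingleton.elim _ _⟩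
  obtain ⟨N, q, hN, hq, -, hNq⟩ := Core.exists_minNormal_elementaryAbelian (G := G)
  have := hN.1
  have := Fact.mk hq
  obtain ⟨i, rfl⟩ := hall q hq ((Core.dvd_card_of_isPGroup_of_ne_bot hNq hN.2.1).trans
    (Subgroup.card_subgroup_dvd_card N))
  have hNS : N ≤ S i := (hS i).le_of_le_normalizer hNq le_top
    (Or.inl Subgroup.le_normalizer_of_normal)
  obtain ⟨s, hs, e⟩ := ih (G ⧸ N) (Core.card_quotient_lt hN.2.1) inferInstance
    (fun q hq hd => hall q hq (hd.trans (Subgroup.card_quotient_dvd_card N)))
    (fun j => (S j).map (QuotientGroup.mk' N)) (fun j => by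
      have := Fact.mk (hp j)
      have := (hS j).map (QuotientGroup.mk' N)
      rwa [Subgroup.map_top_of_surjective _ (QuotientGroup.mk'_surjective N)] at this) g
  choose s' hs' es using hs
  have h1 : g * (List.ofFn s').prod⁻¹ ∈ N := by
    rw [← QuotientGroup.ker_mk' N, MonoidHom.mem_ker, map_mul, map_inv, mul_inv_eq_one,
      map_list_prod, List.map_ofFn]
    rw [QuotientGroup.mk'_apply, e]
    congr 2
    funext j; exact (es j).symm
  obtain ⟨n', hn', e'⟩ := move N t s' i _ h1
  refine ⟨_, fun j => ?_, by rw [← e']; simp⟩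
  by_cases h : j = i
  · subst h; rw [Function.update_self]; exact mul_mem (hNS hn') (hs' j)
  · rw [Function.update_of_ne h]; exact hs' j

/-- Let G be a finite solvable group and let S assign to each of t distinct primes, including every prime divisor of the order of G, a Sylow subgroup of G. Then every element of G is a product s_0 s_1 ⋯ s_(t-1) with s_i in S i, the factors taken in the given order. -/
theorem result {G : Type*} [Group G] [Finite G] [Group.IsSolvable G] (t : ℕ) (p : Fin t → ℕ) (hp : ∀ i, (p i).Prime) (hinj : Function.Injective p) (hall : ∀ q : ℕ, q.Prime → q ∣ Nat.card G → ∃ i, p i = q) (S : (i : Fin t) → Sylow (p i) G) : ∀ g : G, ∃ s : (i : Fin t) → G, (∀ i, s i ∈ (S i : Subgroup G)) ∧ g = (List.ofFn s).prod := by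
  exact aux t p hp G inferInstance hall (fun i => S i) fun i =>
    have := Fact.mk (hp i); Core.isSylowIn_top (S i)

end Cfsg.Agent.S0554
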