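import Cfsg.Statements.S0555
import Cfsg.Agent.Core.Primitive

set_option autoImplicit false
open Cfsg

namespace Cfsg.Agent.S0555

/-- Let i ≥ 1. If in the derived series of a group the quotient of the i-th term by the (i+1)-st and the quotient of the (i+1)-st by the (i+2)-nd are both cyclic, then the (i+1)-st and (i+2)-nd terms coincide. -/
theorem result {G : Type*} [Group G] (i : ℕ) (hi : 1 ≤ i) (h₁ : IsCyclic (↥(derivedSeries G i) ⧸ (derivedSeries G (i + 1)).subgroupOf (derivedSeries G i))) (h₂ : IsCyclic (↥(derivedSeries G (i + 1)) ⧸ (derivedSeries G (i + 2)).subgroupOf (derivedSeries G (i + 1)))) : derivedSeries G (i + 1) = derivedSeries G (i + 2) := by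
  obtain ⟨y, hy, hy'⟩ := Core.exists_le_sup_zpowers_of_isCyclic h₁
  let W := derivedSeries G (i + 2)
  let f := QuotientGroup.mk' W
  have hC : IsCyclic ((derivedSeries G (i + 1)).map f) :=
    (Core.quotientSubgroupOfEquivMap _ W).isCyclic.mp h₂
  have := Core.map_mk'_normal (derivedSeries G (i + 1)) W
  have h1 : (derivedSeries G i).map f ≤ commutator (G ⧸ W) := by
    obtain ⟨j, rfl⟩ := Nat.exists_eq_add_of_le' hi
    rw [derivedSeries_succ, Subgroup.map_commutator]
    exact Subgroup.commutator_mono le_top le_top
  have h2 := h1.trans (Core.commutator_le_centralizer_of_isCyclic ((derivedSeries G (i + 1)).map f))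
  have h3 : IsMulCommutative ((derivedSeries G i).map f) := by
    refine Core.isMulCommutative_of_le ?_ (Subgroup.map_mono hy')
    rw [Subgroup.map_sup, sup_comm, MonoidHom.map_zpowers]
    exact Core.isMulCommutative_sup inferInstance inferInstance
      ((Subgroup.zpowers_le.mpr (Subgroup.mem_map_of_mem f hy)).trans h2)
  exact le_antisymm (Core.isMulCommutative_map_mk'_iff.mp h3)
    (derivedSeries_antitone G (by omega))

end Cfsg.Agent.S0555
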