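import Cfsg.Statements.S0556
import Cfsg.Agent.Core.Primitive

set_option autoImplicit false
open Cfsg

namespace Cfsg.Agent.S0556

open Pointwise

theorem aux {G : Type*} [Group G] [Finite G] (A : Subgroup G) (hA : IsCoatom A)
    (ha : IsMulCommutative A) (hf : ∀ g : G, g ∉ A → A ⊓ MulAut.conj g • A = ⊥) :
    IsMulCommutative (commutator G) := by
  by_cases h1 : A = ⊥
  · subst h1
    obtain ⟨⟨x, _⟩, hx⟩ := Subgroup.ne_bot_iff_exists_ne_one.mp hA.1.symm
    have := Core.isMulCommutative_of_zpowers_eq_top (hA.2 (Subgroup.zpowers x)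
      (bot_lt_iff_ne_bot.mpr fun e => hx (Subtype.ext (Subgroup.zpowers_eq_bot.mp e))))
    infer_instance
  have hF : Cfsg.IsFrobeniusComplement A := ⟨h1, hA.1, hf⟩
  obtain ⟨K, hK, hc⟩ := Core.exists_normal_complement_of_fusion (Core.isNilpotent_of_comm ha)
    (Core.frob_coprime hF) fun p _ x hx _ g hg => by
      by_cases h2 : x = 1
      · exact ⟨1, one_mem _, by simp [h2]⟩
      · exact ⟨g, Core.frob_mem_of_conj_mem hF h2 hx hg, rfl⟩
  have hK1 : K ≠ ⊥ := by
    rintro rfl
    exact hA.1 (by simpa using hc.sup_eq_top)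
  obtain ⟨W, p, -, -, hWK, hW1, hWa, hAW⟩ := Core.exists_invariant_abelian (A := A) (V := K)
    Subgroup.le_normalizer_of_normal (hc.index_eq_card ▸ Core.frob_coprime hF)
    (Or.inl (Core.isSolvable_of_comm' ha)) hK1
  have h3 : W = K := Core.eq_of_le_of_inf_eq_bot hAW hWK hc.disjoint.eq_bot (by
    rw [Core.sup_eq_top_of_isCoatom hA fun e => hW1
      (eq_bot_iff.mpr (hc.disjoint.eq_bot ▸ le_inf hWK e))]
    exact le_top)
  subst h3
  refine Core.isMulCommutative_of_le hWa ?_
  rw [commutator, ← Core.isMulCommutative_map_mk'_iff, ← hc.sup_eq_top, Subgroup.map_sup,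
    Core.map_mk'_eq_bot_iff.mpr le_rfl, bot_sup_eq]
  exact Core.isMulCommutative_map' ha _

/-- If a finite group has a maximal subgroup that is abelian, then the third term of its derived series is trivial (so the group is solvable of derived length at most three). -/
theorem result {G : Type*} [Group G] [Finite G] (A : Subgroup G) (hA : IsCoatom A) [IsMulCommutative A] : derivedSeries G 3 = ⊥ := by
  have ha : IsMulCommutative A := inferInstance
  have hAc := Subgroup.le_centralizer_iff_isMulCommutative.mpr ha
  suffices h : derivedSeries G 2 ≤ Subgroup.center G by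
    rw [derivedSeries_succ, Subgroup.commutator_eq_bot_iff_le_centralizer]
    exact h.trans (Subgroup.center_le_centralizer _)
  by_cases hn : A.Normal
  · obtain ⟨x, -, hx⟩ := SetLike.exists_of_lt (lt_top_iff_ne_top.mpr hA.1)
    have h3 : A ⊔ Subgroup.zpowers x = ⊤ :=
      Core.sup_eq_top_of_isCoatom hA fun e => hx (e (Subgroup.mem_zpowers x))
    have h4 : commutator G ≤ A := by
      rw [commutator, ← Core.isMulCommutative_map_mk'_iff, ← h3, Subgroup.map_sup,
        Core.map_mk'_eq_bot_iff.mpr le_rfl, bot_sup_eq]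
      exact Core.isMulCommutative_map' inferInstance _
    refine le_trans (le_of_eq ?_) bot_le
    exact Subgroup.commutator_eq_bot_iff_le_centralizer.mpr
      ((h4.trans hAc).trans (Core.centralizer_anti h4))
  have hZ : Subgroup.center G ≤ A := (Subgroup.center_le_normalizer _).trans
    ((hA.le_iff.mp Subgroup.le_normalizer).resolve_left
      fun e => hn (Subgroup.normalizer_eq_top_iff.mp e)).le
  have := aux (A.map (QuotientGroup.mk' (Subgroup.center G))) (Core.isCoatom_map_mk' hA hZ)
    (Core.isMulCommutative_map' ha _) fun g hg => by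
      obtain ⟨g, rfl⟩ := QuotientGroup.mk'_surjective _ g
      have hg' : g ∉ A := fun h => hg (Subgroup.mem_map_of_mem _ h)
      have hZ' : Subgroup.center G ≤ MulAut.conj g • A :=
        Core.le_conj_smul_iff_inv_le.mpr ((Core.conj_smul_le_of_normal le_rfl _).trans hZ)
      rw [← Core.map_conj_smul, eq_bot_iff]
      rintro _ ⟨⟨x, hx, rfl⟩, h2⟩
      have h3 : x ∈ MulAut.conj g • A := by
        have := Core.mem_map_mk'_iff.mp h2
        rwa [sup_eq_left.mpr hZ'] at this
      refine Subgroup.mem_bot.mpr ((QuotientGroup.eq_one_iff x).mpr ?_)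
      have h4 : A ⊔ MulAut.conj g • A = ⊤ := Core.sup_eq_top_of_isCoatom hA fun e => hg'
        (((hA.le_iff.mp Subgroup.le_normalizer).resolve_left
          fun e => hn (Subgroup.normalizer_eq_top_iff.mp e)).le
          (Core.conj_smul_eq_iff.mp (Core.conj_smul_eq_of_le e)))
      rw [← Subgroup.centralizer_univ, ← Subgroup.coe_top, ← Core.le_centralizer_singleton_iff, ← h4]
      exact sup_le (Core.le_centralizer_singleton_iff.mpr (hAc hx))
        (Core.le_centralizer_singleton_iff.mpr (Subgroup.le_centralizer_iff_isMulCommutative.mpr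
          (Core.isMulCommutative_map' ha _) h3))
  refine Core.isMulCommutative_map_mk'_iff.mp (Core.isMulCommutative_of_le this ?_)
  rw [derivedSeries_one, commutator, Subgroup.map_commutator]
  exact Subgroup.commutator_mono le_top le_top

end Cfsg.Agent.S0556
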