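import Cfsg.Statements.S0558
import Cfsg.Agent.Core.Schmidt

set_option autoImplicit false
open Cfsg

namespace Cfsg.Agent.S0558

/-- Let H be a subgroup of a finite group G that is not a Sylow subgroup of G for any prime, and suppose that for every prime p dividing the order of H and every Sylow p-subgroup P of H the normalizer of P in G is exactly H. Then some normal subgroup of G is a complement to H. -/
theorem result {G : Type*} [Group G] [Finite G] (H : Subgroup G) (hnot : ∀ p : ℕ, p.Prime → ∀ P : Sylow p G, (P : Subgroup G) ≠ H) (hnorm : ∀ p : ℕ, p.Prime → p ∣ Nat.card H → ∀ P : Sylow p H, Subgroup.normalizer (((P : Subgroup H).map H.subtype : Subgroup G) : Set G) = H) : ∃ N : Subgroup G, N.Normal ∧ Subgroup.IsComplement' N H := by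
  have h : ∀ (p : ℕ) [Fact p.Prime] (P : Subgroup G), Core.IsSylowIn p P H → P ≠ ⊥ →
      Subgroup.normalizer (P : Set G) = H := fun p hp P hP h1 => by
    have hd := (Core.dvd_card_of_isPGroup_of_ne_bot hP.2.1 h1).trans (Subgroup.card_dvd_of_le hP.1)
    obtain ⟨Q, rfl⟩ := hP.exists_sylow
    exact hnorm p hp.out hd Q
  by_cases hH : H = ⊥
  · subst hH
    exact ⟨⊤, inferInstance, Subgroup.isComplement'_top_bot⟩
  refine Core.exists_normal_complement_of_normalizer_eq (fun p hp hp' => ?_) h
  have h1 : Core.IsSylowIn p H H := ⟨le_rfl, hp', by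
    rw [Subgroup.relIndex_self, Nat.dvd_one]; exact hp.out.one_lt.ne'⟩
  obtain ⟨P, hP⟩ := (Core.isSylowIn_of_isSylowIn_normalizer (K := ⊤)
    (by rwa [top_inf_eq, h p H h1 hH])).exists_sylow_top
  exact hnot p hp.out P hP

end Cfsg.Agent.S0558
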