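import Cfsg.Statements.S0560
import Cfsg.Agent.Core.Product

set_option autoImplicit false
open Pointwise
open Cfsg

namespace Cfsg.Agent.S0560

/-- Let the finite group G be the product HK of two subgroups and p a prime. Then there are Sylow p-subgroups P of H and Q of K and a Sylow p-subgroup R of G whose underlying set is the product set of P and Q. -/
theorem result {G : Type*} [Group G] [Finite G] (H K : Subgroup G) (hHK : ∀ g : G, ∃ h ∈ H, ∃ k ∈ K, g = h * k) (p : ℕ) [Fact p.Prime] : ∃ (P : Sylow p H) (Q : Sylow p K) (R : Sylow p G), ((R : Subgroup G) : Set G) = (((P : Subgroup H).map H.subtype : Subgroup G) : Set G) * (((Q : Subgroup K).map K.subtype : Subgroup G) : Set G) := by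
  have h := Core.isProd_top hHK
  obtain ⟨P, hP⟩ := Core.exists_isSylowIn p H
  obtain ⟨Q, hQ⟩ := Core.exists_isSylowIn p K
  obtain ⟨R, hR, hPR⟩ := Core.exists_isSylowIn_ge (K := ⊤) le_top hP.2.1
  obtain ⟨g, hg, hQR⟩ := hR.exists_le_conj le_top hQ.2.1
  obtain ⟨k, hk, a, ha, rfl⟩ := h.symm.exists_mul g hg
  rw [← Core.conj_smul_conj_smul, Core.le_conj_smul_iff_inv_le] at hQR
  have hP' := hP.conj_of_mem_normalizer (Subgroup.le_normalizer ha)
  have hQ' := hQ.conj_of_mem_normalizer (Subgroup.le_normalizer (K.inv_mem hk))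
  have hR' := hR.conj_of_mem_normalizer (g := a) (Subgroup.le_normalizer (Subgroup.mem_top a))
  have hPR' : MulAut.conj a • P ≤ MulAut.conj a • R :=
    Subgroup.pointwise_smul_le_pointwise_smul_iff.mpr hPR
  generalize MulAut.conj a • P = P' at hP' hPR'
  generalize MulAut.conj k⁻¹ • Q = Q' at hQ' hQR
  generalize MulAut.conj a • R = R' at hR' hPR' hQR
  obtain ⟨P₀, rfl⟩ := hP'.exists_sylow
  obtain ⟨Q₀, rfl⟩ := hQ'.exists_sylow
  obtain ⟨R₀, rfl⟩ := hR'.exists_sylow_top
  refine ⟨P₀, Q₀, R₀, Core.isProd_iff_coe.mp (Core.isProd_of_card hPR' hQR ?_)⟩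
  refine Nat.le_of_dvd (mul_pos Nat.card_pos Nat.card_pos) ?_
  have hp : (p : ℕ).Prime := Fact.out
  have c1 := (hp.coprime_iff_not_dvd.mpr hP'.2.2).symm
  have c2 := (hp.coprime_iff_not_dvd.mpr hQ'.2.2).symm
  refine (Nat.Coprime.mul_left (Core.IsPGroup_coprime_card hR'.2.1 (c1.mul_left c2))
    (Core.IsPGroup_coprime_card (hP'.2.1.to_inf_left) (c1.mul_left c2))).dvd_of_dvd_mul_right ?_
  rw [mul_mul_mul_comm, Core.card_mul_relIndex hP'.1, Core.card_mul_relIndex hQ'.1, ← h.card]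
  exact Nat.mul_dvd_mul (Subgroup.card_dvd_of_le le_top)
    (Subgroup.card_dvd_of_le (inf_le_inf hP'.1 hQ'.1))

end Cfsg.Agent.S0560
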