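import Cfsg.Statements.S0567
import Cfsg.Agent.Core.Subnormal

set_option autoImplicit false
open Cfsg

namespace Cfsg.Agent.S0567

/-- A subgroup H of a group G is subnormal exactly when, for some m, the subgroup obtained from G by taking the commutator with H m times in succession is contained in H. -/
theorem result {G : Type*} [Group G] (H : Subgroup G) : H.IsSubnormal ↔ ∃ m : ℕ, (fun K : Subgroup G => ⁅K, H⁆)^[m] ⊤ ≤ H := by
  constructor
  · exact fun h => Core.subIn_iterate_commutator_le (Comp.subIn_top.mpr h) le_rfl
  · rintro ⟨m, hm⟩
    have := Core.subIn_of_iterate_commutator_le m (T := ⊤) Subgroup.le_normalizer_of_normal hm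
    rw [sup_top_eq] at this
    exact Comp.subIn_top.mp this

end Cfsg.Agent.S0567
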