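import Cfsg.Statements.S0574
import Cfsg.Agent.Core.KegelWielandt

set_option autoImplicit false
open Cfsg

namespace Cfsg.Agent.S0574

open Subgroup Cfsg.Agent.Core
open scoped commutatorElement

universe u

theorem aux1 {G : Type u} [Group G] {A B : Subgroup G} (hA : IsMulCommutative A)
    (hB : ⁅B, B⁆ ≤ centralizer (B : Set G)) (h : A ⊔ ⁅B, B⁆ = ⊤)
    (hK : IsMulCommutative (_root_.commutator G)) : IsMulCommutative (⊤ : Subgroup G) := by
  have hK' := le_centralizer_iff_isMulCommutative.mpr hK
  have h1 : ⁅B, B⁆ ≤ _root_.commutator G := commutator_mono le_top le_top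
  have := normal_of_commutator_le' (le_sup_right : _ ≤ B ⊔ _root_.commutator G)
  have h2 : ⁅B, B⁆ ≤ centralizer ((B ⊔ _root_.commutator G : Subgroup G) : Set G) :=
    le_centralizer_iff.mp (sup_le (le_centralizer_iff.mp hB) (hK'.trans (centralizer_anti h1)))
  have h3 : _root_.commutator G ≤ centralizer ((B ⊔ _root_.commutator G : Subgroup G) : Set G) := by
    refine isMulCommutative_map_mk'_iff.mp ?_
    rw [← h, Subgroup.map_sup, map_mk'_eq_bot_iff.mpr h2, sup_bot_eq]
    exact isMulCommutative_map' hA _
  have h4 : ⁅B, B⁆ ≤ center G := by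
    rw [Subgroup.commutator_le]
    intro a ha b hb
    rw [mem_center_iff]
    intro g
    have k : ∀ x, x⁻¹ * (g * x * g⁻¹) ∈ _root_.commutator G := fun x => by
      have := commutator_mem_commutator (mem_top x⁻¹) (mem_top g)
      rw [commutatorElement_def, inv_inv] at this
      simpa only [mul_assoc, _root_.commutator] using this
    obtain ⟨u, hu, eu⟩ : ∃ u ∈ _root_.commutator G, g * a * g⁻¹ = a * u := ⟨_, k a, by group⟩
    obtain ⟨v, hv, ev⟩ : ∃ v ∈ _root_.commutator G, g * b * g⁻¹ = b * v := ⟨_, k b, by group⟩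
    have c1 : Commute u b := (h3 hu b (mem_sup_left hb)).symm
    have c2 : Commute u v := (h3 hu v (mem_sup_right hv)).symm
    have c3 : Commute v a := (h3 hv a (mem_sup_left ha)).symm
    rw [← mul_inv_eq_iff_eq_mul, conjugate_commutatorElement, eu, ev, commutatorElement_def,
      commutatorElement_def]
    calc a * u * (b * v) * (a * u)⁻¹ * (b * v)⁻¹
        = a * (u * (b * v)) * u⁻¹ * a⁻¹ * v⁻¹ * b⁻¹ := by group
      _ = a * b * (v * a⁻¹) * v⁻¹ * b⁻¹ := by rw [(c1.mul_right c2).eq]; group
      _ = _ := by rw [c3.inv_right.eq]; group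
  rw [← h]
  exact isMulCommutative_sup hA (isMulCommutative_of_le hK h1)
    (le_centralizer_iff.mp (h4.trans (center_le_centralizer _)))

theorem aux2 {G : Type u} [Group G] [Group.IsSolvable G] {A B : Subgroup G}
    (hA : IsMulCommutative A) (hB : ⁅B, B⁆ ≤ centralizer (B : Set G)) (h : A ⊔ ⁅B, B⁆ = ⊤) :
    ⁅B, B⁆ = ⊥ := by
  let N := ⁅_root_.commutator G, _root_.commutator G⁆
  have h1 := aux1 (isMulCommutative_map' hA (QuotientGroup.mk' N))
    (B := B.map (QuotientGroup.mk' N)) (by
      rw [← map_commutator, ← commutator_eq_bot_iff_le_centralizer, ← map_commutator,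
        commutator_eq_bot_iff_le_centralizer.mpr hB, Subgroup.map_bot])
    (by rw [← map_commutator]; exact map_mk'_sup_eq_top N h) (by
      rw [← map_commutator_of_surjective (QuotientGroup.mk'_surjective N),
        isMulCommutative_map_mk'_iff])
  rw [← map_top_of_surjective _ (QuotientGroup.mk'_surjective N),
    isMulCommutative_map_mk'_iff] at h1
  by_contra hne
  exact (Group.IsSolvable.commutator_lt_of_ne_bot (H := _root_.commutator G) fun e =>
    hne (eq_bot_iff.mpr (e ▸ commutator_mono le_top le_top))).not_ge h1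

theorem aux3 {G : Type u} [Group G] {H : Subgroup G} (h : derivedSeries G 2 ≤ H) (m : ℕ) :
    derivedSeries G (m + 2) ≤ (derivedSeries H m).map H.subtype := by
  induction m with
  | zero => rwa [derivedSeries_zero, ← MonoidHom.range_eq_map, range_subtype]
  | succ m ih =>
    rw [Nat.add_right_comm, derivedSeries_succ, derivedSeries_succ H, map_commutator]
    exact commutator_mono ih ih

theorem aux4 (n : ℕ) : ∀ (G : Type u) [Group G] [Finite G] (A B : Subgroup G), IsProd ⊤ A B →
    IsMulCommutative A → ⁅B, B⁆ ≤ centralizer (B : Set G) →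
    ArithmeticFunction.cardFactors (Nat.card ↥⁅B, B⁆) ≤ n → derivedSeries G (2 * n + 2) = ⊥ := by
  have two : ∀ (G : Type u) [Group G] (A B : Subgroup G), IsProd ⊤ A B → IsMulCommutative A →
      ∀ X : Subgroup G, A ≤ X → ⁅B, B⁆ ≤ X → derivedSeries G 2 ≤ X := by
    intro G _ A B h hA X h1 h2
    have h3 := h.symm.le_normalCore (le_normalizer_commutator le_normalizer le_normalizer) h2 h1
    have h4 := (h.map_mk' X.normalCore).isMulCommutative_commutator (isMulCommutative_map' hA _)
      (isMulCommutative_map_mk'_iff.mpr h3)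
    rw [← map_commutator_of_surjective (QuotientGroup.mk'_surjective _),
      isMulCommutative_map_mk'_iff] at h4
    exact h4.trans X.normalCore_le
  have zero : ∀ (G : Type u) [Group G] (A B : Subgroup G), IsProd ⊤ A B → IsMulCommutative A →
      ⁅B, B⁆ = ⊥ → derivedSeries G 2 = ⊥ := fun G _ A B h hA hB =>
    commutator_eq_bot_iff_le_centralizer.mpr (le_centralizer_iff_isMulCommutative.mpr
      (h.isMulCommutative_commutator hA (le_centralizer_iff_isMulCommutative.mp
        (commutator_eq_bot_iff_le_centralizer.mp hB))))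
  induction n with
  | zero =>
    intro G _ _ A B h hA hB hn
    rw [Nat.le_zero, ArithmeticFunction.cardFactors_eq_zero_iff_eq_zero_or_one] at hn
    exact zero G A B h hA (card_eq_one.mp (hn.resolve_left Nat.card_pos.ne'))
  | succ n ih =>
    intro G _ _ A B h hA hB hn
    by_cases h0 : ⁅B, B⁆ = ⊥
    · exact eq_bot_iff.mpr ((derivedSeries_antitone G (by omega)).trans (zero G A B h hA h0).le)
    set H := A ⊔ ⁅B, B⁆ with hH
    have hBB : ⁅B, B⁆ ≤ B := commutator_le_of_le_normalizer le_normalizer
    have h1 := h.of_le_left (le_sup_left : A ≤ H) le_top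
    have hle : ⁅H ⊓ B, H ⊓ B⁆ ≤ ⁅B, B⁆ := commutator_mono inf_le_right inf_le_right
    have hc : ⁅(H ⊓ B).subgroupOf H, (H ⊓ B).subgroupOf H⁆ ≤
        centralizer ((H ⊓ B).subgroupOf H : Set H) := by
      rw [commutator_subgroupOf inf_le_left inf_le_left, centralizer_subgroupOf inf_le_left]
      exact subgroupOf_mono _ ((hle.trans hB).trans (centralizer_anti inf_le_right))
    have hs : Group.IsSolvable H := h1.isSolvable_of_isNilpotent (isNilpotent_of_comm hA)
      (isNilpotent_of_le (isNilpotent_of_commutator_le_centralizer hB) inf_le_right)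
    have hlt : ⁅H ⊓ B, H ⊓ B⁆ ≠ ⁅B, B⁆ := fun e => by
      have := aux2 (isMulCommutative_subgroupOf hA H) hc (by
        rw [commutator_subgroupOf inf_le_left inf_le_left, e,
          ← subgroupOf_sup le_sup_left le_sup_right, subgroupOf_self])
      rw [commutator_subgroupOf inf_le_left inf_le_left, e,
        subgroupOf_eq_bot_iff_of_le le_sup_right] at this
      exact h0 this
    have h2 := ih H _ _ h1.subgroupOf (isMulCommutative_subgroupOf hA H) hc (by
      rw [commutator_subgroupOf inf_le_left inf_le_left,
        card_subgroupOf_of_le (hle.trans le_sup_right)]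
      rw [← card_mul_relIndex hle, ArithmeticFunction.cardFactors_mul Nat.card_pos.ne'
        (relIndex_pos _ _).ne'] at hn
      have : ArithmeticFunction.cardFactors (⁅H ⊓ B, H ⊓ B⁆.relIndex ⁅B, B⁆) ≠ 0 := by
        rw [Ne, ArithmeticFunction.cardFactors_eq_zero_iff_eq_zero_or_one, not_or]
        exact ⟨(relIndex_pos _ _).ne', fun e => hlt (le_antisymm hle (relIndex_eq_one.mp e))⟩
      omega)
    have h3 := aux3 (two G A B h hA H le_sup_left le_sup_right) (2 * n + 2)
    rw [h2, Subgroup.map_bot] at h3
    exact eq_bot_iff.mpr h3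

/-- Let the finite group G be the product AB of an abelian subgroup A and a subgroup B of nilpotency class at most two, and let Ω be the number of prime factors, with multiplicity, of the order of the commutator subgroup of B. Then the term of index 2(1 + Ω) of the derived series of G is trivial. -/
theorem result {G : Type*} [Group G] [Finite G] (A B : Subgroup G) [IsMulCommutative A] (hB : commutator ↥B ≤ Subgroup.center ↥B) (hAB : ∀ g : G, ∃ a ∈ A, ∃ b ∈ B, g = a * b) : derivedSeries G (2 * (1 + (Nat.card ↥(commutator ↥B)).primeFactorsList.length)) = ⊥ := by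
  have e : (_root_.commutator B).map B.subtype = ⁅B, B⁆ := Subgroup.map_subtype_commutator B
  have := aux4 _ G A B (Core.isProd_top hAB) inferInstance (by
    rw [← e]
    exact (Subgroup.map_mono hB).trans ((Core.map_subtype_center B).le.trans inf_le_right)) le_rfl
  rw [← e, Subgroup.card_subtype, ArithmeticFunction.cardFactors_apply] at this
  rw [← this]
  congr 1
  ring

end Cfsg.Agent.S0574
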