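import Cfsg.Statements.S0577
import Cfsg.Agent.Core.Schmidt

set_option autoImplicit false
open Cfsg

namespace Cfsg.Agent.S0577

/-- Let G be a finite minimal non-nilpotent group and Q a normal Sylow q-subgroup of G, and let D be the commutator subgroup of Q regarded in G (a normal subgroup). Then G modulo D is non-abelian and all its proper subgroups are abelian. -/
theorem result {G : Type*} [Group G] [Finite G] (hG : Cfsg.IsMinimalNonNilpotent G) (q : ℕ) [Fact q.Prime] (hq : q ∣ Nat.card G) (Q : Sylow q G) (hQ : (Q : Subgroup G).Normal) (D : Subgroup G) [D.Normal] (hD : D = (commutator ↥(Q : Subgroup G)).map (Q : Subgroup G).subtype) : ¬ IsMulCommutative (G ⧸ D) ∧ ∀ K : Subgroup (G ⧸ D), K ≠ ⊤ → IsMulCommutative K := by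
  obtain ⟨p, q', x, Q', hp, hq', hpq, hP, hQ', hQn, hsup, hx⟩ :=
    Core.minimal_nonnilpotent_structure hG.1 hG.2
  have := Fact.mk hp
  have := Fact.mk hq'
  have hqp : q.Prime := Fact.out
  have hc := IsPGroup.coprime_card_of_ne p q' hpq _ _ hP.2.1 hQ'.2.1
  have hprod := Core.isProd_sup_of_le_normalizer (H := Subgroup.zpowers x) (K := Q')
    Subgroup.le_normalizer_of_normal
  rw [hsup] at hprod
  have hnum : Core.IsPiNum ({p} ∪ {q'}) (Nat.card G) := by
    rw [← Subgroup.card_top]
    exact ((Core.isPiNum_card_of_isPGroup hP.2.1 (Or.inl rfl)).mul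
      (Core.isPiNum_card_of_isPGroup hQ'.2.1 (Or.inr rfl))).of_dvd hprod.card_dvd
  have hqq : q = q' := by
    rcases hnum q hqp hq with e | e
    · exfalso
      rw [Set.mem_singleton_iff] at e
      subst e
      obtain ⟨g, -, hg⟩ := (Core.isSylowIn_top Q).exists_conj hP
      rw [Core.conj_smul_eq_of_mem_normalizer (Subgroup.le_normalizer_of_normal
        (Subgroup.mem_top g))] at hg
      have : (Subgroup.zpowers x).Normal := hg ▸ hQ
      exact hx (Core.le_centralizer_of_coprime hc (Subgroup.mem_zpowers x))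
    · exact e
  subst hqq
  obtain ⟨g, -, hg⟩ := (Core.isSylowIn_top Q).exists_conj hQ'
  rw [Core.conj_smul_eq_of_mem_normalizer (Subgroup.le_normalizer_of_normal
    (Subgroup.mem_top g))] at hg
  subst hg
  rw [Subgroup.map_subtype_commutator] at hD
  constructor
  · intro hcomm
    rw [Subgroup.Normal.quotient_commutative_iff_commutator_le, hD] at hcomm
    refine hx (Core.le_centralizer_of_commutator_le_frattini Subgroup.le_normalizer_of_normal
      (hc.coprime_dvd_right (Subgroup.card_subgroup_dvd_card _)) ?_ (Subgroup.mem_zpowers x))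
    exact ((Subgroup.commutator_mono le_top le_top).trans hcomm).trans
      (Core.commutator_le_map_frattini hQ'.2.1.isNilpotent)
  · intro K hK
    rw [← Core.map_comap_mk' D K]
    have hK' : K.comap (QuotientGroup.mk' D) ≠ ⊤ := fun e => hK (by
      rw [← Core.map_comap_mk' D K, e,
        Subgroup.map_top_of_surjective _ (QuotientGroup.mk'_surjective D)])
    generalize K.comap (QuotientGroup.mk' D) = L at hK'
    obtain ⟨P₁, hP₁⟩ := Core.exists_isSylowIn p L
    obtain ⟨Q₁, hQ₁⟩ := Core.exists_isSylowIn q L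
    have h1 := Core.isProd_of_isPiNum hP₁.1 hQ₁.1
      ((Core.isPiNum_compl_singleton_iff hp).mpr (hp.coprime_iff_not_dvd.mpr hP₁.2.2).symm)
      ((Core.isPiNum_compl_singleton_iff hqp).mpr (hqp.coprime_iff_not_dvd.mpr hQ₁.2.2).symm)
      (hnum.of_dvd (Subgroup.card_subgroup_dvd_card L))
    rw [← h1.sup_eq, Subgroup.map_sup]
    refine Core.isMulCommutative_sup (Core.isMulCommutative_map' ?_ _)
      (Core.isMulCommutative_map_mk'_iff.mpr ?_) ?_
    · obtain ⟨k, -, hk⟩ := hP.exists_le_conj le_top hP₁.2.1
      exact Core.isMulCommutative_of_le (Core.isMulCommutative_map' inferInstance _) hk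
    · have := hQ'.le_of_le_normalizer hQ₁.2.1 le_top (Or.inr Subgroup.le_normalizer_of_normal)
      rw [hD]; exact Subgroup.commutator_mono this this
    · rw [← Subgroup.commutator_eq_bot_iff_le_centralizer, ← Subgroup.map_commutator,
        Subgroup.commutator_eq_bot_iff_le_centralizer.mpr
          (Core.le_centralizer_of_isNilpotent_of_coprime (hG.2 L hK') hP₁.1 hQ₁.1
            (IsPGroup.coprime_card_of_ne p q hpq _ _ hP₁.2.1 hQ₁.2.1)), Subgroup.map_bot]

end Cfsg.Agent.S0577
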