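import Cfsg.Statements.S0578
import Cfsg.Agent.Core.Schmidt

set_option autoImplicit false
open Cfsg

namespace Cfsg.Agent.S0578

/-- If in a finite group the normalizer of each abelian subgroup coincides with its centralizer, then the group is abelian. -/
theorem result {G : Type*} [Group G] [Finite G] (h : ∀ A : Subgroup G, IsMulCommutative A → Subgroup.normalizer (A : Set G) = Subgroup.centralizer (A : Set G)) : IsMulCommutative G := by
  have key : ∀ H : Subgroup G, IsMulCommutative H := by
    intro H
    induction H using WellFoundedLT.induction with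
    | ind H ih =>
    have := Core.isSolvable_of_forall_lt_isNilpotent fun K hK => Core.isNilpotent_of_comm (ih K hK)
    by_cases h1 : H = ⊥
    · subst h1; infer_instance
    have : Nontrivial H := (Subgroup.nontrivial_iff_ne_bot H).mpr h1
    obtain ⟨M, hM, hMn, -, -⟩ := Core.exists_coatom_normal_index_prime (G := H)
    have hMa := ih _ (Core.map_subtype_lt hM.1)
    have h2 := Core.le_normalizer_map_subtype_of_normal M
    rw [h _ hMa] at h2
    obtain ⟨x, -, hx⟩ := SetLike.exists_of_lt (lt_top_iff_ne_top.mpr hM.1)
    have h3 : M ⊔ Subgroup.zpowers x = ⊤ :=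
      Core.sup_eq_top_of_isCoatom hM fun e => hx (e (Subgroup.mem_zpowers x))
    have h4 : H = Subgroup.zpowers (x : G) ⊔ M.map H.subtype := by
      conv_lhs => rw [← Subgroup.range_subtype H, MonoidHom.range_eq_map, ← h3, Subgroup.map_sup,
        MonoidHom.map_zpowers, sup_comm]
      rfl
    rw [h4]
    exact Core.isMulCommutative_sup inferInstance hMa ((Subgroup.zpowers_le.mpr x.2).trans h2)
  exact ⟨⟨fun a b => Core.isMulCommutative_iff_mem.mp (key ⊤) a trivial b trivial⟩⟩

end Cfsg.Agent.S0578
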