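import Cfsg.Statements.S0587
import Cfsg.Agent.Core.Primitive

set_option autoImplicit false
open Cfsg

namespace Cfsg.Agent.S0587

/-- Let G be a finite group whose largest normal p-subgroup L is nontrivial, and M a maximal subgroup of G with trivial normal core. Then L is elementary abelian, M is a complement to L, L is a minimal normal subgroup of G, the centralizer of L is L, and for every prime q such that the largest normal q-subgroup of M is nontrivial, the order of L is congruent to 1 modulo q and q ≠ p. -/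
theorem result {G : Type*} [Group G] [Finite G] (p : ℕ) [Fact p.Prime] (hL : Cfsg.pCore p G ≠ ⊥) (M : Subgroup G) (hM : IsCoatom M) (hcore : M.normalCore = ⊥) : Cfsg.IsElementaryAbelian p (Cfsg.pCore p G) ∧ Subgroup.IsComplement' (Cfsg.pCore p G) M ∧ (∀ K : Subgroup G, K.Normal → K ≤ Cfsg.pCore p G → K = ⊥ ∨ K = Cfsg.pCore p G) ∧ Subgroup.centralizer ((Cfsg.pCore p G : Subgroup G) : Set G) = Cfsg.pCore p G ∧ ∀ (q : ℕ) [Fact q.Prime], Cfsg.pCore q ↥M ≠ ⊥ → Nat.card (Cfsg.pCore p G) % q = 1 % q ∧ q ≠ p := by
  have hLp := Core.pCore_isPGroup (G := G) p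
  obtain ⟨N, r, hNL, hN, hr, hNe, hNr⟩ := Core.exists_minNormal_elementaryAbelian_le hL
    (Core.isSolvable_of_isPGroup hLp)
  have := hN.1
  have := Fact.mk hr
  have hp : p.Prime := Fact.out
  have hC := Core.corefree_centralizer_eq hM hcore hN.2.1 hNe.1
  have e : Cfsg.pCore p G = N := le_antisymm
    (hC ▸ (Core.pCore_le_fitting p).trans (Core.fitting_le_centralizer_of_isMinNormal hN)) hNL
  rw [e] at hLp ⊢
  have hd := Core.dvd_card_of_isPGroup_of_ne_bot hLp hN.2.1
  have hrp : p = r := by
    by_contra h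
    exact hp.one_lt.ne' (Nat.eq_one_of_dvd_coprimes
      (Core.IsPGroup_coprime_card hNr ((Nat.coprime_primes hp hr).mpr h)) hd dvd_rfl)
  subst hrp
  refine ⟨hNe, Core.corefree_isComplement' hM hcore hN.2.1 hNe.1, hN.2.2, hC, fun q hq hQ => ?_⟩
  have h1 := Core.card_modEq_card_inf_centralizer (K := N) ((Core.pCore_isPGroup q).map M.subtype)
    Subgroup.le_normalizer_of_normal
  have hn : (N ⊓ Subgroup.centralizer (((Cfsg.pCore q M).map M.subtype : Subgroup G) : Set G)).Normal :=
    Core.normal_of_sup_eq_top (Core.corefree_sup_eq_top hM hcore hN.2.1)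
      (Core.le_normalizer_inf Subgroup.le_normalizer_of_normal
        (Core.le_normalizer_centralizer (Core.le_normalizer_map_subtype_of_normal _)))
      (((Subgroup.le_centralizer_iff_isMulCommutative.mpr hNe.1).trans
        (Core.centralizer_anti inf_le_left)).trans (Subgroup.centralizer_le_normalizer _))
  rcases hN.2.2 _ hn inf_le_left with h2 | h2
  · rw [h2, Subgroup.card_bot] at h1
    refine ⟨h1, ?_⟩
    rintro rfl
    exact hp.one_lt.ne' (Nat.dvd_one.mp ((h1.dvd_iff dvd_rfl).mp hd))
  · exfalso
    apply hQ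
    rw [← Subgroup.map_eq_bot_iff_of_injective _ M.subtype_injective, eq_bot_iff,
      ← Core.corefree_centralizer_inf hM hcore hN.2.1]
    exact le_inf (Subgroup.le_centralizer_iff.mp (inf_eq_left.mp h2)) (Subgroup.map_subtype_le _)

end Cfsg.Agent.S0587
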