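import Cfsg.Statements.S0588
import Cfsg.Agent.Core.Frobenius

set_option autoImplicit false
open Cfsg

namespace Cfsg.Agent.S0588

/-- If a subgroup H of a finite group G contains the centralizer of every non-identity element of H, then the order of H is coprime to its index. -/
theorem result {G : Type*} [Group G] [Finite G] (H : Subgroup G) (h : ∀ x ∈ H, x ≠ 1 → Subgroup.centralizer ({x} : Set G) ≤ H) : (Nat.card H).Coprime H.index := by
  refine Nat.coprime_of_dvd fun p hp h1 h2 => ?_
  have := Fact.mk hp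
  obtain ⟨P, hP⟩ := Core.exists_isSylowIn p H
  have hP' : Core.IsSylowIn p P ⊤ := by
    apply Core.isSylowIn_of_maximal le_top hP.2.1
    intro Q hQ _ hPQ
    by_contra hne
    have hlt := Core.lt_inf_normalizer_of_isNilpotent (H := P) (P := Q) hQ.isNilpotent
      (lt_of_le_of_ne hPQ (Ne.symm hne))
    have hR : IsPGroup p ↥(Q ⊓ Subgroup.normalizer (P : Set G)) := hQ.to_inf_left
    have := Core.inf_centralizer_ne_bot_of_isPGroup hP.2.1 hR inf_le_right (hP.ne_bot h1)
    obtain ⟨⟨z, hz1, hz2⟩, hz⟩ := Subgroup.ne_bot_iff_exists_ne_one.mp this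
    have hz' : z ≠ 1 := fun e => hz (Subtype.ext e)
    have hle : Q ⊓ Subgroup.normalizer (P : Set G) ≤ H :=
      (Core.le_centralizer_singleton_iff.mpr hz2).trans (h z (hP.1 hz1) hz')
    exact hlt.ne' (hP.eq_of_le hR hle hlt.le)
  apply hP'.2.2
  rw [Subgroup.relIndex_top_right]
  exact h2.trans (Subgroup.index_dvd_of_le hP.1)

end Cfsg.Agent.S0588
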