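import Cfsg.Statements.S0590
import Cfsg.Agent.PLoc.Replace

set_option autoImplicit false
open Cfsg

namespace Cfsg.Agent.S0590

/-- Quadratic action on an elementary abelian p-group forces the acting group modulo the kernel of the action to be elementary abelian. -/
theorem result {G : Type*} [Group G] [Finite G] {p : ℕ} [Fact p.Prime] (V H : Subgroup G) (hV : Cfsg.IsElementaryAbelian p V) (hHV : H ≤ Subgroup.normalizer (V : Set G)) (hq : ⁅⁅V, H⁆, H⁆ = ⊥) : ⁅H, H⁆ ≤ Subgroup.centralizer (V : Set G) ∧ ∀ a ∈ H, a ^ p ∈ Subgroup.centralizer (V : Set G) := by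
  open Cfsg.Agent.PLoc Subgroup in
  open scoped commutatorElement in
  focus
    refine ⟨commutator_eq_bot_iff_le_centralizer.1 (commutator_commutator_eq_bot_of_rotate ?_ hq), ?_⟩
    · rwa [commutator_comm H V]
    · intro a ha v hv
      have h1 : ⁅a, v⁆ ∈ ⁅V, H⁆ := by rw [commutator_comm]; exact commutator_mem_commutator ha hv
      have h2 : Commute ⁅a, v⁆ a := commute_of_commutator_eq_bot hq h1 ha
      have := commutatorElement_pow_left h2 p
      rw [hV.2 _ (commutator_le_left' hHV h1)] at this
      exact (commutatorElement_eq_one_iff_mul_comm.1 this).symm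

end Cfsg.Agent.S0590
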