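import Cfsg.Statements.S0592
import Cfsg.Agent.PLoc.Stab2

set_option autoImplicit false
open Cfsg

namespace Cfsg.Agent.S0592

/-- Two quadratically acting generators of a linear group that is not a p-group, with the p'-part of the order of their product dividing q - 1, give a homomorphism onto a subgroup of SL(2, q) that is not a p-group. -/
theorem result {K : Type*} [Field K] [Fintype K] {p : ℕ} [Fact p.Prime] [CharP K p] {W : Type*} [AddCommGroup W] [Module K W] [FiniteDimensional K W] [Finite W] [Nontrivial W] (H : Subgroup (W ≃ₗ[K] W)) (a b : W ≃ₗ[K] W) (hH : H = Subgroup.closure {a, b}) (ha : ∀ w : W, a (a w - w) = a w - w) (hb : ∀ w : W, b (b w - w) = b w - w) (hnp : ¬ IsPGroup p H) (hk : ∃ e k : ℕ, orderOf (a * b) = p ^ e * k ∧ k ∣ Fintype.card K - 1) : ∃ φ : H →* Matrix.SpecialLinearGroup (Fin 2) K, ¬ IsPGroup p φ.range := by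
  open Cfsg.Agent.PLoc Subgroup in
  open scoped commutatorElement in
  focus
    let σ : H →* Module.End K W :=
      { toFun := fun g => (g : W ≃ₗ[K] W).toLinearMap, map_one' := rfl, map_mul' := fun _ _ => rfl }
    let a' : H := ⟨a, hH ▸ subset_closure (by simp)⟩
    let b' : H := ⟨b, hH ▸ subset_closure (by simp)⟩
    obtain ⟨e, k, h1, h2⟩ := hk
    have hg : ∃ g : H, ¬ IsNilpotent (σ g - 1) := by
      by_contra hcon
      push Not at hcon
      refine hnp fun g => ?_
      obtain ⟨n, hn⟩ := pow_eq_one_of_isNilpotent (p := p) (hcon g)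
      rw [← map_pow] at hn
      exact ⟨n, Subtype.ext (LinearEquiv.toLinearMap_injective hn)⟩
    obtain ⟨g, hg⟩ := hg
    obtain ⟨ν, hν, -, φ, -, h3, h4, -⟩ := exists_SL2_hom_of_not_nilpotent σ (a := a') (b := b')
      (closure_pair_eq_top hH) (LinearMap.ext fun w => sub_eq_zero.2 (ha w))
      (LinearMap.ext fun w => sub_eq_zero.2 (hb w)) (e := e) (k := k) (by
        rw [← map_pow, show (a' * b') ^ (p ^ e * k) = 1 from
          Subtype.ext (by rw [← h1]; exact pow_orderOf_eq_one _), map_one]) h2 hg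
    exact ⟨φ, not_isPGroup_of_mem hν one_ne_zero ⟨a', h3⟩ ⟨b', h4⟩⟩

end Cfsg.Agent.S0592
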