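import Cfsg.Statements.S0594
import Cfsg.Agent.PLoc.Stab2

set_option autoImplicit false
open Cfsg

namespace Cfsg.Agent.S0594

/-- For odd p, two quadratic generators of a faithful group that is not a p-group, one of which acts nontrivially on a normal subgroup of order prime to p, force p = 3 and a section isomorphic to SL(2,3). -/
theorem result {G : Type*} [Group G] [Finite G] {p : ℕ} [Fact p.Prime] (hp : p ≠ 2) (V H : Subgroup G) (hV : Cfsg.IsElementaryAbelian p V) (hHV : H ≤ Subgroup.normalizer (V : Set G)) (hf : H ⊓ Subgroup.centralizer (V : Set G) = ⊥) (a b : G) (hab : H = Subgroup.closure {a, b}) (ha : ⁅⁅V, Subgroup.zpowers a⁆, Subgroup.zpowers a⁆ = ⊥) (hb : ⁅⁅V, Subgroup.zpowers b⁆, Subgroup.zpowers b⁆ = ⊥) (hnp : ¬ IsPGroup p H) (Q : Subgroup G) (hQH : Q ≤ H) (hQn : H ≤ Subgroup.normalizer (Q : Set G)) (hQ : (Nat.card Q).Coprime p) (hQa : ⁅Q, Subgroup.zpowers a⁆ ≠ ⊥) : p = 3 ∧ ∃ (K L : Subgroup G) (hL : (L.subgroupOf K).Normal), K ≤ H ∧ Nonempty ((K ⧸ L.subgroupOf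 K) ≃* Matrix.SpecialLinearGroup (Fin 2) (ZMod 3)) := by
  open Cfsg.Agent.PLoc Subgroup in
  open scoped commutatorElement in
  focus
    have haH : a ∈ H := hab ▸ subset_closure (by simp)
    have hap : a ^ p = 1 := mem_bot.1 (hf ▸ mem_inf.2 ⟨pow_mem haH p,
      pow_mem_centralizer_of_quad hV (hHV haH) ha⟩)
    have hP : IsPGroup p (zpowers a) := isPGroup_zpowers (k := 1) (by rwa [pow_one])
    obtain ⟨r, hr, hrd, R, hRQ, hR, haR, x, hx, hax⟩ := exists_rgroup_not_centralized (hQn haH)
      (by rw [← Nat.card_zpowers]; exact coprime_card_card hP hQ) (fun h => hQa (by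
        rw [commutator_eq_bot_iff_le_centralizer, le_centralizer_iff]; exact zpowers_le.2 h))
    have := Fact.mk hr
    have hrp : r ≠ p := fun h1 => (Fact.out : p.Prime).one_lt.ne' (hQ.symm.eq_one_of_dvd (h1 ▸ hrd))
    have hxH := hQH (hRQ hx)
    have hle : Subgroup.closure {a, x * a * x⁻¹} ≤ H := (closure_le _).2 (by
      rintro y (rfl | rfl)
      · exact haH
      · exact mul_mem (mul_mem hxH haH) (inv_mem hxH))
    obtain ⟨h1, h2⟩ := three_of_rgroup hp hV (hHV haH) (hHV hxH) ha hrp haR hx (D := ⊥)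
      (mem_normalizer_of_normal _ _) (mem_normalizer_of_normal _ _) ((pResOf_le _).trans bot_le)
      (fun y hy => isPGroup_iff_forall.1 hR y hy) (fun h3 => by
        have h4 := pResOf_eq_bot_iff.1 (eq_bot_iff.2 (hf ▸ le_inf ((pResOf_le _).trans hle) h3))
        refine hax (eq_one_of_isPGroup_of_coprime h4 ?_ (coprime_orderOf_of_isPGroup hrp hR
          (mul_mem (conj_mem_of_mem_normalizer haR hx) (inv_mem hx))))
        have : ⁅a, x⁆ = a * (x * a * x⁻¹)⁻¹ := by rw [commutatorElement_def]; group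
        rw [this]
        exact mul_mem (subset_closure (by simp)) (inv_mem (subset_closure (by simp))))
    exact ⟨h1, hasSection_iff.1 (h2.mono hle)⟩

end Cfsg.Agent.S0594
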