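import Cfsg.Statements.S0602
import Cfsg.Agent.PLoc.Thompson

set_option autoImplicit false
open Cfsg

namespace Cfsg.Agent.S0602

/-- The Thompson subgroup is characteristic, and nontrivial as soon as p divides the group order. -/
theorem result {G : Type*} [Group G] [Finite G] {p : ℕ} [Fact p.Prime] : (Cfsg.thompsonSubgroup p G).Characteristic ∧ (p ∣ Nat.card G → Cfsg.thompsonSubgroup p G ≠ ⊥) := by
  open Cfsg.Agent.PLoc Subgroup in
  focus
    refine ⟨characteristic_iff_map_eq.2 fun φ => ?_, fun h hb => ?_⟩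
    · rw [← JOf_top, map_JOf_inj φ.injective, map_top_of_surjective _ φ.surjective]
    · obtain ⟨x, hx⟩ := exists_prime_orderOf_dvd_card' p h
      obtain ⟨A, hA⟩ := maxEA_nonempty (e := p) (⊤ : Subgroup G)
      have h1 := hA.2.2 (zpowers x) le_top (isEA_zpowers (hx ▸ pow_orderOf_eq_one x))
      have h2 := le_JOf hA
      rw [JOf_top, hb, le_bot_iff] at h2
      rw [h2, card_bot, Nat.card_zpowers, hx] at h1
      exact (Fact.out : p.Prime).one_lt.not_ge h1

end Cfsg.Agent.S0602
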