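import Cfsg.Statements.S0604
import Cfsg.Agent.PLoc.Thompson

set_option autoImplicit false
open Cfsg

namespace Cfsg.Agent.S0604

/-- The Thompson subgroup of G is the join of the Thompson subgroups of its Sylow p-subgroups. -/
theorem result {G : Type*} [Group G] [Finite G] {p : ℕ} [Fact p.Prime] : Cfsg.thompsonSubgroup p G = ⨆ S : Sylow p G, Cfsg.thompsonSubgroupOf p (S : Subgroup G) := by
  open Cfsg.Agent.PLoc Subgroup in
  focus
    rw [← JOf_top]
    refine le_antisymm (JOf_le_iff.2 fun A hA => ?_) (iSup_le fun S => ?_)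
    · obtain ⟨S, hS⟩ := (isPGroup_of_isEA hA.2.1).exists_le_sylow
      refine le_trans ?_ (le_iSup _ S)
      rw [thompsonSubgroupOf_eq]
      exact le_JOf (mem_maxEA_of_le hA hS le_top)
    · rw [thompsonSubgroupOf_eq]
      exact sSup_le_sSup (isSylowOf_top S).maxEA_subset

end Cfsg.Agent.S0604
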