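import Cfsg.Statements.S0606
import Cfsg.Agent.PLoc.Thompson

set_option autoImplicit false
open Cfsg

namespace Cfsg.Agent.S0606

/-- Elementary abelian p-subgroups of maximal order are best offenders on any normal elementary abelian p-subgroup. -/
theorem result {G : Type*} [Group G] [Finite G] {p : ℕ} [Fact p.Prime] (V : Subgroup G) [V.Normal] (hV : Cfsg.IsElementaryAbelian p V) (A : Subgroup G) (hA : A ∈ Cfsg.maxElementaryAbelianSubgroups p G) : Cfsg.IsBestOffenderOn p V A := by
  open Cfsg.Agent.PLoc Subgroup in
  focus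
    rw [← maxEA_top] at hA
    refine ⟨fun B hB => ?_, ?_, fun a ha => ?_⟩
    · have hB' := isEA_of_le hA.2.1 hB
      have h1 := hA.2.2 _ le_top (isEA_sup hB' (isEA_of_le hV (inf_le_left : V ⊓ centralizer (B : Set G) ≤ V))
        (le_centralizer_iff.1 inf_le_right))
      rw [← card_sup_mul_card_inf ((le_centralizer_iff.1 inf_le_right).trans (centralizer_le_normalizer _))]
      refine Nat.mul_le_mul h1 (card_le_of_le ?_)
      exact le_inf (inf_le_right.trans inf_le_left) ((inf_le_left.trans hB).trans (le_centralizer_of_isEA hA.2.1))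
    · rw [commutator_self_eq_bot hA.2.1.1]; exact bot_le
    · rw [hA.2.1.2 a ha]; exact one_mem _

end Cfsg.Agent.S0606
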