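import Cfsg.Statements.S0617
import Cfsg.Agent.Fac.Str

set_option autoImplicit false
open Cfsg

namespace Cfsg.Agent.S0617

open Subgroup Cfsg.Agent.BG Cfsg.Agent.Fac

theorem aux {G : Type*} [Group G] [Finite G] {p : ℕ} [Fact p.Prime] {V H : Subgroup G} (h : FF p V H) (g : Gen p V H)
    (P : Subgroup G → Prop) (key : ∀ E, P E ↔ E ∈ Facs p V H) :
    (∀ E : {E // P E}, H ≤ N[E.1] ∧ Nonempty (E.1 ≃* Matrix.SpecialLinearGroup (Fin 2) (ZMod p)) ∧ #⁅V, E.1⁆ = p ^ 2) ∧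
    iSupIndep (fun E : {E // P E} => E.1) ∧ (⨆ E : {E // P E}, E.1) = H ∧
    iSupIndep (fun o : Option {E // P E} => o.elim (V ⊓ C[H]) (fun E => ⁅V, E.1⁆)) ∧
    (V ⊓ C[H]) ⊔ (⨆ E : {E // P E}, ⁅V, E.1⁆) = V := by
  have d := h.dprod_V g
  have le : ∀ E ∈ Facs p V H, E ≤ H := fun E ⟨A, a, e⟩ => e ▸ (a.plane h).leE
  refine ⟨fun E => ?_, iSupIndep_def.2 fun E => disjoint_iff.2 ?_, ?_, iSupIndep_def.2 fun o => disjoint_iff.2 ?_, ?_⟩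
  · obtain ⟨A, a, e⟩ := (key _).1 E.2
    rw [e]
    exact ⟨a.nE h g, (a.plane h).equiv, by rw [(a.plane h).eq, (a.plane h).card_W]⟩
  · have b := (key _).1 E.2
    obtain ⟨A, a, e⟩ := id b
    refine eq_bot_iff.2 ((inf_le_inf_left _ (iSup₂_le fun D hD => cent_symm
      (Facs.cent h b ((key _).1 D.2) fun c => hD (Subtype.ext c.symm)))).trans ?_)
    rw [e, (a.plane h).eq]; exact (a.plane h).faith.le
  · exact le_antisymm (iSup_le fun E => le _ ((key _).1 E.2)) (g.le_sSup.trans (sSup_le fun E a =>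
      le_iSup (fun E : {E // P E} => E.1) ⟨E, (key _).2 a⟩))
  · rcases o with _ | E
    · refine eq_bot_iff.2 ((inf_le_inf_left _ (iSup₂_le fun o ho => ?_)).trans d.inf.le)
      rcases o with _ | D
      · exact (ho rfl).elim
      · exact le_iSup₂_of_le D.1 ((key _).1 D.2) le_rfl
    · have b := (key _).1 E.2
      obtain ⟨A, a, e⟩ := id b
      refine eq_bot_iff.2 ((inf_le_inf_left _ (iSup₂_le (a := V ⊓ C[E.1]) fun o ho => ?_)).trans ?_)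
      · rcases o with _ | D
        · exact inf_le_inf_left _ (centS (le _ b))
        · exact le_inf (commL ((le _ ((key _).1 D.2)).trans h.nV))
            (Facs.cent h ((key _).1 D.2) b fun c => ho (congrArg _ (Subtype.ext c)))
      · rw [Option.elim, e, (a.plane h).eq]; exact (a.plane h).dprod.symm.inf.le
  · exact le_antisymm (sup_le inf_le_left (iSup_le fun E => commL ((le _ ((key _).1 E.2)).trans h.nV)))
      (d.sup.ge.trans (sup_le_sup_left (iSup₂_le fun E a =>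
        le_iSup (fun E : {E // P E} => ⁅V, E.1⁆) ⟨E, (key _).2 a⟩) _))

/-- Structure Theorem for failure of factorization: a faithful group generated by best offenders, with self-centralizing p'-core, is a direct product of copies of SL(2, p) (p = 2 or 3), each acting on its own plane in V, which is the direct product of these planes and C_V(H). -/
theorem result {G : Type*} [Group G] [Finite G] {p : ℕ} [Fact p.Prime] (V H : Subgroup G) (hV : Cfsg.IsElementaryAbelian p V) (hHV : H ≤ Subgroup.normalizer (V : Set G)) (hf : H ⊓ Subgroup.centralizer (V : Set G) = ⊥) (hS1 : Subgroup.centralizer (Cfsg.pPrimeCore p ↥H : Set ↥H) ≤ Cfsg.pPrimeCore p ↥H) (hS3 : H = ⨆ A : {A : Subgroup G // A ≤ H ∧ Cfsg.IsBestOffenderOn p V A}, (A : Subgroup G)) (hH1 : H ≠ ⊥) : (p = 2 ∨ p = 3) ∧ (∀ E : {E : Subgroup G // ∃ A : Subgroup G, A ≤ H ∧ Cfsg.IsBestOffenderOn p V A ∧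 ⁅V, A⁆ ≠ ⊥ ∧ (∀ B : Subgroup G, B ≤ A → Cfsg.IsBestOffenderOn p V B → ⁅V, B⁆ ≠ ⊥ → B = A) ∧ E = ⁅((Cfsg.pPrimeCore p ↥H).map H.subtype), A⁆ ⊔ A}, H ≤ Subgroup.normalizer ((E : Subgroup G) : Set G) ∧ Nonempty (↥(E : Subgroup G) ≃* Matrix.SpecialLinearGroup (Fin 2) (ZMod p)) ∧ Nat.card ↥(⁅V, (E : Subgroup G)⁆) = p ^ 2) ∧ iSupIndep (fun E : {E : Subgroup G // ∃ A : Subgroup G, A ≤ H ∧ Cfsg.IsBestOffenderOn p V A ∧ ⁅V, A⁆ ≠ ⊥ ∧ (∀ B : Subgroup G, B ≤ A → Cfsg.IsBestOffenderOn p V B → ⁅V, B⁆ ≠ ⊥ → B = A) ∧ E = ⁅((Cfsg.pPrimeCore p ↥H).map H.subtype), A⁆ ⊔ A} => (E : Subgroup G)) ∧ (⨆ E : {E : Subgroup G // ∃ A : Subgroup G, A ≤ H ∧ Cfsg.IsBestOffenderOn p V A ∧ ⁅V, A⁆ ≠ ⊥ ∧ (∀ B : Subgroup G, B ≤ A → Cfsg.IsBestOffenderOn p V B → ⁅V, B⁆ ≠ ⊥ → B = A) ∧ E = ⁅((Cfsg.pPrimeCore p ↥H).map H.subtype), A⁆ ⊔ A}, (E : Subgroup G)) = H ∧ iSupIndep (fun o : Option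 {E : Subgroup G // ∃ A : Subgroup G, A ≤ H ∧ Cfsg.IsBestOffenderOn p V A ∧ ⁅V, A⁆ ≠ ⊥ ∧ (∀ B : Subgroup G, B ≤ A → Cfsg.IsBestOffenderOn p V B → ⁅V, B⁆ ≠ ⊥ → B = A) ∧ E = ⁅((Cfsg.pPrimeCore p ↥H).map H.subtype), A⁆ ⊔ A} => o.elim (V ⊓ Subgroup.centralizer (H : Set G)) (fun E => ⁅V, (E : Subgroup G)⁆)) ∧ (V ⊓ Subgroup.centralizer (H : Set G)) ⊔ (⨆ E : {E : Subgroup G // ∃ A : Subgroup G, A ≤ H ∧ Cfsg.IsBestOffenderOn p V A ∧ ⁅V, A⁆ ≠ ⊥ ∧ (∀ B : Subgroup G, B ≤ A → Cfsg.IsBestOffenderOn p V B → ⁅V, B⁆ ≠ ⊥ → B = A) ∧ E = ⁅((Cfsg.pPrimeCore p ↥H).map H.subtype), A⁆ ⊔ A}, ⁅V, (E : Subgroup G)⁆) = V := by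
  have h := Fac.ff_of hV hHV hf hS1
  have g := h.gen_of hS3.le
  obtain ⟨A, t⟩ := g.exists hH1
  refine ⟨t.two_or_three h, aux h g _ fun E => ?_⟩
  rw [pPrimeCore_map Fact.out]
  exact ⟨fun ⟨A, a, b, c, d, e⟩ => ⟨A, h.tv a ⟨b, c, d⟩, e⟩,
    fun ⟨A, a, e⟩ => ⟨A, a.le, (a.min h).1, (a.min h).2.1, (a.min h).2.2, e⟩⟩

end Cfsg.Agent.S0617
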