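import Cfsg.Statements.S0618
import Cfsg.Agent.Fac.Op

set_option autoImplicit false
open Cfsg

namespace Cfsg.Agent.S0618

open Subgroup Cfsg.Agent.BG Cfsg.Agent.Fac Cfsg.Agent.BG.PHom
open Cfsg.Agent.PLoc (JOf maxEA VOm ZJOf)

/-- A p-separable group with trivial p'-core in which the Thompson factorization fails has p = 2 or 3, and J(G) induces on the normal closure of Ω₁(Z(S)) a group containing a normal SL(2, p). -/
theorem result {G : Type*} [Group G] [Finite G] {p : ℕ} [Fact p.Prime] (hsep : Cfsg.IsPSolvable p G) (hO : Cfsg.pPrimeCore p G = ⊥) (hnf : ¬ Cfsg.IsThompsonFactorizable p G) : (p = 2 ∨ p = 3) ∧ ∃ E : Subgroup G, Subgroup.centralizer ((⨆ S : Sylow p G, Cfsg.omegaOne p ((S : Subgroup G) ⊓ Subgroup.centralizer ((S : Subgroup G) : Set G))) : Set G) ≤ E ∧ E ≤ Cfsg.thompsonSubgroup p G ⊔ Subgroup.centralizer ((⨆ S : Sylow p G, Cfsg.omegaOne p ((S : Subgroup G) ⊓ Subgroup.centralizer ((S : Subgroup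 G) : Set G))) : Set G) ∧ Cfsg.thompsonSubgroup p G ⊔ Subgroup.centralizer ((⨆ S : Sylow p G, Cfsg.omegaOne p ((S : Subgroup G) ⊓ Subgroup.centralizer ((S : Subgroup G) : Set G))) : Set G) ≤ Subgroup.normalizer (E : Set G) ∧ ∃ hn : ((Subgroup.centralizer ((⨆ S : Sylow p G, Cfsg.omegaOne p ((S : Subgroup G) ⊓ Subgroup.centralizer ((S : Subgroup G) : Set G))) : Set G)).subgroupOf E).Normal, Nonempty ((↥E ⧸ (Subgroup.centralizer ((⨆ S : Sylow p G, Cfsg.omegaOne p ((S : Subgroup G) ⊓ Subgroup.centralizer ((S : Subgroup G) : Set G))) : Set G)).subgroupOf E) ≃* Matrix.SpecialLinearGroup (Fin 2) (ZMod p)) := by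
  have e0 : centralizer (⨆ S : Sylow p G, (Ω[p](Z[S.1]) : Set G)) = C[VOm p G] := by
    rw [← PLoc.VOm_def, iSup_eq_closure, centralizer_closure]; rfl
  rw [e0, ← PLoc.JOf_top]
  rw [PLoc.isThompsonFactorizable_iff hO] at hnf
  obtain ⟨Γ, _, _, ψ, θ, h⟩ := exists_holP (VOm p G)
  have n : ∀ A : Subgroup G, A ≤ ψ.dom := fun A => h.dom ▸ norm_of_normal A
  obtain ⟨f, g⟩ := h.ffJ (abelem_iff.2 (PLoc.isEA_VOm (PLoc.centralizer_pCore_le_of_isPSolvable hsep hO))) le_top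
    (norm_of_normal _) (PLoc.isPSolvable_subgroup hsep _) (O_im_bot (ψ := tot (QuotientGroup.mk' C[VOm p G])) (n _) le_rfl
      (by rw [h.ker, tot_ker, QuotientGroup.ker_mk']) (by
        rw [tot_im, map_top_of_surjective _ (QuotientGroup.mk'_surjective _), ← pCore_eq Fact.out, pCore_quo_VOm]))
  obtain ⟨A, t⟩ := g.exists fun e => hnf (h.ker ▸ (im_eq_bot_iff (n _)).1 e)
  have P := t.plane f
  obtain ⟨i, ⟨e⟩⟩ := equiv_quo (n (ψ.pre (EA p (ψ.im (JOf p ⊤)) A))) (congrArg _ h.ker)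
  obtain ⟨e'⟩ := P.equiv
  refine ⟨P.two_or_three, ψ.pre (EA p (ψ.im (JOf p ⊤)) A), h.ker ▸ ker_le_pre _, ?_, ?_, i,
    ⟨e.trans ((MulEquiv.subgroupCongr (im_pre P.leE)).trans e')⟩⟩
  · rw [← h.ker, ← pre_im (n _)]; exact pre_mono P.leE
  · rw [← h.ker]; exact norm_pre (n _) (by rw [im_sup_ker (n _)]; exact t.nE f g)

end Cfsg.Agent.S0618
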