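import Cfsg.Statements.S0619
import Cfsg.Agent.Fac.Op

set_option autoImplicit false
open Cfsg

namespace Cfsg.Agent.S0619

open Subgroup Cfsg.Agent.BG Cfsg.Agent.Fac Cfsg.Agent.BG.PHom
open Cfsg.Agent.PLoc (JOf maxEA VOm ZJOf)

/-- For a p-separable group and a normal elementary abelian p-subgroup V with no nontrivial normal p-subgroup modulo its centralizer C, the Thompson subgroup J(G) moves Ω₁(Z(J(C))) only inside V. -/
theorem result {G : Type*} [Group G] [Finite G] {p : ℕ} [Fact p.Prime] (hsep : Cfsg.IsPSolvable p G) (V : Subgroup G) [V.Normal] (hV : Cfsg.IsElementaryAbelian p V) (hO : Cfsg.pCore p (G ⧸ Subgroup.centralizer (V : Set G)) = ⊥) : ⁅Cfsg.omegaOne p (Cfsg.centerThompsonOf p (Subgroup.centralizer (V : Set G))), Cfsg.thompsonSubgroup p G⁆ ≤ V := by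
  rw [PLoc.omegaOne_centerThompsonOf, ← PLoc.JOf_top]
  obtain ⟨Γ, _, _, ψ, θ, h⟩ := exists_holP V
  have n : ∀ A : Subgroup G, A ≤ ψ.dom := fun A => h.dom ▸ norm_of_normal A
  have v := abelem_iff.2 hV
  have f := h.ff v (norm_of_normal ⊤) (PLoc.isPSolvable_subgroup hsep _)
    (O_im_bot (ψ := tot (QuotientGroup.mk' C[V])) (n _) le_rfl (by rw [h.ker, tot_ker, QuotientGroup.ker_mk']) (by
        rw [tot_im, map_top_of_surjective _ (QuotientGroup.mk'_surjective _), ← pCore_eq Fact.out, hO]))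
  rw [← quo_cent_iff (norm_of_normal _) (norm_of_normal _), centC, ← le_pre_iff (norm_of_normal _), PLoc.JOf_le_iff]
  intro A a
  rw [le_pre_iff (norm_of_normal _), centC, quo_cent_iff (norm_of_normal _) (norm_of_normal _)]
  have b := Nat.mul_le_mul_left #(A ⊓ C[V]) (f.off_le (im_mono le_top) ((abelem_iff.2 a.2.1).im ψ))
  rw [h.off (norm_of_normal A), h.card le_rfl, PLoc.inf_centralizer_eq_of_mem_maxEA hV le_top a,
    ← (isProd_r (norm_of_normal (A ⊓ C[V]))).card, inf_comm (A ⊓ _), inf_comm A, ← inf_assoc, inf_eq_left.2 v.abel] at b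
  have c := PLoc.mem_maxEA_of_le (PLoc.mem_maxEA_of_card a le_top (abelem_iff.1 (((abelem_iff.2 a.2.1).of_le
    inf_le_right).sup v inf_le_left)) (Nat.le_of_mul_le_mul_right b (card_pos _))) (sup_le inf_le_left v.abel) le_top
  refine (commS (PLoc.ZJOf_le_of_mem c) le_rfl).trans (comm_sup_le ?_ (commL (norm_of_normal _)) (norm_of_normal _)
    (normG _))
  exact (comm_eq_bot.2 (inf_le_right.trans (abelem_iff.2 a.2.1).abel)).le.trans bot_le

end Cfsg.Agent.S0619
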