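import Cfsg.Statements.S0620
import Cfsg.Agent.Fac.Op

set_option autoImplicit false
open Cfsg

namespace Cfsg.Agent.S0620

open Subgroup Cfsg.Agent.BG Cfsg.Agent.Fac Cfsg.Agent.BG.PHom
open Cfsg.Agent.PLoc (JOf maxEA VOm ZJOf)

/-- Under coprime action of an elementary abelian q-group X on a p-separable group K with trivial p'-core, K is generated by the normalizer of J(S), the centralizer of Ω₁(Z(S)) and the fixed points of X. -/
theorem result {G : Type*} [Group G] [Finite G] {p : ℕ} [Fact p.Prime] {q : ℕ} [Fact q.Prime] (K X : Subgroup G) (hXK : X ≤ Subgroup.normalizer (K : Set G)) (hX : Cfsg.IsElementaryAbelian q X) (hq : ¬ q ∣ Nat.card K) (hsep : Cfsg.IsPSolvable p ↥K) (hO : Cfsg.pPrimeCore p ↥K = ⊥) (S : Sylow p ↥K) : (Subgroup.normalizer (Cfsg.thompsonSubgroupOf p (S : Subgroup ↥K) : Set ↥K) ⊔ Subgroup.centralizer (Cfsg.omegaOne p ((S : Subgroup ↥K) ⊓ Subgroup.centralizer ((S : Subgroup ↥K) : Set ↥K)) : Set ↥K) ⊔ (Subgroup.centralizer (X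 : Set G)).subgroupOf K) = ⊤ := by
  rw [PLoc.thompsonSubgroupOf_eq, PLoc.OmZ_def, eq_top_iff]
  obtain ⟨Γ, _, _, ψ, θ, h⟩ := exists_holP ((VOm p K).map K.subtype)
  obtain ⟨f, g⟩ := h.ffK hsep hO
  generalize hL : (_ ⊔ _ ⊔ _ : Subgroup K) = L
  have l1 : N[JOf p S.1] ≤ L := le_sup_left.trans (le_sup_left.trans hL.le)
  have l2 : C[PLoc.OmZ p S.1] ≤ L := le_sup_right.trans (le_sup_left.trans hL.le)
  have l3 : C[X].subgroupOf K ≤ L := le_sup_right.trans hL.le
  have s := (syl_iff' Fact.out).1 (syl_top Fact.out S)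
  have nK := h.dom ▸ norm_VOm (p := p) (normG K)
  have nX := norm_VOm (p := p) hXK
  have J := PLoc.JOf_le (e := p) K
  have nJ := hXK.trans (PLoc.normalizer_le_normalizer_JOf (e := p) K)
  have x := abelem_iff.2 hX
  have pK : PiG {q}ᶜ K := (pin_compl Fact.out).2 hq
  have a := g (ψ.im (L.map K.subtype)) fun A t => t.le_of_syl f g ((h.norm_iff nX le_rfl).2 nX) (im_norm nJ)
    ((x.pig Fact.out).im ψ) ((pK.of_le J).im ψ) (x.abel.sol.im ψ)
    (((syl_map Fact.out S).inf_norm' J (PLoc.le_normalizer_JOf K)).im (J.trans nK))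
    (im_mono (inf_le_left.trans (map_mono ((PLoc.le_normalizer_JOf _).trans l1)))) (by
      rw [← im_IC (h.dom ▸ nX) (J.trans nK) (normI nJ (h.ker ▸ normC nX))
        (PiN.coprime' (pK.of_le (inf_le_left.trans J)) (x.pig Fact.out)).symm (.inl x.abel.sol) nJ]
      refine im_mono (le_trans ?_ (map_mono l3))
      rw [subgroupOf_map_subtype, inf_comm]; exact inf_le_inf_left _ J)
  rw [im_le_im_iff (J.trans nK) ((map_subtype_le _).trans nK), h.ker] at a
  have b := le_inf a J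
  rw [modl_r (normC ((map_subtype_le _).trans (h.dom ▸ nK))) (map_subtype_le _), inf_comm, ← map_C, ← Subgroup.map_sup,
    sup_eq_left.2 ((centS (PLoc.OmZ_le_VOm s)).trans l2),
    ← (PLoc.map_JOf_inj K.subtype_injective ⊤).trans (congrArg _ (map_subtype_top K)), map_le_map_iff_of_injective K.subtype_injective] at b
  intro y _
  have : (JOf p (⊤ : Subgroup K)).Normal := normal_iff.2 (PLoc.le_normalizer_JOf _)
  obtain ⟨c, c1, m, m1, rfl⟩ := PLoc.frattini_JOf s (PLoc.JOf_le_iff.2 fun A a => PLoc.le_JOf (s.maxEA_subset a)) y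
  exact mul_mem (b c1) (l1 m1)

end Cfsg.Agent.S0620
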