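import Cfsg.Statements.S0621
import Cfsg.Agent.Fac.Op

set_option autoImplicit false
open Cfsg

namespace Cfsg.Agent.S0621

open Subgroup Cfsg.Agent.BG Cfsg.Agent.Fac Cfsg.Agent.BG.PHom
open Cfsg.Agent.PLoc (JOf maxEA VOm ZJOf)

/-- Let K be p-separable with O_p'(K) = 1, normalized by an elementary abelian q-group X for a prime q not dividing the order of K. If the Thompson factorization fails in K, then p is 2 or 3 and the fixed points of X contain a plane W of order p² and a subgroup inducing SL(2, p) on it. -/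
theorem result {G : Type*} [Group G] [Finite G] {p : ℕ} [Fact p.Prime] {q : ℕ} [Fact q.Prime] (K X : Subgroup G) (hXK : X ≤ Subgroup.normalizer (K : Set G)) (hX : Cfsg.IsElementaryAbelian q X) (hq : ¬ q ∣ Nat.card K) (hsep : Cfsg.IsPSolvable p ↥K) (hO : Cfsg.pPrimeCore p ↥K = ⊥) (hnf : ¬ Cfsg.IsThompsonFactorizable p ↥K) : (p = 2 ∨ p = 3) ∧ ∃ W D : Subgroup G, W ≤ K ⊓ Subgroup.centralizer (X : Set G) ∧ D ≤ K ⊓ Subgroup.centralizer (X : Set G) ∧ Cfsg.IsElementaryAbelian p W ∧ Nat.card W = p ^ 2 ∧ D ≤ Subgroup.normalizer (W : Set G) ∧ ∃ hn : ((Subgroup.centralizer (W : Set G)).subgroupOf D).Normal, Nonempty ((↥D ⧸ (Subgroup.centralizer (W : Set G)).subgroupOf D) ≃* Matrix.SpecialLinearGroup (Fin 2) (ZMod p)) := by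
  rw [PLoc.isThompsonFactorizable_iff hO] at hnf
  obtain ⟨Γ, _, _, ψ, θ, h⟩ := exists_holP ((VOm p K).map K.subtype)
  obtain ⟨f, g⟩ := h.ffK hsep hO
  have nK := h.dom ▸ norm_VOm (p := p) (normG K)
  have nX := norm_VOm (p := p) hXK
  have J := PLoc.JOf_le (e := p) K
  have nJ := hXK.trans (PLoc.normalizer_le_normalizer_JOf (e := p) K)
  have x := abelem_iff.2 hX
  have pK : PiG {q}ᶜ K := (pin_compl Fact.out).2 hq
  obtain ⟨A, t⟩ := g.exists fun e => hnf (by
    rw [im_eq_bot_iff (J.trans nK), h.ker, ← map_subtype_top K, ← PLoc.map_JOf_inj K.subtype_injective,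
      map_subtype_top, cent_map_inj K.subtype_injective] at e
    exact e)
  obtain ⟨W, w1, w2, w3, φ, d1, d2, d3⟩ := t.fixed f g ((h.norm_iff nX le_rfl).2 nX) (im_norm nJ)
    ((x.pig Fact.out).im ψ) ((pK.of_le J).im ψ) (x.abel.sol.im ψ) ((pK.of_le (map_subtype_le _)).im θ)
  rw [← im_IC (h.dom ▸ nX) (J.trans nK) (normI nJ (h.ker ▸ normC nX))
    (PiN.coprime' (pK.of_le (inf_le_left.trans J)) (x.pig Fact.out)).symm (.inl x.abel.sol) nJ] at w3 d2 d3
  rw [← h.im_C nX] at w1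
  obtain ⟨U, u1, -, rfl⟩ := exists_im_eq' w1
  have u2 := u1.trans inf_le_left
  have D : JOf p K ⊓ C[X] ≤ ψ.dom := inf_le_left.trans (J.trans nK)
  have D' := h.dom ▸ D
  obtain ⟨i, ⟨e⟩⟩ := equiv_quo (φ := φ.comp ψ) (D := JOf p K ⊓ C[X]) (Y := C[U])
    ((le_pre_iff D).2 ((im_mono inf_le_left).trans d1)) (by
      rw [comp_ker]
      refine le_antisymm (le_inf inf_le_left ((h.cent_iff (inf_le_left.trans D') u2).1 ?_))
        (le_inf inf_le_left ((le_pre_iff (inf_le_left.trans D)).2 ?_))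
      · rw [im_inf_pre, d3]; exact inf_le_right
      · exact ((le_inf (im_mono inf_le_left) ((h.cent_iff (inf_le_left.trans D') u2).2 inf_le_right)).trans
          d3.ge).trans inf_le_right)
  refine ⟨t.two_or_three f, U, JOf p K ⊓ C[X], u1.trans (inf_le_inf_right _ (map_subtype_le _)),
    inf_le_inf_right _ J, abelem_iff.1 (((abelem_iff.2 (PLoc.isEA_VOm
      (PLoc.centralizer_pCore_le_of_isPSolvable hsep hO))).map _).of_le u2), h.card u2 ▸ w2, (h.norm_iff D' u2).1 w3, i,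
    ⟨e.trans ((MulEquiv.subgroupCongr ((comp_im _ _ _).trans d2)).trans topEquiv)⟩⟩

end Cfsg.Agent.S0621
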