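import Cfsg.Statements.S0629
import Cfsg.Agent.PLoc.PStable

set_option autoImplicit false
open Cfsg

namespace Cfsg.Agent.S0629

/-- A group in which the centralizer of a Sylow p-subgroup of O_{p',p}(G) is p-solvable is p-constrained. -/
theorem result {G : Type*} [Group G] [Finite G] {p : ℕ} [Fact p.Prime] (P : Sylow p ↥(Cfsg.pPrimePCore p G)) (hsol : Cfsg.IsPSolvable p ↥(Subgroup.centralizer (((P : Subgroup ↥(Cfsg.pPrimePCore p G)).map (Cfsg.pPrimePCore p G).subtype : Subgroup G) : Set G))) : Cfsg.IsPConstrained p G := by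
  open Cfsg.Agent.PLoc Subgroup in
  focus
    have hP := isSylowOf_map_subtype P
    set Q := (P : Subgroup (pPrimePCore p G)).map (pPrimePCore p G).subtype
    have hc := coprime_card_card hP.isP (pPrimeCore_coprime (p := p) (G := G))
    have hs : Group.IsSolvable Q ∨ Group.IsSolvable (pPrimeCore p G) := Or.inl (isSolvable_of_isPGroup' hP.isP)
    have h1 := isPSolvable_map (QuotientGroup.mk' (pPrimeCore p G)) hsol
    rw [← Core.centralizer_map_mk' hc hs,
      hP.map_eq_of_isPGroup _ (by rw [map_pPrimePCore]; exact pCore_isPGroup), map_pPrimePCore] at h1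
    have h2 := charPOf_of_isPSolvable h1 (eq_bot_iff.2 ((pPrimeCoreOf_le_pPrimeCore _).trans
      pPrimeCore_quotient_pPrimeCore.le))
    rw [isPConstrained_iff]
    exact (le_inf le_rfl (centralizer_anti (pCoreOf_le_pCore _))).trans (h2.trans (pCoreOf_le_pCore _))

end Cfsg.Agent.S0629
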