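import Cfsg.Statements.S0631
import Cfsg.Agent.PLoc.PStable

set_option autoImplicit false
open Cfsg

namespace Cfsg.Agent.S0631

/-- In a p-constrained group the normalizer and the centralizer of any p-subgroup are again p-constrained. -/
theorem result {G : Type*} [Group G] [Finite G] {p : ℕ} [Fact p.Prime] (hG : Cfsg.IsPConstrained p G) (P : Subgroup G) (hP : IsPGroup p P) : Cfsg.IsPConstrained p ↥(Subgroup.normalizer (P : Set G)) ∧ Cfsg.IsPConstrained p ↥(Subgroup.centralizer (P : Set G)) := by
  open Cfsg.Agent.PLoc Subgroup in
  focus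
    have h := charPOf_top.2 (isPConstrained_iff.1 hG)
    have hc := coprime_card_card hP (pPrimeCore_coprime (p := p) (G := G))
    have hs : Group.IsSolvable P ∨ Group.IsSolvable (pPrimeCore p G) := Or.inl (isSolvable_of_isPGroup' hP)
    have hk : ∀ H : Subgroup G, (Nat.card ((QuotientGroup.mk' (pPrimeCore p G)).ker ⊓ H : Subgroup G)).Coprime p :=
      fun H => by
        rw [QuotientGroup.ker_mk']
        exact pPrimeCore_coprime.coprime_dvd_left (card_dvd_of_le inf_le_left)
    refine ⟨isPConstrained_of_map _ (hk _) ?_, isPConstrained_of_map _ (hk _) ?_⟩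
    · rw [← Core.normalizer_map_mk' hc hs]
      exact h.local (hP.map _) le_normalizer_of_normal le_top
        (inf_le_right.trans (centralizer_le_normalizer _)) le_rfl (Or.inl le_normalizer)
    · rw [← Core.centralizer_map_mk' hc hs]
      exact h.local (hP.map _) le_normalizer_of_normal le_top
        inf_le_right (centralizer_le_normalizer _) (Or.inr le_rfl)

end Cfsg.Agent.S0631
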