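import Cfsg.Statements.S0633
import Cfsg.Agent.HHB.D
import Cfsg.Agent.PLoc.PStable

set_option autoImplicit false
open Cfsg

namespace Cfsg.Agent.S0633

/-- Theorem B of Hall and Higman on the minimal polynomial of a p-element of order p^n in a p-solvable linear group on a nonzero vector space in characteristic p with no nontrivial normal p-subgroup: its degree is p^n, except when some p^n₀ - 1 (n₀ ≤ n) is a power of a prime q for which the Sylow q-subgroups are non-abelian, in which case the degree is at least p^(n-n₀)(p^n₀ - 1). -/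
theorem result {F : Type*} [Field F] {p : ℕ} [Fact p.Prime] [CharP F p] {V : Type*} [AddCommGroup V] [Module F V] [FiniteDimensional F V] [Nontrivial V] (H : Subgroup (V ≃ₗ[F] V)) [Finite H] (hsol : Cfsg.IsPSolvable p H) (hOp : Cfsg.pCore p H = ⊥) (x : V ≃ₗ[F] V) (hx : x ∈ H) (n : ℕ) (hn : orderOf x = p ^ n) (r : ℕ) (hr : minpoly F (x : Module.End F V) = (Polynomial.X - 1) ^ r) : r = p ^ n ∨ ∃ n₀ q m : ℕ, 1 ≤ n₀ ∧ n₀ ≤ n ∧ q.Prime ∧ 1 ≤ m ∧ p ^ n₀ - 1 = q ^ m ∧ (∀ Q : Sylow q H, ¬ IsMulCommutative Q) ∧ p ^ (n - n₀) * (p ^ n₀ - 1) ≤ r := by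
  open Cfsg.Agent.HHB Cfsg.Agent.PLoc Subgroup Polynomial TensorProduct in
  focus
    have hp : p.Prime := Fact.out
    have hxr : ((x : Module.End F V) - 1) ^ r = 0 := by
      have := minpoly.aeval F (x : Module.End F V)
      rw [hr] at this
      simpa using this
    have hxP : x ^ (p ^ n) = 1 := hn ▸ pow_orderOf_eq_one x
    have hle : r ≤ p ^ n := by
      have h1 : minpoly F (x : Module.End F V) ∣ (X - 1) ^ (p ^ n) := minpoly.dvd _ _ (by
        rw [map_pow, map_sub, aeval_X, map_one, frob F p n, sub_eq_zero]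
        have := map_pow (LinearEquiv.automorphismGroup.toLinearMapMonoidHom (R := F) (M := V)) x (p ^ n)
        rw [hxP, map_one] at this
        exact this.symm)
      have h2 : (X - 1 : F[X]).natDegree = 1 := by simpa using natDegree_X_sub_C (1 : F)
      have h3 : (X - 1 : F[X]).Monic := by simpa using monic_X_sub_C (1 : F)
      have := natDegree_le_of_dvd h1 (h3.pow _).ne_zero
      rwa [hr, h3.natDegree_pow, h3.natDegree_pow, h2, mul_one, mul_one] at this
    have hr0 : r ≠ 0 := by
      rintro rfl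
      simp at hxr
    rcases Nat.eq_zero_or_pos n with rfl | hn1
    · left; simp at hle ⊢; omega
    let x' : H := ⟨x, hx⟩
    have ho : orderOf x' = p ^ n := by rw [← hn]; exact (orderOf_coe x').symm
    let y : H := x' ^ (p ^ (n - 1))
    have hy1 : y ≠ 1 := fun h => by
      have := Nat.le_of_dvd (pow_pos hp.pos _) (ho ▸ orderOf_dvd_of_pow_eq_one h)
      have := Nat.pow_lt_pow_right hp.one_lt (show n - 1 < n by omega)
      omega
    have hyp : y ^ p = 1 := by
      rw [← pow_mul, ← pow_succ, Nat.sub_add_cancel hn1, ← ho, pow_orderOf_eq_one]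
    have hyc : ¬ pPrimeCore p H ≤ centralizer {y} := fun h => by
      have h1 : y ∈ pPrimeCore p H := centralizer_pPrimeCore_le_of_isPSolvable hsol hOp
        fun g hg => mem_centralizer_singleton_iff.1 (h hg)
      have := coprime_orderOf_of_mem pPrimeCore_coprime h1
      rw [orderOf_eq_prime hyp hy1, Nat.coprime_self] at this
      exact hp.one_lt.ne' this
    obtain ⟨q, hq, hqp, R, hR, hxR, g, hg, hne⟩ : ∃ q : ℕ, q.Prime ∧ q ≠ p ∧ ∃ R : Subgroup H,
        IsPGroup q R ∧ x' ∈ normalizer (R : Set H) ∧ ∃ g ∈ R, y * g ≠ g * y := by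
      by_contra hcon
      push Not at hcon
      refine hyc (Core.le_of_forall_not_dvd_relIndex fun q hq hd => ?_)
      have := Fact.mk hq
      obtain ⟨R, ⟨h1, h2, h3⟩, h4⟩ := Core.exists_invariant_isSylowIn (A := zpowers x')
        (K := pPrimeCore p H) (fun a _ => mem_normalizer_of_normal _ a)
        (by rw [Nat.card_zpowers, ho]; exact pPrimeCore_coprime.symm.pow_left _)
        (Or.inl inferInstance) q
      refine h3 (hd.trans (relIndex_dvd_of_le_left _ fun a ha => ?_))
      rw [mem_centralizer_singleton_iff]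
      refine (hcon q hq ?_ R h2 (h4 (mem_zpowers x')) a ha).symm
      rintro rfl
      exact (hq.coprime_iff_not_dvd.1 pPrimeCore_coprime.symm) (hd.trans (relIndex_dvd_card _ _))
    have := Fact.mk hq
    let K := AlgebraicClosure F
    let β₀ : H →* Module.End F V :=
      { toFun := fun h => ((h : V ≃ₗ[F] V) : Module.End F V)
        map_one' := rfl
        map_mul' := fun _ _ => rfl }
    let β : H →* (Module.End K (K ⊗[F] V))ˣ :=
      ((Module.End.baseChangeHom F K V : Module.End F V →* _).comp β₀).toHomUnits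
    have hβ : Function.Injective β := fun a b h => by
      have h1 : Module.End.baseChangeHom F K V (β₀ a) = Module.End.baseChangeHom F K V (β₀ b) :=
        congrArg Units.val h
      exact Subtype.ext (LinearEquiv.toLinearMap_injective
        (LinearMap.baseChangeHom_injective F V K h1))
    have hk : ∀ k, (∃ v ∈ (⊤ : Submodule K (K ⊗[F] V)),
        (((β x' : Module.End K (K ⊗[F] V)) - 1) ^ k) v ≠ 0) → k < r := by
      rintro k ⟨v, -, hv⟩
      by_contra h
      apply hv
      have e : ((β x' : Module.End K (K ⊗[F] V)) - 1) ^ k =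
          Module.End.baseChangeHom F K V (((x : Module.End F V) - 1) ^ k) := by
        rw [map_pow, map_sub, map_one]; rfl
      rw [e, show k = (k - r) + r by omega, pow_add, hxr, mul_zero, map_zero]; rfl
    have : Finite (R.map β) := Finite.of_surjective _ (β.subgroupMap_surjective R)
    have h1 : β x' ^ (p ^ n) = 1 := by rw [← map_pow, ← ho, pow_orderOf_eq_one, map_one]
    have key := core (K := K) hqp _ (K ⊗[F] V) (R.map β) (β x') n (Nat.lt_succ_self _) (hR.map β)
      hn1 h1 (conj_iff (pow_pos hp.pos n) h1 (by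
        rintro _ ⟨a, ha, rfl⟩
        exact ⟨x' * a * x'⁻¹, (mem_normalizer_iff.1 hxR a).1 ha, by simp⟩))
      ⟨β g, ⟨g, hg, rfl⟩, fun h => hne (hβ (by rw [map_mul, map_mul, map_pow]; exact h))⟩
    rcases key with h | ⟨⟨_, ⟨a, ha, rfl⟩, _, ⟨b, hb, rfl⟩, hab⟩, n₀, m, c1, c2, c3, c4, h⟩
    · left
      have := hk _ h
      omega
    · refine Or.inr ⟨n₀, q, m, c1, c2, hq, c3, c4, fun Q hQ => hab ?_, by have := hk _ h; omega⟩
      obtain ⟨T, hT⟩ := hR.exists_le_sylow
      have e := (Sylow.equiv T Q)
      have : e ⟨a, hT ha⟩ * e ⟨b, hT hb⟩ = e ⟨b, hT hb⟩ * e ⟨a, hT ha⟩ := hQ.is_comm.comm _ _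
      rw [← map_mul, ← map_mul] at this
      rw [← map_mul, ← map_mul, show a * b = b * a from congrArg Subtype.val (e.injective this)]

end Cfsg.Agent.S0633
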