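import Cfsg.Statements.S0635
import Cfsg.Agent.PLoc.Quad

set_option autoImplicit false
open Cfsg

namespace Cfsg.Agent.S0635

/-- The p-length of a p-soluble group is at most the nilpotency class of its Sylow p-subgroups. -/
theorem result {G : Type*} [Group G] [Finite G] {p : ℕ} [Fact p.Prime] (hsol : Cfsg.IsPSolvable p G) (S : Sylow p G) : Cfsg.PLengthLE p (Group.nilpotencyClass ↥(S : Subgroup G)) G := by
  open Cfsg.Agent.PLoc Subgroup in
  open scoped commutatorElement in
  focus
    have h1 : ∀ k, (upperPSeries p G (2 * k + 2)).1 =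
        (pCore p (G ⧸ (upperPSeries p G (2 * k + 1)).1)).comap (QuotientGroup.mk' _) := fun k => by
      exact congrArg Subtype.val (if_neg (by simp) : upperPSeries p G (2 * k + 1 + 1) = ⟨_, inferInstance⟩)
    have h2 : ∀ k, (upperPSeries p G (2 * k + 1)).1 =
        (pPrimeCore p (G ⧸ (upperPSeries p G (2 * k)).1)).comap (QuotientGroup.mk' _) := fun k => by
      exact congrArg Subtype.val (if_pos (by simp) : upperPSeries p G (2 * k + 1) = ⟨_, inferInstance⟩)
    have h3 : ∀ k, (upperPSeries p G (2 * k)).1 ≤ (upperPSeries p G (2 * k + 1)).1 := fun k x hx => by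
      rw [h2, mem_comap, QuotientGroup.mk'_apply, (QuotientGroup.eq_one_iff x).2 hx]
      exact one_mem _
    have key : ∀ k, (Subgroup.upperCentralSeries (S : Subgroup G) k).map (S : Subgroup G).subtype ≤
        (upperPSeries p G (2 * k)).1 := by
      intro k
      induction k with
      | zero => simp
      | succ k ih =>
        rw [mul_add, mul_one, h1, ← map_le_iff_le_comap]
        refine le_trans ?_ (centralizer_pCore_le_of_isPSolvable (isPSolvable_quotient hsol _)
          (pPrimeCore_quotient_comap (QuotientGroup.mk'_surjective _) (h2 k)))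
        have hS := (isSylowOf_map_top (QuotientGroup.mk'_surjective (upperPSeries p G (2 * k + 1)).1)
          (isSylowOf_top S)).pCoreOf_le
        rw [pCoreOf_top] at hS
        refine le_trans ?_ (centralizer_anti hS)
        rintro _ ⟨_, ⟨x, hx, rfl⟩, rfl⟩ _ ⟨y, hy, rfl⟩
        have := h3 k (ih (mem_map_of_mem _ (Subgroup.mem_upperCentralSeries_succ_iff.1 hx ⟨y, hy⟩)))
        rw [eq_comm, ← commutatorElement_eq_one_iff_mul_comm, ← map_commutatorElement,
          QuotientGroup.mk'_apply, QuotientGroup.eq_one_iff]
        exact this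
    have := S.isPGroup'.isNilpotent
    have h4 := key (Group.nilpotencyClass (S : Subgroup G))
    rw [Subgroup.upperCentralSeries_nilpotencyClass, map_top_subtype'] at h4
    rw [PLengthLE, h2, eq_top_iff, ← map_le_iff_le_comap]
    refine le_pPrimeCore (Normal.map inferInstance _ (QuotientGroup.mk'_surjective _)) ?_
    refine ((isSylowOf_top S).map _).eq_bot_iff.1 ?_
    rwa [Subgroup.map_eq_bot_iff, QuotientGroup.ker_mk']

end Cfsg.Agent.S0635
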