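import Cfsg.Statements.S0637
import Cfsg.Agent.BG.XTop

set_option autoImplicit false
open Cfsg

namespace Cfsg.Agent.S0637

/-- For p greater than 3, the bound p² on the order of the subgroup generated by the elements of order dividing p passes from a p-group to all its quotients. -/
theorem result {R : Type*} [Group R] [Finite R] {p : ℕ} [Fact p.Prime] (hp : 3 < p) (hR : IsPGroup p R) (hO : Nat.card ↥(Cfsg.omegaOne p (⊤ : Subgroup R)) ≤ p ^ 2) (T : Subgroup R) [T.Normal] : Nat.card ↥(Cfsg.omegaOne p (⊤ : Subgroup (R ⧸ T))) ≤ p ^ 2 := by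
  open Cfsg.Agent.BG Cfsg.Agent.BG.PHom Subgroup in
  open scoped commutatorElement in
  focus
    have hp' : p.Prime := Fact.out
    have h1 := pig_top hp' hR
    have h2 := quo_p2_Om hp' h1 hp ((h1.of_le le_top).card_dvd_of_le hp' hO) le_top (norm_of_normal (A := T) _)
    obtain ⟨e⟩ := exists_equiv_im (φ := quo T) (ψ := tot (QuotientGroup.mk' T)) (A := ⊤) (norm_of_normal _) le_rfl
      (by rw [quo_ker, tot_ker, QuotientGroup.ker_mk'])
    rw [tot_im, map_top_of_surjective _ (QuotientGroup.mk'_surjective T)] at e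
    let f : (⊤ : Subgroup (R ⧸ T)) →* Quo T := (⊤ ÷ T).subtype.comp e.symm.toMonoidHom
    have hf : Function.Injective f := Subtype.val_injective.comp e.symm.injective
    refine le_trans ?_ (Nat.le_of_dvd (pow_pos hp'.pos _) h2)
    rw [← map_subtype_top (⊤ : Subgroup (R ⧸ T)), ← map_Om_inj (subtype_injective _),
      card_map_inj (subtype_injective _), ← card_map_inj hf, map_Om_inj hf]
    exact card_le (Om_mono (by rintro _ ⟨x, -, rfl⟩; exact (e.symm x).2))

end Cfsg.Agent.S0637
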