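import Cfsg.Statements.S0640
import Cfsg.Agent.BG.XTop2

set_option autoImplicit false
open Cfsg

namespace Cfsg.Agent.S0640

/-- For odd p, a prime q ≠ p dividing the order of the automorphism group of a p-group of rank at most 2 divides p² - 1 and is less than p. -/
theorem result {R : Type*} [Group R] [Finite R] {p : ℕ} [Fact p.Prime] (hp : p ≠ 2) (hR : IsPGroup p R) (hrk : Cfsg.PRankLE p 2 R) (q : ℕ) (hq : q.Prime) (hqp : q ≠ p) (hdvd : q ∣ Nat.card (MulAut R)) : q ∣ p ^ 2 - 1 ∧ q < p := by
  open Cfsg.Agent.BG Cfsg.Agent.BG.PHom Subgroup in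
  open scoped commutatorElement in
  focus
    have hp' : p.Prime := Fact.out
    have h1 := (pig_top hp' hR).map (PLoc.holL (⊤ : Subgroup (MulAut R)))
    have := pi_aut_rank2 hp' h1 (h1.odd_card hp' hp) (by
      rw [← pRank_equiv hp' (equivMapOfInjective _ _ PLoc.holL_injective)]; exact (prankle_top hp').1 hrk)
      (PLoc.holR_le_normalizer fun _ _ _ _ => mem_top _) hq (by rwa [hol_idx, card_top]) hqp
    exact ⟨this.1, this.2.1⟩

end Cfsg.Agent.S0640
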