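import Cfsg.Statements.S0641
import Cfsg.Agent.BG.XTop

set_option autoImplicit false
open Cfsg

namespace Cfsg.Agent.S0641

/-- Regularity of a p-group passes to quotient groups. -/
theorem result {G : Type*} [Group G] {p : ℕ} [Fact p.Prime] (hG : Cfsg.IsRegularPGroup p G) (N : Subgroup G) [N.Normal] : Cfsg.IsRegularPGroup p (G ⧸ N) := by
  open Cfsg.Agent.BG Cfsg.Agent.BG.PHom Subgroup in
  open scoped commutatorElement in
  focus
    refine ⟨hG.1.to_quotient N, fun a b n => ?_⟩
    obtain ⟨a, rfl⟩ := QuotientGroup.mk'_surjective N a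
    obtain ⟨b, rfl⟩ := QuotientGroup.mk'_surjective N b
    obtain ⟨c, c1, c2⟩ := hG.2 a b n
    refine ⟨QuotientGroup.mk' N c, ?_, by rw [← map_mul, ← map_pow, c2]; simp⟩
    have := mem_map_of_mem (QuotientGroup.mk' N) c1
    rw [powerClosure, MonoidHom.map_closure] at this
    refine closure_mono ?_ this
    rintro _ ⟨_, ⟨x, x1, rfl⟩, rfl⟩
    refine ⟨_, ?_, map_pow _ _ _⟩
    have := mem_map_of_mem (QuotientGroup.mk' N) x1
    rwa [map_commutator, MonoidHom.map_closure, Set.image_pair] at this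

end Cfsg.Agent.S0641
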