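import Cfsg.Statements.S0642
import Cfsg.Agent.BG.XTop

set_option autoImplicit false
open Cfsg

namespace Cfsg.Agent.S0642

/-- Among finite 2-groups the regular ones are exactly the abelian ones. -/
theorem result {G : Type*} [Group G] [Finite G] (hG : IsPGroup 2 G) : Cfsg.IsRegularPGroup 2 G ↔ ∀ a b : G, a * b = b * a := by
  open Cfsg.Agent.BG Cfsg.Agent.BG.PHom Subgroup in
  open scoped commutatorElement in
  focus
    refine ⟨fun h => ?_, fun h => ⟨hG, fun a b n => ⟨1, one_mem _, by rw [mul_one, Commute.mul_pow (h a b)]⟩⟩⟩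
    have pg := pig_top Nat.prime_two hG
    intro a b
    by_contra e
    set H := Subgroup.closure ({a, b} : Set G)
    have ha : a ∈ H := subset_closure (by simp)
    have hb : b ∈ H := subset_closure (by simp)
    have pH := pg.of_le (le_top (a := H))
    have pD := pH.of_le (der_le H)
    have d0 : ⁅H, H⁆ ≠ ⊥ := fun f => e (mem_C_comm (abel_iff_der.2 f) ha hb)
    obtain ⟨c, c1, c2⟩ := h.2 a b 1
    have c3 : c ∈ Φ[⁅H, H⁆] := (closure_le _).2 (by rintro _ ⟨x, x1, rfl⟩; exact pD.pow_mem_Phi Nat.prime_two x1) c1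
    have n : H ≤ N[Φ[⁅H, H⁆] ⊔ ⁅⁅H, H⁆, H⁆] := normY (normPhi (der_norm H)) (comm_normr _ _)
    have l : ⁅H, H⁆ ≤ Φ[⁅H, H⁆] ⊔ ⁅⁅H, H⁆, H⁆ := by
      have m : ⁅a, b⁆ ∈ Φ[⁅H, H⁆] ⊔ ⁅⁅H, H⁆, H⁆ := by
        have : ⁅a, b⁆ = (a * b) * (b * c * b⁻¹)⁻¹ * (a * b)⁻¹ := by
          have : c = (a ^ 2 * b ^ 2)⁻¹ * (a * b) ^ 2 := by rw [eq_inv_mul_iff_mul_eq]; simpa using c2.symm
          rw [this, commutatorElement_def, pow_two, pow_two, pow_two]; group
        rw [this]
        exact conj_mem (n (mul_mem ha hb)) (inv_mem (conj_mem (n hb) (le_sup_left (b := ⁅⁅H, H⁆, H⁆) c3)))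
      have z : H = zpowers a ⊔ zpowers b := by
        rw [zpowers_eq_closure, zpowers_eq_closure, ← Subgroup.closure_union]; rfl
      refine (derS z.le).trans (der_sup_le ?_ ?_ (comm_zpowers_zpowers (n ha) (n hb) m) (zpowers_le.2 (n ha))
        (zpowers_le.2 (n hb))) <;> rw [abel_iff_der.1 (abel_zpowers _)] <;> exact bot_le
    exact (pH.nil.comm_lt (der_le H) le_rfl (der_norm H) d0).ne (eq_of_sup_Phi (commL (der_norm H)) (l.trans (sup_comm _ _).le))

end Cfsg.Agent.S0642
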