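import Cfsg.Statements.S0647
import Cfsg.Agent.PLoc.Thompson

set_option autoImplicit false
open Cfsg

namespace Cfsg.Agent.S0647

/-- For a nonempty family of maximal abelian subgroups of a finite group, the intersection of the family is the centre of the subgroup it generates, which is also the full centralizer of that subgroup. -/
theorem result {S : Type*} [Group S] [Finite S] (𝒜 : Set (Subgroup S)) (hne : 𝒜.Nonempty) (hab : ∀ A ∈ 𝒜, IsMulCommutative A) (hmax : ∀ A ∈ 𝒜, ∀ B : Subgroup S, IsMulCommutative B → A ≤ B → B = A) : sInf 𝒜 = sSup 𝒜 ⊓ Subgroup.centralizer ((sSup 𝒜 : Subgroup S) : Set S) ∧ sInf 𝒜 = Subgroup.centralizer ((sSup 𝒜 : Subgroup S) : Set S) := by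
  open Cfsg.Agent.PLoc Subgroup in
  focus
    have h1 : sInf 𝒜 ≤ centralizer ((sSup 𝒜 : Subgroup S) : Set S) :=
      le_centralizer_iff.1 (sSup_le fun A hA => (le_centralizer_self (hab A hA)).trans (centralizer_anti (sInf_le hA)))
    have h2 : centralizer ((sSup 𝒜 : Subgroup S) : Set S) ≤ sInf 𝒜 := by
      refine le_sInf fun A hA x hx => ?_
      have := hmax A hA (zpowers x ⊔ A) (isMulCommutative_sup inferInstance (hab A hA)
        (zpowers_le.2 (centralizer_anti (le_sSup hA) hx))) le_sup_right
      rw [← this]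
      exact mem_sup_left (mem_zpowers x)
    obtain ⟨A, hA⟩ := hne
    exact ⟨le_antisymm (le_inf ((sInf_le hA).trans (le_sSup hA)) h1) (inf_le_right.trans h2), le_antisymm h1 h2⟩

end Cfsg.Agent.S0647
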