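import Cfsg.Statements.S0650
import Cfsg.Agent.PLoc.Replace

set_option autoImplicit false
open Cfsg

namespace Cfsg.Agent.S0650

/-- The Glauberman replacement Theorem: from an abelian A ⊇ [B, B] not normalized by the normal subgroup B and a suitable b ∈ B one gets the abelian subgroup A* = (A ∩ b⁻¹Ab)[A, b] of the same order, containing [B, B], meeting B strictly more than A does but not containing B, mutually normalizing with A, with strictly larger normalizer containing b, and (p odd) of no larger exponent. -/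
theorem result {S : Type*} [Group S] [Finite S] {p : ℕ} [Fact p.Prime] (hS : IsPGroup p S) (B : Subgroup S) [B.Normal] (hB2 : p = 2 → IsMulCommutative B) (A : Subgroup S) (hA : IsMulCommutative A) (hBA : ⁅B, B⁆ ≤ A) (hnot : ¬ B ≤ Subgroup.normalizer (A : Set S)) (b : S) (hb : b ∈ B) (hbN : b ∈ Subgroup.normalizer ((Subgroup.normalizer (A : Set S)) : Set S)) (hbA : b ∉ Subgroup.normalizer (A : Set S)) : Nat.card ↥((A ⊓ A.map (MulAut.conj (b⁻¹)).toMonoidHom) ⊔ Subgroup.closure {g : S | ∃ a ∈ A, g = a * b⁻¹ * a⁻¹ * b}) = Nat.card A ∧ IsMulCommutative ↥((A ⊓ A.map (MulAut.conj (b⁻¹)).toMonoidHom) ⊔ Subgroup.closure {g : S | ∃ a ∈ A, g = a * b⁻¹ * a⁻¹ * b}) ∧ ⁅B, B⁆ ≤ ((A ⊓ A.map (MulAut.conj (b⁻¹)).toMonoidHom) ⊔ Subgroup.closure {g : S | ∃ a ∈ A, g = a * b⁻¹ * a⁻¹ * b}) ∧ A ⊓ B < ((A ⊓ A.map (MulAut.conj (b⁻¹)).toMonoidHom) ⊔ Subgroup.closure {g : S | ∃ a ∈ A, g = a * b⁻¹ * a⁻¹ * b}) ⊓ B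 ∧ ((A ⊓ A.map (MulAut.conj (b⁻¹)).toMonoidHom) ⊔ Subgroup.closure {g : S | ∃ a ∈ A, g = a * b⁻¹ * a⁻¹ * b}) ⊓ B < B ∧ A ≤ Subgroup.normalizer (((A ⊓ A.map (MulAut.conj (b⁻¹)).toMonoidHom) ⊔ Subgroup.closure {g : S | ∃ a ∈ A, g = a * b⁻¹ * a⁻¹ * b} : Subgroup S) : Set S) ∧ ((A ⊓ A.map (MulAut.conj (b⁻¹)).toMonoidHom) ⊔ Subgroup.closure {g : S | ∃ a ∈ A, g = a * b⁻¹ * a⁻¹ * b}) ≤ Subgroup.normalizer (A : Set S) ∧ b ∈ Subgroup.normalizer (((A ⊓ A.map (MulAut.conj (b⁻¹)).toMonoidHom) ⊔ Subgroup.closure {g : S | ∃ a ∈ A, g = a * b⁻¹ * a⁻¹ * b} : Subgroup S) : Set S) ∧ Subgroup.normalizer (A : Set S) < Subgroup.normalizer (((A ⊓ A.map (MulAut.conj (b⁻¹)).toMonoidHom) ⊔ Subgroup.closure {g : S | ∃ a ∈ A, g = a * b⁻¹ * a⁻¹ * b} : Subgroup S) : Set S) ∧ (p ≠ 2 → Monoid.exponent ↥((A ⊓ A.map (MulAut.conj (b⁻¹)).toMonoidHom) ⊔ Subgroup.closure {g : S | ∃ a ∈ A, g = a * b⁻¹ * a⁻¹ * b}) ∣ Monoid.exponent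 A) := by
  open Cfsg.Agent.PLoc Subgroup in
  focus
    have h : ReplSetup A B (normalizer (A : Set S)) b := by
      refine ⟨hA, le_normalizer, le_rfl, le_normalizer_of_normal, hBA, hb, hbN, ?_⟩
      by_cases h2 : p = 2
      · exact Or.inl (hB2 h2)
      · exact Or.inr fun w hw => eq_one_of_sq_of_isPGroup h2 (hS.to_subgroup B) hw
    rw [cmA_eq, cj_def]
    change Nat.card (repl b A) = _ ∧ IsMulCommutative (repl b A) ∧ _ ≤ repl b A ∧ _ < repl b A ⊓ B ∧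
      repl b A ⊓ B < B ∧ A ≤ normalizer (repl b A : Set S) ∧ repl b A ≤ _ ∧ b ∈ normalizer (repl b A : Set S) ∧
      _ < normalizer (repl b A : Set S) ∧ (_ → Monoid.exponent (repl b A) ∣ _)
    refine ⟨h.card_repl, h.comm_repl, h.BB_le, h.inf_lt hbA,
      lt_of_le_of_ne inf_le_right fun he => h.not_le hbA (he.ge.trans inf_le_left),
      le_normalizer.trans h.N_le, h.repl_le, h.b_mem,
      lt_of_le_of_ne h.N_le fun he => hbA (he ▸ h.b_mem), fun h2 => ?_⟩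
    refine Monoid.exponent_dvd_of_forall_pow_eq_one fun x => Subtype.ext ?_
    refine h.pow_eq_one (Or.inl ?_) (fun a ha => ?_) x x.2
    · obtain ⟨k, hk⟩ := (hS.to_subgroup A).exists_card_eq
      obtain ⟨j, -, hj⟩ := (Nat.dvd_prime_pow Fact.out).1 (hk ▸ Group.exponent_dvd_nat_card (G := A))
      rw [hj]
      exact ((Fact.out : p.Prime).odd_of_ne_two h2).pow
    · exact congrArg Subtype.val (Monoid.pow_exponent_eq_one (⟨a, ha⟩ : A))

end Cfsg.Agent.S0650
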