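import Cfsg.Statements.S0651
import Cfsg.Agent.PLoc.Replace

set_option autoImplicit false
open Cfsg

namespace Cfsg.Agent.S0651

/-- For odd p and D normal in the p-group S, the abelian subgroups of D of largest order satisfy the replacement property: a class-2 normal subgroup B of S with a member containing [B, B] but not B normalizes some such member. -/
theorem result {S : Type*} [Group S] [Finite S] {p : ℕ} [Fact p.Prime] (hS : IsPGroup p S) (hp : p ≠ 2) (D : Subgroup S) [D.Normal] : ∀ (B : Subgroup S) [B.Normal], ⁅⁅B, B⁆, B⁆ = ⊥ → (∃ U ∈ (Set.image (fun A : Subgroup ↥D => A.map D.subtype) (Cfsg.maxAbelianSubgroups ↥D)), ⁅B, B⁆ ≤ U ∧ ¬ B ≤ U) → ∃ A ∈ (Set.image (fun A : Subgroup ↥D => A.map D.subtype) (Cfsg.maxAbelianSubgroups ↥D)), ⁅B, B⁆ ≤ A ∧ ¬ B ≤ A ∧ B ≤ Subgroup.normalizer (A : Set S) := by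
  open Cfsg.Agent.PLoc Subgroup in
  focus
    rw [maxAbelianSubgroups_eq, image_maxElementaryAbelianSubgroups]
    intro B _ _ hex
    obtain ⟨A, ⟨hA, h1, h2⟩, hmax⟩ := Set.exists_max_image {A | A ∈ maxEA 0 D ∧ ⁅B, B⁆ ≤ A ∧ ¬ B ≤ A}
        (fun A => Nat.card (A ⊓ B : Subgroup S)) (Set.toFinite _) hex
    refine ⟨A, hA, h1, h2, ?_⟩
    by_contra hn
    obtain ⟨A', hA', h3, hlt, h4, -⟩ := exists_replacement hp (Or.inr rfl) (hS.to_subgroup ⊤)
      le_normalizer_of_normal le_top le_top le_normalizer_of_normal hA h1 hn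
    exact (card_lt_of_lt hlt).not_ge (hmax A' ⟨hA', h3, h4⟩)

end Cfsg.Agent.S0651
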