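import Cfsg.Statements.S0658
import Cfsg.Agent.PLoc.PStable

set_option autoImplicit false
open Cfsg

namespace Cfsg.Agent.S0658

/-- In a group of characteristic p type all of whose p-locals are p-stable (p odd), the normalizer of Z(J(P)) contains the normalizer of every nontrivial subgroup of the Sylow p-subgroup P. -/
theorem result {G : Type*} [Group G] [Finite G] {p : ℕ} [Fact p.Prime] (hp : p ≠ 2) (hloc : ∀ Q : Subgroup G, IsPGroup p Q → Q ≠ ⊥ → Cfsg.pPrimeCore p ↥(Subgroup.normalizer (Q : Set G)) = ⊥ ∧ Cfsg.IsPConstrained p ↥(Subgroup.normalizer (Q : Set G)) ∧ Cfsg.IsPStable p ↥(Subgroup.normalizer (Q : Set G))) (P : Sylow p G) (Q : Subgroup G) (hQP : Q ≤ (P : Subgroup G)) (hQ1 : Q ≠ ⊥) : Subgroup.normalizer (Q : Set G) ≤ Subgroup.normalizer (Cfsg.centerThompsonAOf ((P : Subgroup G)) : Set G) := by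
  open Cfsg.Agent.PLoc Subgroup in
  focus
    rw [centerThompsonAOf_eq]
    set M := normalizer (ZJOf 0 (P : Subgroup G) : Set G) with hM
    have hPM : (P : Subgroup G) ≤ M := le_normalizer_ZJOf _
    have hPS : IsSylowOf p (P : Subgroup G) M := isSylowOf_sylow P hPM
    by_contra hcon
    obtain ⟨Q, ⟨hQP, hQ1, hQ⟩, hmax⟩ := Set.exists_max_image
      {Q : Subgroup G | Q ≤ P ∧ Q ≠ ⊥ ∧ ¬ normalizer (Q : Set G) ≤ M}
      (fun Q => Nat.card ((P : Subgroup G) ⊓ normalizer (Q : Set G) : Subgroup G)) (Set.toFinite _)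
      ⟨Q, hQP, hQ1, hcon⟩
    have key : ∀ Q' : Subgroup G, Q' ≤ P → Q' ≠ ⊥ →
        Nat.card ((P : Subgroup G) ⊓ normalizer (Q : Set G) : Subgroup G) <
          Nat.card ((P : Subgroup G) ⊓ normalizer (Q' : Set G) : Subgroup G) →
        normalizer (Q' : Set G) ≤ M := by
      intro Q' h1 h2 h3
      by_contra h4
      exact h3.not_ge (hmax Q' ⟨h1, h2, h4⟩)
    set R := (P : Subgroup G) ⊓ normalizer (Q : Set G) with hR
    have hQR : Q ≤ R := le_inf hQP le_normalizer
    have hR1 : R ≠ ⊥ := fun h => hQ1 (eq_bot_iff.2 (hQR.trans h.le))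
    have hRp : IsPGroup p R := P.isPGroup'.to_inf_left
    have hS : IsSylowOf p R (normalizer (Q : Set G)) := by
      by_cases hRP : R = P
      · rw [hRP]; exact isSylowOf_sylow P (hRP.ge.trans inf_le_right)
      have hlt := lt_inf_normalizer P.isPGroup' (lt_of_le_of_ne inf_le_left hRP)
      have hNR := key R inf_le_left hR1 (card_lt_of_lt hlt)
      refine isSylowOf_of_maximal hRp inf_le_right fun T hT hTQ hRT => ?_
      by_contra hne
      have hlt2 := lt_inf_normalizer hT (lt_of_le_of_ne hRT (Ne.symm hne))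
      obtain ⟨m, hm, hle⟩ := hPS.exists_cj_le hT.to_inf_left (inf_le_right.trans hNR)
      have := key (cj m Q) ((cj_mono m (hQR.trans hlt2.le)).trans hle) (by rwa [Ne, cj_eq_bot_iff]) (by
        refine (card_lt_of_lt hlt2).trans_le ?_
        rw [← card_cj m]
        refine card_le_of_le (le_inf hle ?_)
        rw [← cj_normalizer]
        exact cj_mono m (inf_le_left.trans hTQ))
      rw [← cj_normalizer, cj_le_iff, cj_eq_of_mem (inv_mem hm)] at this
      exact hQ this
    obtain ⟨h1, h2, h3⟩ := hloc Q (P.isPGroup'.to_le hQP) hQ1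
    have h4 := hS.subgroupOf le_rfl
    rw [subgroupOf_self] at h4
    have h5 := ZJOf_normal hp (Or.inr rfl) ((isPStable_iff_of_eq_bot h1).1 h3).2.2
      ((isPConstrained_iff_of_eq_bot h1).1 h2) h4
    have h6 := le_normalizer_map_subtype _ (hK := h5)
    rw [map_ZJOf_inj (Subgroup.subtype_injective _), subgroupOf_map_subtype, inf_eq_left.2 hS.le] at h6
    by_cases hRP : R = P
    · rw [hRP] at h6; exact hQ h6
    have hlt := lt_inf_normalizer P.isPGroup' (lt_of_le_of_ne inf_le_left hRP)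
    refine hQ (h6.trans (key _ ((ZJOf_le R).trans inf_le_left) (ZJOf_ne_bot hRp hR1 (dvd_zero p)) ?_))
    exact card_lt_of_lt (hlt.trans_le (inf_le_inf_left _ (normalizer_le_normalizer_ZJOf R)))

end Cfsg.Agent.S0658
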