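import Cfsg.Statements.S0660
import Cfsg.Agent.BG.S12b

set_option autoImplicit false
open Cfsg

namespace Cfsg.Agent.S0660

/-- Under a coprime action on an abelian group, an invariant subgroup that is complemented admits an invariant complement. -/
theorem result {G : Type*} [Group G] [Finite G] (V A U : Subgroup G) (hVab : IsMulCommutative V) (hAV : A ≤ Subgroup.normalizer (V : Set G)) (hcop : (Nat.card A).Coprime (Nat.card V)) (hUV : U ≤ V) (hAU : A ≤ Subgroup.normalizer (U : Set G)) (W : Subgroup G) (hWV : W ≤ V) (hUW : U ⊓ W = ⊥) (hUWV : U ⊔ W = V) : ∃ W' : Subgroup G, W' ≤ V ∧ A ≤ Subgroup.normalizer (W' : Set G) ∧ U ⊓ W' = ⊥ ∧ U ⊔ W' = V := by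
  open Cfsg.Agent.BG Cfsg.Agent.BG.PHom Subgroup in
  open scoped commutatorElement in
  focus
    have ab := abel_of hVab
    have a : Sdprod U W V := ⟨hUWV, hUW, hWV.trans (abel_norm ab hUV)⟩
    obtain ⟨H, b⟩ := gaschutz (M := V ⊔ A) (ab.of_le hUV) a le_sup_left (sup_le (abel_norm ab hUV) hAU) (by
      rw [relIndex_sup_l hAV]
      exact ((coprimeS hcop le_rfl hUV).coprime_dvd_left (relIndex_dvd _ _)).symm)
    refine ⟨H ⊓ V, inf_le_right, le_sup_right.trans (b.sup.ge.trans (sup_le (hUV.trans (abel_norm ab inf_le_right))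
      (normI (normG _) (b.right.trans (sup_le (normG _) hAV))))), by rw [← inf_assoc, b.inf, bot_inf_eq],
      (b.prod.modl' hUV le_sup_left).sup⟩

end Cfsg.Agent.S0660
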