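import Cfsg.Statements.S0661
import Cfsg.Agent.PLoc.PStable

set_option autoImplicit false
open Cfsg

namespace Cfsg.Agent.S0661

/-- If, modulo the largest normal subgroup of order prime to p, the largest normal p-subgroup contains its centralizer, then for every p-subgroup P the p'-core of N_G(P) is just O_p'(G) ∩ N_G(P). -/
theorem result {G : Type*} [Group G] [Finite G] {p : ℕ} [Fact p.Prime] (hc : Subgroup.centralizer (Cfsg.pCore p (G ⧸ Cfsg.pPrimeCore p G) : Set (G ⧸ Cfsg.pPrimeCore p G)) ≤ Cfsg.pCore p (G ⧸ Cfsg.pPrimeCore p G)) (P : Subgroup G) (hP : IsPGroup p P) : (Cfsg.pPrimeCore p ↥(Subgroup.normalizer (P : Set G))).map (Subgroup.normalizer (P : Set G)).subtype = Cfsg.pPrimeCore p G ⊓ Subgroup.normalizer (P : Set G) := by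
  open Cfsg.Agent.PLoc Subgroup in
  focus
    rw [pPrimeCoreOf_def]
    refine le_antisymm (le_inf ?_ (pPrimeCoreOf_le _)) (pPrimeCore_inf_le _)
    have h := charPOf_top.2 hc
    have hc := coprime_card_card hP (pPrimeCore_coprime (p := p) (G := G))
    have hs : Group.IsSolvable P ∨ Group.IsSolvable (pPrimeCore p G) := Or.inl (isSolvable_of_isPGroup' hP)
    have h2 := map_pPrimeCoreOf_le (p := p) (QuotientGroup.mk' (pPrimeCore p G)) (normalizer (P : Set G))
    rw [← Core.normalizer_map_mk' hc hs, (h.local (hP.map _) le_normalizer_of_normal le_top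
        (inf_le_right.trans (centralizer_le_normalizer _)) le_rfl (Or.inl le_normalizer)).pPrimeCoreOf_eq_bot,
        le_bot_iff, Subgroup.map_eq_bot_iff, QuotientGroup.ker_mk'] at h2
    exact h2

end Cfsg.Agent.S0661
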