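import Cfsg.Statements.S0666
import Cfsg.Agent.BG.XTop
import Cfsg.Agent.Char.TI
import Cfsg.Agent.Core.Frobenius

set_option autoImplicit false
open Cfsg

namespace Cfsg.Agent.S0666

/-- A Frobenius group acting on a nontrivial abelian group of order prime to that of its kernel, with the kernel acting without nontrivial fixed points, has a complement with a nontrivial fixed point. -/
theorem result {G : Type*} [Group G] [Finite G] (V F : Subgroup G) (hVab : IsMulCommutative V) (hV1 : V ≠ ⊥) (hFV : F ≤ Subgroup.normalizer (V : Set G)) (H : Subgroup ↥F) (hH : Cfsg.IsFrobeniusComplement H) (hcop : (Nat.card V).Coprime (Nat.card (Cfsg.frobeniusKernel H))) (hCK : V ⊓ Subgroup.centralizer (Subtype.val '' Cfsg.frobeniusKernel H : Set G) = ⊥) : V ⊓ Subgroup.centralizer ((H.map F.subtype : Subgroup G) : Set G) ≠ ⊥ := by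
  open Cfsg.Agent.BG Cfsg.Agent.BG.PHom Subgroup in
  open scoped commutatorElement in
  focus
    intro h
    obtain ⟨K, k1, k2, k3⟩ := Cfsg.Agent.Char.frobenius_kernel H fun g a x b c => by_contra fun d =>
      a (Cfsg.Agent.Core.frob_mem_of_conj_mem hH d b c)
    have e := Cfsg.Agent.Core.frob_coe_eq_kernel hH k3
    have i := F.subtype_injective
    refine hV1 (Cfsg.Agent.Core.eq_bot_of_frobenius_action (K := K.map F.subtype) hVab (norm_map (norm_of_normal _) _)
      (fun r r1 r2 => ?_) ((map_subtype_le _).trans hFV) ((map_subtype_le _).trans hFV) ?_ ?_ h)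
    · obtain ⟨r, r1, rfl⟩ := r1
      have := Cfsg.Agent.Core.frob_fpf hH (disjoint_iff.1 k3.disjoint) r r1 fun f => r2 (by simp [f])
      rw [eq_bot_iff]
      rintro _ ⟨⟨x, x1, rfl⟩, x2⟩
      have : x = 1 := mem_bot.1 (this ▸ ⟨x1, mem_C1.2 (Subtype.ext (mem_C1.1 x2))⟩)
      simp [this]
    · rw [card_map_inj i]; rw [← e] at hcop; exact hcop.symm
    · rw [← e] at hCK; exact hCK

end Cfsg.Agent.S0666
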