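import Cfsg.Statements.S0668
import Cfsg.Agent.Perm.Basic
import Mathlib.RepresentationTheory.Invariants
import Mathlib.LinearAlgebra.Dimension.Constructions

set_option autoImplicit false
open Cfsg

namespace Cfsg.Agent.S0668

open Cfsg.Agent.Perm Subgroup MulAction
open scoped Pointwise


/-- The equivariant linear maps between the permutation modules of two finite `G`-sets form a space whose dimension is the number of `G`-orbits on the product of the two sets. -/
theorem result {G : Type*} [Group G] {K : Type*} [Field K] {Ω₁ Ω₂ : Type*} [Fintype Ω₁] [Fintype Ω₂] [MulAction G Ω₁] [MulAction G Ω₂] : Module.finrank K ((Cfsg.permRep K G Ω₁).linHom (Cfsg.permRep K G Ω₂)).invariants = Nat.card (MulAction.orbitRel.Quotient G (Ω₁ × Ω₂)) := by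
  classical
  have k : ∀ (f : (Ω₁ → K) →ₗ[K] Ω₂ → K), f ∈ ((permRep K G Ω₁).linHom (permRep K G Ω₂)).invariants ↔
      ∀ (g : G) (a : Ω₁) (b : Ω₂), f (Pi.single (g • a) 1) (g • b) = f (Pi.single a 1) b := by
    intro f
    have e : ∀ (g : G) (a : Ω₁), permRep K G Ω₁ g (Pi.single a 1) = Pi.single (g • a) 1 :=
      fun g a => funext fun x => by
        change (Pi.single a 1 : Ω₁ → K) (g⁻¹ • x) = _
        simp [Pi.single_apply, inv_smul_eq_iff]
    refine ⟨fun h g a b => ?_, fun h g => ?_⟩
    · have := congrFun (LinearMap.congr_fun (h g⁻¹) (Pi.single a 1)) b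
      rw [Representation.linHom_apply, LinearMap.comp_apply, LinearMap.comp_apply, inv_inv,
        e] at this
      rw [← this]
      change _ = f _ (g⁻¹⁻¹ • b)
      rw [inv_inv]
    · refine LinearMap.pi_ext' fun a => LinearMap.ext_ring (funext fun b => ?_)
      change permRep K G Ω₂ g (f (permRep K G Ω₁ g⁻¹ (Pi.single a 1))) b = f (Pi.single a 1) b
      rw [e]
      exact h g⁻¹ a b
  let φ : (orbitRel.Quotient G (Ω₁ × Ω₂) → K) →ₗ[K]
      ((permRep K G Ω₁).linHom (permRep K G Ω₂)).invariants :=
    { toFun := fun u => ⟨Matrix.toLin' (Matrix.of fun b a => u (Quotient.mk'' (a, b))),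
        (k _).2 fun g a b => by
          simp only [Matrix.toLin'_apply, Matrix.mulVec_single_one, Matrix.col_apply,
            Matrix.of_apply]
          exact congrArg u (Quotient.sound ⟨g, rfl⟩)⟩
      map_add' := fun u v => Subtype.ext ((map_add Matrix.toLin' _ _))
      map_smul' := fun c v => Subtype.ext (map_smul Matrix.toLin' c (Matrix.of fun b a => v (Quotient.mk'' (a, b)))) }
  have h : ∀ u a b, (φ u).1 (Pi.single a 1) b = u (Quotient.mk'' (a, b)) := fun u a b => by
    simp [φ]
  have := Fintype.ofFinite (orbitRel.Quotient G (Ω₁ × Ω₂))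
  rw [← (LinearEquiv.ofBijective φ ⟨fun u v e => funext ?_, fun f => ?_⟩).finrank_eq,
    Module.finrank_fintype_fun_eq_card, Nat.card_eq_fintype_card]
  · rintro ⟨a, b⟩
    exact (h u a b).symm.trans (e ▸ h v a b)
  · refine ⟨Quotient.lift (fun x => f.1 (Pi.single x.1 1) x.2) ?_, Subtype.ext
      (LinearMap.pi_ext' fun a => LinearMap.ext_ring (funext fun b => h _ a b))⟩
    rintro _ x ⟨g, rfl⟩
    exact (k _).1 f.2 g x.1 x.2

end Cfsg.Agent.S0668
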