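import Cfsg.Statements.S0672
import Cfsg.Agent.Perm.Prime

set_option autoImplicit false
open Cfsg

namespace Cfsg.Agent.S0672

open Cfsg.Agent.Perm Subgroup MulAction
open scoped Pointwise


/-- Let a finite group act faithfully and doubly transitively with point stabilisers of even order, and let `K` have characteristic `p` dividing the degree. If the heart of the permutation module admits no non-zero equivariant map to the permutation module on unordered pairs (phrased: every intertwining map from the sum-zero functions vanishing on the constants is zero), the action is triply transitive. -/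
theorem result {G : Type*} [Group G] [Finite G] {K : Type*} [Field K] {p : ℕ} [Fact p.Prime] [CharP K p] {Ω : Type*} [Fintype Ω] [DecidableEq Ω] [MulAction G Ω] [FaithfulSMul G Ω] (h2 : MulAction.IsMultiplyPretransitive G Ω 2) (hp : p ∣ Fintype.card Ω) (heven : ∀ a : Ω, Even (Nat.card (MulAction.stabilizer G a))) (h : ∀ f : Representation.IntertwiningMap (Cfsg.permSumZero K G Ω).toRepresentation (Cfsg.permRep K G (Set.powersetCard Ω 2)), (∀ v : (Cfsg.permSumZero K G Ω).toSubmodule, (v : Ω → K) ∈ (Cfsg.permConstants K G Ω).toSubmodule → f v = 0) → f = 0) : MulAction.IsMultiplyPretransitive G Ω 3 := by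
  by_cases hc : Fintype.card Ω < 3
  · exact ⟨fun x => absurd (Fintype.card_le_of_embedding x) (by simpa using hc)⟩
  obtain ⟨c⟩ := Fintype.card_pos_iff.1 (show 0 < Fintype.card Ω by omega)
  obtain ⟨t, ht⟩ := exists_prime_orderOf_dvd_card' 2 (heven c).two_dvd
  obtain ⟨a, ha⟩ := exists_smul_ne (Ω := Ω) (g := (t : G)) fun e => by
    rw [show t = 1 from Subtype.ext e, orderOf_one] at ht; exact absurd ht (by norm_num)
  refine (three_of_kernels (K := K) (kt_top_of_multi h2 (by rw [Nat.card_eq_fintype_card]; omega))
    (by rw [← sq, ← coe_pow, ← ht, pow_orderOf_eq_one, coe_one]) ha t.2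
    fun w w1 w2 s z z' => ?_).multi_top
  have := h (((kerMap w).domRestrict (permSumZero K G Ω).toSubmodule).intertwiningMap_of_isIntertwiningMap
    _ _ fun g v => kerMap_smul w1 g⁻¹ v) fun v hv => by
      obtain ⟨c, hc⟩ := Submodule.mem_span_singleton.1 hv
      change kerMap w v = 0
      rw [← hc, map_smul, show kerMap w (fun _ => 1) = 0 from funext fun s => by simp [kerMap, w2],
        smul_zero]
  have e : kerMap w (Pi.single z 1 - Pi.single z' 1) s = 0 := congrFun (DFunLike.congr_fun this
    ⟨Pi.single z 1 - Pi.single z' 1, show ∑ x, _ = _ by simp [Finset.sum_sub_distrib]⟩) s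
  rwa [map_sub, Pi.sub_apply, kerMap_single, kerMap_single, sub_eq_zero] at e

end Cfsg.Agent.S0672
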