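import Cfsg.Statements.S0677
import Cfsg.Agent.Perm.Prime

set_option autoImplicit false
open Cfsg

namespace Cfsg.Agent.S0677

open Cfsg.Agent.Perm Subgroup MulAction
open scoped Pointwise


/-- In a transitive permutation group of prime degree `p` whose Sylow `p`-normaliser has even order, the point stabilisers are the only subgroups of index `p`. -/
theorem result {α : Type*} [Fintype α] [DecidableEq α] {p : ℕ} [Fact p.Prime] (hα : Fintype.card α = p) (G : Subgroup (Equiv.Perm α)) [MulAction.IsPretransitive G α] (P : Sylow p G) (heven : Even (Nat.card (Subgroup.normalizer ((P : Subgroup G) : Set G)))) (H : Subgroup G) (hH : H.index = p) : ∃ a : α, H = MulAction.stabilizer G a := by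
  obtain ⟨a, ha⟩ := fix_of_index (Nat.card_eq_fintype_card.trans hα) P heven hH
  refine ⟨a, eq_of_le_of_card_ge ha (Nat.le_of_mul_le_mul_right (le_of_eq ?_) (Fact.out : p.Prime).pos)⟩
  conv_rhs => rw [← hH, card_mul_index]
  rw [← (stabilizer G a).card_mul_index, index_stabilizer_of_transitive, Nat.card_eq_fintype_card (α := α), hα]

end Cfsg.Agent.S0677
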