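import Cfsg.Statements.S0678
import Cfsg.Agent.Perm.Prime2

set_option autoImplicit false
open Cfsg

namespace Cfsg.Agent.S0678

open Cfsg.Agent.Perm Subgroup MulAction
open scoped Pointwise


/-- A non-solvable transitive permutation group on 7 points that does not contain the alternating group is a simple group of order 168. -/
theorem result {α : Type*} [Fintype α] [DecidableEq α] (hα : Fintype.card α = 7) (G : Subgroup (Equiv.Perm α)) [MulAction.IsPretransitive G α] (hG : ¬ Group.IsSolvable G) (hA : ¬ alternatingGroup α ≤ G) : Nat.card G = 168 ∧ IsSimpleGroup G := by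
  have : Fact (Nat.Prime 7) := ⟨by norm_num⟩
  have hc := Nat.card_eq_fintype_card.trans hα
  obtain ⟨h1, h2, h3⟩ := even_part hc (by norm_num) hG
  rcases h3 with h3 | h3
  · exact deg_seven hc hG (lt_of_le_not_ge h3 hA)
  rw [(deg_seven hc h2 (lt_of_le_not_ge inf_le_right fun e => hA (e.trans inf_le_left))).1] at h3
  obtain ⟨P⟩ : Nonempty (Sylow 7 G) := inferInstance
  obtain ⟨d, n, h4, h5, h6, h7, -⟩ := card_prime_deg hc P
  have := Nat.le_of_dvd (by norm_num) h4
  have := (three_of_even' hc (by norm_num) hG P (by
    rw [h6, Nat.even_iff]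
    unfold Nat.ModEq at h5
    interval_cases d <;> omega)).dvd_card (by omega)
  rw [hc, h3] at this
  norm_num [Nat.descFactorial] at this

end Cfsg.Agent.S0678
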