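import Cfsg.Statements.S0679
import Cfsg.Agent.H3.Deg11
import Cfsg.Agent.S0498

set_option autoImplicit false
open Cfsg

namespace Cfsg.Agent.S0679

open Cfsg.Agent.Char

/-- A non-solvable transitive permutation group on 11 points that does not contain the alternating group is either sharply 4-transitive (of order 7920) or isomorphic to the projective special linear group of degree 2 over the field with 11 elements. -/
theorem result {α : Type*} [Fintype α] [DecidableEq α] (hα : Fintype.card α = 11) (G : Subgroup (Equiv.Perm α)) [MulAction.IsPretransitive G α] (hG : ¬ Group.IsSolvable G) (hA : ¬ alternatingGroup α ≤ G) : (MulAction.IsMultiplyPretransitive G α 4 ∧ ∀ x : Fin 4 ↪ α, MulAction.stabilizer G x = ⊥) ∨ Nonempty (G ≃* Matrix.ProjectiveSpecialLinearGroup (Fin 2) (ZMod 11)) := by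
  have hc := Nat.card_eq_fintype_card.trans hα
  obtain ⟨_, h | h⟩ := H3.deg11 hc hG hA
  · exact .inr (S0498.result 11 (.inl rfl) (by rw [h]; norm_num) (by simp))
  · exact .inl (H3.sharp4 hc h)

end Cfsg.Agent.S0679
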