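import Cfsg.Statements.S0680
import Cfsg.Agent.Perm.Jordan
import Cfsg.Agent.S0054

set_option autoImplicit false
open Cfsg

namespace Cfsg.Agent.S0680

open Cfsg.Agent.Perm Subgroup MulAction
open scoped Pointwise


/-- A finite sharply doubly transitive permutation group has degree a prime power `p ^ j`; a Sylow `p`-subgroup is normal, elementary abelian and regular, and consists of the identity together with the elements without fixed points. (Frobenius' Theorem is not needed.) -/
theorem result {α : Type*} [Fintype α] [DecidableEq α] (G : Subgroup (Equiv.Perm α)) [MulAction.IsMultiplyPretransitive G α 2] (hsharp : ∀ x : Fin 2 ↪ α, MulAction.stabilizer G x = ⊥) (h2 : 2 ≤ Fintype.card α) : ∃ p j : ℕ, p.Prime ∧ 1 ≤ j ∧ Fintype.card α = p ^ j ∧ ∀ (hp : Fact p.Prime) (P : Sylow p G), (P : Subgroup G).Normal ∧ IsMulCommutative (P : Subgroup G) ∧ (∀ x ∈ (P : Subgroup G), x ^ p = 1) ∧ MulAction.IsPretransitive (P : Subgroup G) α ∧ (∀ a : α, MulAction.stabilizer (P : Subgroup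 G) a = ⊥) ∧ ∀ g : G, g ∈ (P : Subgroup G) ↔ g = 1 ∨ ∀ a : α, g • a ≠ a := by
  have hc : 2 ≤ Nat.card α := by rwa [Nat.card_eq_fintype_card]
  have h1 : KT α (⊤ : Subgroup G) 2 := kt_top_of_multi inferInstance hc
  obtain ⟨a, b, ab⟩ := Fintype.exists_pair_of_one_lt_card h2
  have := Nonempty.intro a
  have h3 : ∀ g : G, ∀ b, b ≠ a → g • a = a → g • b = b → g = 1 := fun g b e e1 e2 =>
    stab_emb_bot_iff.1 (hsharp ⟨![a, b], List.nodup_ofFn.1 (by simp [e.symm])⟩) g
      (Fin.forall_fin_two.2 ⟨e1, e2⟩)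
  obtain ⟨N, n1, n2⟩ := exists_kernel (h1.of_le one_le_two) a fun g _ => h3 g
  have := kernel_normal n1
  obtain ⟨n3, p, hp, n4⟩ := S0054.result inferInstance N (kt_one_iff'.1 n2)
    fun x => stab_bot_iff.2 fun g hg => kernel_reg n1 g hg x
  have := Fact.mk hp
  have n5 : IsPGroup p N := fun g => ⟨1, Subtype.ext (by simpa using n4 g g.2)⟩
  obtain ⟨j, hj⟩ := n5.exists_card_eq
  have n6 := reg_card n2 fun g hg => kernel_reg n1 g hg a
  have j1 : 1 ≤ j := Nat.pos_of_ne_zero fun e => by rw [n6, e, pow_zero] at hj; omega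
  refine ⟨p, j, hp, j1, by rw [← hj, n6, Nat.card_eq_fintype_card], fun _ P => ?_⟩
  obtain rfl : N = P := by
    refine eq_of_le_of_card_ge (n5.le_sylow_of_normal P) ?_
    have e := card_stab_mul_of_kt (n2.mono (n5.le_sylow_of_normal P) le_rfl) a
    rw [← e, n6, (eq_bot_iff_forall _).2 fun g (hg : g ∈ (P : Subgroup G) ⊓ stabilizer G a) => ?_, card_bot, one_mul]
    obtain ⟨x, x1, x2⟩ := exists_fixed_of_not_dvd (P.isPGroup'.to_le (zpowers_le.2 hg.1)) (O := {a}ᶜ)
      (fun u hu x hx e => hx (smul_left_cancel u (e.trans ((zpowers_le.2 hg.2) hu).symm))) fun e => by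
        have e2 := Set.ncard_add_ncard_compl ({a} : Set α)
        rw [Set.ncard_singleton, ← n6, hj] at e2
        exact hp.not_dvd_one ((Nat.dvd_add_left e).1 (e2 ▸ dvd_pow_self p (by omega)))
    exact h3 g x x1 hg.2 (x2 g (mem_zpowers g))
  exact ⟨this, n3, n4, kt_one_iff'.1 n2, fun x => stab_bot_iff.2 fun g hg => kernel_reg n1 g hg x,
    fun g => (n1 g).trans (and_iff_right (mem_top g))⟩

end Cfsg.Agent.S0680
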