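import Cfsg.Statements.S0681
import Cfsg.Agent.Perm.Basic

set_option autoImplicit false
open Cfsg

namespace Cfsg.Agent.S0681

open Cfsg.Agent.Perm Subgroup MulAction
open scoped Pointwise


/-- The affine maps `x ↦ x * a + b`, `a ≠ 0`, of a near-field form a sharply doubly transitive permutation group. -/
theorem result {F : Type*} [Cfsg.NearField F] : ∃ H : Subgroup (Equiv.Perm F), (∀ σ : Equiv.Perm F, σ ∈ H ↔ ∃ a b : F, a ≠ 0 ∧ ∀ x : F, σ x = x * a + b) ∧ MulAction.IsMultiplyPretransitive H F 2 ∧ ∀ x : Fin 2 ↪ F, MulAction.stabilizer H x = ⊥ := by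
  have z : ∀ a : F, 0 * a = 0 := fun a => by
    have := NearField.right_distrib 0 0 a
    rw [add_zero] at this
    exact left_eq_add.1 this
  have ng : ∀ a b : F, -a * b = -(a * b) := fun a b =>
    eq_neg_of_add_eq_zero_left (by rw [← NearField.right_distrib, neg_add_cancel, z])
  have nz : ∀ {a b : F}, a * b = 1 → a ≠ 0 := fun h e => NearField.zero_ne_one (by rw [← h, e, z])
  let H : Subgroup (Equiv.Perm F) :=
    { carrier := {σ | ∃ a b : F, a ≠ 0 ∧ ∀ x : F, σ x = x * a + b}
      one_mem' := ⟨1, 0, NearField.zero_ne_one.symm, fun x => by simp⟩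
      mul_mem' := by
        rintro σ τ ⟨a, b, h1, h2⟩ ⟨c, d, h3, h4⟩
        obtain ⟨a', a1, -⟩ := NearField.exists_inv a h1
        obtain ⟨c', c1, -⟩ := NearField.exists_inv c h3
        refine ⟨c * a, d * a + b, nz (b := a' * c') (by
          rw [mul_assoc, ← mul_assoc a, a1, one_mul, c1]), fun x => ?_⟩
        rw [Equiv.Perm.mul_apply, h4, h2, NearField.right_distrib, mul_assoc, add_assoc]
      inv_mem' := by
        rintro σ ⟨a, b, h1, h2⟩
        obtain ⟨a', a1, a2⟩ := NearField.exists_inv a h1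
        refine ⟨a', -b * a', nz a2, fun x => σ.injective ?_⟩
        rw [h2 (_ + _), ← NearField.right_distrib, mul_assoc, a2, mul_one]
        simp }
  have mk : ∀ a b : F, a ≠ 0 → ∃ σ ∈ H, ∀ x, σ x = x * a + b := fun a b h => by
    obtain ⟨a', a1, a2⟩ := NearField.exists_inv a h
    exact ⟨⟨fun x => x * a + b, fun x => (x + -b) * a', fun x => by simp [mul_assoc, a1],
      fun x => by simp [mul_assoc, a2]⟩, ⟨a, b, h, fun _ => rfl⟩, fun _ => rfl⟩
  refine ⟨H, fun _ => Iff.rfl, KT.multi (KT.two_of (kt_one_iff.2 fun x y => ?_) 0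
    fun x y hx hy => ?_), fun x => stab_emb_bot_iff.2 fun ⟨σ, a, b, h1, h2⟩ h => ?_⟩
  · obtain ⟨σ, h1, h2⟩ := mk 1 (-x + y) NearField.zero_ne_one.symm
    exact ⟨σ, h1, (h2 x).trans (by simp)⟩
  · obtain ⟨x', x1, x2⟩ := NearField.exists_inv x hx
    obtain ⟨y', y1, -⟩ := NearField.exists_inv y hy
    obtain ⟨σ, h1, h2⟩ := mk (x' * y) 0 (nz (b := y' * x) (by
      rw [mul_assoc, ← mul_assoc y, y1, one_mul, x2]))
    exact ⟨σ, h1, (h2 0).trans (by simp [z]), (h2 x).trans (by simp [← mul_assoc, x1])⟩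
  · have a1 : x 0 * a + b = x 0 := (h2 _).symm.trans (h 0)
    have a2 : x 1 * a + b = x 1 := (h2 _).symm.trans (h 1)
    obtain ⟨d, -, d2⟩ := NearField.exists_inv (x 0 + -x 1) fun e =>
      absurd (x.injective (add_neg_eq_zero.1 e)) (by decide)
    have a3 : (x 0 + -x 1) * a = x 0 + -x 1 := by
      rw [NearField.right_distrib, ng]
      conv_rhs => rw [← a1, ← a2]
      simp [add_assoc]
    have a4 : a = 1 := by rw [← one_mul a, ← d2, mul_assoc, a3]
    rw [a4, mul_one, add_eq_left] at a1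
    exact Subtype.ext (Equiv.ext fun y => by simpa [a4, a1] using h2 y)

end Cfsg.Agent.S0681
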