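import Cfsg.Statements.S0682
import Cfsg.Agent.S0680
import Cfsg.Agent.S0681

set_option autoImplicit false
open Cfsg

namespace Cfsg.Agent.S0682

open Cfsg.Agent.Perm Subgroup MulAction
open scoped Pointwise


/-- A finite near-field has prime-power order; its additive group is commutative of prime exponent. -/
theorem result {F : Type*} [Cfsg.NearField F] [Finite F] : ∃ p j : ℕ, p.Prime ∧ 1 ≤ j ∧ Nat.card F = p ^ j ∧ (∀ x y : F, x + y = y + x) ∧ ∀ x : F, p • x = 0 := by
  classical
  have := Fintype.ofFinite F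
  obtain ⟨H, h1, h2, h3⟩ := S0681.result (F := F)
  obtain ⟨p, j, hp, hj, h4, h5⟩ := S0680.result H h3
    (Fintype.one_lt_card_iff.2 ⟨0, 1, NearField.zero_ne_one⟩)
  have := Fact.mk hp
  obtain ⟨P⟩ : Nonempty (Sylow p H) := inferInstance
  obtain ⟨-, p1, p2, -, -, p3⟩ := h5 this P
  let t : F → H := fun b => ⟨Equiv.addRight b, (h1 _).2 ⟨1, b, NearField.zero_ne_one.symm, by simp⟩⟩
  have k : ∀ b, t b ∈ (P : Subgroup H) := fun b => (p3 _).2 (by
    by_cases e : b = 0
    · exact Or.inl (Subtype.ext (by simp [t, e]))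
    · exact Or.inr fun a e' => e (add_eq_left.1 e'))
  refine ⟨p, j, hp, hj, Nat.card_eq_fintype_card.trans h4, fun x y => ?_, fun x => ?_⟩
  · have : 0 + x + y = 0 + y + x := congrArg (fun g : P => g • (0 : F)) (p1.1.1 ⟨_, k y⟩ ⟨_, k x⟩)
    simpa using this
  · have e : ∀ n : ℕ, (t x ^ n) • (0 : F) = n • x := fun n => by
      induction n with
      | zero => simp
      | succ n ih => rw [pow_succ', mul_smul, ih, succ_nsmul]; rfl
    rw [← e, p2 _ (k x), one_smul]

end Cfsg.Agent.S0682
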