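import Cfsg.Statements.S0683
import Cfsg.Agent.S0680

set_option autoImplicit false
open Cfsg

namespace Cfsg.Agent.S0683

open Cfsg.Agent.Perm Subgroup MulAction
open scoped Pointwise


/-- A finite sharply doubly transitive permutation group is the affine group of a near-field: the permuted set carries a near-field structure for which the group consists exactly of the maps `x ↦ x * a + b` with `a ≠ 0`. -/
theorem result {α : Type*} [Fintype α] [DecidableEq α] (H : Subgroup (Equiv.Perm α)) [MulAction.IsMultiplyPretransitive H α 2] (hsharp : ∀ x : Fin 2 ↪ α, MulAction.stabilizer H x = ⊥) (h2 : 2 ≤ Fintype.card α) : ∃ _ : Cfsg.NearField α, ∀ σ : Equiv.Perm α, σ ∈ H ↔ ∃ a b : α, a ≠ 0 ∧ ∀ x : α, σ x = x * a + b := by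
  obtain ⟨p, j, hp, -, -, h5⟩ := S0680.result H hsharp h2
  have := Fact.mk hp
  obtain ⟨P⟩ : Nonempty (Sylow p H) := inferInstance
  obtain ⟨p0, p1, -, p2, p3, -⟩ := h5 this P
  have h1 : KT α (⊤ : Subgroup H) 2 := kt_top_of_multi inferInstance (by rwa [Nat.card_eq_fintype_card])
  obtain ⟨o, e, oe⟩ := Fintype.exists_pair_of_one_lt_card h2
  have h3 : ∀ g k : H, g • o = k • o → g • e = k • e → g = k := fun g k e1 e2 =>
    inv_mul_eq_one.1 (stab_emb_bot_iff.1 (hsharp ⟨![o, e], List.nodup_ofFn.1 (by simp [oe])⟩) _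
      (Fin.forall_fin_two.2 ⟨by simp [mul_smul, ← e1], by simp [mul_smul, ← e2]⟩))
  choose t ht using fun b => p2.exists_smul_eq o b
  have t1 : ∀ g : P, t (g • o) = g := fun g =>
    Subtype.ext (reg_inj (stab_bot_iff.1 (p3 o)) (t _).2 g.2 (ht _))
  have hm : ∀ a, ∃ g : H, a ≠ o → g • o = o ∧ g • e = a := fun a => by
    by_cases h : a = o
    · exact ⟨1, fun h' => absurd h h'⟩
    · obtain ⟨g, -, g1⟩ := h1.two le_rfl oe (Ne.symm h)
      exact ⟨g, fun _ => g1⟩
  choose m hm using hm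
  have m1 : ∀ g : H, g • o = o → g • e ≠ o := fun g hg h => oe (smul_left_cancel g (hg.trans h.symm))
  have m2 : ∀ g : H, g • o = o → m (g • e) = g := fun g hg =>
    h3 _ _ ((hm _ (m1 g hg)).1.trans hg.symm) (hm _ (m1 g hg)).2
  have t2 : ∀ a b, t (t b • a) = t b * t a := fun a b => by rw [← t1 (t b * t a), mul_smul, ht]
  have t3 : t o = 1 := by rw [← t1 1, one_smul]
  have m3 : m e = 1 := by rw [← m2 1 (one_smul _ _), one_smul]
  have u4 : ∀ (n : (P : Subgroup H)) (g : H) x, ((n : H) * g : H).1 x = n • g • x :=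
    fun _ _ _ => rfl
  let mul : α → α → α := fun a b => if b = o then o else m b • a
  have u1 : ∀ a (g : H), g • o = o → mul a (g • e) = g • a := fun a g hg => by
    simp only [mul, if_neg (m1 g hg), m2 g hg]
  have u2 : ∀ a, mul a o = o := fun a => if_pos rfl
  have u3 : ∀ b, b = o ∨ ∃ g : H, g • o = o ∧ g • e = b := fun b =>
    or_iff_not_imp_left.2 fun h => ⟨_, hm b h⟩
  have fin : ∀ σ, σ ∈ H ↔ ∃ a b, a ≠ o ∧ ∀ x, σ x = t b • mul x a := fun σ => ⟨fun h => by
    obtain ⟨n, n1, u, hu, e1⟩ := exists_mul_stab (kt_one_iff'.2 p2) o ⟨σ, h⟩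
    refine ⟨u • e, (⟨n, n1⟩ : (P : Subgroup H)) • o, m1 u hu, fun x => ?_⟩
    rw [t1, u1 _ _ hu, ← u4, ← e1], by
    rintro ⟨a, b, ha, h⟩
    obtain ⟨g, g1, rfl⟩ := (u3 a).resolve_left ha
    rw [show σ = ((t b : H) * g : H).1 from Equiv.ext fun x => by rw [h, u1 x g g1, u4]]
    exact Subtype.property _⟩
  letI A : AddGroup α :=
    { add := fun a b => t b • a
      zero := o
      neg := fun a => (t a)⁻¹ • o
      add_assoc := fun a b c => show t c • t b • a = t (t c • b) • a by rw [t2, mul_smul]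
      zero_add := ht
      add_zero := fun a => show t o • a = a by rw [t3, one_smul]
      neg_add_cancel := fun a => smul_inv_smul _ _
      nsmul := @nsmulRec α ⟨o⟩ ⟨fun a b => t b • a⟩
      zsmul := @zsmulRec α ⟨o⟩ ⟨fun a b => t b • a⟩ ⟨fun a => (t a)⁻¹ • o⟩
        (@nsmulRec α ⟨o⟩ ⟨fun a b => t b • a⟩) }
  letI M : Monoid α :=
    { mul := mul
      one := e
      mul_assoc := fun a b c => show mul (mul a b) c = mul a (mul b c) by
        rcases u3 c with rfl | ⟨g, g1, rfl⟩
        · simp only [u2]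
        rcases u3 b with rfl | ⟨k, k1, rfl⟩
        · rw [u2, u1 _ _ g1, g1, u2]
        · rw [u1 _ _ g1, u1 _ _ g1, u1 _ _ k1, ← mul_smul, ← mul_smul, u1 _ _ (by rw [mul_smul, k1, g1])]
      one_mul := fun a => show mul e a = a by
        rcases u3 a with rfl | ⟨g, g1, rfl⟩
        exacts [u2 _, u1 _ _ g1]
      mul_one := fun a => show mul a e = a by simp only [mul, if_neg oe.symm, m3, one_smul] }
  exact ⟨{ A, M with
    right_distrib := fun a b c => show mul (t b • a) c = t (mul b c) • mul a c by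
      rcases u3 c with rfl | ⟨g, g1, rfl⟩
      · simp only [u2, ht]
      · rw [u1 _ _ g1, u1 _ _ g1, u1 _ _ g1, ← ht b, show g • t b • o =
          (⟨_, p0.conj_mem _ (t b).2 g⟩ : P) • o from (conj_smul_of_fix g1).symm, t1, t1]
        simp [mul_smul, Subgroup.smul_def (S := (P : Subgroup H))]
    mul_zero := u2
    zero_ne_one := oe
    exists_inv := fun a ha => by
      obtain ⟨g, g1, rfl⟩ := (u3 a).resolve_left ha
      exact ⟨g⁻¹ • e, (u1 _ _ (inv_smul_eq_iff.2 g1.symm)).trans (inv_smul_smul _ _),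
        (u1 _ _ g1).trans (smul_inv_smul _ _)⟩ }, fin⟩

end Cfsg.Agent.S0683
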