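import Cfsg.Statements.S0691
import Cfsg.Agent.Perm.NF

set_option autoImplicit false
open Cfsg

namespace Cfsg.Agent.S0691

open Cfsg.Agent.Perm

instance inst5 : Fact (Nat.Prime 5) := ⟨by norm_num⟩

def tab : ℕ := 0x40830020840020810040820021000010430030440030410030420010800021030041040041010031020030c00030c30030c40030c10020c2000040001001002003002002003004000000

theorem chk0 : tb2 5 tab (1, 0) = (0, 1) := by decide +kernel

theorem chkA : ∀ v, tb2 5 tab (act2 (2) (0) (0) (-2) v) = act2 (2) (0) (0) (-2) (tb2 5 tab v) := by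
  decide +kernel

theorem chkB : ∀ v, tb2 5 tab (act2 (0) (-1) (1) (0) v) = act2 (0) (-1) (1) (0) (tb2 5 tab v) := by
  decide +kernel

theorem chkC : ∀ v, tb2 5 tab (act2 (1) (2) (1) (-2) v) = act2 (1) (2) (1) (-2) (tb2 5 tab v) := by
  decide +kernel

theorem chkr : ∀ v, v = (0, 0) ∨ v = (1, 0) ∨ rk2 5 tab (act2 (2) (0) (0) (-2) v) < rk2 5 tab v ∨ rk2 5 tab (act2 (0) (-1) (1) (0) v) < rk2 5 tab v ∨ rk2 5 tab (act2 (1) (2) (1) (-2) v) < rk2 5 tab v := by
  decide +kernel


/-- An exceptional sharply doubly transitive group of degree 5^2: the listed matrices generate a subgroup of GL(2,5) of order 24 acting regularly on the non-zero vectors. -/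
theorem result (A : Matrix.GeneralLinearGroup (Fin 2) (ZMod 5)) (B : Matrix.GeneralLinearGroup (Fin 2) (ZMod 5)) (C : Matrix.GeneralLinearGroup (Fin 2) (ZMod 5)) (hA : (A : Matrix (Fin 2) (Fin 2) (ZMod 5)) = !![2, 0; 0, -2]) (hB : (B : Matrix (Fin 2) (Fin 2) (ZMod 5)) = !![0, -1; 1, 0]) (hC : (C : Matrix (Fin 2) (Fin 2) (ZMod 5)) = !![1, 2; 1, -2]) : Nat.card (Subgroup.closure ({A, B, C} : Set (Matrix.GeneralLinearGroup (Fin 2) (ZMod 5)))) = 24 ∧ ∀ v w : Fin 2 → ZMod 5, v ≠ 0 → w ≠ 0 → ∃! h : Subgroup.closure ({A, B, C} : Set (Matrix.GeneralLinearGroup (Fin 2) (ZMod 5))), Matrix.mulVec ((h : Matrix.GeneralLinearGroup (Fin 2) (ZMod 5)) : Matrix (Fin 2) (Fin 2) (ZMod 5)) v = w := by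
  have := reg_of_cert (S := {A, B, C}) (tb2 5 tab) (rk2 5 tab) chk0 (by
    rintro g (rfl | rfl | rfl)
    · simpa [hA] using chkA
    · simpa [hB] using chkB
    · simpa [hC] using chkC) fun v => by
    rcases chkr v with h | h | h | h | h
    · exact .inl h
    · exact .inr (.inl h)
    · exact .inr (.inr ⟨A, by simp, by simpa [hA] using h⟩)
    · exact .inr (.inr ⟨B, by simp, by simpa [hB] using h⟩)
    · exact .inr (.inr ⟨C, by simp, by simpa [hC] using h⟩)
  rwa [ZMod.card] at this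

end Cfsg.Agent.S0691
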