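import Cfsg.Statements.S0692
import Cfsg.Agent.Perm.NF

set_option autoImplicit false
open Cfsg

namespace Cfsg.Agent.S0692

open Cfsg.Agent.Perm

instance inst11 : Fact (Nat.Prime 11) := ⟨by norm_num⟩

def tab : ℕ := 0x724a00604100800400b14700a0850070860090080021020051030040490022800040c700a0c900b1880030ca00904500804600514000908200b08300728100514400108700c08900a10800608a00b0c20051850090c300b0c40090c60091c00081c10082000040060080c800c10700600900b10100c10400304200404300c10500920a00a18900718a00814500a04700520600614800708000c24300618100718200708400914900814a00a0880052400041830070c500c28400618600914100814200524700b1c600228800528900c1c70091ca00800200b1c400a2030060050060c000a0c100710000b20500920700b20800714600c20900424100c1c300a24200324400a10a00504a00924800b24900318000628500728600520100a1430082020022040071870062820031c80041c900700300924500824600a18400a00700828a0050810000400010010081060070440082830061090041c200a0480092870061c500300a000000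

theorem chk0 : tb2 11 tab (1, 0) = (0, 1) := by decide +kernel

theorem chkA : ∀ v, tb2 11 tab (act2 (0) (-1) (1) (0) v) = act2 (0) (-1) (1) (0) (tb2 11 tab v) := by
  decide +kernel

theorem chkB : ∀ v, tb2 11 tab (act2 (2) (4) (1) (-3) v) = act2 (2) (4) (1) (-3) (tb2 11 tab v) := by
  decide +kernel

theorem chkr : ∀ v, v = (0, 0) ∨ v = (1, 0) ∨ rk2 11 tab (act2 (0) (-1) (1) (0) v) < rk2 11 tab v ∨ rk2 11 tab (act2 (2) (4) (1) (-3) v) < rk2 11 tab v := by
  decide +kernel


/-- An exceptional sharply doubly transitive group of degree 11^2: the listed matrices generate a subgroup of GL(2,11) of order 120 acting regularly on the non-zero vectors. -/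
theorem result (A : Matrix.GeneralLinearGroup (Fin 2) (ZMod 11)) (B : Matrix.GeneralLinearGroup (Fin 2) (ZMod 11)) (hA : (A : Matrix (Fin 2) (Fin 2) (ZMod 11)) = !![0, -1; 1, 0]) (hB : (B : Matrix (Fin 2) (Fin 2) (ZMod 11)) = !![2, 4; 1, -3]) : Nat.card (Subgroup.closure ({A, B} : Set (Matrix.GeneralLinearGroup (Fin 2) (ZMod 11)))) = 120 ∧ ∀ v w : Fin 2 → ZMod 11, v ≠ 0 → w ≠ 0 → ∃! h : Subgroup.closure ({A, B} : Set (Matrix.GeneralLinearGroup (Fin 2) (ZMod 11))), Matrix.mulVec ((h : Matrix.GeneralLinearGroup (Fin 2) (ZMod 11)) : Matrix (Fin 2) (Fin 2) (ZMod 11)) v = w := by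
  have := reg_of_cert (S := {A, B}) (tb2 11 tab) (rk2 11 tab) chk0 (by
    rintro g (rfl | rfl)
    · simpa [hA] using chkA
    · simpa [hB] using chkB) fun v => by
    rcases chkr v with h | h | h | h
    · exact .inl h
    · exact .inr (.inl h)
    · exact .inr (.inr ⟨A, by simp, by simpa [hA] using h⟩)
    · exact .inr (.inr ⟨B, by simp, by simpa [hB] using h⟩)
  rwa [ZMod.card] at this

end Cfsg.Agent.S0692
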