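import Cfsg.Statements.S0694
import Mathlib

set_option autoImplicit false
open Cfsg

namespace Cfsg.Agent.S0694

open Finset

theorem key {q n : ℕ} (hq : 2 ≤ q) (i : ℕ) :
    q ^ i ≡ 1 [MOD n * (q - 1)] ↔ (n : ℤ) ∣ ∑ j ∈ range i, (q : ℤ) ^ j := by
  rw [Nat.modEq_iff_dvd, dvd_sub_comm, Nat.cast_mul, Nat.cast_pow, Nat.cast_one, ← geom_sum_mul,
    Nat.cast_sub (by omega), Nat.cast_one, mul_dvd_mul_iff_right (by omega)]

theorem lte {q r : ℕ} (hq : 2 ≤ q) (hr : r.Prime) (h : r ∣ q - 1) (k : ℕ) (h4 : 4 ∣ r ^ k → 4 ∣ q - 1)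
    (i : ℕ) : (r : ℤ) ^ k ∣ ∑ j ∈ range i, (q : ℤ) ^ j ↔ (r : ℤ) ^ k ∣ i := by
  have c : ∀ {a : ℕ}, a ∣ q - 1 → (a : ℤ) ∣ (q : ℤ) - 1 := fun h => by
    have := Int.natCast_dvd_natCast.2 h
    rwa [Nat.cast_sub (by omega)] at this
  have hp := Nat.prime_iff_prime_int.1 hr
  have h1 : ¬ (r : ℤ) ∣ q := fun e => hp.not_dvd_one (by simpa using dvd_sub e (c h))
  have hf : emultiplicity (r : ℤ) ((q : ℤ) - 1) ≠ ⊤ := finiteMultiplicity_iff_emultiplicity_ne_top.1
    (Int.finiteMultiplicity_iff.2 ⟨by simpa using hr.ne_one, by omega⟩)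
  have h2 : emultiplicity (r : ℤ) ((q : ℤ) ^ i - 1 ^ i) = emultiplicity (r : ℤ) ((q : ℤ) - 1) +
      emultiplicity (r : ℤ) (i : ℤ) → ((r : ℤ) ^ k ∣ ∑ j ∈ range i, (q : ℤ) ^ j ↔ (r : ℤ) ^ k ∣ i) := by
    intro e
    rw [one_pow, ← geom_sum_mul, emultiplicity_mul hp, add_comm] at e
    rw [pow_dvd_iff_le_emultiplicity, pow_dvd_iff_le_emultiplicity, WithTop.add_left_cancel hf e]
  rcases hr.eq_two_or_odd' with rfl | ho
  · rcases k with _ | _ | k
    · simp
    · have := dvd_geom_sum₂_iff_of_dvd_sub (n := i) (c h)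
      simpa using this
    · exact h2 (Int.two_pow_sub_pow' i (c (h4 ⟨2 ^ k, by ring⟩)) h1)
  · exact h2 (by rw [Int.emultiplicity_pow_sub_pow hr ho (c h) h1, Int.natCast_emultiplicity])


/-- The Dickson pair condition: for a prime power `q` and `n > 1`, (every prime factor of `n` divides `q - 1`, and `4 ∣ n → 4 ∣ q - 1`) holds exactly when `q ^ n ≡ 1` modulo `n * (q - 1)` but `q ^ i` is not, for `0 < i < n`. -/
theorem result (q n : ℕ) (hq : IsPrimePow q) (hn : 1 < n) : ((∀ r : ℕ, r.Prime → r ∣ n → r ∣ q - 1) ∧ (4 ∣ n → 4 ∣ q - 1)) ↔ (q ^ n ≡ 1 [MOD n * (q - 1)] ∧ ∀ i : ℕ, 0 < i → i < n → ¬ q ^ i ≡ 1 [MOD n * (q - 1)]) := by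
  have h2 := hq.two_le
  simp only [key h2]
  constructor
  · rintro ⟨a, b⟩
    have : ∀ i : ℕ, (n : ℤ) ∣ ∑ j ∈ range i, (q : ℤ) ^ j ↔ n ∣ i := fun i => by
      rw [← Int.natAbs_dvd_natAbs, Int.natAbs_natCast, Nat.dvd_iff_prime_pow_dvd_dvd,
        Nat.dvd_iff_prime_pow_dvd_dvd i n]
      refine forall_congr' fun r => forall_congr' fun k => forall_congr' fun hr =>
        forall_congr' fun hk => ?_
      rcases k with _ | k
      · simp
      · rw [← Int.natCast_dvd, ← Int.natCast_dvd_natCast, Nat.cast_pow]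
        exact lte h2 hr (a r hr ((dvd_pow_self r k.succ_ne_zero).trans hk)) _
          (fun e => b (e.trans hk)) i
    exact ⟨(this n).2 dvd_rfl, fun i h1 h3 e => (Nat.le_of_dvd h1 ((this i).1 e)).not_gt h3⟩
  · rintro ⟨a, b⟩
    haveI : NeZero n := ⟨by omega⟩
    have hc : IsCoprime (n : ℤ) q := by
      have := (dvd_mul_of_dvd_left a ((q : ℤ) - 1))
      rw [geom_sum_mul] at this
      obtain ⟨c, hc⟩ := this
      obtain ⟨m, rfl⟩ : ∃ m, n = m + 1 := ⟨n - 1, by omega⟩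
      exact ⟨-c, (q : ℤ) ^ m, by linear_combination hc⟩
    have inj : Function.Injective fun i : Fin n => ((∑ j ∈ range i, (q : ℤ) ^ j : ℤ) : ZMod n) := by
      have : ∀ i j : Fin n, i < j → ((∑ j ∈ range i, (q : ℤ) ^ j : ℤ) : ZMod n) ≠
          ((∑ j ∈ range j, (q : ℤ) ^ j : ℤ) : ZMod n) := fun i j hij e => by
        obtain ⟨d, hd⟩ := Nat.exists_eq_add_of_le hij.le
        rw [ZMod.intCast_eq_intCast_iff_dvd_sub, hd, sum_range_add, add_sub_cancel_left] at e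
        simp only [pow_add, ← mul_sum] at e
        exact b d (by have : i.1 < j.1 := hij; omega) (by omega) (hc.pow_right.dvd_of_dvd_mul_left e)
      exact fun i j e => by
        rcases lt_trichotomy i j with h | h | h
        exacts [absurd e (this _ _ h), h, absurd e.symm (this _ _ h)]
    have sur : ∀ z : ℤ, ∃ i, (n : ℤ) ∣ z - ∑ j ∈ range i, (q : ℤ) ^ j := fun z => by
      obtain ⟨i, hi⟩ := ((Fintype.bijective_iff_injective_and_card _).2 ⟨inj, by simp⟩).2 (z : ZMod n)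
      exact ⟨i, (ZMod.intCast_eq_intCast_iff_dvd_sub _ _ _).1 hi⟩
    have c : ∀ {a : ℕ}, (a : ℤ) ∣ (q : ℤ) - 1 → a ∣ q - 1 := fun h => by
      rwa [← Int.natCast_dvd_natCast, Nat.cast_sub (by omega)]
    have h3 : ∀ r : ℕ, r.Prime → r ∣ n → r ∣ q - 1 := fun r hr h => by
      by_contra e
      have hp := Nat.prime_iff_prime_int.1 hr
      have h' := Int.natCast_dvd_natCast.2 h
      obtain ⟨u, v, huv⟩ := hp.coprime_iff_not_dvd.2 (mt c e)
      obtain ⟨i, hi⟩ := sur (-v)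
      have : (r : ℤ) ∣ (q : ℤ) ^ i := by
        have := dvd_sub (dvd_mul_left (r : ℤ) u) (dvd_mul_of_dvd_left (h'.trans hi) ((q : ℤ) - 1))
        rw [sub_mul, geom_sum_mul] at this
        rwa [show u * r - (-v * ((q : ℤ) - 1) - (q ^ i - 1)) = q ^ i by linear_combination huv] at this
      exact hp.not_unit (hc.isUnit_of_dvd' h' (hp.dvd_of_dvd_pow this))
    refine ⟨h3, fun h => ?_⟩
    by_contra e
    have h5 := h3 2 Nat.prime_two (dvd_trans (by norm_num) h)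
    obtain ⟨i, hi⟩ := sur 2
    have h6 : ∀ i, (∑ j ∈ range i, (q : ℤ) ^ j) % 4 = 0 ∨ (∑ j ∈ range i, (q : ℤ) ^ j) % 4 = 1 := by
      intro i
      induction i with
      | zero => simp
      | succ i ih =>
        rw [geom_sum_succ, Int.add_emod, Int.mul_emod, show (q : ℤ) % 4 = 3 by omega]
        rcases ih with h | h <;> simp [h]
    have := (Int.natCast_dvd_natCast.2 h).trans hi
    have := h6 i
    omega

end Cfsg.Agent.S0694
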