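import Cfsg.Statements.S0699
import Cfsg.Agent.Perm.Normal

set_option autoImplicit false
open Cfsg

namespace Cfsg.Agent.S0699

open Cfsg.Agent.Perm Subgroup MulAction
open scoped Pointwise


/-- Wagner's Theorem: a non-trivial normal subgroup of a triply transitive permutation group of odd degree at least 5 is triply transitive. -/
theorem result {α : Type*} [Fintype α] [DecidableEq α] (G : Subgroup (Equiv.Perm α)) (hodd : Odd (Fintype.card α)) (h5 : 5 ≤ Fintype.card α) (hG : MulAction.IsMultiplyPretransitive G α 3) (N : Subgroup G) [N.Normal] (hN : N ≠ ⊥) : MulAction.IsMultiplyPretransitive N α 3 := by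
  rw [← Nat.card_eq_fintype_card] at hodd h5
  have h2 : KT α N 2 := (jordan_normal (by norm_num) hG (by omega) hN).resolve_right fun h => by
    obtain ⟨j, hj⟩ := (Core.isPGroup_of_pow_eq_one h.2.1).exists_card_eq
    rw [← h.2.2, hj] at hodd h5
    rcases j with _ | j
    · omega
    · exact absurd hodd (by rw [pow_succ]; simp)
  have h3 := kt_of_multi hG (by omega)
  obtain ⟨a⟩ : Nonempty α := (Nat.card_pos_iff.1 (by omega)).1
  obtain ⟨b, hb, -⟩ := exists_ne_two (by omega) a a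
  have hab : ({a, b} : Finset α).card = 2 := Finset.card_pair hb.symm
  have hcard : (({a, b} : Finset α) : Set α)ᶜ.ncard + 2 = Nat.card α := by
    rw [← Set.ncard_add_ncard_compl (({a, b} : Finset α) : Set α), Set.ncard_coe_finset, hab,
      add_comm]
  have hodd' : ¬ 2 ∣ (({a, b} : Finset α) : Set α)ᶜ.ncard := by
    rw [Nat.odd_iff] at hodd; omega
  -- a `2`-element swapping the two points and fixing a third
  obtain ⟨t, t1, t2, t3, c, c1, c2, t4⟩ : ∃ t ∈ N, t • a = b ∧ t • b = a ∧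
      ∃ c, c ≠ a ∧ c ≠ b ∧ t • c = c := by
    obtain ⟨g, g1, g2, g3⟩ := h2.two le_rfl hb.symm hb
    obtain ⟨j, m, m1, m2⟩ := Nat.exists_eq_two_pow_mul_odd (orderOf_pos g).ne'
    obtain ⟨m, rfl⟩ := m1
    have e1 : ∀ i : ℕ, g ^ (2 * i) • a = a ∧ g ^ (2 * i) • b = b := fun i => by
      rw [pow_mul]
      exact ⟨pow_mem (show g ^ 2 ∈ stabilizer G a by rw [mem_stabilizer_iff, sq, mul_smul, g2, g3]) i,
        pow_mem (show g ^ 2 ∈ stabilizer G b by rw [mem_stabilizer_iff, sq, mul_smul, g3, g2]) i⟩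
    have e2 : g ^ (2 * m + 1) • a = b := by rw [pow_succ, mul_smul, g2, (e1 m).2]
    have e3 : g ^ (2 * m + 1) • b = a := by rw [pow_succ, mul_smul, g3, (e1 m).1]
    have e4 : g ^ (2 * m + 1) ∈ stabilizer G (({a, b} : Finset α) : Set α) := by
      rw [mem_stabilizer_iff, Finset.coe_pair, Set.smul_set_insert, Set.smul_set_singleton, e2, e3,
        Set.pair_comm]
    obtain ⟨c, c1, c2⟩ := exists_fixed_of_not_dvd (P := zpowers (g ^ (2 * m + 1)))
      (O := (({a, b} : Finset α) : Set α)ᶜ)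
      (IsPGroup.of_card (n := j) (by
        rw [Nat.card_zpowers, orderOf_pow, m2, Nat.gcd_mul_left_left, Nat.mul_div_cancel]
        omega)) (fun u hu x hx e => hx (by
          rwa [← zpowers_le.2 e4 hu, Set.smul_mem_smul_set_iff] at e)) hodd'
    simp only [Finset.coe_pair, Set.mem_compl_iff, Set.mem_insert_iff, Set.mem_singleton_iff,
      not_or] at c1
    exact ⟨_, pow_mem g1 _, e2, e3, c, c1.1, c1.2, c2 _ (mem_zpowers _)⟩
  have k1 : ∀ d, d ≠ a → d ≠ b → ∃ t ∈ N, t • a = b ∧ t • b = a ∧ t • d = d := fun d d1 d2 => by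
    obtain ⟨g, g1, g2, g3, g4⟩ := h3.three le_rfl hb.symm c1.symm c2.symm hb.symm d1.symm d2.symm
    let u : G := ⟨g, g1⟩
    have u1 : u⁻¹ • a = a := inv_smul_eq_iff.2 g2.symm
    have u2 : u⁻¹ • b = b := inv_smul_eq_iff.2 g3.symm
    have u3 : u⁻¹ • d = c := inv_smul_eq_iff.2 g4.symm
    refine ⟨u * t * u⁻¹, Normal.conj_mem inferInstance t t1 u, ?_, ?_, ?_⟩ <;>
      rw [mul_smul, mul_smul]
    · rw [u1, t2]; exact g3
    · rw [u2, t3]; exact g2
    · rw [u3, t4]; exact g4
  refine (h2.three_of hb.symm fun c d c1 c2 d1 d2 => by_contra fun hn => ?_).multi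
  set F := fixingSubgroup N (({a, b} : Finset α) : Set α)
  obtain ⟨i, hi⟩ := generous (G := N) Nat.prime_two le_rfl h2.multi hab (fun σ x hx => by
    simp only [Finset.mem_insert, Finset.mem_singleton, not_or] at hx
    have e : ∀ y : ({a, b} : Finset α), y = ⟨a, by simp⟩ ∨ y = ⟨b, by simp⟩ := fun y => by
      simpa only [Subtype.ext_iff, Finset.mem_insert, Finset.mem_singleton] using y.2
    have ne := σ.injective.ne (a₁ := ⟨a, by simp⟩) (a₂ := ⟨b, by simp⟩)
      fun e => hb (congrArg Subtype.val e).symm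
    rcases e (σ ⟨a, by simp⟩) with e1 | e1 <;> rcases e (σ ⟨b, by simp⟩) with e2 | e2
    · exact absurd (e1.trans e2.symm) ne
    · exact ⟨1, fun y => by rcases e y with rfl | rfl <;> simp [e1, e2], one_smul _ _⟩
    · obtain ⟨u, u1, u2, u3, u4⟩ := k1 x hx.1 hx.2
      exact ⟨⟨u, u1⟩, fun y => by rcases e y with rfl | rfl <;> simp [e1, e2, u2, u3], u4⟩
    · exact absurd (e1.trans e2.symm) ne) ![c, d] (by simp [*]) (by
    have a1 : d ∉ orbit F c := fun ⟨g, hg⟩ => hn ⟨g, g.1.2, g.2 ⟨a, by simp⟩, g.2 ⟨b, by simp⟩, hg⟩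
    have a2 := mem_orbit_symm.not.1 a1
    intro i j
    fin_cases i <;> fin_cases j <;> simp only [ne_eq, not_true, false_imp_iff]
    exacts [fun _ => a1, fun _ => a2])
  refine hodd' (hi.trans (orbit_card_dvd (by rw [hab]; exact kt_top_iff.2 h3) ?_))
  revert i; simp [*]

end Cfsg.Agent.S0699
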