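import Cfsg.Statements.S0700
import Cfsg.Agent.Perm.Burn
import Cfsg.Agent.S0054

set_option autoImplicit false
open Cfsg

namespace Cfsg.Agent.S0700

open Cfsg.Agent.Perm Subgroup MulAction
open scoped Pointwise


/-- Burnside's Theorem on doubly transitive groups: a minimal normal subgroup of a finite doubly transitive permutation group is elementary abelian and regular, or simple and primitive. -/
theorem result {α : Type*} [Fintype α] [DecidableEq α] (G : Subgroup (Equiv.Perm α)) (hG : MulAction.IsMultiplyPretransitive G α 2) (N : Subgroup G) [N.Normal] (hN : N ≠ ⊥) (hmin : ∀ M : Subgroup G, M.Normal → M ≤ N → M = ⊥ ∨ M = N) : (IsMulCommutative N ∧ (∃ p : ℕ, p.Prime ∧ ∀ n ∈ N, n ^ p = 1) ∧ ∀ a : α, MulAction.stabilizer N a = ⊥) ∨ (IsSimpleGroup N ∧ MulAction.IsPreprimitive N α) := by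
  by_cases hr : ∀ a : α, stabilizer N a = ⊥
  · obtain ⟨g, g1⟩ := N.ne_bot_iff_exists_ne_one.1 hN
    obtain ⟨a, -⟩ := exists_smul_ne (Ω := α) (g := (g : G)) fun e => g1 (Subtype.ext e)
    have := Nonempty.intro a
    have := isPreprimitive_of_is_two_pretransitive hG
    exact Or.inl (and_assoc.1 ⟨S0054.result hG N (kt_one_iff'.1 (kt_one_of_normal hN)) hr, hr⟩)
  exact Or.inr (burnside_min_normal hG hN hmin hr)

end Cfsg.Agent.S0700
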