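import Cfsg.Statements.S0701
import Cfsg.Agent.Perm.Basic

set_option autoImplicit false
open Cfsg

namespace Cfsg.Agent.S0701

open Cfsg.Agent.Perm Subgroup MulAction
open scoped Pointwise


/-- The centraliser in the full symmetric group of a transitive permutation group `G` is semiregular, and it is transitive if and only if `G` is regular. -/
theorem result {α : Type*} (G : Subgroup (Equiv.Perm α)) [MulAction.IsPretransitive G α] : (∀ c ∈ Subgroup.centralizer (G : Set (Equiv.Perm α)), ∀ a : α, c a = a → c = 1) ∧ (MulAction.IsPretransitive (Subgroup.centralizer (G : Set (Equiv.Perm α))) α ↔ ∀ a : α, MulAction.stabilizer G a = ⊥) := by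
  have h1 : KT α G 1 := kt_one_iff'.2 inferInstance
  refine ⟨fun c hc a e => eq_one_of_centralizes h1 hc (a := a) e, fun h a => ?_, fun h => ⟨?_⟩⟩
  · exact stab_bot_iff.2 fun g hg e => eq_one_of_centralizes (kt_one_iff'.2 h)
      (le_centralizer_iff.1 le_rfl hg) e
  · intro a b
    have k : ∀ {a b : α} {g u : G}, g • a = u • a → g • b = u • b := fun {a b g u} e => by
      have : u⁻¹ * g ∈ stabilizer G a := by rw [mem_stabilizer_iff, mul_smul, e, inv_smul_smul]
      rw [h a, mem_bot, inv_mul_eq_one] at this
      rw [this]
    choose f hf using fun a x : α => exists_smul_eq G a x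
    let c : Equiv.Perm α :=
      { toFun := fun x => f a x • b
        invFun := fun x => f b x • a
        left_inv := fun x => (k (hf b _)).trans (hf a x)
        right_inv := fun x => (k (hf a _)).trans (hf b x) }
    refine ⟨⟨c, fun g hg => Equiv.ext fun x => ?_⟩, (k ((hf a a).trans (one_smul _ _).symm)).trans
      (one_smul _ _)⟩
    exact (mul_smul (⟨g, hg⟩ : G) _ _).symm.trans
      (k ((mul_smul _ _ _).trans ((congrArg _ (hf a x)).trans (hf a _).symm)))

end Cfsg.Agent.S0701
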