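import Cfsg.Statements.S0702
import Cfsg.Agent.Perm.Basic

set_option autoImplicit false
open Cfsg

namespace Cfsg.Agent.S0702

open Cfsg.Agent.Perm Subgroup MulAction
open scoped Pointwise


/-- For a transitive permutation group `G` on a finite set, the centraliser of `G` in the symmetric group is isomorphic to `N_G(G_ω)/G_ω`, and its orbit of `ω` is the set of fixed points of `G_ω`. -/
theorem result {α : Type*} [Finite α] (G : Subgroup (Equiv.Perm α)) [MulAction.IsPretransitive G α] (a : α) : Nonempty (Subgroup.centralizer (G : Set (Equiv.Perm α)) ≃* Subgroup.normalizer ((MulAction.stabilizer G a : Subgroup G) : Set G) ⧸ (MulAction.stabilizer G a).subgroupOf (Subgroup.normalizer ((MulAction.stabilizer G a : Subgroup G) : Set G))) ∧ MulAction.orbit (Subgroup.centralizer (G : Set (Equiv.Perm α))) a = MulAction.fixedPoints (MulAction.stabilizer G a) α := by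
  have h1 : KT α G 1 := kt_one_iff'.2 inferInstance
  choose f hf using fun x : α => exists_smul_eq G a x
  have k : ∀ {b : α}, b ∈ fixedPoints (stabilizer G a) α → ∀ {g u : G}, g • a = u • a →
      g • b = u • b := fun {b} hb {g u} e => by
    have := hb ⟨u⁻¹ * g, by rw [mem_stabilizer_iff, mul_smul, e, inv_smul_smul]⟩
    rwa [Subgroup.smul_def, mul_smul, inv_smul_eq_iff] at this
  have k1 : ∀ b ∈ fixedPoints (stabilizer G a) α, ∃ c : centralizer (G : Set (Equiv.Perm α)),
      ∀ g : G, c • g • a = g • b := fun b hb => by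
    have hs : Function.Surjective fun x => f x • b := fun y => by
      obtain ⟨g, rfl⟩ := exists_smul_eq G b y
      exact ⟨g • a, k hb (hf _)⟩
    refine ⟨⟨Equiv.ofBijective _ (Finite.injective_iff_bijective.1
      (Finite.injective_iff_surjective.2 hs)), fun g hg => Equiv.ext fun x => ?_⟩,
      fun g => k hb (hf _)⟩
    exact (mul_smul (⟨g, hg⟩ : G) _ _).symm.trans
      (k hb ((mul_smul _ _ _).trans ((congrArg _ (hf x)).trans (hf _).symm)))
  have k2 : ∀ (c : centralizer (G : Set (Equiv.Perm α))) (g : G) (x : α),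
      c • g • x = g • c • x := fun c g x => (congrArg (fun σ : Equiv.Perm α => σ x) (c.2 g g.2)).symm
  have k3 : ∀ c : centralizer (G : Set (Equiv.Perm α)), c • a ∈ fixedPoints (stabilizer G a) α :=
    fun c g => (k2 c g a).symm.trans (congrArg _ g.2)
  refine ⟨?_, Set.Subset.antisymm (by rintro _ ⟨c, rfl⟩; exact k3 c) fun b hb => ?_⟩
  swap
  · obtain ⟨c, hc⟩ := k1 b hb
    exact ⟨c, by simpa using hc 1⟩
  have k4 : ∀ n : normalizer ((stabilizer G a : Subgroup G) : Set G),
      (n : G)⁻¹ • a ∈ fixedPoints (stabilizer G a) α := fun n g => by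
    have := (mem_normalizer_iff.1 n.2 g).1 g.2
    rwa [mem_stabilizer_iff, mul_smul, mul_smul, smul_eq_iff_eq_inv_smul] at this
  choose c hc using fun n => k1 _ (k4 n)
  have k5 : ∀ {x y : centralizer (G : Set (Equiv.Perm α))}, x • a = y • a → x = y :=
    fun {x y} e => Eq.symm (inv_mul_eq_one.1 (Subtype.ext (eq_one_of_centralizes h1 (y⁻¹ * x).2
      (a := a) (by rw [← Subgroup.smul_def, mul_smul, e, inv_smul_smul]))))
  have hc1 : ∀ n, c n • a = (n : G)⁻¹ • a := fun n => by simpa using hc n 1
  let φ := MonoidHom.mk' c fun x y => k5 (by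
    rw [mul_smul, hc1, hc1, hc, coe_mul, mul_inv_rev, mul_smul])
  have h2 : φ.ker = (stabilizer G a).subgroupOf _ := by
    ext n
    rw [MonoidHom.mem_ker, mem_subgroupOf, ← inv_mem_iff, mem_stabilizer_iff, ← hc1]
    exact ⟨fun e => by rw [show c n = 1 from e, one_smul], fun e => k5 (by rw [one_smul]; exact e)⟩
  refine ⟨((QuotientGroup.quotientMulEquivOfEq h2.symm).trans
    (QuotientGroup.quotientKerEquivOfSurjective φ fun x => ?_)).symm⟩
  obtain ⟨g, hg⟩ := exists_smul_eq G (x • a) a
  refine ⟨⟨g, Core.mem_normalizer_of_conj_mem fun u hu => ?_⟩, k5 ?_⟩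
  · rw [mem_stabilizer_iff, mul_smul, mul_smul, inv_smul_eq_iff.2 hg.symm]
    exact (congrArg _ (k3 x ⟨u, hu⟩)).trans hg
  · exact (hc1 _).trans (inv_smul_eq_iff.2 hg.symm)

end Cfsg.Agent.S0702
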