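import Cfsg.Statements.S0703
import Cfsg.Agent.Perm.Basic
import Cfsg.Agent.Core.Primitive

set_option autoImplicit false
open Cfsg

namespace Cfsg.Agent.S0703

open Cfsg.Agent.Perm Subgroup MulAction
open scoped Pointwise


/-- An abelian transitive minimal normal subgroup `M` of a permutation group on a finite set is self-centralising in the symmetric group, regular, elementary abelian, and is the unique minimal normal subgroup. -/
theorem result {α : Type*} [Finite α] (G : Subgroup (Equiv.Perm α)) (M : Subgroup G) [M.Normal] (hM : M ≠ ⊥) (hmin : ∀ L : Subgroup G, L.Normal → L ≤ M → L = ⊥ ∨ L = M) (hab : IsMulCommutative M) (htrans : MulAction.IsPretransitive M α) : Subgroup.centralizer ((M.map G.subtype : Subgroup (Equiv.Perm α)) : Set (Equiv.Perm α)) = M.map G.subtype ∧ (∀ a : α, MulAction.stabilizer M a = ⊥) ∧ (∃ p : ℕ, p.Prime ∧ ∀ m ∈ M, m ^ p = 1) ∧ ∀ L : Subgroup G, L.Normal → L ≠ ⊥ → (∀ L' : Subgroup G, L'.Normal → L' ≤ L → L' = ⊥ ∨ L' = L) → L = M := by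
  have h1 : KT α M 1 := kt_one_iff'.2 htrans
  have h2 : KT α (M.map G.subtype) 1 := kt_map_subtype.2 h1
  have h3 := le_centralizer_iff_isMulCommutative.2 (Core.isMulCommutative_map' hab G.subtype)
  have h4 : centralizer ((M.map G.subtype : Subgroup (Equiv.Perm α)) : Set (Equiv.Perm α)) =
      M.map G.subtype := le_antisymm (fun c hc => by
    rcases isEmpty_or_nonempty α with h | ⟨⟨a⟩⟩
    · rw [Subsingleton.elim c 1]; exact one_mem _
    obtain ⟨m, m1, m2⟩ := h2.trans le_rfl a (c • a)
    rw [← inv_mul_eq_one.1 (eq_one_of_centralizes h2 (mul_mem (inv_mem (h3 m1)) hc) (a := a)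
      (by rw [mul_smul, ← m2, inv_smul_smul]))]
    exact m1) h3
  have hM' : Core.IsMinNormal M := ⟨inferInstance, hM, hmin⟩
  refine ⟨h4, fun a => stab_bot_iff.2 fun g hg e => eq_one_of_centralizes h1
    (le_centralizer_iff_isMulCommutative.2 hab hg) e, hM'.exists_prime_pow_eq_one hab,
    fun L l1 l2 l3 => hM'.eq_of_le (by_contra fun h => h fun x hx => ?_) l2⟩
  obtain ⟨y, y1, y2⟩ := h4.le (Core.mem_centralizer_map_subtype_iff.2
    (Core.IsMinNormal.le_centralizer ⟨l1, l2, l3⟩ h hx))
  rwa [← Subtype.ext y2]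

end Cfsg.Agent.S0703
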