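import Cfsg.Statements.S0704
import Cfsg.Agent.Perm.Basic
import Cfsg.Agent.Core.Primitive

set_option autoImplicit false
open Cfsg

namespace Cfsg.Agent.S0704

open Cfsg.Agent.Perm Subgroup MulAction
open scoped Pointwise

theorem aux {α : Type*} (G : Subgroup (Equiv.Perm α)) {M N : Subgroup G} (h1 : KT α M 1)
    (h2 : KT α N 1) (h : N ≤ centralizer (M : Set G)) (a : α) :
    centralizer ((M.map G.subtype : Subgroup (Equiv.Perm α)) : Set (Equiv.Perm α)) =
      N.map G.subtype := by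
  have h3 : N.map G.subtype ≤ centralizer ((M.map G.subtype : Subgroup (Equiv.Perm α)) :
      Set (Equiv.Perm α)) := by
    rintro _ ⟨x, hx, rfl⟩; exact Core.mem_centralizer_map_subtype_iff.2 (h hx)
  refine le_antisymm (fun c hc => ?_) h3
  obtain ⟨m, m1, m2⟩ := (kt_map_subtype.2 h2).trans le_rfl a (c • a)
  rw [← inv_mul_eq_one.1 (eq_one_of_centralizes (kt_map_subtype.2 h1)
    (mul_mem (inv_mem (h3 m1)) hc) (a := a) (by rw [mul_smul, ← m2, inv_smul_smul]))]
  exact m1


/-- Two distinct transitive minimal normal subgroups `M`, `N` of a permutation group are regular, non-abelian, isomorphic, each other's centraliser in the symmetric group, and the only minimal normal subgroups. -/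
theorem result {α : Type*} (G : Subgroup (Equiv.Perm α)) (M N : Subgroup G) [M.Normal] [N.Normal] (hM : M ≠ ⊥) (hN : N ≠ ⊥) (hMmin : ∀ L : Subgroup G, L.Normal → L ≤ M → L = ⊥ ∨ L = M) (hNmin : ∀ L : Subgroup G, L.Normal → L ≤ N → L = ⊥ ∨ L = N) (hMN : M ≠ N) (hMt : MulAction.IsPretransitive M α) (hNt : MulAction.IsPretransitive N α) : (∀ a : α, MulAction.stabilizer M a = ⊥) ∧ (∀ a : α, MulAction.stabilizer N a = ⊥) ∧ ¬ IsMulCommutative M ∧ Nonempty (M ≃* N) ∧ Subgroup.centralizer ((M.map G.subtype : Subgroup (Equiv.Perm α)) : Set (Equiv.Perm α)) = N.map G.subtype ∧ Subgroup.centralizer ((N.map G.subtype : Subgroup (Equiv.Perm α)) : Set (Equiv.Perm α)) = M.map G.subtype ∧ ∀ L : Subgroup G, L.Normal → L ≠ ⊥ → (∀ L' : Subgroup G, L'.Normal → L' ≤ L → L' = ⊥ ∨ L' = L) → L = M ∨ L = N := by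
  have h1 : KT α M 1 := kt_one_iff'.2 hMt
  have h2 : KT α N 1 := kt_one_iff'.2 hNt
  have hM' : Core.IsMinNormal M := ⟨inferInstance, hM, hMmin⟩
  have hN' : Core.IsMinNormal N := ⟨inferInstance, hN, hNmin⟩
  have h3 : ¬ M ≤ N := fun h => hMN (hN'.eq_of_le h hM)
  have h4 := hM'.le_centralizer h3
  have h5 := le_centralizer_iff.1 h4
  obtain ⟨a⟩ : Nonempty α := by
    by_contra h
    rw [not_nonempty_iff] at h
    exact hM (Subsingleton.elim _ _)
  have h6 := aux G h1 h2 h5 a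
  have h7 := aux G h2 h1 h4 a
  have r1 : ∀ g ∈ M, g • a = a → g = 1 := fun g hg e => eq_one_of_centralizes h2 (h4 hg) e
  have r2 : ∀ g ∈ N, g • a = a → g = 1 := fun g hg e => eq_one_of_centralizes h1 (h5 hg) e
  have k : ∀ {L K K' : Subgroup G}, centralizer ((K.map G.subtype : Subgroup (Equiv.Perm α)) :
      Set (Equiv.Perm α)) = K'.map G.subtype → L ≤ centralizer (K : Set G) → L ≤ K' :=
    fun e h x hx => by
      obtain ⟨y, y1, y2⟩ := e.le (Core.mem_centralizer_map_subtype_iff.2 (h hx))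
      rwa [← Subtype.ext y2]
  refine ⟨fun a => stab_bot_iff.2 fun g hg e => eq_one_of_centralizes h2 (h4 hg) e,
    fun a => stab_bot_iff.2 fun g hg e => eq_one_of_centralizes h1 (h5 hg) e,
    fun h => h3 (k h6 (le_centralizer_iff_isMulCommutative.2 h)), ?_, h6, h7,
    fun L l1 l2 l3 => or_iff_not_imp_left.2 fun h => hN'.eq_of_le (k h6
      (Core.IsMinNormal.le_centralizer ⟨l1, l2, l3⟩ fun e => h (hM'.eq_of_le e l2))) l2⟩
  choose f f1 f2 using fun m : M => h2.trans le_rfl ((m : G) • a) a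
  let φ : M →* N := MonoidHom.mk' (fun m => ⟨f m, f1 m⟩) fun x y => by
    refine Subtype.ext (Eq.symm (inv_mul_eq_one.1 (eq_one_of_centralizes h1
      (h5 (mul_mem (inv_mem (mul_mem (f1 x) (f1 y))) (f1 _))) (a := ((x * y : M) : G) • a) ?_)))
    rw [mul_smul, f2, inv_smul_eq_iff, coe_mul, mul_smul, coe_mul, mul_smul, ← mul_smul (f y),
      ← h5 (f1 y) x x.2, mul_smul, f2, f2]
  refine ⟨MulEquiv.ofBijective φ ⟨(injective_iff_map_eq_one φ).2 fun m hm => ?_, fun n => ?_⟩⟩
  · have := f2 m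
    rw [show f m = 1 from congrArg Subtype.val hm, one_smul] at this
    exact Subtype.ext (r1 m m.2 this)
  · obtain ⟨m, m1, m2⟩ := h1.trans le_rfl a ((n : G)⁻¹ • a)
    have := f2 ⟨m, m1⟩
    rw [m2, ← mul_smul] at this
    exact ⟨⟨m, m1⟩, Subtype.ext (mul_inv_eq_one.1 (r2 _ (mul_mem (f1 _) (inv_mem n.2)) this))⟩

end Cfsg.Agent.S0704
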