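import Cfsg.Statements.S0707
import Cfsg.Agent.Perm.Basic
import Cfsg.Agent.Core.Primitive

set_option autoImplicit false
open Cfsg

namespace Cfsg.Agent.S0707

open Cfsg.Agent.Perm Subgroup MulAction
open scoped Pointwise


/-- In a primitive permutation group, distinct points have distinct stabilisers unless the group is regular of prime degree. -/
theorem result {α : Type*} (G : Subgroup (Equiv.Perm α)) [MulAction.IsPreprimitive G α] (h : ¬ (Nat.card α).Prime ∨ ∃ a : α, MulAction.stabilizer G a ≠ ⊥) {a b : α} (hab : a ≠ b) : MulAction.stabilizer G a ≠ MulAction.stabilizer G b := by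
  intro e
  have : Nontrivial α := ⟨a, b, hab⟩
  have hc := (prim_iff_coatom (G := G) a).1 inferInstance
  obtain ⟨g, rfl⟩ := exists_smul_eq G a b
  have h1 : normalizer (stabilizer G a : Set G) = ⊤ := (hc _ le_normalizer).resolve_left fun e' =>
    hab (Eq.symm (e'.le (Core.conj_smul_eq_iff.1
      (e.trans (stabilizer_smul_eq_stabilizer_map_conj g a)).symm) : g ∈ stabilizer G a))
  have := normalizer_eq_top_iff.1 h1
  have h2 : stabilizer G a = ⊥ :=
    Core.corefree_eq_bot (Core.normalCore_stabilizer_eq_bot a) le_rfl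
  rcases h with h | ⟨c, h⟩
  · have h3 : zpowers g = ⊤ := (hc _ (h2 ▸ bot_le)).resolve_left fun e' =>
      hab (Eq.symm (e'.le (mem_zpowers g) : g ∈ stabilizer G a))
    have : IsCyclic G := ⟨g, fun x => h3.ge (mem_top x)⟩
    let _ : CommGroup G := IsCyclic.commGroup
    have : Nontrivial G := ⟨g, 1, fun e => hab (by rw [e, one_smul])⟩
    have : IsSimpleGroup G := ⟨fun K _ => h2 ▸ hc K (h2 ▸ bot_le)⟩
    rw [← index_stabilizer_of_transitive G a, h2, index_bot] at h
    exact h IsSimpleGroup.prime_card
  · obtain ⟨u, rfl⟩ := exists_smul_eq G a c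
    exact h (by rw [stabilizer_smul_eq_stabilizer_map_conj, h2, Subgroup.map_bot])

end Cfsg.Agent.S0707
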