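import Cfsg.Statements.S0709
import Cfsg.Agent.Perm.Basic

set_option autoImplicit false
open Cfsg

namespace Cfsg.Agent.S0709

open Cfsg.Agent.Perm Subgroup MulAction

theorem step {G : Type*} [Group G] {A B C : Subgroup G} {r s : G} (hAB : A ≤ B) (hr : r ∈ B)
    (h1 : ∀ g ∈ B, g ∈ A ∨ ∃ a ∈ A, ∃ b ∈ A, g = a * r * b) (h2 : s ^ 2 ∈ A) (h3 : (r * s) ^ 3 ∈ B)
    (h4 : ∀ g ∈ A, s * g * s⁻¹ ∈ A) {S : Set G} (hS : ∀ g ∈ S, g ∈ B ∨ g = s) (hC : C = closure S) :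
    ∀ g ∈ C, g ∈ B ∨ ∃ a ∈ B, ∃ b ∈ B, g = a * s * b := by
  have k : ∀ g, (g ∈ B ∨ ∃ a ∈ B, ∃ b ∈ B, g = a * s * b) → s * g ∈ B ∨ ∃ a ∈ B, ∃ b ∈ B, s * g = a * s * b := by
    rintro g (hg | ⟨a, ha, b, hb, rfl⟩)
    · exact .inr ⟨1, one_mem _, g, hg, by group⟩
    rcases h1 a ha with e | ⟨c, hc, d, hd, rfl⟩
    · exact .inl (by convert mul_mem (mul_mem (hAB (h4 a e)) (hAB h2)) hb using 1; rw [sq]; group)
    · have := mul_mem (mul_mem (inv_mem h2) (h4 d hd)) h2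
      exact .inr ⟨_, mul_mem (hAB (h4 c hc)) (inv_mem hr), _, mul_mem (mul_mem (mul_mem (mul_mem
        (inv_mem (hAB h2)) (inv_mem hr)) h3) (hAB this)) hb, by simp only [pow_succ]; group⟩
  have k' : ∀ u ∈ B, ∀ g, (g ∈ B ∨ ∃ a ∈ B, ∃ b ∈ B, g = a * s * b) →
      u * g ∈ B ∨ ∃ a ∈ B, ∃ b ∈ B, u * g = a * s * b := by
    rintro u hu g (hg | ⟨a, ha, b, hb, rfl⟩)
    exacts [.inl (mul_mem hu hg), .inr ⟨_, mul_mem hu ha, b, hb, by group⟩]
  subst hC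
  intro g hg
  induction hg using closure_induction_left with
  | one => exact .inl (one_mem _)
  | mul_left x hx y _ ih => rcases hS x hx with e | rfl; exacts [k' x e y ih, k y ih]
  | inv_mul_cancel x hx y _ ih =>
    rcases hS x hx with e | rfl
    · exact k' _ (inv_mem e) y ih
    · rw [show x⁻¹ * y = (x ^ 2)⁻¹ * (x * y) by rw [sq]; group]
      exact k' _ (inv_mem (hAB h2)) _ (k y ih)


/-- Witt's Lemma for constructing transitive extensions. Points `q 1, …, q t` (`t ≥ 2`) of a finite set are given; `G` fixes `q i` for `i ≥ 3` and is doubly transitive on the remaining points; `s 1 ∈ G` swaps `q 1, q 2`; for `2 ≤ i ≤ t-1`, `s i` swaps `q i, q (i+1)` and fixes the other `q j`; with `H` the stabiliser of `q 1, q 2` in `G`: `s i ^ 2 ∈ H`, `(s i * s (i+1)) ^ 3 ∈ H`, `(s i * s j) ^ 2 ∈ H` for `j ≥ i + 2`, and `s i` (`i ≥ 2`) normalises the stabiliser of `q 2` in `G`. Then `G` and the `s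 i` generate a `t`-transitive group whose pointwise stabiliser of the `q`'s is `H`. -/
theorem result {α : Type*} [Fintype α] [DecidableEq α] (t : ℕ) (ht : 2 ≤ t) (q : ℕ → α) (hq : ∀ i j : ℕ, 1 ≤ i → i ≤ t → 1 ≤ j → j ≤ t → q i = q j → i = j) (G : Subgroup (Equiv.Perm α)) (hfix : ∀ g ∈ G, ∀ i : ℕ, 3 ≤ i → i ≤ t → g (q i) = q i) (h2 : ∀ a b c d : α, (∀ i, 3 ≤ i → i ≤ t → a ≠ q i ∧ b ≠ q i ∧ c ≠ q i ∧ d ≠ q i) → a ≠ b → c ≠ d → ∃ g ∈ G, g a = c ∧ g b = d) (s : ℕ → Equiv.Perm α) (hs1 : s 1 ∈ G) (hs1q : s 1 (q 1) = q 2 ∧ s 1 (q 2) = q 1) (hsq : ∀ i : ℕ, 2 ≤ i → i + 1 ≤ t → s i (q i) = q (i + 1) ∧ s i (q (i + 1)) = q i ∧ ∀ j : ℕ, 1 ≤ j → j ≤ t → j ≠ i → j ≠ i + 1 → s i (q j) = q j) (H : Subgroup (Equiv.Perm α)) (hH : H = G ⊓ MulAction.stabilizer (Equiv.Perm α) (q 1) ⊓ MulAction.stabilizer (Equiv.Perm α) (q 2)) (hsq2 : ∀ i : ℕ, 1 ≤ i → i + 1 ≤ t → s i ^ 2 ∈ H) (hbraid : ∀ i : ℕ, 1 ≤ i → i + 2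 ≤ t → (s i * s (i + 1)) ^ 3 ∈ H) (hcomm : ∀ i j : ℕ, 1 ≤ i → i + 2 ≤ j → j + 1 ≤ t → (s i * s j) ^ 2 ∈ H ∧ (s j * s i) ^ 2 ∈ H) (hnorm : ∀ i : ℕ, 2 ≤ i → i + 1 ≤ t → ∀ g ∈ G ⊓ MulAction.stabilizer (Equiv.Perm α) (q 2), s i * g * (s i)⁻¹ ∈ G ⊓ MulAction.stabilizer (Equiv.Perm α) (q 2)) : MulAction.IsMultiplyPretransitive ↥(Subgroup.closure ((G : Set (Equiv.Perm α)) ∪ {x | ∃ i : ℕ, 2 ≤ i ∧ i + 1 ≤ t ∧ x = s i})) α t ∧ Subgroup.closure ((G : Set (Equiv.Perm α)) ∪ {x | ∃ i : ℕ, 2 ≤ i ∧ i + 1 ≤ t ∧ x = s i}) ⊓ fixingSubgroup (Equiv.Perm α) {x | ∃ i : ℕ, 1 ≤ i ∧ i ≤ t ∧ x = q i} = H := by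
  set G₁ := G ⊓ stabilizer (Equiv.Perm α) (q 2)
  let K : ℕ → Subgroup (Equiv.Perm α) := fun i => closure (G₁ ∪ {x | ∃ j, 1 ≤ j ∧ j < i ∧ x = s j})
  have a1 : ∀ i, G₁ ≤ K i := fun i g hg => subset_closure (.inl hg)
  have a2 : ∀ i j, 1 ≤ j → j < i → s j ∈ K i := fun i j h1 h2 => subset_closure (.inr ⟨j, h1, h2, rfl⟩)
  have a3 : ∀ i, K i ≤ K (i + 1) := fun i => closure_mono (Set.union_subset_union_right _ (by grind))
  have a4 : K 1 = G₁ := le_antisymm ((closure_le _).2 (by grind)) (a1 1)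
  have a5 : H ≤ G₁ := hH ▸ inf_le_inf_right _ inf_le_left
  have a6 : ∀ i, H ≤ K i := fun i => a5.trans (a1 i)
  have a7 : ∀ i j, 1 ≤ i → i < j → j ≤ t → K i ≤ stabilizer _ (q j) := fun i j h1 h2 h3 =>
    (closure_le _).2 (by
      rintro g (hg | ⟨l, l1, l2, rfl⟩)
      · rcases (show j = 2 ∨ 3 ≤ j by omega) with rfl | e
        exacts [hg.2, hfix g hg.1 j e h3]
      · rcases (show l = 1 ∨ 2 ≤ l by omega) with rfl | e
        exacts [hfix _ hs1 j (by omega) h3, (hsq l e (by omega)).2.2 j (by omega) h3 (by omega) (by omega)])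
  have a8 : ∀ i, 1 ≤ i → i < t → s i (q (i + 1)) = q i := fun i h1 h2 => by
    rcases (show i = 1 ∨ 2 ≤ i by omega) with rfl | e
    exacts [hs1q.2, (hsq i e h2).2.1]
  have b1 : ∀ g ∈ G, g ∈ K 1 ∨ ∃ a ∈ K 1, ∃ b ∈ K 1, g = a * s 1 * b := fun g hg => by
    rw [a4]
    refine or_iff_not_imp_left.2 fun e => ?_
    obtain ⟨a, c1, c2, c3⟩ := h2 (q 2) (q 1) (q 2) (g (q 2)) (fun i i1 i2 => ⟨by grind, by grind, by grind,
      fun c => by have := g.injective (c.trans (hfix g hg i i1 i2).symm); grind⟩) (by grind)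
      fun c => e ⟨hg, c.symm⟩
    refine ⟨a, ⟨c1, c2⟩, (a * s 1)⁻¹ * g, ⟨G.mul_mem (inv_mem (mul_mem c1 hs1)) hg, ?_⟩, by group⟩
    show ((a * s 1)⁻¹ * g) (q 2) = q 2
    rw [Equiv.Perm.mul_apply, Equiv.Perm.inv_eq_iff_eq, Equiv.Perm.mul_apply, hs1q.2, c3]
  have b2 : K 2 = G := le_antisymm ((closure_le _).2 (by
    rintro g (hg | ⟨l, l1, l2, rfl⟩)
    exacts [hg.1, (show l = 1 by omega) ▸ hs1])) fun g hg => by
      rcases b1 g hg with e | ⟨a, ha, b, hb, rfl⟩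
      exacts [a3 1 e, mul_mem (mul_mem (a3 1 ha) (a2 2 1 le_rfl one_lt_two)) (a3 1 hb)]
  have b3 : ∀ i, 1 ≤ i → i < t → ∀ g ∈ K (i + 1), g ∈ K i ∨ ∃ a ∈ K i, ∃ b ∈ K i, g = a * s i * b := by
    intro i hi
    induction i, hi using Nat.le_induction with
    | base => exact fun _ => b2 ▸ b1
    | succ i hi ih =>
      refine fun h => step (a3 i) (a2 _ i hi (by omega)) (ih (by omega)) (a6 i (hsq2 _ (by omega) h))
        (a6 _ (hbraid i hi h)) (fun g hg => ?_) ?_ rfl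
      · refine (closure_le ((K i).comap (MulAut.conj (s (i + 1))).toMonoidHom)).2 ?_ hg
        rintro g (hg | ⟨l, l1, l2, rfl⟩)
        · exact a1 i (hnorm _ (by omega) h g hg)
        · show s (i + 1) * s l * (s (i + 1))⁻¹ ∈ K i
          convert mul_mem (mul_mem (a6 i (hcomm l (i + 1) l1 (by omega) h).2) (inv_mem (a2 i l l1 l2)))
            (inv_mem (a6 i (hsq2 (i + 1) (by omega) h))) using 1
          simp only [sq]; group
      · rintro g (hg | ⟨l, l1, l2, rfl⟩)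
        · exact .inl (a1 _ hg)
        · rcases (show l < i + 1 ∨ l = i + 1 by omega) with e | rfl
          exacts [.inl (a2 _ l l1 e), .inr rfl]
  have b4 : ∀ i, 1 ≤ i → i ≤ t → ∀ a, (∀ j, i < j → j ≤ t → a ≠ q j) → ∃ g ∈ K i, g a = q 1 := by
    intro i hi
    induction i, hi using Nat.le_induction with
    | base =>
      intro _ a ha
      obtain ⟨g, c1, c2, c3⟩ := h2 (q 2) a (q 2) (q 1) (by grind) (by grind) (by grind)
      exact ⟨g, a1 1 ⟨c1, c2⟩, c3⟩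
    | succ i hi ih =>
      intro h a ha
      by_cases e : a = q (i + 1)
      · obtain ⟨g, c1, c2⟩ := ih (by omega) (q i) (by grind)
        exact ⟨g * s i, mul_mem (a3 i c1) (a2 _ i hi (by omega)), by
          rw [Equiv.Perm.mul_apply, e, a8 i hi h, c2]⟩
      · exact (ih (by omega) a (by grind)).imp fun g c => ⟨a3 i c.1, c.2⟩
  have a9 : Monotone K := monotone_nat_of_le_succ a3
  have b5 : closure ((G : Set (Equiv.Perm α)) ∪ {x | ∃ i : ℕ, 2 ≤ i ∧ i + 1 ≤ t ∧ x = s i}) = K t := by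
    refine le_antisymm ((closure_le _).2 ?_) ((closure_le _).2 ?_)
    · rintro g (hg | ⟨l, l1, l2, rfl⟩)
      exacts [a9 ht (b2 ▸ hg), a2 _ l (by omega) l2]
    · rintro g (hg | ⟨l, l1, l2, rfl⟩)
      · exact subset_closure (.inl hg.1)
      · rcases (show l = 1 ∨ 2 ≤ l by omega) with rfl | e
        exacts [subset_closure (.inl hs1), subset_closure (.inr ⟨l, e, l2, rfl⟩)]
  rw [b5]
  constructor
  · suffices ∀ j ≤ t, KT α (K t) j from (this t le_rfl).multi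
    intro j
    induction j with
    | zero => exact fun _ => kt_zero _
    | succ j ih =>
      refine fun h => (ih (by omega)).succ ((Finset.Ioc (t - j) t).image q) (by
        rw [Finset.card_image_of_injOn (by intro a ha b hb; grind), Nat.card_Ioc]; omega) fun a ha b hb => ?_
      obtain ⟨g, c1, c2⟩ := b4 (t - j) (by omega) (by omega) a (by grind)
      obtain ⟨u, c3, c4⟩ := b4 (t - j) (by omega) (by omega) b (by grind)
      have := mul_mem (inv_mem c3) c1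
      refine ⟨_, a9 (by omega) this, fun x hx => ?_, (Equiv.Perm.inv_eq_iff_eq.2 (c2.trans c4.symm) :)⟩
      obtain ⟨l, hl, rfl⟩ := Finset.mem_image.1 hx
      exact a7 _ l (by omega) (by grind) (by grind) this
  refine le_antisymm (fun g hg => ?_) (le_inf (a6 t) fun g hg => (mem_fixingSubgroup_iff _).2 fun x hx => ?_)
  · obtain ⟨c1, c2⟩ := hg
    replace c2 := fun i h1 h2 => (mem_fixingSubgroup_iff _).1 c2 (q i) ⟨i, h1, h2, rfl⟩
    suffices ∀ i, 1 ≤ i → i ≤ t → g ∈ K i → g ∈ G₁ by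
      have := this t (by omega) le_rfl c1
      exact hH ▸ ⟨⟨this.1, c2 1 le_rfl (by omega)⟩, this.2⟩
    intro i hi
    induction i, hi using Nat.le_induction with
    | base => exact fun _ => a4 ▸ id
    | succ i hi ih =>
      refine fun h hg => ih (by omega) ((b3 i hi h g hg).resolve_right ?_)
      rintro ⟨a, ha, b, hb, rfl⟩
      have := c2 (i + 1) (by omega) h
      rw [mul_smul, mul_smul, a7 i _ hi i.lt_succ_self h hb, ← a7 i _ hi i.lt_succ_self h ha,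
        smul_left_cancel_iff, a7 i _ hi i.lt_succ_self h ha, Equiv.Perm.smul_def, a8 i hi h] at this
      grind
  · obtain ⟨i, h1, h2, rfl⟩ := hx
    rcases (show i = 1 ∨ 1 < i by omega) with rfl | e
    exacts [(hH ▸ hg).1.2, a7 1 i le_rfl e h2 (a6 1 hg)]

end Cfsg.Agent.S0709
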