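import Cfsg.Statements.S0712
import Cfsg.Agent.Perm.Basic

set_option autoImplicit false
open Cfsg

namespace Cfsg.Agent.S0712

open Cfsg.Agent.Perm Subgroup MulAction
open scoped Pointwise


/-- Jordan: a primitive group in which the pointwise stabiliser of a set `s` is doubly transitive on the complement of `s` (which has at least 2 points) is `(|s| + 2)`-transitive. -/
theorem result {α : Type*} [Fintype α] [DecidableEq α] (G : Subgroup (Equiv.Perm α)) (hG : MulAction.IsPreprimitive G α) (s : Set α) {m : ℕ} (hsm : s.ncard = m) (hm : m + 2 ≤ Fintype.card α) (h2 : MulAction.IsMultiplyPretransitive (fixingSubgroup G s) (SubMulAction.ofFixingSubgroup G s) 2) : MulAction.IsMultiplyPretransitive G α (m + 2) := by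
  have h2' : ∀ a b c d, a ≠ b → c ≠ d → ∃ g : fixingSubgroup G s, g • a = c ∧ g • b = d :=
    fun _ _ _ _ => is_two_pretransitive_iff.1 h2
  rcases m with _ | m
  · obtain rfl := (Set.ncard_eq_zero s.toFinite).1 hsm
    refine KT.multi ((kt_two_iff (kt_one_iff'.2 inferInstance)).2 fun a b c h1 h3 => ?_)
    obtain ⟨g, g1, g2⟩ := h2' ⟨a, not_false⟩ ⟨b, not_false⟩
      ⟨a, not_false⟩ ⟨c, not_false⟩ (fun e => h1 (congrArg Subtype.val e).symm)
      fun e => h3 (congrArg Subtype.val e).symm
    exact ⟨g, (g : G).2, congrArg Subtype.val g1, congrArg Subtype.val g2⟩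
  have h3 : IsMultiplyPretransitive G α (m + 2) := (hG.isMultiplyPreprimitive hsm
    (by rw [Nat.card_eq_fintype_card]; omega)
    (isPreprimitive_of_is_two_pretransitive h2)).isMultiplyPretransitive
  have h4 := kt_of_multi h3 (by rw [Nat.card_eq_fintype_card]; omega)
  obtain ⟨a, ha⟩ := exists_notMem_of_card_lt (s := s.toFinite.toFinset) (by
    rw [← Set.ncard_eq_toFinset_card, Nat.card_eq_fintype_card]; omega)
  refine (h4.succ (insert a s.toFinite.toFinset) (by
    rw [Finset.card_insert_of_notMem ha, ← Set.ncard_eq_toFinset_card, hsm])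
    fun b hb c hc => ?_).multi
  simp only [Finset.mem_insert, Set.Finite.mem_toFinset, not_or] at ha hb hc
  obtain ⟨g, g1, g2⟩ := h2' ⟨a, ha⟩ ⟨b, hb.2⟩
    ⟨a, ha⟩ ⟨c, hc.2⟩ (fun e => hb.1 (congrArg Subtype.val e).symm)
    fun e => hc.1 (congrArg Subtype.val e).symm
  refine ⟨g, (g : G).2, fun x hx => ?_, congrArg Subtype.val g2⟩
  rcases Finset.mem_insert.1 hx with rfl | hx
  · exact congrArg Subtype.val g1
  · exact g.2 ⟨x, by simpa using hx⟩

end Cfsg.Agent.S0712
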