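import Cfsg.Statements.S0714
import Cfsg.Agent.Perm.Jordan

set_option autoImplicit false
open Cfsg

namespace Cfsg.Agent.S0714

open Cfsg.Agent.Perm Subgroup MulAction
open scoped Pointwise


/-- Over any field, the permutation module of the alternating group of degree at least 5 has exactly four invariant subspaces: zero, the constant functions, the functions with coordinate sum zero, and everything. -/
theorem result {α : Type*} [Fintype α] [DecidableEq α] (hα : 5 ≤ Fintype.card α) {K : Type*} [Field K] (W : Subrepresentation (Cfsg.permRep K (alternatingGroup α) α)) : W.toSubmodule = ⊥ ∨ W = Cfsg.permConstants K (alternatingGroup α) α ∨ W = Cfsg.permSumZero K (alternatingGroup α) α ∨ W.toSubmodule = ⊤ := by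
  have hW := invSub_subrep W
  have hc : 5 ≤ Nat.card α := by rwa [Nat.card_eq_fintype_card]
  by_cases h : ∀ f ∈ W.toSubmodule, ∀ a b, f a = f b
  · by_cases e : W.toSubmodule = ⊥
    · exact Or.inl e
    obtain ⟨f, f1, f2⟩ := W.toSubmodule.ne_bot_iff.1 e
    obtain ⟨a, ha⟩ := Function.ne_iff.1 f2
    refine Or.inr (Or.inl (Subrepresentation.ext (le_antisymm (fun u hu =>
      Submodule.mem_span_singleton.2 ⟨u a, funext fun x => by simp [h u hu a x]⟩)
      ((Submodule.span_singleton_le_iff_mem _ _).2 ?_))))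
    convert W.toSubmodule.smul_mem (f a)⁻¹ f1 using 1
    exact funext fun x => by rw [Pi.smul_apply, h f f1 x a, smul_eq_mul, inv_mul_cancel₀ ha]
  push Not at h
  obtain ⟨f, f1, a, b, ab⟩ := h
  have ab' : a ≠ b := fun e => ab (e ▸ rfl)
  obtain ⟨c, ca, cb⟩ := exists_ne_two (by omega) a b
  obtain ⟨d, da, db, dc⟩ := exists_ne_three (by omega) a b c
  obtain ⟨e, ea, eb, ec, ed⟩ := exists_ne_four hc a b c d
  have k : ∀ x y z : α, x ≠ y → x ≠ z → Equiv.swap x y * Equiv.swap x z ∈ alternatingGroup α :=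
    fun x y z h1 h2 => by simp [h1, h2]
  have h1 := W.toSubmodule.sub_mem (hW ⟨_, k a c b ca.symm ab'⟩ f f1) f1
  have h2 := W.toSubmodule.smul_mem (f b - f a)⁻¹
    (W.toSubmodule.sub_mem h1 (hW ⟨_, k a d e da.symm ea.symm⟩ _ h1))
  have h3 : (Pi.single a 1 - Pi.single d 1 : α → K) ∈ W.toSubmodule := by
    convert h2 using 1
    funext x
    have := sub_ne_zero.2 ab.symm
    simp only [Pi.sub_apply, Pi.smul_apply, Pi.single_apply, mk_smul, Equiv.Perm.smul_def,
      Equiv.Perm.mul_apply, Equiv.swap_apply_def, smul_eq_mul]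
    grind
  have h4 : (permSumZero K (alternatingGroup α) α).toSubmodule ≤ W.toSubmodule := fun u hu => by
    have h5 : KT α (⊤ : Subgroup (alternatingGroup α)) 2 := (kt_top_of_multi
      (alternatingGroup.isMultiplyPretransitive α) (by omega)).of_le (by omega)
    have h6 : u = ∑ x, u x • (Pi.single x 1 - Pi.single a 1 : α → K) := by
      simp only [smul_sub, Finset.sum_sub_distrib, ← Finset.sum_smul]
      rw [show ∑ x, u x = 0 from hu, zero_smul, sub_zero]
      exact pi_eq_sum_univ' u
    rw [h6]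
    refine Submodule.sum_mem _ fun x _ => W.toSubmodule.smul_mem _ ?_
    by_cases e : x = a
    · simp [e]
    obtain ⟨g, -, g1, g2⟩ := h5.two le_rfl e da.symm
    convert hW g _ h3 using 1
    funext y
    simp only [Pi.sub_apply, Pi.single_apply, ← g2]
    simp only [← g1, smul_left_cancel_iff]
  by_cases h5 : W.toSubmodule ≤ (permSumZero K (alternatingGroup α) α).toSubmodule
  · exact Or.inr (Or.inr (Or.inl (Subrepresentation.ext (le_antisymm h5 h4))))
  obtain ⟨u, u1, u2⟩ := SetLike.not_le_iff_exists.1 h5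
  refine Or.inr (Or.inr (Or.inr (eq_top_iff.2 fun v _ => ?_)))
  replace u2 : ∑ x, u x ≠ 0 := u2
  rw [← sub_add_cancel v (((∑ x, v x) / ∑ x, u x) • u)]
  refine W.toSubmodule.add_mem (h4 (?_ : ∑ x, _ = _)) (W.toSubmodule.smul_mem _ u1)
  simp [Finset.sum_sub_distrib, ← Finset.mul_sum, u2]

end Cfsg.Agent.S0714
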