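import Cfsg.Statements.S0716
import Cfsg.Agent.Perm.Hecke

set_option autoImplicit false
open Cfsg

namespace Cfsg.Agent.S0716

open Cfsg.Agent.Perm Cfsg.Agent.Char Finset


/-- (a) If all non-principal irreducible constituents of the permutation character of a transitive group have the same degree `f`, the character is multiplicity-free and all non-trivial subdegrees equal `f`. (b) A transitive group of rank at most 5 has multiplicity-free permutation character. -/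
theorem result {G : Type*} [Group G] [Fintype G] {Ω : Type*} [Fintype Ω] [MulAction G Ω] [MulAction.IsPretransitive G Ω] (a : Ω) : ((f : ℕ) → (∀ χ : G → ℂ, Cfsg.IsIrrCharacter G χ → χ ≠ (fun _ => 1) → Cfsg.classInner (fun g : G => (Nat.card (MulAction.fixedBy Ω g) : ℂ)) χ ≠ 0 → χ 1 = f) → (∀ χ : G → ℂ, Cfsg.IsIrrCharacter G χ → Cfsg.classInner (fun g : G => (Nat.card (MulAction.fixedBy Ω g) : ℂ)) χ = 0 ∨ Cfsg.classInner (fun g : G => (Nat.card (MulAction.fixedBy Ω g) : ℂ)) χ = 1) ∧ ∀ b : Ω, b ≠ a → Nat.card (MulAction.orbit (MulAction.stabilizer G a) b) = f) ∧ (Nat.card (MulAction.orbitRel.Quotient (MulAction.stabilizer G a) Ω) ≤ 5 → ∀ χ : G → ℂ, Cfsg.IsIrrCharacter G χ → Cfsg.classInner (fun g : G => (Nat.card (MulAction.fixedBy Ω g) : ℂ)) χ = 0 ∨ Cfsg.classInner (fun g : G => (Nat.card (MulAction.fixedBy Ω g) : ℂ)) χ = 1) := by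
  classical
  refine ⟨fun f => same_degree a, fun h χ hχ => ?_⟩
  obtain ⟨m, h1, h2, h3, -⟩ := exists_mult (G := G) a
  by_contra e
  have e1 : 2 ≤ m ⟨χ, hχ⟩ := by
    rw [h1 ⟨χ, hχ⟩, Nat.cast_eq_zero, Nat.cast_eq_one] at e
    omega
  obtain ⟨f, -, hf⟩ := hχ.exists_nat
  refine e ((same_degree a (f := f) fun ψ hψ e2 e3 => ?_).1 χ hχ)
  by_contra e4
  have e5 : m ⟨ψ, hψ⟩ ≠ 0 := by simpa [h1 ⟨ψ, hψ⟩] using e3
  have e6 : (⟨χ, hχ⟩ : IrrCharacter G) ≠ irrOne G := fun e => by rw [e] at e1; omega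
  have e7 : (⟨ψ, hψ⟩ : IrrCharacter G) ≠ irrOne G := fun e => e2 (congrArg Subtype.val e)
  have e8 : (⟨χ, hχ⟩ : IrrCharacter G) ≠ ⟨ψ, hψ⟩ := fun e => e4 (by cases e; exact hf)
  have := sum_le_sum_of_subset (f := fun χ => m χ ^ 2)
    (subset_univ {⟨χ, hχ⟩, ⟨ψ, hψ⟩, irrOne G})
  rw [sum_insert (by simp [e6, e8]), sum_pair e7, h2] at this
  have := Nat.pow_le_pow_left e1 2
  have := Nat.pos_of_ne_zero (pow_ne_zero 2 e5)
  omega

end Cfsg.Agent.S0716
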