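import Cfsg.Statements.S0718
import Cfsg.Agent.Perm.Hecke

set_option autoImplicit false
open Cfsg

namespace Cfsg.Agent.S0718



/-- Multiplicity-freeness of the permutation character is equivalent to commutativity of the centraliser ring, i.e. of the algebra of `G`-equivariant endomorphisms of the complex permutation module. -/
theorem result {G : Type*} [Group G] [Fintype G] {Ω : Type*} [Fintype Ω] [MulAction G Ω] : (∀ χ : G → ℂ, Cfsg.IsIrrCharacter G χ → Cfsg.classInner (fun g : G => (Nat.card (MulAction.fixedBy Ω g) : ℂ)) χ = 0 ∨ Cfsg.classInner (fun g : G => (Nat.card (MulAction.fixedBy Ω g) : ℂ)) χ = 1) ↔ ∀ S T : (Ω → ℂ) →ₗ[ℂ] (Ω → ℂ), S ∈ ((Cfsg.permRep ℂ G Ω).linHom (Cfsg.permRep ℂ G Ω)).invariants → T ∈ ((Cfsg.permRep ℂ G Ω).linHom (Cfsg.permRep ℂ G Ω)).invariants → S ∘ₗ T = T ∘ₗ S := by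
  classical
  have h : ∀ S : (Ω → ℂ) →ₗ[ℂ] (Ω → ℂ), S ∈ ((permRep ℂ G Ω).linHom (permRep ℂ G Ω)).invariants ↔
      ∀ g, Commute S (permRep ℂ G Ω g) := fun S =>
    (Representation.mem_linHom_invariants_iff_isIntertwining S).trans
      ⟨fun h g => LinearMap.ext (h.1 g), fun h => ⟨fun g => LinearMap.congr_fun (h g).eq⟩⟩
  simp only [h]
  exact Perm.pch_mf_iff

end Cfsg.Agent.S0718
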