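import Cfsg.Statements.S0719
import Cfsg.Agent.Perm.Hecke

set_option autoImplicit false
open Cfsg

namespace Cfsg.Agent.S0719

open Cfsg.Agent.Perm Cfsg.Agent.Char Finset MulAction

theorem pick {s : Finset ℂ} {c : ℂ → ℕ} (h : ∑ μ ∈ s, c μ = 1) :
    ∃ r ∈ s, ∀ F : ℂ → ℂ, ∑ μ ∈ s, F μ * c μ = F r := by
  classical
  obtain ⟨r, hr, e⟩ := exists_ne_zero_of_sum_ne_zero (h ▸ one_ne_zero)
  rw [← add_sum_erase _ _ hr] at h
  refine ⟨r, hr, fun F => ?_⟩
  rw [← add_sum_erase _ _ hr, sum_eq_zero fun μ hμ => by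
    simp [sum_eq_zero_iff.1 (show ∑ μ ∈ s.erase r, c μ = 0 by omega) μ hμ], show c r = 1 by omega]
  simp

theorem arith {m k : ℕ} {r s : ℂ} {N : ℤ} (hr : IsIntegral ℤ r) (hs : IsIntegral ℤ s) (hm : 2 ≤ m)
    (h1 : 2 ≤ k) (h2 : k + 3 ≤ 2 * m) (e1 : (k : ℂ) + r * (m - 1) + s * m = 0)
    (e2 : (k : ℂ) ^ 2 + r ^ 2 * (m - 1) + s ^ 2 * m = 2 * m * k)
    (e3 : (k : ℂ) ^ 3 + r ^ 3 * (m - 1) + s ^ 3 * m = N) :
    ∃ x : ℤ, (m : ℤ) = 2 * x * (x - 1) + 1 ∧ (k : ℤ) = 2 * x ^ 2 - x := by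
  have h3 : (2 * m * k * (2 * m - 1 - k) : ℤ) ≠ 0 := by
    simp only [mul_ne_zero_iff]; omega
  have h4 : r + s = (((2 * m - 1) * (N - k ^ 3) + k * (2 * m * k - k ^ 2) : ℤ) : ℂ) /
      ((2 * m * k * (2 * m - 1 - k) : ℤ) : ℂ) := by
    rw [eq_div_iff (Int.cast_ne_zero.2 h3)]
    push_cast
    linear_combination (2 * m - 1) * e3 - ((r + s) * (2 * m - 1) - k) * e2 +
      ((r + s) * (r * (m - 1) + s * m - k) - (r ^ 2 * (m - 1) + s ^ 2 * m)) * e1
  obtain ⟨t, ht⟩ := int_dvd_of_isIntegral_div h3 (h4 ▸ hr.add hs)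
  rw [ht, Int.cast_mul, mul_div_cancel_left₀ _ (Int.cast_ne_zero.2 h3)] at h4
  obtain ⟨x, hx⟩ : ∃ x : ℤ, x = k + (m - 1) * t := ⟨_, rfl⟩
  have h5 : s = -x := by rw [hx]; push_cast; linear_combination e1 - (m - 1) * h4
  have h6 : 2 * x * (x - 1) + (m - 1) * (t * (t + 2)) = 0 := by
    refine mul_left_cancel₀ (show (m : ℤ) ≠ 0 by omega) (Int.cast_injective (α := ℂ) ?_)
    rw [h5, eq_sub_of_add_eq h4, h5, hx] at e2
    rw [hx]
    push_cast at e2 ⊢
    linear_combination e2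
  have h7 : 0 ≤ x * (x - 1) := by nlinarith [sq_nonneg (2 * x - 1)]
  have h8 : t * (t + 2) ≤ 0 := by
    by_contra! h
    nlinarith [mul_pos (show (0 : ℤ) < m - 1 by omega) h]
  have h9 : -2 ≤ t := by nlinarith
  have h10 : t ≤ 0 := by nlinarith
  interval_cases t
  · have : x * (x - 1) = 0 := by linarith
    simp only [mul_eq_zero] at this
    omega
  · exact ⟨x, by linarith, by linarith⟩
  · have : x * (x - 1) = 0 := by linarith
    simp only [mul_eq_zero] at this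
    omega


/-- Groups of Wielandt type: if a primitive group of degree `2m` has rank 3 and permutation character `1 + χ₁ + χ₂` with irreducible `χ₁, χ₂` of degrees `m - 1` and `m`, then `m = 2a² + 2a + 1` for some positive integer `a` and the two non-trivial subdegrees are `a(2a+1)` and `(a+1)(2a+1)`. -/
theorem result {G : Type*} [Group G] [Fintype G] {Ω : Type*} [Fintype Ω] [MulAction G Ω] (hprim : MulAction.IsPreprimitive G Ω) {m : ℕ} (hm : Fintype.card Ω = 2 * m) (a₀ : Ω) (hrank : Nat.card (MulAction.orbitRel.Quotient (MulAction.stabilizer G a₀) Ω) = 3) (χ₁ χ₂ : G → ℂ) (h₁ : Cfsg.IsIrrCharacter G χ₁) (h₂ : Cfsg.IsIrrCharacter G χ₂) (hπ : (fun g : G => (Nat.card (MulAction.fixedBy Ω g) : ℂ)) = fun g => 1 + χ₁ g + χ₂ g) (hd₁ : χ₁ 1 = (m : ℂ) - 1) (hd₂ : χ₂ 1 = m) : ∃ a : ℕ, 0 < a ∧ m = 2 * a ^ 2 + 2 * a + 1 ∧ ∀ b : Ω, b ≠ a₀ → Nat.card (MulAction.orbit (MulAction.stabilizer G a₀) b) = a * (2 * a + 1) ∨ Nat.card (MulAction.orbit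 (MulAction.stabilizer G a₀) b) = (a + 1) * (2 * a + 1) := by
  classical
  have := Fintype.ofFinite (orbitRel.Quotient (stabilizer G a₀) Ω)
  replace hπ : pch G Ω = (fun _ => 1) + χ₁ + χ₂ := hπ
  have h3 : ∀ χ, classInner (pch G Ω) χ =
      classInner (fun _ => 1) χ + classInner χ₁ χ + classInner χ₂ χ := fun χ => by
    rw [hπ, classInner_add_left, classInner_add_left]
  have n12 : χ₁ ≠ χ₂ := fun e => by simpa [e, hd₂, eq_sub_iff_add_eq] using hd₁
  have h4 := pch_one (G := G) a₀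
  rw [h3, isIrrCharacter_one.classInner_self, h₁.classInner_eq isIrrCharacter_one,
    h₂.classInner_eq isIrrCharacter_one] at h4
  have n1 : χ₁ ≠ fun _ => 1 := fun e => by split_ifs at h4 <;> norm_num at h4
  have n2 : χ₂ ≠ fun _ => 1 := fun e => by split_ifs at h4 <;> norm_num at h4
  have h5 : ∀ χ, IsIrrCharacter G χ → classInner (pch G Ω) χ =
      if χ = (fun _ => 1) ∨ χ = χ₁ ∨ χ = χ₂ then 1 else 0 := fun χ h => by
    rw [h3, isIrrCharacter_one.classInner_eq h, h₁.classInner_eq h, h₂.classInner_eq h]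
    split_ifs <;> simp_all [eq_comm]
  have h6 := orbM_symm (G := G) (Ω := Ω) fun χ h e => by
    have e' := e
    rw [h5 χ h] at e ⊢
    refine ⟨by simpa using e, congrFun ?_⟩
    have e1 : classInner (pch G Ω) (fun g => starRingEnd ℂ (χ g)) ≠ 0 := by
      rwa [show pch G Ω = fun g => starRingEnd ℂ (pch G Ω g) from funext fun g => (map_natCast _ _).symm, classInner_conj_conj,
        Ne, classInner_eq_zero_comm]
    have e2 := h.isCharacter.conj_apply_one
    have e3 : (fun g => starRingEnd ℂ (χ g)) = (fun _ => 1) → χ = fun _ => 1 := fun e =>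
      funext fun g => by simpa using congrArg (starRingEnd ℂ) (congrFun e g)
    rw [h5 _ h.conj] at e1
    simp only [ne_eq, ite_eq_right_iff, one_ne_zero, imp_false, not_not] at e e1
    rcases e with rfl | rfl | rfl
    · simp
    · refine (e1.resolve_left fun e => n1 (e3 e)).resolve_right fun e => ?_
      simpa [e2, hd₁, hd₂, sub_eq_iff_eq_add] using congrFun e 1
    · refine (e1.resolve_left fun e => n2 (e3 e)).resolve_left fun e => ?_
      simpa [e2, hd₁, hd₂, eq_sub_iff_add_eq] using congrFun e 1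
  have hm2 : 2 ≤ m := by
    obtain ⟨n, a, b⟩ := h₁.exists_nat
    rw [hd₁, sub_eq_iff_eq_add] at b
    norm_cast at b
    omega
  have h7 : ∀ b, b ≠ a₀ → sdeg G a₀ b ≠ 1 := fun b hb e => by
    have := sum_sdeg (G := G) a₀
    rw [sum_congr rfl (f := fun q => sdeg G a₀ (Quotient.out q)) (g := fun _ => 1) fun q _ => Nat.card_eq_one_iff_exists.2 ⟨⟨_, mem_orbit_self _⟩,
      fun ⟨_, g, h⟩ => Subtype.ext (h.symm.trans (prim_fix hb e g.1 g.2 _))⟩] at this
    rw [sum_const, card_univ, ← Nat.card_eq_fintype_card, smul_eq_mul] at this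
    have : _ = 3 * 1 := (congrArg (· * 1) hrank).symm.trans this |>.symm
    omega
  have h8 : ∀ b, b ≠ a₀ → ∃ x : ℤ, (m : ℤ) = 2 * x * (x - 1) + 1 ∧
      (sdeg G a₀ b : ℤ) = 2 * x ^ 2 - x := fun b hb => by
    obtain ⟨s, c, k1, k2, k3, k4⟩ := orb_spec (G := G) a₀ b
    have k5 : ∀ χ : IrrCharacter G, χ.1 = (fun _ => 1) ∨ χ.1 = χ₁ ∨ χ.1 = χ₂ →
        ∑ μ ∈ s, c μ χ = 1 := fun χ h => Nat.cast_eq_one.1 (by rw [← k2, h5 _ χ.2, if_pos h])
    obtain ⟨r0, -, e0⟩ := pick (k5 (irrOne G) (.inl rfl))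
    obtain ⟨r1, i1, e1⟩ := pick (k5 ⟨_, h₁⟩ (.inr (.inl rfl)))
    obtain ⟨r2, i2, e2⟩ := pick (k5 ⟨_, h₂⟩ (.inr (.inr rfl)))
    have k6 : ∀ n, (orbM G ℂ a₀ b ^ n).trace = sdeg G a₀ b ^ n + r1 ^ n * (m - 1) + r2 ^ n * m := by
      intro n
      rw [k4, ← sum_subset (subset_univ {irrOne G, ⟨_, h₁⟩, ⟨_, h₂⟩}) fun χ _ h => by
        have := k2 χ
        rw [h5 _ χ.2, if_neg (by simpa [Subtype.ext_iff] using h), eq_comm, Nat.cast_eq_zero,
          sum_eq_zero_iff] at this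
        rw [sum_eq_zero fun μ h => by simp [this μ h], zero_mul],
        sum_insert (by simp [Subtype.ext_iff, n1.symm, n2.symm]),
        sum_pair (by simpa [Subtype.ext_iff]), e0, e1, e2, ← k3, e0 fun μ => μ]
      simp [hd₁, hd₂, add_assoc]
    have k7 : ∃ N : ℤ, (orbM G ℂ a₀ b ^ 3).trace = N := by
      refine ⟨((Matrix.of fun y z => if ∃ g : G, g • a₀ = y ∧ g • b = z then (1 : ℤ) else 0) ^ 3).trace,
        ?_⟩
      rw [← eq_intCast (Int.castRingHom ℂ), AddMonoidHom.map_trace, Matrix.map_pow]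
      congr 2
      ext; simp [orbM]
    obtain ⟨N, k7⟩ := k7
    refine arith (k1 _ i1) (k1 _ i2) hm2 (by have := h7 b hb; have := sdeg_ne (G := G) a₀ b; omega)
      ?_ (by simpa [Matrix.trace, orbM_diag hb] using (k6 1).symm) ((k6 2).symm.trans ?_)
      ((k6 3).symm.trans k7)
    · obtain ⟨q, hq⟩ : ∃ q : orbitRel.Quotient (stabilizer G a₀) Ω, q ∉ ({⟦a₀⟧, ⟦b⟧} : Finset _) := by
        by_contra! e
        have := (card_le_card fun q _ => e q : #univ ≤ _).trans card_le_two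
        rw [card_univ, ← Nat.card_eq_fintype_card] at this
        omega
      have := sum_le_sum_of_subset (f := fun q => sdeg G a₀ q.out) (subset_univ ({q, ⟦a₀⟧, ⟦b⟧} :
        Finset (orbitRel.Quotient (stabilizer G a₀) Ω)))
      rw [sum_insert hq, sum_pair (fun e => hb (mk_eq_self.1 e.symm)), sum_sdeg, sdeg_out,
        sdeg_out, sdeg_self] at this
      have := h7 q.out fun e => hq (by rw [← q.out_eq, e]; simp)
      have := sdeg_ne (G := G) a₀ q.out
      omega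
    · rw [sq, Matrix.trace, sum_congr rfl (g := fun _ => (sdeg G a₀ b : ℂ)) fun y _ => by
        rw [Matrix.diag, Matrix.mul_apply, ← orbM_row, (orbM_inv a₀ b).row_sum a₀ y]
        exact sum_congr rfl fun z _ => by
          rw [← Matrix.transpose_apply (orbM G ℂ a₀ b) y z, h6]
          rcases orbM_cases (G := G) (K := ℂ) a₀ b y z with e | ⟨e, -⟩ <;> simp [e]]
      simp [hm]
  obtain ⟨b, hb⟩ := Fintype.exists_ne_of_one_lt_card (by omega) a₀
  obtain ⟨x, hx, -⟩ := h8 b hb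
  obtain ⟨a, ha⟩ : ∃ a : ℕ, x * (x - 1) = a * (a + 1) := by
    rcases le_or_gt x 0 with h | h
    · obtain ⟨a, rfl⟩ := Int.exists_eq_neg_ofNat h
      exact ⟨a, by ring⟩
    · obtain ⟨a, ha⟩ := Int.eq_ofNat_of_zero_le (show 0 ≤ x - 1 by omega)
      exact ⟨a, by rw [← ha]; ring⟩
  refine ⟨a, Nat.pos_of_ne_zero ?_, by zify; linarith, fun c hc => ?_⟩
  · rintro rfl
    simp only [Nat.cast_zero, zero_mul] at ha
    rw [mul_assoc, ha] at hx
    omega
  obtain ⟨y, hy, e⟩ := h8 c hc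
  change sdeg G a₀ c = _ ∨ sdeg G a₀ c = _
  zify
  rcases mul_eq_zero.1 (show (y + a) * (y - a - 1) = 0 by linarith) with h | h
  · exact .inl (by rw [e, eq_neg_of_add_eq_zero_left h]; ring)
  · exact .inr (by rw [e, show y = a + 1 by omega]; ring)

end Cfsg.Agent.S0719
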