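import Cfsg.Statements.S0720
import Cfsg.Agent.Perm.TwoP

set_option autoImplicit false
open Cfsg

namespace Cfsg.Agent.S0720

open Cfsg.Agent.Perm Subgroup MulAction


/-- Wielandt's Theorem on primitive groups of degree `2p`: such a group is doubly transitive, or it has rank 3, `p = 2a² + 2a + 1`, and subdegrees `a(2a+1)` and `(a+1)(2a+1)`. -/
theorem result {α : Type*} [Fintype α] [DecidableEq α] {p : ℕ} (hp : p.Prime) (hα : Fintype.card α = 2 * p) (G : Subgroup (Equiv.Perm α)) (hG : MulAction.IsPreprimitive G α) (a₀ : α) : MulAction.IsMultiplyPretransitive G α 2 ∨ (Nat.card (MulAction.orbitRel.Quotient (MulAction.stabilizer G a₀) α) = 3 ∧ ∃ a : ℕ, 0 < a ∧ p = 2 * a ^ 2 + 2 * a + 1 ∧ ∀ b : α, b ≠ a₀ → Nat.card (MulAction.orbit (MulAction.stabilizer G a₀) b) = a * (2 * a + 1) ∨ Nat.card (MulAction.orbit (MulAction.stabilizer G a₀) b) = (a + 1) * (2 * a + 1)) := by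
  haveI := Fact.mk hp
  have h2 := hp.two_le
  have h1 : p ∣ Nat.card G := by
    rw [← card_top, ← card_stab_mul_of_kt kt_one_top a₀, Nat.card_eq_fintype_card (α := α), hα]
    exact (dvd_mul_left p 2).mul_left _
  obtain ⟨σ, hσ⟩ := exists_prime_orderOf_dvd_card' p h1
  have h3 : σ ^ p = 1 := hσ ▸ pow_orderOf_eq_one σ
  by_cases h : ∃ a : α, σ • a = a
  · obtain ⟨a, ha⟩ := h
    have h4 : (σ : Equiv.Perm α).support.card < Fintype.card α :=
      Finset.card_lt_card (Finset.ssubset_univ_iff.2 fun e =>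
        Equiv.Perm.mem_support.1 (e.ge (Finset.mem_univ a)) ha)
    have h5 : orderOf (σ : Equiv.Perm α) = p := by rw [orderOf_coe, hσ]
    have h6 := Equiv.Perm.isCycle_of_prime_order (h5 ▸ hp) (by omega)
    have h7 := h6.orderOf
    refine .inl ((kt_of_cycle hG h6 (h7 ▸ h5 ▸ hp) σ.2 h4).of_le ?_).multi
    rw [Finset.card_compl]
    omega
  push Not at h
  have k : ∀ (a : α) (i j : ZMod p), σ ^ i.val • a = σ ^ j.val • a → i = j := fun a => by
    have k : ∀ i j : ℕ, i < j → j < p → σ ^ i • a ≠ σ ^ j • a := fun i j e1 e2 e => by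
      obtain ⟨d, rfl⟩ := Nat.exists_eq_add_of_lt e1
      rw [add_assoc, pow_add, mul_smul, smul_left_cancel_iff] at e
      obtain ⟨m, hm⟩ := exists_pow_eq_self_of_coprime (x := σ) (n := d + 1)
        (hσ ▸ (Nat.coprime_of_lt_prime d.succ_ne_zero (by omega) hp).symm)
      exact h a (hm ▸ (stabilizer G a).pow_mem e.symm m : σ ∈ stabilizer G a)
    exact fun i j e => ZMod.val_injective p <| by
      rcases lt_trichotomy i.val j.val with h | h | h
      exacts [absurd e (k _ _ h j.val_lt), h, absurd e.symm (k _ _ h i.val_lt)]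
  have k1 : ∀ (a : α) (i j : ZMod p), σ ^ (i + j).val • a = σ ^ i.val • σ ^ j.val • a := fun a i j => by
    rw [ZMod.val_add, ← pow_eq_pow_mod _ h3, pow_add, mul_smul]
  obtain ⟨b, hb⟩ : ∃ b, ∀ i : ZMod p, σ ^ i.val • a₀ ≠ b := by
    by_contra! e
    have := Fintype.card_le_of_surjective (fun i : ZMod p => σ ^ i.val • a₀) e
    rw [ZMod.card] at this
    omega
  have k2 : ∀ i j : ZMod p, σ ^ i.val • a₀ ≠ σ ^ j.val • b := fun i j e => hb (-j + i) (by
    rw [k1, e, ← k1]; simp)
  let f : Fin 2 × ZMod p → α := fun x => σ ^ x.2.val • ![a₀, b] x.1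
  have f1 : Function.Bijective f := (Fintype.bijective_iff_injective_and_card f).2 ⟨by
    rintro ⟨i, x⟩ ⟨j, y⟩ e
    fin_cases i <;> fin_cases j
    exacts [congrArg _ (k _ _ _ e), absurd e (k2 _ _), absurd e.symm (k2 _ _), congrArg _ (k _ _ _ e)],
    by simp [hα]⟩
  exact (twop (e := Equiv.ofBijective f f1) (σ := σ) (fun i x => by
    simp only [Equiv.ofBijective_apply, f]
    rw [add_comm, k1, ZMod.val_one, pow_one]) a₀).imp KT.multi_top id

end Cfsg.Agent.S0720
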