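import Cfsg.Statements.S0722
import Cfsg.Agent.Perm.Basic
import Cfsg.Agent.Core.Primitive

set_option autoImplicit false
open Cfsg

namespace Cfsg.Agent.S0722

open Cfsg.Agent.Perm Subgroup MulAction
open scoped Pointwise


/-- In a primitive group `H`, with `N` a minimal normal subgroup and `K` a point stabiliser, `K ⊓ N` is maximal among proper `K`-invariant subgroups of `N`. -/
theorem result {α : Type*} [Finite α] (H : Subgroup (Equiv.Perm α)) [MulAction.IsPreprimitive H α] (N : Subgroup H) [N.Normal] (hN : N ≠ ⊥) (hmin : ∀ M : Subgroup H, M.Normal → M ≤ N → M = ⊥ ∨ M = N) (a : α) (X : Subgroup H) (hX : X ≤ N) (hKX : MulAction.stabilizer H a ⊓ N ≤ X) (hinv : MulAction.stabilizer H a ≤ Subgroup.normalizer (X : Set H)) : X = MulAction.stabilizer H a ⊓ N ∨ X = N := by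
  have : Nontrivial H := not_subsingleton_iff_nontrivial.1 fun _ => hN (Subsingleton.elim _ _)
  have h := Core.inf_sup_dedekind hinv hX
  rcases (Core.isCoatom_stabilizer_of_nontrivial (G := H) a).le_iff.1
    (le_sup_left : _ ≤ stabilizer H a ⊔ X) with e | e
  · rw [e, top_inf_eq, sup_eq_right.2 hKX] at h
    exact Or.inr h.symm
  · rw [e, sup_eq_right.2 hKX] at h
    exact Or.inl h.symm

end Cfsg.Agent.S0722
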