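import Cfsg.Statements.S0723
import Cfsg.Agent.Perm.ONS
import Cfsg.Agent.S0722

set_option autoImplicit false
open Cfsg

namespace Cfsg.Agent.S0723

open Cfsg.Agent.Perm Cfsg.Agent.BG Subgroup MulAction


/-- The core of the O'Nan–Scott Theorem. Let `H` be a primitive permutation group on a finite set whose unique minimal normal subgroup `N` is non-abelian, and `K` a point stabiliser. Then there are a non-abelian simple group `T` and an isomorphism `N ≃* T^m` (`m ≥ 1`) under which `K ⊓ N` becomes either a product `∏ K_i` of proper subgroups `K_i < T`, or the set of functions constant on each block of a partition of the index set into blocks of one common size `k ≥ 2`. -/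
theorem result {α : Type*} [Finite α] (H : Subgroup (Equiv.Perm α)) [MulAction.IsPreprimitive H α] (N : Subgroup H) [N.Normal] (hN : N ≠ ⊥) (hmin : ∀ M : Subgroup H, M.Normal → M ≤ N → M = ⊥ ∨ M = N) (huniq : ∀ L : Subgroup H, L.Normal → L ≠ ⊥ → (∀ M : Subgroup H, M.Normal → M ≤ L → M = ⊥ ∨ M = L) → L = N) (hnab : ¬ IsMulCommutative N) (a : α) : ∃ (T : Type) (_ : Group T) (m : ℕ) (e : N ≃* (Fin m → T)), IsSimpleGroup T ∧ ¬ IsMulCommutative T ∧ 0 < m ∧ ((∃ K : Fin m → Subgroup T, (∀ i, K i ≠ ⊤) ∧ ∀ n : N, (n : H) ∈ MulAction.stabilizer H a ↔ ∀ i, e n i ∈ K i) ∨ (∃ (k : ℕ) (c : Fin m → Fin m), 2 ≤ k ∧ (∀ j : Fin m, Nat.card {i : Fin m // c i = j} = k ∨ Nat.card {i : Fin m // c i = j} = 0) ∧ ∀ n : N, (n : H) ∈ MulAction.stabilizer H a ↔ ∀ i j : Fin m, c i = c j → e n i = e n j)) := by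
  classical
  obtain ⟨T, _, m, hs, hm, ⟨e⟩⟩ := exists_pow_simple N hN hmin
  have hT : ¬ IsMulCommutative T := fun h => hnab ⟨⟨fun x y => e.injective (by
    rw [map_mul, map_mul]; exact funext fun i => h.1.1 _ _)⟩⟩
  obtain ⟨t0, ht0⟩ := exists_ne (1 : T)
  let ψ : H → MulAut (Fin m → T) := fun h => (e.symm.trans (MulAut.conjNormal h)).trans e
  have hψ : ∀ h n, ψ h (e n) = e (MulAut.conjNormal h n) := fun h n => by simp [ψ]
  have hψ1 : ∀ g h w, ψ (g * h) w = ψ g (ψ h w) := fun g h w => by simp [ψ]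
  have hψN : ∀ (n : N) w j, ψ n w j = 1 ↔ w j = 1 := fun n w j => by
    obtain ⟨w, rfl⟩ := e.surjective w
    rw [hψ, show MulAut.conjNormal (n : H) w = n * w * n⁻¹ from rfl]
    simp [mul_inv_eq_one]
  let P : Subgroup (Fin m → T) → Subgroup H := fun E => (E.comap e.toMonoidHom).map N.subtype
  have hP : ∀ E (n : N), (n : H) ∈ P E ↔ e n ∈ E := fun E n =>
    ⟨fun ⟨y, hy, h⟩ => (Subtype.ext h : y = n) ▸ hy, fun h => ⟨n, h, rfl⟩⟩
  have hPn : ∀ E h, (∀ w ∈ E, ψ h w ∈ E) → h ∈ N[P E] := fun E h hh => mem_N_of fun x hx => by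
    obtain ⟨n, hn, rfl⟩ := hx
    exact (hP E (MulAut.conjNormal h n)).2 (hψ h n ▸ hh _ hn)
  have tr : ∀ i j, ∃ k ∈ stabilizer H a, ∀ w, ψ k w j = 1 ↔ w i = 1 := fun i j => by
    suffices ∃ h, ∀ w, ψ h w j = 1 ↔ w i = 1 by
      obtain ⟨h, hh⟩ := this
      obtain ⟨n, hn, u, hu, rfl⟩ := exists_mul_stab (kt_one_of_normal hN) a h
      exact ⟨u, hu, fun w => by rw [← hh, hψ1, hψN ⟨n, hn⟩]⟩
    by_contra! h
    let E := (⊥ : Subgroup T).comap (Pi.evalMonoidHom (fun _ : Fin m => T) i)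
    let E' := ⨅ g, E.comap (ψ g).toMonoidHom
    rcases hmin (P E') (BG.normal_iff.2 fun g _ => hPn _ g fun w hw => mem_iInf.2 fun u => by
      simpa [hψ1] using mem_iInf.1 hw (u * g)) (map_subtype_le _) with h1 | h1
    · have := (hP E' (e.symm (Pi.mulSingle j t0))).2 (mem_iInf.2 fun g => by
        obtain ⟨i', hi⟩ := perm_factor hT (ψ g) i
        refine (hi _).2 ?_
        rw [e.apply_symm_apply, Pi.mulSingle_eq_of_ne]
        rintro rfl
        obtain ⟨w, hw⟩ := h g⁻¹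
        have := hi (ψ g⁻¹ w)
        rw [← hψ1, mul_inv_cancel, show ψ 1 w = w by simp [ψ]] at this
        tauto)
      rw [h1, mem_bot, OneMemClass.coe_eq_one, EmbeddingLike.map_eq_one_iff] at this
      exact ht0 (by simpa using congrFun this j)
    · have := mem_iInf.1 ((hP E' (e.symm (Pi.mulSingle i t0))).1 (h1.ge (Subtype.prop _))) 1
      exact ht0 (by simpa [ψ, E] using this)
  let D := ((stabilizer H a).subgroupOf N).map e.toMonoidHom
  have hD : ∀ n : N, e n ∈ D ↔ (n : H) ∈ stabilizer H a := fun n => mem_map_iff_mem e.injective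
  have hDk : ∀ k ∈ stabilizer H a, ∀ w ∈ D, ψ k w ∈ D := by
    rintro k hk _ ⟨n, hn, rfl⟩
    exact hψ k n ▸ (hD _).2 (mul_mem (mul_mem hk hn) (inv_mem hk))
  by_cases hc : ∀ i t, ∃ d ∈ D, d i = t
  · obtain ⟨c, β, h1, h2⟩ := scott hT D hc
    have h3 : ∀ i j, Nat.card {x // c x = c j} ≤ Nat.card {x // c x = c i} := fun i j => by
      obtain ⟨k, hk, h⟩ := tr i j
      choose σ hσ using perm_factor hT (ψ k)
      refine Nat.card_le_card_of_injective (fun x => ⟨σ x.1, (h1 _ _).2 fun d hd => by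
        rw [← hσ, ← h, (h1 _ _).1 x.2 _ (hDk k hk d hd)]⟩) fun x y hxy => Subtype.ext ?_
      by_contra h4
      have h5 := hσ x ((ψ k).symm (Pi.mulSingle y t0))
      rw [show σ x = σ y from congrArg Subtype.val hxy, ← hσ] at h5
      exact ht0 (by simpa [Pi.mulSingle_eq_of_ne h4] using h5)
    let i0 : Fin m := ⟨0, hm⟩
    refine ⟨T, _, m, e.trans (MulEquiv.piCongrRight β), hs, hT, hm, .inr ⟨Nat.card {x // c x = c i0},
      c, ?_, fun j => ?_, fun n => by rw [← hD, h2]; rfl⟩⟩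
    · by_contra! h4
      refine hN (eq_bot_iff.2 fun n hn => eq_one_of_smul (Ω := α) fun x => ?_)
      have h5 : ∀ n ∈ N, n • a = a := fun n hn => (hD ⟨n, hn⟩).1 ((h2 _).2 fun i j h => by
        have := Finite.card_le_one_iff_subsingleton.1 ((h3 i0 j).trans (Nat.lt_succ_iff.1 h4))
        rw [show i = j from congrArg Subtype.val (this.elim ⟨i, h⟩ ⟨j, rfl⟩)])
      obtain ⟨g, hg, rfl⟩ := (kt_one_of_normal hN).trans le_rfl a x
      rw [h5 g hg, h5 n hn]
    · by_cases h : ∃ i, c i = j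
      · obtain ⟨i, rfl⟩ := h
        exact .inl ((h3 _ _).antisymm (h3 _ _))
      · haveI : IsEmpty {i // c i = j} := ⟨fun x => h ⟨x, x.2⟩⟩
        exact .inr Nat.card_of_isEmpty
  · let K := fun i => D.map (Pi.evalMonoidHom (fun _ : Fin m => T) i)
    have h1 : ∀ k ∈ stabilizer H a, ∀ i j, (∀ w, ψ k w j = 1 ↔ w i = 1) → ∀ w, w i ∈ K i →
        ψ k w j ∈ K j := fun k hk i j h w ⟨d, hd, h2⟩ => ⟨ψ k d, hDk k hk d hd, by
      have := (h (w * d⁻¹)).2 (by simp [← h2])
      rw [map_mul, map_inv, Pi.mul_apply, Pi.inv_apply, mul_inv_eq_one] at this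
      exact this.symm⟩
    have h2 : ∀ i, K i ≠ ⊤ := fun i h => hc fun j t => by
      obtain ⟨k, hk, h3⟩ := tr i j
      simpa [K] using h1 k hk i j h3 ((ψ k).symm (Pi.mulSingle j t)) (h.ge (mem_top _))
    refine ⟨T, _, m, e, hs, hT, hm, .inl ⟨K, h2, fun n => ?_⟩⟩
    rcases S0722.result H N hN hmin a (P (pi Set.univ K)) (map_subtype_le _)
      (fun x hx => (hP _ ⟨x, hx.2⟩).2 fun i _ => ⟨_, (hD ⟨x, hx.2⟩).2 hx.1, rfl⟩)
      (fun k hk => hPn _ k fun w hw j _ => (perm_factor hT (ψ k) j).elim fun i h =>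
        h1 k hk i j h w (hw i trivial)) with h | h
    · have := hP (pi Set.univ K) n
      simpa [h, mem_pi] using this
    · refine absurd (eq_top_iff.2 fun t _ => ?_) (h2 ⟨0, hm⟩)
      simpa using (hP _ (e.symm fun _ => t)).1 (h.ge (Subtype.prop _)) ⟨0, hm⟩ trivial

end Cfsg.Agent.S0723
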