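import Cfsg.Statements.S0726
import Cfsg.Agent.Perm.Basic

set_option autoImplicit false
open Cfsg

namespace Cfsg.Agent.S0726

open Cfsg.Agent.Perm Subgroup MulAction
open scoped Pointwise


/-- The left and right regular permutation representations of a group are each other's centralisers in the symmetric group: the centraliser of the left regular image is the right regular image, and a transitive subgroup centralising the left regular image is the whole right regular image. -/
theorem result {G : Type*} [Group G] : Subgroup.centralizer ((MulAction.toPermHom G G).range : Set (Equiv.Perm G)) = (MulAction.toPermHom Gᵐᵒᵖ G).range ∧ ∀ H : Subgroup (Equiv.Perm G), H ≤ Subgroup.centralizer ((MulAction.toPermHom G G).range : Set (Equiv.Perm G)) → MulAction.IsPretransitive H G → H = (MulAction.toPermHom Gᵐᵒᵖ G).range := by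
  have h1 : centralizer ((toPermHom G G).range : Set (Equiv.Perm G)) =
      (toPermHom Gᵐᵒᵖ G).range := by
    ext σ
    constructor
    · intro h
      refine ⟨MulOpposite.op (σ 1), Equiv.ext fun x => ?_⟩
      have := congrArg (fun τ : Equiv.Perm G => τ 1) (h _ ⟨x, rfl⟩)
      simpa using this
    · rintro ⟨a, rfl⟩ _ ⟨b, rfl⟩
      ext x
      simp [mul_assoc]
  refine ⟨h1, fun H h2 h3 => le_antisymm (h1 ▸ h2) ?_⟩
  rintro _ ⟨a, rfl⟩
  obtain ⟨⟨g, g1⟩, g2⟩ := exists_smul_eq H (1 : G) a.unop
  obtain ⟨b, rfl⟩ := h1.le (h2 g1)
  obtain rfl : b = a := MulOpposite.unop_injective (by simpa [Subgroup.smul_def] using g2)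
  exact g1

end Cfsg.Agent.S0726
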