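import Cfsg.Statements.S0733
import Cfsg.Agent.Perm.Basic

set_option autoImplicit false
open Cfsg

namespace Cfsg.Agent.S0733

open Cfsg.Agent.Perm Subgroup MulAction
open scoped Pointwise


/-- A permutation group of affine type — generated by the translations of a finite vector space `V` over `ZMod p` together with a group `G₀` of linear automorphisms — is primitive on `V` if and only if `G₀` is irreducible on `V`. -/
theorem result {p : ℕ} [Fact p.Prime] {V : Type*} [AddCommGroup V] [Module (ZMod p) V] [Finite V] [Nontrivial V] (G₀ : Subgroup (V ≃ₗ[ZMod p] V)) (G : Subgroup (Equiv.Perm V)) (hG : ∀ σ : Equiv.Perm V, σ ∈ G ↔ ∃ g ∈ G₀, ∃ b : V, ∀ x : V, σ x = (g : V ≃ₗ[ZMod p] V) x + b) : MulAction.IsPreprimitive G V ↔ ∀ W : Submodule (ZMod p) V, (∀ g ∈ G₀, ∀ v ∈ W, (g : V ≃ₗ[ZMod p] V) v ∈ W) → W = ⊥ ∨ W = ⊤ := by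
  have t : ∀ b : V, Equiv.addRight b ∈ G := fun b => (hG _).2 ⟨1, one_mem _, b, fun x => rfl⟩
  constructor
  · intro h W hW
    rcases h.isTrivialBlock_of_isBlock (B := (W : Set V)) (isBlock_iff_smul_eq_of_mem.2
      fun {g x} h1 h2 => by
        obtain ⟨u, u1, b, u2⟩ := (hG g).1 g.2
        have h3 : b ∈ W := (W.add_mem_iff_right (hW u u1 x h1)).1 (u2 x ▸ h2)
        refine Set.eq_of_subset_of_ncard_le ?_ (Set.ncard_smul_set g _).ge
        rintro _ ⟨y, hy, rfl⟩
        exact (u2 y).symm ▸ W.add_mem (hW u u1 y hy) h3 |> fun h : g.1 y ∈ W => h) with e | e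
    · exact Or.inl ((Submodule.eq_bot_iff W).2 fun x hx => e hx W.zero_mem)
    · exact Or.inr (eq_top_iff.2 fun x _ => e.ge (Set.mem_univ x))
  · intro h
    have : IsPretransitive G V := ⟨fun x y => ⟨⟨_, t (y - x)⟩, add_sub_cancel x y⟩⟩
    refine IsPreprimitive.of_isTrivialBlock_base 0 fun {B} h0 hB => ?_
    have k := fun (g : G) (h : g • (0 : V) ∈ B) {x : V} (hx : x ∈ B) =>
      (isBlock_iff_smul_eq_of_mem.1 hB h0 h ▸ Set.smul_mem_smul_set hx : g • x ∈ B)
    let A : AddSubgroup V :=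
      { carrier := B
        zero_mem' := h0
        add_mem' := fun {x y} hx hy => k ⟨_, t y⟩ ((zero_add y).symm ▸ hy :) hx
        neg_mem' := fun {x} hx => by
          have := isBlock_iff_smul_eq_of_mem.1 hB (g := ⟨_, t (-x)⟩) hx
            ((add_neg_cancel x).symm ▸ h0 :)
          exact zero_add (-x) ▸ this ▸ Set.smul_mem_smul_set h0 }
    rcases h (AddSubgroup.toZModSubmodule p A) fun g hg v hv =>
      k ⟨g.toEquiv, (hG _).2 ⟨g, hg, 0, fun x => (add_zero _).symm⟩⟩ ((map_zero g).symm ▸ h0 :) hv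
      with e | e
    · exact Or.inl fun x hx y hy => ((Submodule.eq_bot_iff _).1 e x hx).trans
        ((Submodule.eq_bot_iff _).1 e y hy).symm
    · exact Or.inr (Set.eq_univ_of_forall fun x => e.ge (Submodule.mem_top (x := x)))

end Cfsg.Agent.S0733
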