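import Cfsg.Statements.S0734
import Cfsg.Agent.Perm.Basic
import Mathlib.Combinatorics.SimpleGraph.Connectivity.Connected

set_option autoImplicit false
open Cfsg

namespace Cfsg.Agent.S0734

open Cfsg.Agent.Perm Subgroup MulAction
open scoped Pointwise


/-- Higman's criterion for primitivity: a transitive action on a finite set is primitive if and only if every non-trivial orbital graph (edges = images of a fixed pair of distinct points) is connected. -/
theorem result {G : Type*} [Group G] {Ω : Type*} [Finite Ω] [MulAction G Ω] [MulAction.IsPretransitive G Ω] [Nontrivial Ω] : MulAction.IsPreprimitive G Ω ↔ ∀ a b : Ω, a ≠ b → (SimpleGraph.fromRel fun x y : Ω => ∃ g : G, g • a = x ∧ g • b = y).Connected := by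
  constructor
  · intro h a b hab
    set Γ := SimpleGraph.fromRel fun x y : Ω => ∃ g : G, g • a = x ∧ g • b = y
    have k1 : ∀ (g : G) {x y : Ω}, Γ.Reachable x y → Γ.Reachable (g • x) (g • y) := fun g x y h =>
      h.map (f := ⟨fun x => g • x, fun {x y} h => by
        simp only [Γ, SimpleGraph.fromRel_adj, ne_eq, smul_left_cancel_iff] at h ⊢
        refine ⟨h.1, h.2.imp ?_ ?_⟩ <;> rintro ⟨u, rfl, rfl⟩ <;>
          exact ⟨g * u, mul_smul _ _ _, mul_smul _ _ _⟩⟩)
    have k2 : IsBlock G {x | Γ.Reachable a x} := isBlock_iff_smul_eq_of_mem.2 fun {g x} h1 h2 => by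
      ext y
      rw [Set.mem_smul_set_iff_inv_smul_mem]
      exact ⟨fun h => by simpa using (h2.trans (k1 g h1).symm).trans (k1 g h),
        fun h => by simpa using h1.trans (by simpa using k1 g⁻¹ (h2.symm.trans h))⟩
    rcases h.isTrivialBlock_of_isBlock k2 with e | e
    · exact absurd (e (SimpleGraph.Reachable.refl a) (SimpleGraph.Adj.reachable
        ((SimpleGraph.fromRel_adj _ _ _).2 ⟨hab, Or.inl ⟨1, one_smul _ _, one_smul _ _⟩⟩))) hab
    · exact ⟨fun x y => (e.ge (Set.mem_univ x)).symm.trans (e.ge (Set.mem_univ y))⟩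
  · refine fun h => ⟨fun {B} hB => B.subsingleton_or_nontrivial.imp_right ?_⟩
    rintro ⟨a, ha, b, hb, hab⟩
    refine Set.eq_univ_of_forall fun y => ?_
    have := (SimpleGraph.reachable_iff_reflTransGen _ _).1 ((h a b hab).preconnected a y)
    induction this with
    | refl => exact ha
    | tail _ h1 ih =>
      rcases ((SimpleGraph.fromRel_adj _ _ _).1 h1).2 with ⟨g, rfl, rfl⟩ | ⟨g, rfl, rfl⟩
      · exact isBlock_iff_smul_eq_of_mem.1 hB ha ih ▸ Set.smul_mem_smul_set hb
      · exact isBlock_iff_smul_eq_of_mem.1 hB hb ih ▸ Set.smul_mem_smul_set ha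

end Cfsg.Agent.S0734
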