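import Cfsg.Statements.S0752
import Cfsg.Agent.Class.Sp2

set_option autoImplicit false
open Cfsg

namespace Cfsg.Agent.S0752

/-- Classification of alternating forms: for an alternating bilinear form B on a finite-dimensional space over any field there is a basis indexed by (Fin m ⊕ Fin m) ⊕ Fin k such that B (e_i, f_j) = δ_ij, the e's are pairwise orthogonal, the f's are pairwise orthogonal, and the last k basis vectors are orthogonal to everything (they span the radical). -/
theorem result {F V : Type*} [Field F] [AddCommGroup V] [Module F V] [FiniteDimensional F V] (B : LinearMap.BilinForm F V) (hA : B.IsAlt) : ∃ (m k : ℕ) (b : Module.Basis ((Fin m ⊕ Fin m) ⊕ Fin k) F V), (∀ i j : Fin m, B (b (Sum.inl (Sum.inl i))) (b (Sum.inl (Sum.inr j))) = if i = j then 1 else 0) ∧ (∀ i j : Fin m, B (b (Sum.inl (Sum.inl i))) (b (Sum.inl (Sum.inl j))) = 0) ∧ (∀ i j : Fin m, B (b (Sum.inl (Sum.inr i))) (b (Sum.inl (Sum.inr j))) = 0) ∧ (∀ (j : Fin k) (v : V), B (b (Sum.inr j)) v = 0) := by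
  set f := Class.FS.ofAlt B hA
  obtain ⟨W, hW⟩ := (LinearMap.ker B).exists_isCompl
  have hf : (f.res W).Nondeg := Class.FS.nondeg_of_sep fun x hx => by
    refine Subtype.ext (Submodule.disjoint_def.1 hW.disjoint x (LinearMap.ext fun y => ?_) x.2)
    obtain ⟨r, w, rfl⟩ := Class.exists_add_of_isCompl hW y
    rw [map_add, show B x w = 0 from hx w, hA.isRefl _ _ (LinearMap.congr_fun r.2 x)]; simp
  obtain ⟨m, hm⟩ := Class.FS.sp_even _ hf rfl
  obtain ⟨e, he⟩ := Class.FS.sp_isIso _ hf (Class.spFS_nondeg m F) hm (by simp)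
  let b := ((((Pi.basisFun F (Fin m ⊕ Fin m)).reindex (Equiv.sumComm _ _)).map e).prod
    (Module.finBasis F (LinearMap.ker B))).map (W.prodEquivOfIsCompl _ hW.symm)
  have h1 : ∀ i j, B (b (.inl i)) (b (.inl j)) = Matrix.J (Fin m) F i.swap j.swap := fun i j => by
    have := (he.1 (Pi.single i.swap 1) (Pi.single j.swap 1)).trans
      ((Class.spFS_B _ _ _ _).trans (Class.sympForm_single _ _ _ _))
    simp only [b]
    simp
    exact this.trans (by simp)
  refine ⟨m, _, b, fun i j => ?_, fun i j => ?_, fun i j => ?_, fun j v => ?_⟩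
  · simp [h1, Matrix.J, Matrix.one_apply]
  · simp [h1, Matrix.J]
  · simp [h1, Matrix.J]
  · simpa [b] using LinearMap.congr_fun (Module.finBasis F (LinearMap.ker B) j).2 v

end Cfsg.Agent.S0752
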