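import Cfsg.Statements.S0756
import Cfsg.Agent.Class.Orth4

set_option autoImplicit false
open Cfsg

namespace Cfsg.Agent.S0756

/-- Classification of symmetric bilinear forms over finite fields of odd characteristic: if B is non-degenerate symmetric on V of dimension n + 1 and α is a fixed non-square of F, there is an orthogonal basis b_0, ..., b_n with B(b_i, b_i) = 1 for i < n and B(b_n, b_n) ∈ {1, α}. -/
theorem result {F V : Type*} [Field F] [Finite F] [AddCommGroup V] [Module F V] [FiniteDimensional F V] (h2 : (2 : F) ≠ 0) (B : LinearMap.BilinForm F V) (hS : B.IsSymm) (hB : B.Nondegenerate) {n : ℕ} (hn : Module.finrank F V = n + 1) (α : F) (hα : ¬ IsSquare α) : ∃ b : Module.Basis (Fin (n + 1)) F V, (∀ i j, i ≠ j → B (b i) (b j) = 0) ∧ (∀ i, i ≠ Fin.last n → B (b i) (b i) = 1) ∧ (B (b (Fin.last n)) (b (Fin.last n)) = 1 ∨ B (b (Fin.last n)) (b (Fin.last n)) = α) := by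
  have hf := Class.FS.ofSymm_nondeg h2 hS hB
  have hα0 : α ≠ 0 := by rintro rfl; exact hα ⟨0, by simp⟩
  obtain ⟨d, hd, hd0, h⟩ : ∃ d, (d = 1 ∨ d = α) ∧ d ≠ 0 ∧ Class.sqc d = (Class.FS.ofSymm B).disc := by
    by_cases h : (Class.FS.ofSymm B).disc = 1
    · exact ⟨1, Or.inl rfl, one_ne_zero, by rw [h, Class.sqc_one]⟩
    · exact ⟨α, Or.inr rfl, hα0, Class.SqC.eq_of_ne_one (mt (Class.sqc_eq_one hα0).1 hα) h⟩
  obtain ⟨e, he, h1⟩ := Class.FS.exists_OB_normal h2 n hf hn d hd0 h
  obtain ⟨b, rfl⟩ := he.exists_basis h2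
  refine ⟨b, fun i j hij => ?_, fun i hi => by simpa [hi] using h1 i, ?_⟩
  · simpa [Class.FS.ofSymm_B hS, h2] using he.orth i j hij
  · have := h1 (Fin.last n)
    simp only [Class.FS.ofSymm_Q, if_true] at this
    rwa [this]

end Cfsg.Agent.S0756
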