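import Cfsg.Statements.S0757
import Cfsg.Agent.Class.Orth4

set_option autoImplicit false
open Cfsg

namespace Cfsg.Agent.S0757

/-- The two diagonal forms Σ x_i^2 and Σ_(i<n) x_i^2 + α x_n^2 on F^(n+1), with α a non-square and 2 ≠ 0 in F, are inequivalent quadratic forms (so over a finite field of odd order there are exactly two classes of non-singular symmetric bilinear forms in each dimension). -/
theorem result {F : Type*} [Field F] (h2 : (2 : F) ≠ 0) (n : ℕ) (α : F) (hα : ¬ IsSquare α) : ¬ (QuadraticMap.weightedSumSquares F (fun _ : Fin (n + 1) => (1 : F))).Equivalent (QuadraticMap.weightedSumSquares F (fun i : Fin (n + 1) => if i = Fin.last n then α else (1 : F))) := by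
  rintro ⟨e⟩
  have key : ∀ w : Fin (n + 1) → F, (∀ i, w i ≠ 0) →
      (Class.FS.ofQuad (QuadraticMap.weightedSumSquares F w)).OB (fun i => Pi.single i 1) ∧
      ∀ i, (Class.FS.ofQuad (QuadraticMap.weightedSumSquares F w)).Q (Pi.single i 1) = w i := by
    intro w hw
    have h1 : ∀ i, (Class.FS.ofQuad (QuadraticMap.weightedSumSquares F w)).Q (Pi.single i 1) = w i := by
      intro i; simp [Pi.single_apply]
    refine ⟨⟨fun i j hij => ?_, fun i => h1 i ▸ hw i, by simp⟩, h1⟩
    simp [QuadraticMap.polar, Pi.single_apply, add_mul, mul_add, Finset.sum_add_distrib, hij, hij.symm]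
  obtain ⟨h1, h1'⟩ := key (fun _ => 1) (by simp)
  by_cases hα0 : α = 0
  · exact hα ⟨0, by simp [hα0]⟩
  obtain ⟨h3, h3'⟩ := key (fun i => if i = Fin.last n then α else 1) (fun i => by split_ifs <;> simp [hα0])
  have := (Class.FS.orth_isIso (f := Class.FS.ofQuad _) (f' := Class.FS.ofQuad _)
    (e := e.toLinearEquiv) e.map_app).disc_eq (h3.nondeg h2) h2
  rw [h1.disc_eq h2, h3.disc_eq h2] at this
  simp only [h1', h3', Finset.prod_const_one, Finset.prod_ite_eq', Finset.mem_univ, if_true,
    Class.sqc_one] at this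
  exact hα ((Class.sqc_eq_one hα0).1 this.symm)

end Cfsg.Agent.S0757
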