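import Cfsg.Statements.S0758
import Cfsg.Agent.Class.Orth4

set_option autoImplicit false
open Cfsg

namespace Cfsg.Agent.S0758

/-- For a finite field F of odd order q and a non-square α: the form x² + y² is isotropic iff q ≡ 1 mod 4, and the form x² + α y² is isotropic iff q ≡ 3 mod 4. -/
theorem result {F : Type*} [Field F] [Fintype F] (h2 : (2 : F) ≠ 0) (α : F) (hα : ¬ IsSquare α) : ((∃ x y : F, (x ≠ 0 ∨ y ≠ 0) ∧ x ^ 2 + y ^ 2 = 0) ↔ Fintype.card F % 4 = 1) ∧ ((∃ x y : F, (x ≠ 0 ∨ y ≠ 0) ∧ x ^ 2 + α * y ^ 2 = 0) ↔ Fintype.card F % 4 = 3) := by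
  have hα0 : α ≠ 0 := by rintro rfl; exact hα ⟨0, by simp⟩
  have key : ∀ β : F, β ≠ 0 → ((∃ x y : F, (x ≠ 0 ∨ y ≠ 0) ∧ x ^ 2 + β * y ^ 2 = 0) ↔ IsSquare (-β)) := by
    intro β hβ
    constructor
    · rintro ⟨x, y, h, h'⟩
      have : y ≠ 0 := by rintro rfl; simp_all
      exact ⟨x / y, by field_simp; linear_combination -h'⟩
    · rintro ⟨t, ht⟩
      exact ⟨t, 1, Or.inr one_ne_zero, by linear_combination -ht⟩
  have h1 := Class.isSquare_neg_one_pow h2 1
  simp only [pow_one] at h1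
  constructor
  · simpa [h1.1] using key 1 one_ne_zero
  · rw [key α hα0, ← h1.2, ← neg_one_mul, ← Class.sqc_eq_iff (by simp) hα0, ← Class.sqc_eq_one (by simp)]
    have := mt (Class.sqc_eq_one hα0).1 hα
    exact ⟨fun h => h ▸ this, fun h => Class.SqC.eq_of_ne_one h this⟩

end Cfsg.Agent.S0758
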