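import Cfsg.Statements.S0759
import Cfsg.Agent.Class.Orth4

set_option autoImplicit false
open Cfsg

namespace Cfsg.Agent.S0759

/-- Type of the orthonormal form: over a finite field of odd order q and for m ≥ 1, the quadratic form Σ_(i<2m) x_i² on F^(2m) admits an m-dimensional subspace on which it vanishes identically if and only if it is not the case that q ≡ 3 (mod 4) and m is odd. -/
theorem result {F : Type*} [Field F] [Fintype F] (h2 : (2 : F) ≠ 0) (m : ℕ) (hm : 1 ≤ m) : (∃ W : Submodule F (Fin (2 * m) → F), Module.finrank F W = m ∧ ∀ w ∈ W, ∑ i, w i ^ 2 = 0) ↔ ¬ (Fintype.card F % 4 = 3 ∧ Odd m) := by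
  set f := Class.FS.ofQuad (QuadraticMap.weightedSumSquares F (fun _ : Fin (2 * m) => (1 : F)))
  have h0 : ∀ w, f.Q w = ∑ i, w i ^ 2 := fun w => by simp [f, sq]
  have h1 : ∀ i, f.Q (Pi.single i 1) = 1 := fun i => by simp [h0, Pi.single_apply]
  have h3 : f.OB (fun i => Pi.single i 1) := by
    refine ⟨fun i j hij => ?_, fun i => by simp [h1], by simp⟩
    simp [f, QuadraticMap.polar, Pi.single_apply, add_mul, mul_add, Finset.sum_add_distrib, hij, hij.symm]
  have h4 := Class.FS.wi_iff_disc h2 m (h3.nondeg h2) (by simp)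
  rw [h3.disc_eq h2, eq_comm] at h4
  simp only [h1, Finset.prod_const_one, Class.sqc_one] at h4
  rw [Class.sqc_eq_one (by simp)] at h4
  have h5 : IsSquare ((-1 : F) ^ m) ↔ ¬ (Fintype.card F % 4 = 3 ∧ Odd m) := by
    rcases Nat.even_or_odd m with h | h
    · simp [h.neg_one_pow, Nat.not_odd_iff_even.2 h]
    · simp [h.neg_one_pow, h, FiniteField.isSquare_neg_one_iff]
  rw [← h5, ← h4]
  constructor
  · rintro ⟨W, h6, h7⟩
    exact ⟨W, Class.FS.orth_ts.2 fun x hx => (h0 x).trans (h7 x hx), h6.ge⟩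
  · intro h
    obtain ⟨W, h6, h7⟩ := h.exists_eq
    exact ⟨W, h7, fun w hw => (h0 w).symm.trans (h6.1 w hw)⟩

end Cfsg.Agent.S0759
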