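import Cfsg.Statements.S0760
import Cfsg.Agent.Class.FS3

set_option autoImplicit false
open Cfsg

namespace Cfsg.Agent.S0760

/-- Witt index is well defined: if Q is a quadratic form on a finite-dimensional space V over a finite field with non-degenerate polar form, and W₁, W₂ are subspaces on which Q vanishes that are maximal with this property, then W₁ and W₂ have the same dimension, and twice this dimension is at most dim V. -/
theorem result {F V : Type*} [Field F] [Finite F] [AddCommGroup V] [Module F V] [FiniteDimensional F V] (Q : QuadraticForm F V) (hQ : (QuadraticMap.polarBilin Q).Nondegenerate) (W₁ W₂ : Submodule F V) (h₁ : ∀ w ∈ W₁, Q w = 0) (h₂ : ∀ w ∈ W₂, Q w = 0) (hmax₁ : ∀ W : Submodule F V, W₁ ≤ W → (∀ w ∈ W, Q w = 0) → W = W₁) (hmax₂ : ∀ W : Submodule F V, W₂ ≤ W → (∀ w ∈ W, Q w = 0) → W = W₂) : Module.finrank F W₁ = Module.finrank F W₂ ∧ 2 * Module.finrank F W₁ ≤ Module.finrank F V := by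
  set f := Class.FS.ofQuad Q
  have hf : f.Nondeg := Class.FS.nondeg_of_sep hQ.1
  have hB : ∀ W : Submodule F V, (∀ w ∈ W, Q w = 0) → ∀ x ∈ W, ∀ y ∈ W, f.B x y = 0 := by
    intro W hW x hx y hy
    simp [f, QuadraticMap.polar, hW x hx, hW y hy, hW _ (W.add_mem hx hy)]
  have key : ∀ W₁ W₂ : Submodule F V, (∀ w ∈ W₁, Q w = 0) → (∀ w ∈ W₂, Q w = 0) →
      (∀ W : Submodule F V, W₁ ≤ W → (∀ w ∈ W, Q w = 0) → W = W₁) →
      Module.finrank F W₁ ≤ Module.finrank F W₂ → Module.finrank F W₁ = Module.finrank F W₂ := by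
    intro W₁ W₂ h₁ h₂ hmax hle
    obtain ⟨φ, hφ⟩ := (finrank_le_iff_exists_linearMap (R := F) (M := W₁) (M' := W₂)).1 hle
    obtain ⟨g, hg, h⟩ := Class.FS.witt hf W₁.subtype (W₂.subtype ∘ₗ φ) W₁.subtype_injective
      (W₂.subtype_injective.comp hφ)
      (fun x y => (hB W₁ h₁ _ x.2 _ y.2).trans (hB W₂ h₂ _ (φ x).2 _ (φ y).2).symm)
      (fun x => (h₁ _ x.2).trans (h₂ _ (φ x).2).symm)
    have := hmax (W₂.comap (g : V →ₗ[F] V)) (fun x hx => by
      have := h ⟨x, hx⟩
      simp only [Submodule.subtype_apply] at this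
      simp [this]) (fun w hw => (hg.2 w).symm.trans (h₂ _ hw))
    rw [← this, Submodule.comap_equiv_eq_map_symm, LinearEquiv.finrank_map_eq]
  constructor
  · rcases le_total (Module.finrank F W₁) (Module.finrank F W₂) with h | h
    · exact key _ _ h₁ h₂ hmax₁ h
    · exact (key _ _ h₂ h₁ hmax₂ h).symm
  · have h1 := hf.finrank_perp W₁
    have h2 : W₁ ≤ f.perp W₁ := fun x hx w hw => hB W₁ h₁ w hw x hx
    have := Submodule.finrank_mono h2
    omega

end Cfsg.Agent.S0760
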