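import Cfsg.Statements.S0763
import Cfsg.Agent.Class.Orth1

set_option autoImplicit false
open Cfsg

namespace Cfsg.Agent.S0763

/-- Binary quadratic forms in characteristic two over a finite field: if Q is a quadratic form on a 2-dimensional space whose polar form is non-degenerate, then either there are vectors v, w with Q v = Q w = 0 and polar value 1 (Q is xy in these coordinates), or there are v, w and μ with Q v = 1, Q w = μ, polar value 1 and x² + x + μ without roots in F (Q is x² + xy + μy²). -/
theorem result {F V : Type*} [Field F] [Finite F] [CharP F 2] [AddCommGroup V] [Module F V] (Q : QuadraticForm F V) (h2 : Module.finrank F V = 2) (hQ : (QuadraticMap.polarBilin Q).Nondegenerate) : (∃ v w : V, LinearIndependent F ![v, w] ∧ Q v = 0 ∧ Q w = 0 ∧ QuadraticMap.polar Q v w = 1) ∨ (∃ (v w : V) (μ : F), LinearIndependent F ![v, w] ∧ (∀ x : F, x ^ 2 + x + μ ≠ 0) ∧ Q v = 1 ∧ Q w = μ ∧ QuadraticMap.polar Q v w = 1) := by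
  have : FiniteDimensional F V := Module.finite_of_finrank_pos (by omega)
  have hf : (Class.FS.ofQuad Q).Nondeg := Class.FS.nondeg_of_sep hQ.1
  have h20 : (2 : F) = 0 := CharTwo.two_eq_zero
  rcases hf.hyp_or_aniso with ⟨u, v, h⟩ | h
  · exact Or.inl ⟨u, v, h.linearIndependent, h.Q1, h.Q2, h.B12⟩
  · right
    obtain ⟨v, hv⟩ := hf.universal h2.ge 1
    have hv0 : v ≠ 0 := by rintro rfl; simp at hv
    obtain ⟨w, -, hw⟩ := hf.exists_dual (H := ⊥) (u := v) (by simpa using hv0) 1
    rw [Class.FS.orth_symm] at hw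
    have hvv : (Class.FS.ofQuad Q).B v v = 0 := by rw [Class.FS.orth_self, h20, zero_mul]
    have hli : ∀ s t : F, s • v + t • w = 0 → s = 0 ∧ t = 0 := fun s t hst => by
      have h1 := congrArg ((Class.FS.ofQuad Q).B v) hst
      rw [map_add, map_smul, map_smul, hvv, hw] at h1
      have ht : t = 0 := by simpa using h1
      exact ⟨by simpa [ht, hv0] using hst, ht⟩
    refine ⟨v, w, Q w, LinearIndependent.pair_iff.2 hli, fun x hx => ?_, hv, rfl, hw⟩
    refine one_ne_zero (hli x 1 (h _ ?_)).2
    rw [Class.FS.orth_Q_two, hv, hw, Class.FS.ofQuad_Q]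
    linear_combination hx

end Cfsg.Agent.S0763
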