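import Cfsg.Statements.S0767
import Cfsg.Agent.Class.Sp

set_option autoImplicit false
open Cfsg

namespace Cfsg.Agent.S0767

/-- The root group of a point: T_v(c) T_v(d) = T_v(c + d), and for A in the symplectic group with A v = a v, the conjugate A T_v(c) A⁻¹ is again some T_v(d). -/
theorem result {F : Type*} [Field F] (m : ℕ) (v : Fin m ⊕ Fin m → F) : (∀ c d : F, Cfsg.sympTransvection m v c * Cfsg.sympTransvection m v d = Cfsg.sympTransvection m v (c + d)) ∧ ∀ (A : Matrix (Fin m ⊕ Fin m) (Fin m ⊕ Fin m) F) (a : F), A ∈ Matrix.symplecticGroup (Fin m) F → A.mulVec v = a • v → ∀ c : F, ∃ d : F, A * Cfsg.sympTransvection m v c * A⁻¹ = Cfsg.sympTransvection m v d := by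
  constructor
  · intro c d
    refine Class.matrix_ext_mulVec fun x => ?_
    rw [← Matrix.mulVec_mulVec, Class.sympTransvection_mulVec, Class.sympTransvection_mulVec,
      Class.sympTransvection_mulVec, Class.FS.spT_add, LinearEquiv.mul_apply]
  · intro A a hA hv c
    refine ⟨a * a * c, Class.matrix_ext_mulVec fun x => ?_⟩
    have h1 := Class.FS.conj_spT (Class.spLin_mem ⟨A, hA⟩) v c
    rw [Class.spLin_apply, hv, Class.FS.spT_smul, ← map_inv] at h1
    rw [Class.sympTransvection_mulVec, ← h1, ← Matrix.mulVec_mulVec, ← Matrix.mulVec_mulVec,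
      Class.sympTransvection_mulVec, LinearEquiv.mul_apply, LinearEquiv.mul_apply, Class.spLin_apply,
      Class.spLin_apply, SymplecticGroup.coe_inv']

end Cfsg.Agent.S0767
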