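import Cfsg.Statements.S0768
import Cfsg.Agent.Class.Sp

set_option autoImplicit false
open scoped LinearAlgebra.Projectivization
open Cfsg

namespace Cfsg.Agent.S0768

theorem aux {F : Type*} [Field F] {P : Class.FP F} {V : Type*} [AddCommGroup V] [Module F V]
    {f : Class.FS P V} {G : Type*} [Group G] [DistribMulAction G V] [SMulCommClass G F V]
    (hI : ∀ (g : G) x, f.Q (g • x) = f.Q x) (h : MulAction.IsPreprimitive G (f.sing G hI))
    (hQ : ∀ x, f.Q x = 0) : MulAction.IsPreprimitive G (ℙ F V) :=
  h.of_surjective (φ := id) (f := ⟨Subtype.val, fun _ _ => rfl⟩) (fun p => ⟨⟨p, hQ _⟩, rfl⟩)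

/-- Primitivity: for m ≥ 1 and F finite, the symplectic group of the form sympForm (as a subgroup of the general linear group) acts primitively on the projective space of F^(2m). -/
theorem result {F : Type*} [Field F] [Finite F] (m : ℕ) (hm : 1 ≤ m) : MulAction.IsPreprimitive ↥(Cfsg.spGL m F) (ℙ F (Fin m ⊕ Fin m → F)) := by
  have hI : ∀ (g : Cfsg.spGL m F) x, (Class.spFS m F).Q (g • x) = (Class.spFS m F).Q x := fun _ _ => rfl
  have h := Class.FS.isPreprimitive_sing (hI := hI) (Class.spFS_nondeg m F) Class.FS.sp_goodC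
    (fun u hu x hx => ⟨⟨Class.glEquiv.symm x, fun u v => by
      have := Class.FS.Isom_B (Class.FS.X_le_Isom hu hx) u v
      rw [Class.spFS_B, Class.spFS_B] at this
      simp only [Units.coeHom_apply, Class.glEquiv_symm_mulVec, this]⟩,
      fun v => Class.glEquiv_symm_mulVec x v⟩)
  exact aux hI h fun _ => rfl

end Cfsg.Agent.S0768
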