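import Cfsg.Statements.S0770
import Cfsg.Agent.Class.Lin2

set_option autoImplicit false
open Cfsg

namespace Cfsg.Agent.S0770

/-- For a field with at least 3 elements, an invertible matrix normalises the subgroup of invertible diagonal matrices of GL_n if and only if it is monomial (exactly one non-zero entry in each row). -/
theorem result {F : Type*} [Field F] (hF : ∃ a : F, a ≠ 0 ∧ a ≠ 1) (n : ℕ) (g : Matrix.GeneralLinearGroup (Fin n) F) : g ∈ Subgroup.normalizer ((Units.map (Matrix.diagonalRingHom (Fin n) F).toMonoidHom).range : Subgroup (Matrix.GeneralLinearGroup (Fin n) F)) ↔ ∀ i : Fin n, ∃! j : Fin n, (g : Matrix (Fin n) (Fin n) F) i j ≠ 0 := by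
  obtain ⟨a, ha0, ha1⟩ := hF
  have hm : ∀ h : Matrix.GeneralLinearGroup (Fin n) F,
      h ∈ (Units.map (Matrix.diagonalRingHom (Fin n) F).toMonoidHom).range ↔
        ∃ t : Fin n → F, h.1 = Matrix.diagonal t := fun h => by
    refine ⟨fun ⟨t, ht⟩ => ⟨t.1, ht ▸ rfl⟩, fun ⟨t, ht⟩ => ?_⟩
    have := h.isUnit
    rw [ht, Matrix.isUnit_diagonal] at this
    exact ⟨this.unit, Units.ext ht.symm⟩
  constructor
  · intro hg
    refine Class.monomial_of_conj g.det_ne_zero fun j k hjk => ?_
    let h := Matrix.GeneralLinearGroup.mkOfDetNeZero (Matrix.diagonal (Function.update 1 j a))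
      (by simp [Finset.prod_update_of_mem, ha0])
    obtain ⟨t', ht'⟩ := (hm _).1 ((Subgroup.mem_normalizer_iff.1 hg h).1 ((hm _).2 ⟨_, rfl⟩))
    refine ⟨Function.update 1 j a, t', by simpa [hjk.symm] using ha1, ?_⟩
    rw [← ht']; simp [h]
  · intro hg
    obtain ⟨σ, hσ⟩ := Class.exists_perm_of_monomial g.det_ne_zero hg
    refine Subgroup.mem_normalizer_iff.2 fun h => ?_
    rw [hm, hm]
    constructor
    · rintro ⟨t, ht⟩
      exact ⟨t ∘ σ, by rw [Units.val_mul, Units.val_mul, ht, Class.monomial_mul_diagonal hσ]; simp⟩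
    · rintro ⟨t, ht⟩
      refine ⟨t ∘ σ.symm, (Units.mul_right_inj g).1 ?_⟩
      rw [Class.monomial_mul_diagonal hσ, Function.comp_assoc, σ.symm_comp_self, Function.comp_id, ← ht]
      simp

end Cfsg.Agent.S0770
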