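import Cfsg.Statements.S0773
import Cfsg.Agent.Class.Lin2

set_option autoImplicit false
open Cfsg

namespace Cfsg.Agent.S0773

/-- The stabilisers in GL_n(F), F finite, of the coordinate subspaces of dimensions k and n − k are isomorphic groups, but when 2k ≠ n (and 0 < k < n) no element of GL_n conjugates one onto the other. -/
theorem result {F : Type*} [Field F] [Finite F] (n k : ℕ) (hk0 : 0 < k) (hkn : k < n) (h2 : 2 * k ≠ n) : Nonempty (↥(Cfsg.stabilizing (Cfsg.glToMat (Fin n) F) {v : Fin n → F | ∀ i : Fin n, k ≤ (i : ℕ) → v i = 0}) ≃* ↥(Cfsg.stabilizing (Cfsg.glToMat (Fin n) F) {v : Fin n → F | ∀ i : Fin n, n - k ≤ (i : ℕ) → v i = 0})) ∧ ∀ g : Matrix.GeneralLinearGroup (Fin n) F, (Cfsg.stabilizing (Cfsg.glToMat (Fin n) F) {v : Fin n → F | ∀ i : Fin n, k ≤ (i : ℕ) → v i = 0}).map (MulAut.conj g).toMonoidHom ≠ Cfsg.stabilizing (Cfsg.glToMat (Fin n) F) {v : Fin n → F | ∀ i : Fin n, n - k ≤ (i : ℕ) → v i = 0} := by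
  have h := Class.finrank_coord_fin (F := F) hkn.le
  have h' := Class.finrank_coord_fin (F := F) (Nat.sub_le n k)
  constructor
  · refine ⟨((Class.glDual Fin.revPerm).subgroupMap _).trans (MulEquiv.subgroupCongr ?_)⟩
    ext g
    refine Subgroup.mem_map_equiv.trans ?_
    change _ ∈ Class.glStab (Class.coord F fun i : Fin n => k ≤ (i : ℕ)) ↔
      _ ∈ Class.glStab (Class.coord F fun i : Fin n => n - k ≤ (i : ℕ))
    rw [← inv_mem_iff, Class.mem_glStab_coord, Class.mem_glStab_coord]
    change (∀ i j : Fin n, _ → _ → g.1 j.rev i.rev = 0) ↔ _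
    refine ⟨fun h i j hi hj => ?_, fun h i j hi hj => h _ _ ?_ ?_⟩
    · simpa using h j.rev i.rev (by simp; omega) (by simp; omega)
    · simp; omega
    · simp; omega
  · intro g hg
    change (Class.glStab (Class.coord F fun i : Fin n => k ≤ (i : ℕ))).map _ =
      Class.glStab (Class.coord F fun i : Fin n => n - k ≤ (i : ℕ)) at hg
    rw [Class.map_conj_glStab] at hg
    have h3 := LinearEquiv.finrank_map_eq (Class.glEquiv g) (Class.coord F fun i : Fin n => k ≤ (i : ℕ))
    have h4 := Submodule.finrank_mono (Class.le_of_glStab_le (fun h0 => by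
      rw [h0] at h'; simp at h'; omega) hg.le)
    have h5 := Submodule.finrank_mono (Class.le_of_glStab_le (fun h0 => by
      rw [h0, h] at h3; simp at h3; omega) hg.ge)
    omega

end Cfsg.Agent.S0773
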