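import Cfsg.Statements.S0774
import Cfsg.Agent.Class.Sp2

set_option autoImplicit false
open Cfsg

namespace Cfsg.Agent.S0774

/-- Borel subgroup of the symplectic group: the elements of Sp_2m(q) stabilising each of the totally isotropic coordinate subspaces ⟨e_0, ..., e_k⟩ (k < m) form a subgroup of order q^(m²) (q − 1)^m. -/
theorem result {F : Type*} [Field F] [Fintype F] {q : ℕ} (hF : Fintype.card F = q) (m : ℕ) : Nat.card ↥(⨅ k : Fin m, Cfsg.stabilizing (Cfsg.spToMat m F) {v : Fin m ⊕ Fin m → F | (∀ i : Fin m, (k : ℕ) < (i : ℕ) → v (Sum.inl i) = 0) ∧ ∀ i : Fin m, v (Sum.inr i) = 0}) = q ^ (m ^ 2) * (q - 1) ^ m := by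
  let L : (Fin m → F) →ₗ[F] (Fin m ⊕ Fin m → F) :=
    { toFun := fun x => Sum.elim x 0
      map_add' := fun _ _ => by ext (i | i) <;> simp
      map_smul' := fun _ _ => by ext (i | i) <;> simp }
  have hL : Function.Injective L := fun x y h => funext fun i => congrFun h (.inl i)
  have hts : (Class.spFS m F).TS (LinearMap.range L) := Class.FS.sp_ts.2 (by
    rintro _ ⟨x, rfl⟩ _ ⟨y, rfl⟩
    simp [Class.spFS_B, Class.sympForm_eq, L])
  let H : Subgroup (Matrix.GeneralLinearGroup (Fin m) F) :=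
    ⨅ k : Fin m, Class.glStab (Class.coord F fun i => k < i)
  have hH : ∀ g, g ∈ H ↔ ∀ i j, j < i → g.1 i j = 0 := fun g => by
    simp only [H, Subgroup.mem_iInf, Class.mem_glStab_coord, not_lt]
    exact ⟨fun h i j hij => h j i j hij le_rfl, fun h k i j h1 h2 => h i j (h2.trans_lt h1)⟩
  let p : Fin m → Fin m ⊕ Fin m → Prop := fun k => Sum.elim (fun i => k < i) fun _ => True
  have h1 : (⨅ k : Fin m, Cfsg.stabilizing (Cfsg.spToMat m F) {v : Fin m ⊕ Fin m → F |
      (∀ i : Fin m, (k : ℕ) < (i : ℕ) → v (Sum.inl i) = 0) ∧ ∀ i : Fin m, v (Sum.inr i) = 0}) =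
      (⨅ k : Fin m, Class.stab (Class.coord F (p k))).comap (Class.spLin m F) := by
    rw [Subgroup.comap_iInf]
    refine iInf_congr fun k => ?_
    rw [show {v : Fin m ⊕ Fin m → F | (∀ i : Fin m, (k : ℕ) < (i : ℕ) → v (Sum.inl i) = 0) ∧
      ∀ i : Fin m, v (Sum.inr i) = 0} = Class.coord F (p k) from Set.ext fun v => by
        simp [Class.mem_coord, p]]
    rfl
  rw [h1, Class.card_comap_of_injective _ Class.spLin_injective,
    Class.FS.card_stab_ts_emb (Class.spFS_nondeg m F) L hL hts (H.map Class.glEquiv.toMonoidHom),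
    Class.FS.sp_card_fix (Class.spFS_nondeg m F) hts (m := m) (k := m) (by simp [two_mul])
      (by rw [LinearMap.finrank_range_of_inj hL]; simp),
    Subgroup.card_map_of_injective Class.glEquiv.injective,
    Nat.card_congr (Equiv.subtypeEquivRight hH), Class.card_upper, Nat.card_eq_fintype_card, hF]
  · have h3 : 2 * (m * (m + 1) / 2) = m * (m + 1) := Nat.two_mul_div_two_of_even (Nat.even_mul_succ_self m)
    have h4 : 2 * (m * (m - 1) / 2) = m * (m - 1) := Nat.two_mul_div_two_of_even (Nat.even_mul_pred_self m)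
    have h5 : m ^ 2 = m * (m - 1) / 2 + m * (m + 1) / 2 := by
      rcases m with _ | m
      · simp
      · simp only [Nat.add_sub_cancel] at h4 ⊢; nlinarith
    rw [h5]
    simp [Class.FS.spCard]
    ring
  · intro g
    rw [Subgroup.mem_inf, ← Class.spLin_range]
    refine and_congr_right ?_
    rintro ⟨A, rfl⟩
    simp only [Subgroup.mem_iInf, Class.mem_stab_coord (Class.spLin_apply A)]
    constructor
    · intro h
      have h2 : ∀ i j, A.1 (.inr i) (.inl j) = 0 := fun i j => h j _ _ trivial (lt_irrefl j)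
      have h3 : A.1 = Matrix.fromBlocks A.1.toBlocks₁₁ A.1.toBlocks₁₂ 0 A.1.toBlocks₂₂ := by
        ext (i | i) (j | j) <;> simp [h2, Matrix.toBlocks₁₁, Matrix.toBlocks₂₂, Matrix.toBlocks₁₂]
      have h4 : IsUnit A.1 := (Matrix.isUnit_iff_isUnit_det _).2 (SymplecticGroup.symplectic_det A.2)
      rw [h3, Matrix.isUnit_fromBlocks_zero₂₁] at h4
      refine ⟨_, ⟨h4.1.unit, (hH _).2 fun i j hij => h j (.inl i) (.inl j) hij (lt_irrefl j), rfl⟩, fun x => ?_⟩
      rw [Class.spLin_apply]
      refine (congrArg (fun M => Matrix.mulVec M (L x)) h3).trans ?_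
      ext (i | i) <;> simp [L, Matrix.fromBlocks_mulVec]
    · rintro ⟨_, ⟨g, hg, rfl⟩, h⟩ k i (j | j) hi hj
      · have := congrFun (h (Pi.single j 1)) i
        rw [show L (Pi.single j 1) = Pi.single (.inl j) 1 by ext (a | a) <;> simp [L, Pi.single_apply]] at this
        rcases i with i | i
        · simpa [L, (hH g).1 hg i j ((not_lt.1 hj).trans_lt hi)] using this
        · simpa [L] using this
      · exact absurd trivial hj

end Cfsg.Agent.S0774
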