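import Cfsg.Statements.S0775
import Cfsg.Agent.Class.Sp2

set_option autoImplicit false
open Cfsg

namespace Cfsg.Agent.S0775

/-- Maximal parabolics of the symplectic group: if W is a k-dimensional subspace of F^(2m) on which the symplectic form vanishes identically, its stabiliser in Sp_2m(q) has order q^(k(k+1)/2 + 2k(m−k)) · |Sp_(2m−2k)(q)| · |GL_k(q)|. -/
theorem result {F : Type*} [Field F] [Fintype F] {q : ℕ} (hF : Fintype.card F = q) (m k : ℕ) (hk : k ≤ m) (W : Submodule F (Fin m ⊕ Fin m → F)) (hWk : Module.finrank F W = k) (hW : ∀ u ∈ W, ∀ v ∈ W, Cfsg.sympForm m F u v = 0) : Nat.card ↥(Cfsg.stabilizing (Cfsg.spToMat m F) (W : Set (Fin m ⊕ Fin m → F))) = q ^ (k * (k + 1) / 2 + 2 * k * (m - k)) * (q ^ ((m - k) ^ 2) * ∏ i ∈ Finset.range (m - k), (q ^ (2 * (i + 1)) - 1)) * ∏ i : Fin k, (q ^ k - q ^ (i : ℕ)) := by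
  have hW' : (Class.spFS m F).TS W := Class.FS.sp_ts.2 fun x hx y hy =>
    (Class.spFS_B _ _ _ _).trans (hW x hx y hy)
  have h1 : Cfsg.stabilizing (Cfsg.spToMat m F) (W : Set (Fin m ⊕ Fin m → F)) =
      (Class.stab W).comap (Class.spLin m F) := rfl
  rw [h1, Class.card_comap_of_injective _ Class.spLin_injective, Class.spLin_range,
    Class.FS.card_stab_ts' (Class.spFS_nondeg m F) hW',
    Class.FS.sp_card_fix (Class.spFS_nondeg m F) hW' (m := m) (by simp [two_mul]) hWk,
    Class.card_linearEquiv, Nat.card_eq_fintype_card, hF, hWk]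
  simp only [Class.FS.spCard, Nat.mul_div_cancel_left _ two_pos]
  ring

end Cfsg.Agent.S0775
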