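import Cfsg.Statements.S0776
import Cfsg.Agent.Class.Sp2

set_option autoImplicit false
open Cfsg

namespace Cfsg.Agent.S0776

/-- If W ≤ F^(2m) is a 2k-dimensional subspace on which the symplectic form is non-degenerate, then the stabiliser of W in Sp_2m(F) is isomorphic to Sp_2k(F) × Sp_(2m−2k)(F). -/
theorem result {F : Type*} [Field F] (m k : ℕ) (hk : k ≤ m) (W : Submodule F (Fin m ⊕ Fin m → F)) (hWk : Module.finrank F W = 2 * k) (hW : ∀ u ∈ W, (∀ v ∈ W, Cfsg.sympForm m F u v = 0) → u = 0) : Nonempty (↥(Cfsg.stabilizing (Cfsg.spToMat m F) (W : Set (Fin m ⊕ Fin m → F))) ≃* Matrix.symplecticGroup (Fin k) F × Matrix.symplecticGroup (Fin (m - k)) F) := by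
  have hf := Class.spFS_nondeg m F
  have hd : Disjoint W ((Class.spFS m F).perp W) := Submodule.disjoint_def.2 fun x hx hx' =>
    hW x hx fun v hv => (Class.spFS_B _ _ _ _).symm.trans (Class.FS.B_comm_zero (hx' v hv))
  have h1 : Cfsg.stabilizing (Cfsg.spToMat m F) (W : Set (Fin m ⊕ Fin m → F)) =
      (Class.stab W).comap (Class.spLin m F) := rfl
  have h2 := hf.finrank_perp W
  obtain ⟨e₁, he₁⟩ := Class.FS.sp_isIso _ (Class.spFS_nondeg k F) (Class.FS.nondeg_res hd)
    (by simp [two_mul]) hWk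
  obtain ⟨e₂, he₂⟩ := Class.FS.sp_isIso _ (Class.spFS_nondeg (m - k) F) (hf.nondeg_perp hd) rfl
    (by simp at h2 ⊢; omega)
  rw [h1]
  exact ⟨(Class.comapEquiv _ Class.spLin_injective _).trans
    ((MulEquiv.subgroupCongr (by rw [Class.spLin_range])).trans
      ((Class.FS.stabEquivProd (hf.isCompl_perp hd)).trans
        ((he₁.isomEquiv.trans (Class.spEquiv k F).symm).prodCongr
          (he₂.isomEquiv.trans (Class.spEquiv (m - k) F).symm))))⟩

end Cfsg.Agent.S0776
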