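import Cfsg.Statements.S0777
import Cfsg.Agent.Class.Sp2

set_option autoImplicit false
open Cfsg

namespace Cfsg.Agent.S0777

/-- Weyl group of type C_m: for q ≥ 4 the diagonal matrices of Sp_2m(q) form a torus T ≅ (C_(q−1))^m (the elements stabilising every coordinate axis), and the normaliser of T in Sp_2m(q) has order 2^m · m! · (q − 1)^m. -/
theorem result {F : Type*} [Field F] [Fintype F] {q : ℕ} (hF : Fintype.card F = q) (hq : 4 ≤ q) (m : ℕ) : Nat.card ↥(Subgroup.normalizer (⨅ i : Fin m ⊕ Fin m, Cfsg.stabilizing (Cfsg.spToMat m F) ((Submodule.span F {(Pi.single i (1 : F) : Fin m ⊕ Fin m → F)} : Submodule F (Fin m ⊕ Fin m → F)) : Set (Fin m ⊕ Fin m → F)) : Set (Matrix.symplecticGroup (Fin m) F))) = 2 ^ m * Nat.factorial m * (q - 1) ^ m := by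
  rw [← hF, ← Nat.card_eq_fintype_card, ← Class.card_sp_monomial]
  have hm : ∀ h : Matrix.symplecticGroup (Fin m) F, h ∈ (⨅ i : Fin m ⊕ Fin m, Cfsg.stabilizing (Cfsg.spToMat m F) ((Submodule.span F {(Pi.single i (1 : F) : Fin m ⊕ Fin m → F)} : Submodule F (Fin m ⊕ Fin m → F)) : Set (Fin m ⊕ Fin m → F)) : Set (Matrix.symplecticGroup (Fin m) F)) ↔ ∃ t, h.1 = Matrix.diagonal t := fun h => by
    have : ∀ i : Fin m ⊕ Fin m, Submodule.span F {(Pi.single i (1 : F) : Fin m ⊕ Fin m → F)} =
        Class.coord F (· ≠ i) := fun i => by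
      refine le_antisymm ((Submodule.span_singleton_le_iff_mem _ _).2 fun j hj => Pi.single_eq_of_ne hj _)
        fun v hv => Submodule.mem_span_singleton.2 ⟨v i, funext fun j => ?_⟩
      by_cases hj : j = i
      · simp [hj]
      · simp [hj, hv j hj]
    simp only [this, Set.iInf_eq_iInter, Set.mem_iInter]
    change (∀ i, Class.spLin m F h ∈ Class.stab (Class.coord F (· ≠ i))) ↔ _
    simp only [Class.mem_stab_coord (Class.spLin_apply h), not_not]
    exact ⟨fun h' => ⟨_, (Matrix.IsDiag.diagonal_diag fun i j hij => h' j i j hij rfl).symm⟩,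
      fun ⟨t, ht⟩ k i j hij hk => ht ▸ Matrix.diagonal_apply_ne _ (hk ▸ hij)⟩
  obtain ⟨a, ha0, ha1⟩ := Class.exists_sq_ne_one (F := F) (by rw [Nat.card_eq_fintype_card]; omega)
  have ha2 : a ≠ 1 := by rintro rfl; simp at ha1
  have ha3 : a ≠ a⁻¹ := fun h => ha1 (by nth_rw 2 [h]; exact mul_inv_cancel₀ ha0)
  refine Nat.card_congr (Equiv.subtypeEquivRight fun g => ?_)
  have hg := (SymplecticGroup.symplectic_det g.2).ne_zero
  have hinv : (g⁻¹).1 * g.1 = 1 := congrArg Subtype.val (inv_mul_cancel g)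
  constructor
  · intro h
    refine Class.monomial_of_conj hg fun j k hjk => ?_
    let d := Function.update (1 : Fin m → F) (j.elim id id) a
    have hd : ∀ i, d i ≠ 0 := fun i => by
      by_cases hi : i = j.elim id id <;> simp [d, hi, ha0]
    let s : Matrix.symplecticGroup (Fin m) F := ⟨Matrix.diagonal (Sum.elim d fun i => (d i)⁻¹), by
      rw [← Matrix.fromBlocks_diagonal, SymplecticGroup.mem_iff]
      simp [Matrix.J, Matrix.fromBlocks_transpose, Matrix.fromBlocks_multiply, hd,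
        -Matrix.fromBlocks_diagonal]
      rw [← Matrix.diagonal_one, Matrix.diagonal_neg]⟩
    obtain ⟨t', ht'⟩ := (hm _).1 ((Subgroup.mem_set_normalizer_iff.1 h s).1 ((hm _).2 ⟨_, rfl⟩))
    refine ⟨Sum.elim d fun i => (d i)⁻¹, t', ?_, ?_⟩
    · rcases j with j | j <;> rcases k with k | k <;> by_cases h : k = j <;>
        simp_all [d, eq_comm]
    · rw [← ht', Submonoid.coe_mul, Submonoid.coe_mul, mul_assoc, hinv, mul_one]
  · intro h
    obtain ⟨σ, hσ⟩ := Class.exists_perm_of_monomial hg h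
    refine Subgroup.mem_set_normalizer_iff.2 fun h => ?_
    rw [hm, hm, Submonoid.coe_mul, Submonoid.coe_mul]
    constructor
    · rintro ⟨t, ht⟩
      exact ⟨t ∘ σ, by rw [ht, Class.monomial_mul_diagonal hσ, mul_assoc, mul_eq_one_comm.1 hinv, mul_one]⟩
    · rintro ⟨t, ht⟩
      refine ⟨t ∘ σ.symm, ?_⟩
      rw [← one_mul (Matrix.diagonal _), ← hinv, mul_assoc, Class.monomial_mul_diagonal hσ,
        Function.comp_assoc, σ.symm_comp_self, Function.comp_id, ← ht]
      simp only [← mul_assoc, hinv, one_mul]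
      rw [mul_assoc, hinv, mul_one]

end Cfsg.Agent.S0777
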