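import Cfsg.Statements.S0778
import Cfsg.Agent.Class.Sp2

set_option autoImplicit false
open Cfsg

namespace Cfsg.Agent.S0778

/-- The elements of Sp_2m(F) stabilising both W = ⟨e_1..e_m⟩ and U = ⟨f_1..f_m⟩ form a subgroup isomorphic to GL_m(F) (block-diagonal matrices diag(X, X^(−ᵀ)) up to the sign convention of J), for m ≥ 1 or m = 0 alike. -/
theorem result {F : Type*} [Field F] (m : ℕ) : Nonempty (↥(Cfsg.stabilizing (Cfsg.spToMat m F) {v : Fin m ⊕ Fin m → F | ∀ i : Fin m, v (Sum.inr i) = 0} ⊓ Cfsg.stabilizing (Cfsg.spToMat m F) {v : Fin m ⊕ Fin m → F | ∀ i : Fin m, v (Sum.inl i) = 0}) ≃* Matrix.GeneralLinearGroup (Fin m) F) := by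
  refine ⟨(Class.equivOfRange _ Class.spLevi_injective ?_).symm⟩
  ext A
  rw [Class.mem_range_spLevi, Subgroup.mem_inf,
    show {v : Fin m ⊕ Fin m → F | ∀ i : Fin m, v (Sum.inr i) = 0} = Class.coord F (fun a : Fin m ⊕ Fin m => a.isRight = true) from
      Set.ext fun v => by simp [Class.mem_coord],
    show {v : Fin m ⊕ Fin m → F | ∀ i : Fin m, v (Sum.inl i) = 0} = Class.coord F (fun a : Fin m ⊕ Fin m => a.isLeft = true) from
      Set.ext fun v => by simp [Class.mem_coord]]
  change _ ↔ Class.spLin m F A ∈ Class.stab _ ∧ Class.spLin m F A ∈ Class.stab _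
  simp [Class.mem_stab_coord (Class.spLin_apply A)]

end Cfsg.Agent.S0778
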