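import Cfsg.Statements.S0780
import Cfsg.Agent.Class.Uni

set_option autoImplicit false
open Cfsg

namespace Cfsg.Agent.S0780

/-- Generation of SU_n(q), n ≥ 3, (n, q) ≠ (3, 2), by unitary transvections: the subgroup generated by the elements whose matrix is x ↦ x + c h(x, v) v with v isotropic is all of SU_n(q). -/
theorem result {F : Type*} [Field F] [Fintype F] {q : ℕ} (hF : Fintype.card F = q ^ 2) (n : ℕ) (hn : 3 ≤ n) (h32 : ¬ (n = 3 ∧ q = 2)) : Subgroup.closure {A : ↥(Cfsg.SU n F q) | ∃ (v : Fin n → F) (c : F), Cfsg.hermForm n F q v v = 0 ∧ ((A : Matrix.SpecialLinearGroup (Fin n) F) : Matrix (Fin n) (Fin n) F) = Cfsg.unitaryTransvection n q v c} = ⊤ := by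
  obtain ⟨σ, h⟩ := Class.exists_UF hF
  have := h.two_le
  have : Nonempty (Fin n) := ⟨⟨0, by omega⟩⟩
  refine Class.closure_eq_top_of_map _ Class.suLin_injective _ ?_
  rw [Class.suLin_range h, ← Class.FS.uTG_eq_SI h (Class.uFS_nondeg h) (by simp; omega)]
  refine Subgroup.closure_mono ?_
  rintro _ ⟨u, c, hu, hc, rfl⟩
  have h1 := Class.FS.EO_le_SI (Class.FS.uT_mem_EO u c hu hc)
  rw [← Class.suLin_range h] at h1
  obtain ⟨A, hA⟩ := h1
  refine ⟨A, ⟨u, c, by rw [← Class.uFS_Q h, hu], Class.matrix_ext_mulVec fun x => ?_⟩, hA⟩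
  rw [← Class.suLin_apply, hA, Class.unitaryTransvection_mulVec h, Class.FS.uT_apply]

end Cfsg.Agent.S0780
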