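import Cfsg.Statements.S0782
import Cfsg.Agent.Class.Uni

set_option autoImplicit false
open Cfsg

namespace Cfsg.Agent.S0782

/-- Maximal parabolics of SU_n(q): if W is a k-dimensional subspace of F^n (n ≥ 1, |F| = q²) on which the Hermitian form vanishes, then (q + 1) times the order of its stabiliser in SU_n(q) equals q^(k(2n−3k)) · |GL_k(q²)| · |GU_(n−2k)(q)|, where |GU_m(q)| = q^(m(m−1)/2) Π_(i=1..m) (q^i − (−1)^i). -/
theorem result {F : Type*} [Field F] [Fintype F] {q : ℕ} (hF : Fintype.card F = q ^ 2) (n k : ℕ) (hn : 1 ≤ n) (hk : 2 * k ≤ n) (W : Submodule F (Fin n → F)) (hWk : Module.finrank F W = k) (hW : ∀ u ∈ W, ∀ v ∈ W, Cfsg.hermForm n F q u v = 0) : (q + 1) * Nat.card ↥((Cfsg.stabilizing (Cfsg.slToMat n F) (W : Set (Fin n → F))).subgroupOf (Cfsg.SU n F q)) = q ^ (k * (2 * n - 3 * k)) * (∏ i : Fin k, ((q ^ 2) ^ k - (q ^ 2) ^ (i : ℕ))) * (q ^ ((n - 2 * k) * ((n - 2 * k) - 1) / 2) * ∏ i ∈ Finset.range (n - 2 * k), (if Even i then q ^ (i + 1) + 1 else q ^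 (i + 1) - 1)) := by
  obtain ⟨σ, h⟩ := Class.exists_UF hF
  have := h.finite
  have : Nonempty (Fin n) := ⟨⟨0, by omega⟩⟩
  have hW' : (Class.uFS h n).TS W :=
    Class.FS.herm_ts.2 fun x hx y hy => by rw [Class.uFS_B, hW y hy x hx]
  have h1 : (Cfsg.stabilizing (Cfsg.slToMat n F) (W : Set (Fin n → F))).subgroupOf (Cfsg.SU n F q) =
      (Class.stab W).comap (Class.suLin F q n) := rfl
  rw [h1, Class.card_comap_of_injective _ Class.suLin_injective, Class.suLin_range h,
    Class.FS.herm_card_stab_SI h (Class.uFS_nondeg h) hW',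
    Class.FS.card_stab_ts' (Class.uFS_nondeg h) hW',
    Class.FS.card_fix_ts' (Class.guCard q) (fun hf => Class.FS.herm_card_Isom h _ hf rfl)
      (Class.uFS_nondeg h) hW', Class.card_linearEquiv, h.card_ker, h.card]
  subst hWk
  have h2 := Class.FS.tsExp_spec (Module.finrank F W) n hk
  have h3 : Module.finrank F W * (2 * n - 3 * Module.finrank F W) =
      2 * Class.FS.tsExp (Module.finrank F W) n + Module.finrank F W := by
    have : 3 * Module.finrank F W ≤ 2 * n := by omega
    zify [this] at h2 ⊢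
    linear_combination -h2
  rw [h3, Module.finrank_fin_fun]
  simp only [Class.guCard, Class.uFac]
  ring

end Cfsg.Agent.S0782
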