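import Cfsg.Statements.S0792
import Cfsg.Agent.Class.Orth4

set_option autoImplicit false
open Cfsg

namespace Cfsg.Agent.S0792

/-- For q odd and Q with non-degenerate polar form on F^n, the determinant-one isometries form the subgroup generated by all products r_u r_v of two reflections (Q(u), Q(v) ≠ 0). -/
theorem result {F : Type*} [Field F] [Fintype F] (h2 : (2 : F) ≠ 0) {n : ℕ} (Q : QuadraticForm F (Fin n → F)) (hQ : (QuadraticMap.polarBilin Q).Nondegenerate) : Cfsg.specialIsometryGroup F ⇑Q = Subgroup.closure {g : ↥(Cfsg.isometryGroup F ⇑Q) | ∃ u v : Fin n → F, Q u ≠ 0 ∧ Q v ≠ 0 ∧ ((g : Matrix.GeneralLinearGroup (Fin n) F) : Matrix (Fin n) (Fin n) F) = Cfsg.reflectionMatrix ⇑Q u * Cfsg.reflectionMatrix ⇑Q v} := by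
  set f := Class.FS.ofQuad Q
  have hf : f.Nondeg := Class.FS.nondeg_of_sep hQ.1
  refine (Class.comap_SOs f).symm.trans ?_
  rw [Class.FS.SOs_eq_closure hf h2, Class.comap_closure_congr]
  congr 1
  ext g
  refine exists₂_congr fun u v => and_congr_right fun _ => and_congr_right fun _ => ?_
  exact (Class.oEquiv_eq_iff f fun x => by
    rw [← Matrix.mulVec_mulVec]
    exact (Class.reflectionMatrix_mulVec f _ _).trans (congrArg _ (Class.reflectionMatrix_mulVec f _ _))).symm

end Cfsg.Agent.S0792
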