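import Cfsg.Statements.S0793
import Cfsg.Agent.Class.Orth4

set_option autoImplicit false
open Cfsg

namespace Cfsg.Agent.S0793

/-- Root elements: if Q(u) = Q(v) = 0 and f(u, v) = 0 (f the polar form), then for every c the Siegel matrix T_(u,v)(c) preserves Q, fixes u and v, and T(c) T(d) = T(c + d). -/
theorem result {F : Type*} [Field F] {n : ℕ} (Q : QuadraticForm F (Fin n → F)) (u v : Fin n → F) (hu : Q u = 0) (hv : Q v = 0) (huv : QuadraticMap.polar ⇑Q u v = 0) : (∀ c x, Q ((Cfsg.siegelMatrix ⇑Q u v c).mulVec x) = Q x) ∧ (∀ c, (Cfsg.siegelMatrix ⇑Q u v c).mulVec u = u ∧ (Cfsg.siegelMatrix ⇑Q u v c).mulVec v = v) ∧ ∀ c d, Cfsg.siegelMatrix ⇑Q u v c * Cfsg.siegelMatrix ⇑Q u v d = Cfsg.siegelMatrix ⇑Q u v (c + d) := by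
  set f := Class.FS.ofQuad Q
  have huv' : f.B u v = 0 := huv
  have h : ∀ c x, (Cfsg.siegelMatrix ⇑Q u v c).mulVec x = (f.ee u (c • v)).1 x := fun c x => by
    refine (Class.siegelMatrix_mulVec f u v x c).trans ?_
    rw [Class.FS.ee_apply hu (by simp [huv'])]
    simp [Class.FS.orth_Q_smul, show f.Q v = 0 from hv, smul_smul, mul_comm]
  refine ⟨fun c x => (congrArg Q (h c x)).trans (Class.FS.Isom_Q (f.ee u (c • v)).2 x), fun c => ⟨?_, ?_⟩,
    fun c d => Class.matrix_ext_mulVec fun x => ?_⟩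
  · rw [h, Class.FS.ee_apply_left]
  · refine (Class.siegelMatrix_mulVec f u v v c).trans ?_
    simp [huv', Class.FS.B_self_of_Q (f := f) hv]
  · rw [← Matrix.mulVec_mulVec, h, h, h, add_smul,
      Class.FS.ee_add hu (by simp [huv']) (by simp [huv'])]
    rfl

end Cfsg.Agent.S0793
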