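import Cfsg.Statements.S0795
import Cfsg.Agent.Class.Orth4

set_option autoImplicit false
open Cfsg

namespace Cfsg.Agent.S0795

/-- Generation of Ω by root elements: for q odd, n ≥ 5 and Q with non-degenerate polar form on F^n, the commutator subgroup of the isometry group equals the subgroup generated by the isometries whose matrices are Siegel transformations T_(u,v)(c) with u, v singular and orthogonal. -/
theorem result {F : Type*} [Field F] [Fintype F] (h2 : (2 : F) ≠ 0) {n : ℕ} (hn : 5 ≤ n) (Q : QuadraticForm F (Fin n → F)) (hQ : (QuadraticMap.polarBilin Q).Nondegenerate) : Cfsg.Omega F ⇑Q = Subgroup.closure {g : ↥(Cfsg.isometryGroup F ⇑Q) | ∃ (u v : Fin n → F) (c : F), Q u = 0 ∧ Q v = 0 ∧ QuadraticMap.polar ⇑Q u v = 0 ∧ ((g : Matrix.GeneralLinearGroup (Fin n) F) : Matrix (Fin n) (Fin n) F) = Cfsg.siegelMatrix ⇑Q u v c} := by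
  set f := Class.FS.ofQuad Q
  have hf : f.Nondeg := Class.FS.nondeg_of_sep hQ.1
  have hn' : 5 ≤ Module.finrank F (Fin n → F) := by simpa using hn
  refine (Class.comap_commutator_congr (Class.oEquiv f)).symm.trans ?_
  rw [← Class.FS.EOs_eq hf (Class.FS.rc_of_two h2) (by omega)]
  have : f.EOs = Subgroup.closure {g | ∃ (u v : Fin n → F) (c : F), f.Q u = 0 ∧ f.Q v = 0 ∧
      f.B u v = 0 ∧ g = f.ee u (c • v)} := by
    refine le_antisymm (Class.FS.EOs_le_of_sing hf hn' fun u v hu hv huv =>
      Subgroup.subset_closure ⟨u, v, 1, hu, hv, huv, by rw [one_smul]⟩) ((Subgroup.closure_le _).2 ?_)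
    rintro _ ⟨u, v, c, -, -, -, rfl⟩
    exact Class.FS.ee_mem_EOs _ _
  rw [this, Class.comap_closure_congr]
  congr 1
  ext g
  exact exists₃_congr fun u v c => and_congr_right fun hu => and_congr_right fun hv =>
    and_congr_right fun huv => (Class.oEquiv_ee_iff f hu hv huv c).symm

end Cfsg.Agent.S0795
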