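import Cfsg.Statements.S0796
import Cfsg.Agent.Class.Lin2

set_option autoImplicit false
open Cfsg

namespace Cfsg.Agent.S0796

/-- If G is finite and acts faithfully and primitively on X, H is the stabiliser of a point, A is a normal subgroup of H whose normal closure in G is G, then for every non-trivial normal subgroup K of G the quotient G ⧸ K is isomorphic to A ⧸ B for some normal subgroup B of A. -/
theorem result {G X : Type*} [Group G] [Finite G] [MulAction G X] [FaithfulSMul G X] (hprim : MulAction.IsPreprimitive G X) (x : X) (A : Subgroup G) (hA : A ≤ MulAction.stabilizer G x) (hAn : (A.subgroupOf (MulAction.stabilizer G x)).Normal) (hgen : Subgroup.normalClosure (A : Set G) = ⊤) (K : Subgroup G) [K.Normal] (hK : K ≠ ⊥) : ∃ (B : Subgroup A) (_ : B.Normal), Nonempty (G ⧸ K ≃* A ⧸ B) := by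
  have htr : MulAction.IsPretransitive K X := by
    refine MulAction.IsQuasiPreprimitive.isPretransitive_of_normal fun h => hK ?_
    refine (Subgroup.eq_bot_iff_forall _).2 fun k hk => eq_of_smul_eq_smul (α := X) fun y => ?_
    rw [one_smul]
    exact (h.ge (Set.mem_univ y) : ∀ k : K, k • y = y) ⟨k, hk⟩
  have h1 : (A ⊔ K).Normal := ⟨fun n hn g => by
    obtain ⟨k, hk⟩ := htr.exists_smul_eq x (g • x)
    have h2 : (k : G)⁻¹ * g ∈ MulAction.stabilizer G x := by
      rw [MulAction.mem_stabilizer_iff, mul_smul, ← hk]; exact inv_smul_smul (k : G) x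
    rw [← SetLike.mem_coe, Subgroup.mul_normal] at hn
    obtain ⟨a, ha, b, hb, rfl⟩ := hn
    have h3 := hAn.conj_mem ⟨a, hA ha⟩ ha ⟨_, h2⟩
    have h4 := mul_mem (mul_mem (mul_mem (Subgroup.mem_sup_right (S := A) k.2) (Subgroup.mem_sup_left h3))
      (Subgroup.mem_sup_right (inv_mem k.2))) (Subgroup.mem_sup_right (‹K.Normal›.conj_mem b hb g))
    simpa [mul_assoc] using h4⟩
  have h2 : A ⊔ K = ⊤ := top_le_iff.1 (hgen ▸ Subgroup.normalClosure_le_normal
    (le_sup_left : A ≤ A ⊔ K))
  let φ := (QuotientGroup.mk' K).comp A.subtype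
  refine ⟨φ.ker, inferInstance, ⟨(QuotientGroup.quotientKerEquivOfSurjective φ fun y => ?_).symm⟩⟩
  obtain ⟨g, rfl⟩ := QuotientGroup.mk_surjective y
  have := h2.ge (Subgroup.mem_top g)
  rw [← SetLike.mem_coe, Subgroup.mul_normal] at this
  obtain ⟨a, ha, b, hb, rfl⟩ := this
  exact ⟨⟨a, ha⟩, by simp [φ, (QuotientGroup.eq_one_iff b).2 hb]⟩

end Cfsg.Agent.S0796
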