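import Cfsg.Statements.S0800
import Cfsg.Agent.Class.Dick3

set_option autoImplicit false
open Cfsg

namespace Cfsg.Agent.S0800

/-- Tori of SL_2(q): if g ∈ SL_2(q) has order coprime to the characteristic p, then the order of g divides q − 1 or q + 1. -/
theorem result {F : Type*} [Field F] [Fintype F] {q : ℕ} (hF : Fintype.card F = q) (p : ℕ) [Fact p.Prime] [CharP F p] (g : Matrix.SpecialLinearGroup (Fin 2) F) (hg : Nat.Coprime (orderOf g) p) : orderOf g ∣ q - 1 ∨ orderOf g ∣ q + 1 := by
  subst hF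
  rcases Class.sl_pow_cases p g with h | h | h
  · have h1 : g ^ (2 * p) = 1 := by
      rw [mul_comm, pow_mul]; rcases h with h | h <;> simp [h]
    have h2 : orderOf g ∣ 2 := hg.dvd_of_dvd_mul_right (orderOf_dvd_of_pow_eq_one h1)
    by_cases hp : p = 2
    · subst hp
      exact Or.inl (by rw [hg.eq_one_of_dvd h2]; simp)
    · obtain ⟨k, hk⟩ := Class.odd_of_two_ne_zero (mt (Class.two_eq_zero_iff (F := F) p).1 hp)
      exact Or.inr (h2.trans (by omega))
  · exact Or.inl (orderOf_dvd_of_pow_eq_one h)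
  · exact Or.inr (orderOf_dvd_of_pow_eq_one h)

end Cfsg.Agent.S0800
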