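import Cfsg.Statements.S0801
import Cfsg.Agent.Class.Dick4

set_option autoImplicit false
open Cfsg

namespace Cfsg.Agent.S0801

open Matrix in
theorem tr_cases {F : Type*} [Field F] {g : SpecialLinearGroup (Fin 2) F} (h0 : g.1 0 1 ≠ 0)
    (h : (g ^ 2 = 1 ∨ g ^ 2 = -1) ∨ (g ^ 3 = 1 ∨ g ^ 3 = -1) ∨ (g ^ 5 = 1 ∨ g ^ 5 = -1)) :
    g.1.trace = 0 ∨ g.1.trace ^ 2 = 1 ∨ g.1.trace ^ 4 - 3 * g.1.trace ^ 2 + 1 = 0 := by
  have h2 : g.1 ^ 2 = g.1.trace • g.1 - 1 := by rw [sq, Class.sl2_sq]
  have h3 : g.1 ^ 3 = (g.1.trace ^ 2 - 1) • g.1 - g.1.trace • 1 := by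
    rw [pow_succ, h2, sub_mul, smul_mul_assoc, Class.sl2_sq, one_mul]; module
  have h4 : g.1 ^ 4 = (g.1.trace ^ 3 - 2 * g.1.trace) • g.1 - (g.1.trace ^ 2 - 1) • 1 := by
    rw [pow_succ, h3, sub_mul, smul_mul_assoc, smul_mul_assoc, Class.sl2_sq, one_mul]; module
  have h5 : g.1 ^ 5 = (g.1.trace ^ 4 - 3 * g.1.trace ^ 2 + 1) • g.1 -
      (g.1.trace ^ 3 - 2 * g.1.trace) • 1 := by
    rw [pow_succ, h4, sub_mul, smul_mul_assoc, smul_mul_assoc, Class.sl2_sq, one_mul]; module
  have key : ∀ n, g ^ n = 1 ∨ g ^ n = -1 → (g.1 ^ n) 0 1 = 0 := by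
    rintro n (h | h)
    · have : g.1 ^ n = 1 := congrArg Subtype.val h
      simp [this]
    · have : g.1 ^ n = -1 := congrArg Subtype.val h
      simp [this]
  rcases h with h | h | h
  · exact Or.inl (by simpa [h2, h0] using key _ h)
  · exact Or.inr (Or.inl (by simpa [h3, h0, sub_eq_zero] using key _ h))
  · exact Or.inr (Or.inr (by simpa [h5, h0] using key _ h))

/-- An orbit of `SL₂(5)` on the vectors of the plane over the field with nine elements. -/
def T (a b c d : ZMod 3) : Bool :=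
  Nat.testBit 762828073181388188904526 (a.val + 3 * b.val + 9 * c.val + 27 * d.val)

open Matrix in
theorem ne_top {F : Type*} [Field F] [CharP F 3] {lam : F} (h : lam ^ 2 = -1) :
    Subgroup.closure {Class.slL (1 : F), Class.slU lam} ≠ ⊤ := by
  intro htop
  let j := ZMod.castHom (dvd_refl 3) F
  let P : (Fin 2 → F) → Prop := fun w => ∃ a b c d, T a b c d ∧
    w = ![j a + j b * lam, j c + j d * lam]
  have h3 : ((3 : ℕ) : F) = 0 := CharP.cast_eq_zero F 3
  have hs : ∀ (g : SpecialLinearGroup (Fin 2) F) (w : Fin 2 → F), g • w = g.1 *ᵥ w :=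
    fun _ _ => rfl
  have key : ∀ g : SpecialLinearGroup (Fin 2) F, g ^ 3 = 1 → (∀ w, P w → P (g • w)) →
      ∀ w, P w ↔ P (g • w) := fun g hg h1 w => ⟨h1 w, fun h2 => by
    have := h1 _ (h1 _ h2)
    rwa [← mul_smul, ← mul_smul, ← pow_three', hg, one_smul] at this⟩
  have hall : ∀ g ∈ Subgroup.closure {Class.slL (1 : F), Class.slU lam}, ∀ w, P w ↔ P (g • w) := by
    intro g hg
    induction hg using Subgroup.closure_induction with
    | mem g hg =>
      rcases hg with rfl | rfl
      · refine key _ (by rw [Class.slL_pow, h3]; simp) ?_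
        rintro _ ⟨a, b, c, d, h1, rfl⟩
        refine ⟨a, b, a + c, b + d, by revert a b c d; decide, ?_⟩
        ext i; fin_cases i <;> simp [hs, mulVec, dotProduct]; ring
      · refine key _ (by rw [Class.slU_pow, h3]; simp) ?_
        rintro _ ⟨a, b, c, d, h1, rfl⟩
        refine ⟨a - d, b + c, c, d, by revert a b c d; decide, ?_⟩
        ext i; fin_cases i <;> simp [hs, mulVec, dotProduct]
        linear_combination j d * h
    | one => simp
    | mul a b _ _ h1 h2 => intro w; rw [mul_smul, ← h1, ← h2]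
    | inv a _ h1 => intro w; rw [h1 (a⁻¹ • w), smul_inv_smul]
  have hinj : ∀ a b : ZMod 3, j a + j b * lam = 0 → a = 0 ∧ b = 0 := fun a b hab => by
    have : j (a ^ 2 + b ^ 2) = 0 := by
      rw [map_add, map_pow, map_pow]
      linear_combination (j a - j b * lam) * hab + j b ^ 2 * h
    rw [map_eq_zero] at this
    clear hab; revert a b; decide
  have h0 : 1 + lam ≠ 0 := fun h0 => by simpa using hinj 1 1 (by simpa using h0)
  obtain ⟨a, b, c, d, h1, h2⟩ := (hall (Class.sl2 (1 + lam) 0 0 (1 + lam)⁻¹ (by simp [h0]))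
    (htop ▸ Subgroup.mem_top _) ![1, 0]).1 ⟨1, 0, 0, 0, by decide, by simp⟩
  have h4 := congrFun h2 0
  have h5 := congrFun h2 1
  simp [hs, mulVec, dotProduct] at h4 h5
  obtain ⟨rfl, rfl⟩ := hinj c d h5.symm
  obtain ⟨h6, h7⟩ := hinj (a - 1) (b - 1) (by simp only [map_sub, map_one]; linear_combination -h4)
  rw [sub_eq_zero] at h6 h7
  subst h6 h7
  exact absurd h1 (by decide)

/-- Let F be a finite field of odd characteristic and λ ≠ 0 an element generating F as a field. Then the lower and upper unitriangular matrices with off-diagonal entries 1 and λ generate SL_2(F), unless |F| = 9 and λ² = −1, in which case they generate a subgroup of order 120. -/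
theorem result {F : Type*} [Field F] [Fintype F] (h2 : (2 : F) ≠ 0) (lam : F) (hlam : lam ≠ 0) (hgen : Subfield.closure ({lam} : Set F) = ⊤) : (Subgroup.closure {g : Matrix.SpecialLinearGroup (Fin 2) F | (g : Matrix (Fin 2) (Fin 2) F) = !![1, 0; 1, 1] ∨ (g : Matrix (Fin 2) (Fin 2) F) = !![1, lam; 0, 1]} = ⊤ ∧ ¬ (Fintype.card F = 9 ∧ lam ^ 2 = -1)) ∨ (Fintype.card F = 9 ∧ lam ^ 2 = -1 ∧ Nat.card ↥(Subgroup.closure {g : Matrix.SpecialLinearGroup (Fin 2) F | (g : Matrix (Fin 2) (Fin 2) F) = !![1, 0; 1, 1] ∨ (g : Matrix (Fin 2) (Fin 2) F) = !![1, lam; 0, 1]}) = 120) := by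
  have hset : {g : Matrix.SpecialLinearGroup (Fin 2) F | (g : Matrix (Fin 2) (Fin 2) F) = !![1, 0; 1, 1] ∨ (g : Matrix (Fin 2) (Fin 2) F) = !![1, lam; 0, 1]} = {Class.slL 1, Class.slU lam} := by
    ext g
    exact or_congr (Subtype.ext_iff (a1 := g) (a2 := Class.slL 1)).symm
      (Subtype.ext_iff (a1 := g) (a2 := Class.slU lam)).symm
  rw [hset]
  obtain ⟨p, hp⟩ := CharP.exists F
  have : Fact p.Prime := ⟨CharP.char_is_prime F p⟩
  have hp2 : p ≠ 2 := mt (Class.two_eq_zero_iff (F := F) p).2 h2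
  set H := Subgroup.closure {Class.slL (1 : F), Class.slU lam} with hH
  have hL : Class.slL 1 ∈ H := Subgroup.subset_closure (by simp)
  have hU : Class.slU lam ∈ H := Subgroup.subset_closure (by simp)
  have hU' : Class.slU (-lam) ∈ H := Class.slU_neg lam ▸ H.inv_mem hU
  have htr : ∀ a : F, (Class.slL 1 * Class.slU a).1.trace = 2 + a := fun a => by
    simp [Matrix.trace_fin_two]; ring
  rcases Class.dickson_sl p H with ⟨x, hx⟩ | h | ⟨rfl, ⟨e⟩, h⟩ | ⟨R, t, -, h, h'⟩
  · have h1 := hx _ hL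
    have h3 := hx _ hU
    rcases Class.p1_cases x with rfl | ⟨a, rfl⟩
    · simp [Class.smul_pinf_pinf] at h1
    · simp [Class.smul_ppt_ppt, hlam] at h3
  · have : orderOf (Class.slU lam) = p := orderOf_eq_prime (by simp [Class.slU_pow])
      fun h1 => hlam (Class.slU_injective (h1.trans Class.slU_zero.symm))
    exact absurd (this ▸ H.orderOf_dvd_natCard hU) (h hp2)
  · right
    have h3 : (3 : F) = 0 := CharP.cast_eq_zero F 3
    have h60 : Nat.card (H.map Matrix.SpecialLinearGroup.toPGL) = 60 := by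
      rw [Nat.card_congr e.toEquiv, nat_card_alternatingGroup]; simp [Nat.factorial]
    have hl1 : lam ^ 2 ≠ 1 := by
      intro h1
      have h4 : H ≤ (Matrix.SpecialLinearGroup.map (ZMod.castHom (dvd_refl 3) F)).range := by
        rw [hH, Subgroup.closure_le]
        rintro _ (rfl | rfl)
        · exact ⟨Class.slL 1, by ext i j; fin_cases i <;> fin_cases j <;> simp⟩
        · rcases sq_eq_one_iff.1 h1 with rfl | rfl
          · exact ⟨Class.slU 1, by ext i j; fin_cases i <;> fin_cases j <;> simp⟩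
          · exact ⟨Class.slU (-1), by ext i j; fin_cases i <;> fin_cases j <;> simp⟩
      have h5 := (Subgroup.card_map_dvd H Matrix.SpecialLinearGroup.toPGL).trans
        ((Subgroup.card_dvd_of_le h4).trans (Subgroup.card_range_dvd _))
      rw [h60, Class.card_SL2] at h5
      norm_num at h5
    have key : ∀ a : F, a ≠ 0 → a ^ 2 ≠ 1 → Class.slU a ∈ H → (2 + a) ^ 4 = -1 := by
      intro a ha ha1 hU
      have h4 := tr_cases (by simpa using ha) (h _ (H.mul_mem hL hU))
      rw [htr] at h4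
      rcases h4 with h4 | h4 | h4
      · exact absurd (by linear_combination (a + 1) * h4 - (a + 1) * h3) ha1
      · exact absurd (mul_left_cancel₀ ha (by linear_combination (a - 1) * h4 - (a ^ 2 - 1) * h3)) ha1
      · linear_combination h4 + (2 + a) ^ 2 * h3
    have k1 := key lam hlam hl1 hU
    have k2 := key (-lam) (neg_ne_zero.2 hlam) (by simpa using hl1) hU'
    have h4 : lam ^ 2 = -1 := mul_left_cancel₀ hlam (by
      linear_combination k1 - k2 - (5 * lam ^ 3 + 21 * lam) * h3)
    refine ⟨?_, h4, ?_⟩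
    · have h5 : ∀ x : F, x ^ 9 = x := fun x => by
        have : Subfield.closure {lam} ≤ ((frobenius F 3).comp (frobenius F 3)).eqLocusField
            (RingHom.id F) := Subfield.closure_le.2 (by
          intro y hy
          rw [Set.mem_singleton_iff.1 hy]
          change (lam ^ 3) ^ 3 = lam
          linear_combination (lam ^ 7 - lam ^ 5 + lam ^ 3 - lam) * h4)
        have h6 : (x ^ 3) ^ 3 = x := this (hgen ▸ Subfield.mem_top x)
        rwa [← pow_mul] at h6
      have h6 := (FiniteField.forall_pow_eq_one_iff F 8).1 fun x => Units.ext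
        (mul_right_cancel₀ x.ne_zero (by simpa [← pow_succ] using h5 x))
      have h7 := Class.p_dvd_card (F := F) 3
      have h8 : Fintype.card F ≠ 3 := fun h8 => hl1 (by
        have := FiniteField.pow_card_sub_one_eq_one lam hlam
        rwa [h8] at this)
      have := Nat.le_of_dvd (by norm_num) h6
      have : Fintype.card F ≤ 9 := by omega
      interval_cases Fintype.card F <;> simp_all
    · have h5 : -1 ∈ H := by
        have : Finite (H.map Matrix.SpecialLinearGroup.toPGL) :=
          Nat.finite_of_card_ne_zero (by omega)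
        obtain ⟨⟨g', hg'⟩, h5⟩ := exists_prime_orderOf_dvd_card' (G := H.map Matrix.SpecialLinearGroup.toPGL) 2 (by rw [h60]; norm_num)
        rw [Subgroup.orderOf_mk] at h5
        obtain ⟨g, hg, rfl⟩ := hg'
        rw [orderOf_eq_prime_iff, ← map_pow, Class.toPGL_eq_one_iff, sq] at h5
        rcases h5.1 with h6 | h6
        · exact absurd (Class.toPGL_eq_one_iff.2 (Class.sl2_sq_eq_one h2 h6)) h5.2
        · exact h6 ▸ H.mul_mem hg hg
      rw [Class.card_eq_map_mul_inf_ker Matrix.SpecialLinearGroup.toPGL H, h60, inf_eq_right.2,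
        Matrix.SpecialLinearGroup.toPGL_ker, Class.card_center_SL, Fintype.card_fin,
        Nat.gcd_eq_left (by obtain ⟨k, hk⟩ := Class.odd_of_two_ne_zero h2; omega)]
      intro g hg
      rcases Class.toPGL_eq_one_iff.1 hg with rfl | rfl
      · exact H.one_mem
      · exact h5
  · have h1 : lam ∈ R := by
      have h3 := R.sub_mem (h' _ (H.mul_mem hL hU)) (h' _ (H.mul_mem hL hU'))
      rw [htr, htr] at h3
      have h4 : (2 : F) ^ 3 ≠ 0 := pow_ne_zero _ h2
      convert R.div_mem h3 (R.pow_mem (R.add_mem R.one_mem R.one_mem) 3) using 1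
      rw [one_add_one_eq_two]; field_simp; ring
    have h3 : R = ⊤ := top_le_iff.1 (hgen ▸ Subfield.closure_le.2 (by simpa using h1))
    have h4 : H = ⊤ := by
      subst h3
      rw [eq_top_iff]
      intro g _
      convert h (Class.slCongr Subfield.topEquiv.symm ((Class.conjSL t).symm g))
      rw [← MulEquiv.symm_apply_eq]
      rfl
    refine Or.inl ⟨h4, fun ⟨h5, h6⟩ => ?_⟩
    have h7 := Class.p_dvd_card (F := F) p
    rw [h5] at h7
    obtain rfl : p = 3 := (Nat.prime_dvd_prime_iff_eq Fact.out Nat.prime_three).1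
      ((Fact.out : p.Prime).dvd_of_dvd_pow (n := 2) h7)
    exact ne_top h6 h4

end Cfsg.Agent.S0801
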