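import Cfsg.Statements.S0802
import Cfsg.Agent.Class.Dick5

set_option autoImplicit false
open Cfsg

namespace Cfsg.Agent.S0802

/-- PSL_2(p^n) has a subgroup isomorphic to A_4 if and only if it is not the case that p = 2 and n is odd. -/
theorem result {F : Type*} [Field F] [Fintype F] (p n : ℕ) [Fact p.Prime] [CharP F p] (hF : Fintype.card F = p ^ n) : (∃ H : Subgroup (Matrix.ProjectiveSpecialLinearGroup (Fin 2) F), Nonempty (H ≃* alternatingGroup (Fin 4))) ↔ ¬ (p = 2 ∧ Odd n) := by
  classical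
  constructor
  · rintro ⟨H, ⟨e⟩⟩ ⟨rfl, k, rfl⟩
    let f := H.subtype.comp e.symm.toMonoidHom
    have hf : ∀ a, f a = 1 ↔ a = 1 := fun a =>
      map_eq_one_iff f (H.subtype_injective.comp e.symm.injective)
    have d := Class.dk_psl (F := F) 2
    let a : alternatingGroup (Fin 4) :=
      ⟨Equiv.swap 0 1 * Equiv.swap 2 3, Equiv.Perm.mem_alternatingGroup.2 (by decide)⟩
    let b : alternatingGroup (Fin 4) :=
      ⟨Equiv.swap 0 1 * Equiv.swap 0 2, Equiv.Perm.mem_alternatingGroup.2 (by decide)⟩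
    have ha : f a ^ 2 = 1 := by rw [← map_pow, hf]; decide
    obtain ⟨x, hx⟩ := Class.exists_fixed_of_pow_p 2
      (g := Matrix.ProjectiveSpecialLinearGroup.toPGL (f a)) (by rw [← map_pow, ha, map_one])
    rw [Class.toPGL_smul] at hx
    have h1 := d.mem_uni.2 ⟨hx, ha⟩
    have h2 := d.conj_mem_uni h1 (f b)
    rw [← map_mul, ← map_inv, ← map_mul] at h2
    have h3 : f (b * a * b⁻¹) • x = x := by
      by_contra h3
      refine absurd ((hf _).1 (d.uni_free h1 h3 ?_)) (by decide)
      rw [← mul_smul, ← map_mul, show a * (b * a * b⁻¹) = b * a * b⁻¹ * a by decide, map_mul,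
        mul_smul, hx]
    have h4 : f b • x = x := by
      by_contra h4
      exact absurd ((hf _).1 (d.uni_free h2 (Ne.symm h4) h3)) (by decide)
    obtain ⟨χ, h5, -⟩ := d.chi' x
    have h6 : orderOf (χ ⟨f b, h4⟩) = 3 := by
      refine orderOf_eq_prime ?_ fun h => ?_
      · rw [← map_pow, ← map_one χ]
        congr 1
        refine Subtype.ext ?_
        change f b ^ 3 = 1
        rw [← map_pow, hf]; decide
      · have : f b ^ 2 = 1 := (d.mem_uni.1 ((h5 _).1 h)).2
        rw [← map_pow, hf] at this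
        exact absurd this (by decide)
    have h7 := orderOf_dvd_card (x := χ ⟨f b, h4⟩)
    rw [h6, Fintype.card_units, hF, pow_succ, pow_mul] at h7
    have h8 : (2 ^ 2) ^ k % 3 = 1 := by simp [Nat.pow_mod]
    omega
  · intro h
    by_cases h2 : (2 : F) = 0
    · obtain rfl := (Class.two_eq_zero_iff p).1 h2
      obtain ⟨k, rfl⟩ : Even n := by simpa using h
      obtain ⟨ζ, hζ⟩ := exists_prime_orderOf_dvd_card (G := Fˣ) 3 (by
        rw [Fintype.card_units, hF, ← two_mul, pow_mul]
        have h8 : (2 ^ 2) ^ k % 3 = 1 := by simp [Nat.pow_mod]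
        omega)
      have h3 : IsPrimitiveRoot (ζ : F) 3 := IsPrimitiveRoot.coe_units_iff.2 (hζ ▸ IsPrimitiveRoot.orderOf ζ)
      have h4 := h3.geom_sum_eq_zero (by norm_num)
      simp only [Finset.sum_range_succ, Finset.range_zero, Finset.sum_empty] at h4
      obtain ⟨b, h5, h6⟩ := Class.exists_trace_pair (t := (1 : F)) (x := ζ) (y := 0)
        (by linear_combination h4 - ζ * h2)
      exact Class.exists_A4 h5 h6
    · obtain ⟨b, h3, h4⟩ := Class.exists_trace_pair_odd h2 1
      exact Class.exists_A4 h3 h4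

end Cfsg.Agent.S0802
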