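import Cfsg.Statements.S0803
import Cfsg.Agent.Class.Dick5

set_option autoImplicit false
open Cfsg

namespace Cfsg.Agent.S0803

/-- PSL_2(q) has a subgroup isomorphic to S_4 iff q² ≡ 1 (mod 16). -/
theorem result {F : Type*} [Field F] [Fintype F] {q : ℕ} (hF : Fintype.card F = q) : (∃ H : Subgroup (Matrix.ProjectiveSpecialLinearGroup (Fin 2) F), Nonempty (H ≃* Equiv.Perm (Fin 4))) ↔ q ^ 2 % 16 = 1 := by
  subst hF
  obtain ⟨p, hp⟩ := CharP.exists F
  have : Fact p.Prime := ⟨CharP.char_is_prime F p⟩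
  have key : ∀ q : ℕ, q ^ 2 % 16 = 1 ↔ q % 8 = 1 ∨ q % 8 = 7 := fun q => by
    rw [Nat.pow_mod, ← Nat.mod_mod_of_dvd q (by norm_num : 8 ∣ 16)]
    have := Nat.mod_lt q (by norm_num : 0 < 16)
    interval_cases q % 16 <;> simp
  rw [key]
  have hq : 1 < Fintype.card F := Fintype.one_lt_card
  constructor
  · rintro ⟨H, ⟨e⟩⟩
    have h1 : orderOf (e.symm c[0, 1, 2, 3] : Matrix.ProjectiveSpecialLinearGroup (Fin 2) F) = 4 := by
      rw [Subgroup.orderOf_coe, MulEquiv.orderOf_eq, orderOf_eq_iff (by norm_num)]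
      decide
    have h2 := Class.psl_pow_cases p (e.symm c[0, 1, 2, 3] : Matrix.ProjectiveSpecialLinearGroup (Fin 2) F)
    rw [← orderOf_dvd_iff_pow_eq_one, h1] at h2
    rcases h2 with h2 | h2
    · rcases (Nat.dvd_prime Fact.out).1 h2 with h | h
      · omega
      · exact absurd (h ▸ Fact.out : Nat.Prime 4) (by norm_num)
    · rcases Class.gcd_two_cases _ hq.le with ⟨h, h'⟩ | ⟨h, h'⟩ <;> rw [h'] at h2 <;> omega
  · intro h
    have h2 : (2 : F) ≠ 0 := Class.two_ne_zero_of_odd (by rw [Nat.odd_iff]; omega)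
    obtain ⟨t, ht⟩ := (FiniteField.isSquare_two_iff (F := F)).2 (by omega)
    obtain ⟨b, h3, h4⟩ := Class.exists_trace_pair_odd h2 t
    exact Class.exists_S4 h2 (by rw [ht, sq]) h3 h4

end Cfsg.Agent.S0803
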