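import Cfsg.Statements.S0805
import Cfsg.Agent.Class.Dick5

set_option autoImplicit false
open Cfsg

namespace Cfsg.Agent.S0805

/-- Subfield subgroups: let F be a finite field of odd order q and K a finite field with |K|^m = q, m ≥ 1. Then PSL_2(F) has a subgroup isomorphic to PSL_2(K), and has a subgroup isomorphic to PGL_2(K) if and only if m is even. -/
theorem result {F K : Type*} [Field F] [Fintype F] [Field K] [Fintype K] {q : ℕ} (hF : Fintype.card F = q) (hodd : Odd q) (m : ℕ) (hm : 1 ≤ m) (hK : Fintype.card K ^ m = q) : (∃ H : Subgroup (Matrix.ProjectiveSpecialLinearGroup (Fin 2) F), Nonempty (H ≃* Matrix.ProjectiveSpecialLinearGroup (Fin 2) K)) ∧ ((∃ H : Subgroup (Matrix.ProjectiveSpecialLinearGroup (Fin 2) F), Nonempty (H ≃* Matrix.ProjGenLinGroup (Fin 2) K)) ↔ Even m) := by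
  subst hF
  obtain ⟨j⟩ := Class.exists_subfield_of_pow hK
  have hKodd : Odd (Fintype.card K) := by
    rw [← hK] at hodd
    exact (Nat.odd_pow_iff (by omega)).1 hodd
  have key : ∀ {G : Type _} [Group G] (f : G →* Matrix.ProjGenLinGroup (Fin 2) K),
      Function.Injective f → (∀ g, Matrix.ProjGenLinGroup.map j (f g) ∈
        (Matrix.ProjectiveSpecialLinearGroup.toPGL (n := Fin 2) (R := F)).range) →
      ∃ H : Subgroup (Matrix.ProjectiveSpecialLinearGroup (Fin 2) F), Nonempty (H ≃* G) := by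
    intro G _ f hf h
    let φ := (MonoidHom.ofInjective Matrix.ProjectiveSpecialLinearGroup.toPGL_injective).symm.toMonoidHom.comp
      (((Matrix.ProjGenLinGroup.map j).comp f).codRestrict _ h)
    have hφ : Function.Injective φ := fun a b hab => hf (Class.pgl_map_injective j
      (congrArg Subtype.val ((MonoidHom.ofInjective
        Matrix.ProjectiveSpecialLinearGroup.toPGL_injective).symm.injective hab) :))
    exact ⟨φ.range, ⟨(MonoidHom.ofInjective hφ).symm⟩⟩
  refine ⟨key _ Matrix.ProjectiveSpecialLinearGroup.toPGL_injective fun g => ?_, ?_, ?_⟩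
  · induction g using QuotientGroup.induction_on with | H A =>
    exact ⟨Matrix.SpecialLinearGroup.map j A, congrArg _ (Class.toGL_map j A)⟩
  · rintro ⟨H, ⟨e⟩⟩
    by_contra hm'
    obtain ⟨k, rfl⟩ := Nat.not_even_iff_odd.1 hm'
    have h1 := H.card_subgroup_dvd_card
    have h2 := Class.card_PSL2 (F := F)
    rw [Nat.card_congr e.toEquiv, Class.card_PGL2] at h1
    rw [Nat.gcd_eq_left (by obtain ⟨l, hl⟩ := hodd; omega)] at h2
    replace h1 := Nat.mul_dvd_mul_left 2 h1
    rw [h2, ← hK, ← pow_mul, mul_comm (2 * k + 1), pow_mul] at h1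
    set r := Fintype.card K
    have h3 : 1 < r ^ 2 := Nat.one_lt_pow two_ne_zero Fintype.one_lt_card
    obtain ⟨s, hs⟩ : ∃ s, r ^ 2 = s + 1 := ⟨r ^ 2 - 1, by omega⟩
    rw [hs, ← geom_sum_mul_add, Nat.add_sub_cancel, Nat.add_sub_cancel, ← mul_assoc, ← mul_assoc,
      Nat.mul_dvd_mul_iff_right (by omega), ← hs] at h1
    have h4 := (dvd_mul_right 2 r).trans h1
    have h5 : (∑ i ∈ Finset.range (2 * k + 1), (r ^ 2) ^ i) % 2 = 1 := by
      rw [Finset.sum_nat_mod]
      simp [Nat.pow_mod, Nat.odd_iff.1 hKodd]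
    rw [Nat.prime_two.dvd_mul, ← even_iff_two_dvd, ← Nat.not_odd_iff_even] at h4
    rcases h4 with h4 | h4
    · exact h4 hKodd.pow
    · omega
  · rintro ⟨k, rfl⟩
    refine key (MonoidHom.id _) Function.injective_id fun g => ?_
    cases g with | mk A =>
    refine Class.mem_range_toPGL.2 ?_
    have h1 : (Matrix.GeneralLinearGroup.map j A).1.det = j A.1.det := (j.map_det A.1).symm
    obtain ⟨u, hu⟩ := (FiniteField.isSquare_iff (F := F) (a := j A.1.det) (fun h => by
      have := FiniteField.even_card_of_char_two h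
      rw [Nat.odd_iff] at hodd; omega) (by simpa using A.det_ne_zero)).2 (by
        obtain ⟨l, hl⟩ := hKodd
        obtain ⟨c, hc⟩ := Nat.sub_dvd_pow_sub_pow (Fintype.card K ^ 2) 1 k
        have h2 : Fintype.card F / 2 = (Fintype.card K - 1) * ((l + 1) * c) := by
          have h3 : (2 * l + 1) ^ 2 - 1 = 2 * (2 * l * (l + 1)) := Nat.sub_eq_of_eq_add (by ring)
          rw [← pow_mul, two_mul, hK, one_pow, hl, h3, mul_assoc] at hc
          rw [hl, Nat.add_sub_cancel, ← mul_assoc]
          rw [Nat.odd_iff] at hodd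
          omega
        rw [h2, pow_mul, ← map_pow, FiniteField.pow_card_sub_one_eq_one _ A.det_ne_zero]
        simp)
    exact ⟨u, by rw [h1, hu]; simp [sq]⟩

end Cfsg.Agent.S0805
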