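import Cfsg.Statements.S0806
import Cfsg.Agent.Class.Dick5

set_option autoImplicit false
open Cfsg

namespace Cfsg.Agent.S0806

/-- Minimal index (Galois): if q ∉ {2, 3, 5, 7, 9, 11} then every proper subgroup of PSL_2(q) has index ≥ q + 1, and some subgroup has index exactly q + 1. -/
theorem result {F : Type*} [Field F] [Fintype F] {q : ℕ} (hF : Fintype.card F = q) (hq : q ∉ ({2, 3, 5, 7, 9, 11} : Finset ℕ)) : (∀ H : Subgroup (Matrix.ProjectiveSpecialLinearGroup (Fin 2) F), H ≠ ⊤ → q + 1 ≤ H.index) ∧ ∃ H : Subgroup (Matrix.ProjectiveSpecialLinearGroup (Fin 2) F), H.index = q + 1 := by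
  subst hF
  obtain ⟨p, hp⟩ := CharP.exists F
  have : Fact p.Prime := ⟨CharP.char_is_prime F p⟩
  refine ⟨fun H hH => ?_, _, (Class.index_stabilizer_psl (Class.pinf F)).trans
    (by rw [Nat.card_eq_fintype_card])⟩
  have h1 := Class.card_PSL2 (F := F)
  have h2 := H.card_mul_index
  have h0 : 0 < Nat.card H := Nat.card_pos
  have hq1 : 1 < Fintype.card F := Fintype.one_lt_card
  obtain ⟨n, -, hn⟩ := FiniteField.card F p
  have hq' : Fintype.card F = 4 ∨ Fintype.card F = 8 ∨ 13 ≤ Fintype.card F := by
    have h3 : IsPrimePow (Fintype.card F) := hn ▸ (Fact.out : p.Prime).isPrimePow.pow n.ne_zero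
    by_contra h4
    have : Fintype.card F < 13 := by omega
    interval_cases Fintype.card F <;> first | omega | exact absurd h3 (by decide) | simp at hq
  generalize hd : Nat.gcd 2 (Fintype.card F - 1) = d at h1
  have hd' := hd ▸ Class.gcd_two_cases _ hq1.le
  obtain ⟨k, hk⟩ : ∃ k, Fintype.card F = k + 1 := ⟨Fintype.card F - 1, by omega⟩
  have h3 : (k + 1) ^ 2 - 1 = k * (k + 2) := Nat.sub_eq_of_eq_add (by ring)
  have key : d * Nat.card H ≤ (k + 1) * k → Fintype.card F + 1 ≤ H.index := fun h => by
    rw [hk, h3, ← h2] at h1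
    by_contra h4
    have h5 : H.index ≤ k + 1 := by omega
    have h6 := Nat.mul_le_mul h h5
    have : 0 < (k + 1) * k := Nat.mul_pos (by omega) (by omega)
    nlinarith
  have hdvd : d * Nat.card H ∣ (k + 1) * (k * (k + 2)) := by
    rw [← h3, ← hk, ← h1]; exact Nat.mul_dvd_mul_left _ H.card_subgroup_dvd_card
  rcases Class.dickson_psl p H with ⟨x, hx⟩ | ⟨l, hl, h⟩ | ⟨⟨e⟩⟩ | ⟨⟨e⟩⟩ | ⟨⟨e⟩⟩ | ⟨R, h4, h⟩
  · have := Subgroup.index_dvd_of_le hx
    rw [Class.index_stabilizer_psl, Nat.card_eq_fintype_card] at this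
    exact Nat.le_of_dvd (Nat.pos_of_ne_zero H.index_ne_zero_of_finite) this
  · have h5 : Nat.card H ≤ 2 * l := by
      rcases h with ⟨-, h⟩ | ⟨⟨e⟩⟩
      · omega
      · rw [Nat.card_congr e.toEquiv, DihedralGroup.nat_card]
    have h6 : d * l ≤ k + 2 := by
      rw [hd, hk] at hl
      rcases hd' with ⟨-, rfl⟩ | ⟨-, rfl⟩ <;> rcases hl with hl | hl <;>
        have := Nat.le_of_dvd (by omega) hl <;> omega
    have : 3 ≤ k := by omega
    exact key (by nlinarith)
  · rw [Nat.card_congr e.toEquiv, Class.card_A4] at key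
    refine key ?_
    rcases hq' with h | h | h
    · obtain rfl : k = 3 := by omega
      omega
    · obtain rfl : k = 7 := by omega
      omega
    · have : 12 ≤ k := by omega
      have : d ≤ 2 := by omega
      nlinarith
  · rw [Nat.card_congr e.toEquiv, Class.card_S4] at key hdvd
    refine key ?_
    rcases hq' with h | h | h
    · obtain rfl : k = 3 := by omega
      obtain rfl : d = 1 := by omega
      norm_num at hdvd
    · obtain rfl : k = 7 := by omega
      omega
    · have : 12 ≤ k := by omega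
      have : d ≤ 2 := by omega
      nlinarith
  · rw [Nat.card_congr e.toEquiv, Class.card_A5] at key hdvd h2
    refine key ?_
    rcases hq' with h | h | h
    · obtain rfl : k = 3 := by omega
      obtain rfl : d = 1 := by omega
      rw [hk] at h1
      exact absurd (Subgroup.index_eq_one.1 (by omega)) hH
    · obtain rfl : k = 7 := by omega
      obtain rfl : d = 1 := by omega
      norm_num at hdvd
    · have : 12 ≤ k := by omega
      have : d ≤ 2 := by omega
      nlinarith
  · obtain ⟨m, h5, h6⟩ := (Class.subfield_cases h).resolve_left hH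
    obtain ⟨f, hf⟩ := Class.subfield_embed h
    have := Fintype.ofFinite R
    have : Finite (Matrix.ProjGenLinGroup (Fin 2) R) :=
      Finite.of_surjective _ Matrix.ProjGenLinGroup.mk_surjective
    have h7 := Nat.card_le_card_of_injective f hf
    rw [Class.card_PGL2, ← Nat.card_eq_fintype_card] at h7
    have h8 : Nat.card R ^ 2 ≤ k + 1 := by
      rw [← hk, ← h6]; exact Nat.pow_le_pow_right (by omega) h5
    have h9 : Nat.card R ^ 2 - 1 ≤ k := by omega
    have h10 : Nat.card H ≤ Nat.card R * k := h7.trans (Nat.mul_le_mul_left _ h9)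
    have : d ≤ 2 := by omega
    have : d * Nat.card R ≤ k + 1 := by nlinarith
    exact key (by nlinarith)

end Cfsg.Agent.S0806
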