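import Cfsg.Statements.S0808
import Cfsg.Agent.Class.Dick6

set_option autoImplicit false
open Cfsg

namespace Cfsg.Agent.S0808

/-- Conjugacy classes of four-groups in PSL_2(q), q odd: if q ≡ 3 or 5 (mod 8) all Klein four-subgroups are conjugate; if q ≡ 1 or 7 (mod 8) there are two Klein four-subgroups which are not conjugate, and every Klein four-subgroup is conjugate to one of them. -/
theorem result {F : Type*} [Field F] [Fintype F] {q : ℕ} (hF : Fintype.card F = q) (hodd : Odd q) : ((q % 8 = 3 ∨ q % 8 = 5) → ∀ V W : Subgroup (Matrix.ProjectiveSpecialLinearGroup (Fin 2) F), IsKleinFour V → IsKleinFour W → ∃ g : Matrix.ProjectiveSpecialLinearGroup (Fin 2) F, W = V.map (MulAut.conj g).toMonoidHom) ∧ ((q % 8 = 1 ∨ q % 8 = 7) → ∃ V₁ V₂ : Subgroup (Matrix.ProjectiveSpecialLinearGroup (Fin 2) F), IsKleinFour V₁ ∧ IsKleinFour V₂ ∧ (¬ ∃ g : Matrix.ProjectiveSpecialLinearGroup (Fin 2) F, V₂ = V₁.map (MulAut.conj g).toMonoidHom) ∧ ∀ W : Subgroup (Matrix.ProjectiveSpecialLinearGroup (Fin 2) F), IsKleinFour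 W → (∃ g : Matrix.ProjectiveSpecialLinearGroup (Fin 2) F, W = V₁.map (MulAut.conj g).toMonoidHom) ∨ (∃ g : Matrix.ProjectiveSpecialLinearGroup (Fin 2) F, W = V₂.map (MulAut.conj g).toMonoidHom)) := by
  subst hF
  have h2 := Class.two_ne_zero_of_odd hodd
  constructor
  · intro h V W hV hW
    obtain ⟨a, b, h3, rfl⟩ := Class.exists_qp_of_isKleinFour h2 hV
    obtain ⟨c, d, h4, rfl⟩ := Class.exists_qp_of_isKleinFour h2 hW
    obtain ⟨t, rfl, rfl⟩ := Class.qp_conj h2 h3 h4
    by_cases h5 : IsSquare t.1.det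
    · exact Class.fourOf_conjSL h5 a b
    obtain ⟨s, h6, -, h7, h8⟩ := h3.exists_rot h2
    have h9 := Class.fourOf_conjSL (t := t * s) (by
      rw [Units.val_mul, Matrix.det_mul, h6]
      exact Class.isSquare_mul_of_not h5 (by rw [FiniteField.isSquare_two_iff]; omega)) a b
    rwa [Class.conjSL_mul, Class.conjSL_mul, h7, h8, map_mul, Class.fourOf_mul] at h9
  · intro h
    obtain ⟨b, -, hb⟩ := isConj_iff.1 (Class.isConj_of_sq_eq_neg_one h2 Class.slJ_sq
      (b := -Class.slJ F) (by simp [Class.slJ_sq])) |>.imp fun b hb => And.intro trivial hb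
    have h3 := Class.qp_of_anti h2 Class.slJ_sq (by simpa using mul_inv_eq_iff_eq_mul.1 hb)
    generalize Class.slJ F = a at h3
    obtain ⟨ε, hε⟩ := FiniteField.exists_nonsquare (F := F) (fun h => by
      have := FiniteField.even_card_of_char_two h
      rw [Nat.odd_iff] at hodd; omega)
    have hε0 : ε ≠ 0 := by rintro rfl; simp at hε
    let δ := Class.gl2 ε 0 0 1 (by simpa using hε0)
    have key : ∀ W : Subgroup (Matrix.ProjectiveSpecialLinearGroup (Fin 2) F), IsKleinFour W →
        (∃ g, W = (Class.fourOf a b).map (MulAut.conj g).toMonoidHom) ∨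
        ∃ g, W = (Class.fourOf (Class.conjSL δ a) (Class.conjSL δ b)).map (MulAut.conj g).toMonoidHom := by
      intro W hW
      obtain ⟨c, d, h4, rfl⟩ := Class.exists_qp_of_isKleinFour h2 hW
      obtain ⟨t, rfl, rfl⟩ := Class.qp_conj h2 (h3.conj δ) h4
      by_cases h5 : IsSquare t.1.det
      · exact Or.inr (Class.fourOf_conjSL h5 _ _)
      · left
        rw [← Class.conjSL_mul, ← Class.conjSL_mul]
        refine Class.fourOf_conjSL ?_ a b
        rw [Units.val_mul, Matrix.det_mul]
        exact Class.isSquare_mul_of_not h5 (by simpa [δ] using hε)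
    refine ⟨_, _, h3.isKleinFour h2, (h3.conj δ).isKleinFour h2, fun ⟨g, hg⟩ => ?_, key⟩
    set V := Class.fourOf a b with hV
    have hV' : IsKleinFour V := h3.isKleinFour h2
    set N := Subgroup.normalizer (V : Set (Matrix.ProjectiveSpecialLinearGroup (Fin 2) F))
    have hmul : ∀ x y, (V.map (MulAut.conj y).toMonoidHom).map (MulAut.conj x).toMonoidHom =
        V.map (MulAut.conj (x * y)).toMonoidHom := fun x y => by
      rw [Subgroup.map_map, map_mul]; rfl
    have hN : ∀ x, x ∈ N ↔ V.map (MulAut.conj x).toMonoidHom = V := fun x =>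
      Subgroup.mem_normalizer_iff_map_conj_eq
    have h4 := Class.card_eq_mul_of_fibers (k := Nat.card N)
      (β := {V : Subgroup (Matrix.ProjectiveSpecialLinearGroup (Fin 2) F) // IsKleinFour V})
      (fun x => ⟨V.map (MulAut.conj x).toMonoidHom, Inv.kf_cj hV' x⟩) (by
        rintro ⟨W, hW⟩
        obtain ⟨x, rfl⟩ : ∃ x, W = V.map (MulAut.conj x).toMonoidHom := by
          rcases key W hW with h | ⟨x, rfl⟩
          · exact h
          · exact ⟨x * g, by rw [hg, hmul]⟩
        refine Nat.card_congr ((Equiv.mulLeft x⁻¹).subtypeEquiv fun y => ?_)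
        rw [Subtype.ext_iff, hN, Equiv.coe_mulLeft, ← hmul]
        change V.map _ = V.map _ ↔ _
        constructor
        · intro h
          rw [h, hmul, inv_mul_cancel]; exact (hN 1).1 N.one_mem
        · intro h
          have h' := congrArg (Subgroup.map (MulAut.conj x).toMonoidHom) h
          rwa [hmul, hmul, mul_inv_cancel_left] at h')
    have h5 := Class.card_kleinFour_psl h2
    have h6 : Nat.card N = 12 := by
      have : Nonempty {V : Subgroup (Matrix.ProjectiveSpecialLinearGroup (Fin 2) F) // IsKleinFour V} :=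
        ⟨⟨V, hV'⟩⟩
      exact Nat.eq_of_mul_eq_mul_right Nat.card_pos (h4.symm.trans h5.symm)
    obtain ⟨s, h7, h8, h9, h10⟩ := h3.exists_rot h2
    obtain ⟨u, hu⟩ := (FiniteField.isSquare_two_iff (F := F)).2 (by omega)
    obtain ⟨r, h11, h12⟩ := Class.exists_sl_of_sq (h7.trans hu)
    have h13 : r * r = a := Subtype.ext (smul_right_injective _ h2 (by
      change (2 : F) • (r.1 * r.1) = (2 : F) • a.1
      rw [← h8, h11, hu, smul_mul_smul_comm]))
    have h14 : (r : Matrix.ProjectiveSpecialLinearGroup (Fin 2) F) ∈ N := by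
      rw [hN, hV, ← Class.fourOf_conj, ← h12, ← h12, h9, h10, Class.fourOf_mul]
    have h15 := (V.subgroupOf N).card_mul_index
    rw [Nat.card_congr (Subgroup.subgroupOfEquivOfLe Subgroup.le_normalizer).toEquiv,
      Inv.kf_card hV', h6] at h15
    have h16 := (V.subgroupOf N).pow_index_mem ⟨_, h14⟩
    rw [show (V.subgroupOf N).index = 2 + 1 by omega, Subgroup.mem_subgroupOf, Subgroup.coe_pow,
      Subgroup.coe_mk, pow_succ, sq, ← QuotientGroup.mk_mul, h13,
      Subgroup.mul_mem_cancel_left V (Subgroup.mem_sup_left (Subgroup.mem_zpowers _))] at h16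
    have h17 := Inv.kf_sq hV' h16
    rw [← QuotientGroup.mk_mul, h13] at h17
    simpa [h17] using ((Class.qp_iff h2).1 h3).1

end Cfsg.Agent.S0808
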