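import Cfsg.Statements.S0809
import Cfsg.Agent.Class.Dick6

set_option autoImplicit false
open Cfsg

namespace Cfsg.Agent.S0809

/-- In SL_2(q), q odd: any two subgroups of order 4 are conjugate, and the normaliser of a subgroup of order 4 has order 2(q − 1) if q ≡ 1 (mod 4) and 2(q + 1) if q ≡ 3 (mod 4); consequently all involutions of PSL_2(q) are conjugate. -/
theorem result {F : Type*} [Field F] [Fintype F] {q : ℕ} (hF : Fintype.card F = q) (hodd : Odd q) (A : Subgroup (Matrix.SpecialLinearGroup (Fin 2) F)) (hA : Nat.card A = 4) : (∀ B : Subgroup (Matrix.SpecialLinearGroup (Fin 2) F), Nat.card B = 4 → ∃ g : Matrix.SpecialLinearGroup (Fin 2) F, B = A.map (MulAut.conj g).toMonoidHom) ∧ (q % 4 = 1 → Nat.card ↥(Subgroup.normalizer (A : Set (Matrix.SpecialLinearGroup (Fin 2) F))) = 2 * (q - 1)) ∧ (q % 4 = 3 → Nat.card ↥(Subgroup.normalizer (A : Set (Matrix.SpecialLinearGroup (Fin 2) F))) = 2 * (q + 1)) ∧ (∀ x y : Matrix.ProjectiveSpecialLinearGroup (Fin 2) F, orderOf x = 2 → orderOf y = 2 → IsConj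 x y) := by
  classical
  subst hF
  have h2 := Class.two_ne_zero_of_odd hodd
  have key : ∀ B : Subgroup (Matrix.SpecialLinearGroup (Fin 2) F), Nat.card B = 4 →
      ∃ b, b * b = -1 ∧ B = Subgroup.zpowers b := by
    intro B hB
    rcases Class.cyclic_or_quaternion_sl2 h2 (IsPGroup.of_card (n := 2) hB) B.subtype
      B.subtype_injective with h | ⟨k, hk, ⟨e⟩⟩
    · obtain ⟨b, rfl⟩ := Inv.isCyclic_iff_zpowers.1 h
      rw [Nat.card_zpowers] at hB
      refine ⟨b, (Class.sl2_sq_eq_one h2 ?_).resolve_left fun h => ?_, rfl⟩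
      · rw [← sq, ← sq, ← pow_mul, ← pow_orderOf_eq_one b, hB]
      · have := orderOf_le_of_pow_eq_one two_pos ((sq b).trans h)
        omega
    · have : NeZero (2 ^ k) := ⟨by positivity⟩
      rw [Nat.card_congr e.toEquiv, Nat.card_eq_fintype_card, QuaternionGroup.card] at hB
      have := Nat.pow_le_pow_right two_pos hk
      omega
  obtain ⟨a, ha, rfl⟩ := key A hA
  have h3 : Nat.card (Subgroup.normalizer (Subgroup.zpowers a : Set (Matrix.SpecialLinearGroup (Fin 2) F))) =
      2 * Nat.card (Subgroup.centralizer {a}) := by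
    have h4 : ∀ g, g ∈ Subgroup.normalizer (Subgroup.zpowers a : Set (Matrix.SpecialLinearGroup (Fin 2) F)) ↔
        g * a * g⁻¹ = a ∨ g * a * g⁻¹ = -a := fun g => by
      have h5 : -a = a⁻¹ := eq_inv_of_mul_eq_one_left (by simp [ha])
      rw [Subgroup.mem_normalizer_iff_map_conj_eq, MonoidHom.map_zpowers]
      constructor
      · intro h
        have h6 : g * a * g⁻¹ ∈ Subgroup.zpowers a := h.le (Subgroup.mem_zpowers _)
        have h7 : g * a * g⁻¹ * (g * a * g⁻¹) = -1 := by simp [mul_assoc, ← mul_assoc a, ha]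
        have h8 := Class.sl2_neg_one_ne h2
        rw [mem_zpowers_iff_mem_range_orderOf, ← Nat.card_zpowers, hA] at h6
        simp only [Finset.mem_image, Finset.mem_range] at h6
        obtain ⟨k, hk, h6⟩ := h6
        rw [← h6] at h7 ⊢
        interval_cases k <;> simp [pow_succ, ha, h8.symm] at h7 ⊢
      · rintro (h | h)
        · exact congrArg _ h
        · exact (congrArg _ (h.trans h5)).trans Subgroup.zpowers_inv
    have h5 := Inv.card_conjugators (IsConj.refl a)
    have h6 := Inv.card_conjugators (Class.isConj_of_sq_eq_neg_one h2 ha (b := -a) (by simpa using ha))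
    rw [two_mul, Nat.card_congr (Equiv.subtypeEquivRight h4), Nat.card_congr (subtypeOrEquiv _ _ (by
      rw [Pi.disjoint_iff]
      intro g
      rw [Prop.disjoint_iff]
      rintro ⟨h7, h8⟩
      exact Class.sl2_neg_one_ne h2 (mul_left_cancel (a := a) (by simpa using h8.symm.trans h7)))),
      Nat.card_sum, h5, h6]
  have h4 := Class.card_centralizer_of_sq h2 ha
  refine ⟨fun B hB => ?_, fun h => by rw [h3, h4.1 h], fun h => by rw [h3, h4.2 h], fun x y hx hy => ?_⟩
  · obtain ⟨b, hb, rfl⟩ := key B hB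
    obtain ⟨g, rfl⟩ := isConj_iff.1 (Class.isConj_of_sq_eq_neg_one h2 ha hb)
    exact ⟨g, by simp⟩
  · induction x using QuotientGroup.induction_on with | H x =>
    induction y using QuotientGroup.induction_on with | H y =>
    exact (QuotientGroup.mk' _).map_isConj (Class.isConj_of_sq_eq_neg_one h2
      ((Class.orderOf_psl_eq_two h2).1 hx) ((Class.orderOf_psl_eq_two h2).1 hy))

end Cfsg.Agent.S0809
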