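import Cfsg.Statements.S0810
import Cfsg.Agent.Class.Dick5

set_option autoImplicit false
open Cfsg

namespace Cfsg.Agent.S0810

theorem hns {K : Type*} [Field K] [Fintype K] (h4 : 4 ≤ Fintype.card K) :
    ¬ Group.IsSolvable (Matrix.ProjectiveSpecialLinearGroup (Fin 2) K) := by
  intro h
  have := Matrix.ProjectiveSpecialLinearGroup.rank_two_simple (F := K) (by simpa using h4)
  have h2 := IsSimpleGroup.comm_iff_isSolvable.2 h (Class.slU (1 : K)) (Class.slL (1 : K))
  rw [← QuotientGroup.mk_mul, ← QuotientGroup.mk_mul, Class.psl_eq_iff] at h2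
  rcases h2 with h2 | h2
  · simpa using congrArg (fun A : Matrix.SpecialLinearGroup (Fin 2) K => A.1 0 0) h2
  · have h3 := congrArg (fun A : Matrix.SpecialLinearGroup (Fin 2) K => A.1 0 0) h2
    have h5 := congrArg (fun A : Matrix.SpecialLinearGroup (Fin 2) K => A.1 0 1) h2
    simp at h3 h5
    exact one_ne_zero (by linear_combination h3 - h5 : (1 : K) = 0)

/-- PSL_2(q) is minimal simple iff q is 2^r (r prime), 3^r (r an odd prime), a prime greater than 5 congruent to 2 or 3 mod 5, or 5. -/
theorem result {F : Type*} [Field F] [Fintype F] {q : ℕ} (hF : Fintype.card F = q) : Cfsg.IsMinimalSimple (Matrix.ProjectiveSpecialLinearGroup (Fin 2) F) ↔ ((∃ r : ℕ, r.Prime ∧ q = 2 ^ r) ∨ (∃ r : ℕ, r.Prime ∧ r ≠ 2 ∧ q = 3 ^ r) ∨ (q.Prime ∧ 5 < q ∧ (q % 5 = 2 ∨ q % 5 = 3)) ∨ q = 5) := by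
  subst hF
  obtain ⟨p, hp⟩ := CharP.exists F
  have hpp : p.Prime := CharP.char_is_prime F p
  have : Fact p.Prime := ⟨hpp⟩
  have hq1 : 1 < Fintype.card F := Fintype.one_lt_card
  have h1 := Class.card_PSL2 (F := F)
  obtain ⟨n, -, hn⟩ := FiniteField.card F p
  have hd := Class.gcd_two_cases _ hq1.le
  have hA5 : ¬ Group.IsSolvable (alternatingGroup (Fin 5)) := fun h =>
    absurd (IsSimpleGroup.comm_iff_isSolvable.2 h) (by decide +kernel)
  have h60 : Nat.card (Matrix.ProjectiveSpecialLinearGroup (Fin 2) F) = 60 ↔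
      Fintype.card F = 4 ∨ Fintype.card F = 5 := by
    constructor
    · intro h
      rw [h] at h1
      have : Fintype.card F ≤ 5 := by
        by_contra h2
        have : 35 ≤ Fintype.card F ^ 2 - 1 := Nat.le_sub_of_add_le (by nlinarith)
        rcases hd with ⟨-, h3⟩ | ⟨-, h3⟩ <;> rw [h3] at h1 <;> nlinarith
      interval_cases Fintype.card F <;> simp at h1 ⊢
    · rintro (h | h) <;> rw [h] at h1 <;> norm_num at h1 <;> omega
  constructor
  · rintro ⟨h2, h3, h4⟩
    have h5 : 4 ≤ Fintype.card F := by
      by_contra h5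
      have : Nat.card (Matrix.ProjectiveSpecialLinearGroup (Fin 2) F) ∣ 24 := by
        have : Fintype.card F = 2 ∨ Fintype.card F = 3 := by omega
        rcases this with h | h <;> rw [h] at h1 <;> norm_num at h1
        · rw [h1]; norm_num
        · rw [← h1]; exact dvd_mul_left _ _
      exact h3 ⟨⟨IsSimpleGroup.comm_iff_isSolvable.2 (Class.isSolvable_of_card_dvd_24 this)⟩⟩
    have h6 : 5 ∣ Fintype.card F * (Fintype.card F ^ 2 - 1) →
        Fintype.card F = 4 ∨ Fintype.card F = 5 := fun h => by
      obtain ⟨H, ⟨e⟩⟩ := Class.exists_A5_of_dvd h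
      by_contra h6
      have := h4 H fun h7 => h6 (h60.1 (by
        rw [← Subgroup.card_top, ← h7, Nat.card_congr e.toEquiv, Class.card_A5]))
      exact hA5 (Group.isSolvable_of_surjective (f := e.toMonoidHom) e.surjective)
    have h7 : ∀ a, a ∣ (n : ℕ) → a ≠ n → p ^ a < 4 := fun a ⟨m, hm⟩ ha => by
      have ha0 : a ≠ 0 := by rintro rfl; simp at hm
      have := Fintype.ofFinite (GaloisField p a)
      have h8 : Fintype.card (GaloisField p a) = p ^ a := by
        rw [← Nat.card_eq_fintype_card, GaloisField.card p a ha0]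
      obtain ⟨j⟩ := Class.exists_subfield_of_pow (F := F) (K := GaloisField p a) (m := m)
        (by rw [h8, hn, hm, pow_mul])
      by_contra h9
      let f := (QuotientGroup.mk' (Subgroup.center _)).comp (Matrix.SpecialLinearGroup.map (n := Fin 2) j)
      have h10 : f.range ≠ ⊤ := fun h => by
        have h11 := Subgroup.card_range_dvd f
        rw [h, Subgroup.card_top, Class.card_SL2, h8] at h11
        have h12 := Nat.le_of_dvd (Nat.mul_pos (by omega) (by
          have : 1 < (p ^ a) ^ 2 := by nlinarith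
          omega)) h11
        have h13 : p ^ a * 2 ≤ Fintype.card F := by
          rw [hn]
          exact (Nat.mul_le_mul_left _ hpp.two_le).trans (by
            rw [← pow_succ]
            exact Nat.pow_le_pow_right hpp.pos (Nat.succ_le_of_lt
              (lt_of_le_of_ne (Nat.le_of_dvd n.pos ⟨m, hm⟩) ha)))
        have h14 : (p ^ a) ^ 2 - 1 < Fintype.card F ^ 2 - 1 :=
          Nat.sub_lt_sub_right (by nlinarith) (by nlinarith)
        change Nat.card (Matrix.ProjectiveSpecialLinearGroup (Fin 2) F) ≤ _ at h12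
        rcases hd with ⟨-, h3⟩ | ⟨-, h3⟩ <;> rw [h3] at h1 <;> nlinarith
      have h11 := h4 _ h10
      have h12 : Group.IsSolvable (Matrix.SpecialLinearGroup (Fin 2) (GaloisField p a)) := by
        have : Group.IsSolvable f.rangeRestrict.ker := Group.isSolvable_of_comm fun x y => by
          have hx : Matrix.SpecialLinearGroup.map j x.1 ∈ Subgroup.center _ :=
            (QuotientGroup.eq_one_iff _).1 (congrArg Subtype.val x.2)
          refine Subtype.ext (Class.sl_map_injective j ?_)
          simpa using (Subgroup.mem_center_iff.1 hx _).symm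
        exact Group.isSolvable_of_ker_le_range f.rangeRestrict.ker.subtype f.rangeRestrict (by simp)
      exact hns (K := GaloisField p a) (by omega) inferInstance
    by_cases hn1 : (n : ℕ) = 1
    · rw [hn1, pow_one] at hn
      rw [hn] at h5 h6 ⊢
      by_cases h8 : p = 5
      · simp [h8]
      have h9 : p ≠ 4 := by rintro rfl; norm_num at hpp
      refine Or.inr (Or.inr (Or.inl ⟨hpp, by omega, ?_⟩))
      by_contra h10
      refine absurd (h6 ?_) (by omega)
      rw [Nat.prime_five.dvd_mul]
      have h11 := Nat.pow_mod p 2 5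
      have : p % 5 = 0 ∨ p % 5 = 1 ∨ p % 5 = 4 := by omega
      rcases this with h | h | h <;> rw [h] at h11 <;> omega
    · have h8 := h7 1 (one_dvd _) (Ne.symm hn1)
      have h9 : (n : ℕ).Prime := by
        refine Nat.prime_def.2 ⟨by have := n.pos; omega, fun a ha => ?_⟩
        by_contra h9
        rw [not_or] at h9
        have h10 := h7 a ha h9.2
        have : a ≠ 0 := by rintro rfl; simp at ha
        have := (Nat.pow_le_pow_left hpp.two_le a).trans' (Nat.pow_le_pow_right two_pos (by omega : 2 ≤ a))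
        omega
      have : p = 2 ∨ p = 3 := by have := hpp.two_le; rw [pow_one] at h8; omega
      rcases this with rfl | rfl
      · exact Or.inl ⟨n, h9, hn⟩
      · refine Or.inr (Or.inl ⟨n, h9, fun h => ?_, hn⟩)
        rw [h] at hn
        rw [hn] at h6
        norm_num at h6
  · intro h
    have h5 : 4 ≤ Fintype.card F := by
      rcases h with ⟨r, hr, h⟩ | ⟨r, hr, -, h⟩ | h | h
      · rw [h]; exact Nat.pow_le_pow_right two_pos hr.two_le
      · rw [h]; exact le_trans (by norm_num) (Nat.pow_le_pow_right three_pos hr.two_le)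
      · omega
      · omega
    have h2 := Matrix.ProjectiveSpecialLinearGroup.rank_two_simple (F := F) (by simpa using h5)
    refine ⟨h2, fun h3 => hns h5 (Group.isSolvable_of_comm mul_comm'), fun H hH => ?_⟩
    rcases Class.dickson_psl p H with ⟨x, hx⟩ | ⟨l, -, ⟨h3, -⟩ | ⟨⟨e⟩⟩⟩ | ⟨⟨e⟩⟩ | ⟨⟨e⟩⟩ | ⟨⟨e⟩⟩ | ⟨R, h4, h3⟩
    · have := Class.stabilizer_isSolvable p x
      exact Group.isSolvable_of_isSolvable_injective (Subgroup.inclusion_injective hx)
    · infer_instance
    · have := Class.dihedral_isSolvable l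
      exact Group.isSolvable_of_isSolvable_injective (f := e.toMonoidHom) e.injective
    · exact Class.isSolvable_of_card_dvd_24 (by rw [Nat.card_congr e.toEquiv, Class.card_A4]; norm_num)
    · exact Class.isSolvable_of_card_dvd_24 (by rw [Nat.card_congr e.toEquiv, Class.card_S4])
    · exfalso
      have h3 := H.card_subgroup_dvd_card
      rw [Nat.card_congr e.toEquiv, Class.card_A5] at h3
      have h4 : 5 ∣ Fintype.card F * (Fintype.card F ^ 2 - 1) :=
        h1 ▸ ((by norm_num : 5 ∣ 60).trans h3).mul_left _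
      have h6 : ¬ (Fintype.card F = 4 ∨ Fintype.card F = 5) := fun h6 =>
        hH (Subgroup.eq_of_le_of_card_ge le_top (by
          rw [Subgroup.card_top, h60.2 h6, Nat.card_congr e.toEquiv, Class.card_A5]))
      have h7 : ¬ (Fintype.card F % 5 = 2 ∨ Fintype.card F % 5 = 3) := by
        have h11 := Nat.pow_mod (Fintype.card F) 2 5
        have : 1 ≤ Fintype.card F ^ 2 := Nat.one_le_pow _ _ hq1.le
        rw [Nat.prime_five.dvd_mul] at h4
        rintro (h | h) <;> rw [h] at h11 <;> omega
      have key : ∀ a k : ℕ, a % 5 = 2 ∨ a % 5 = 3 →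
          a ^ (2 * k + 1) % 5 = 2 ∨ a ^ (2 * k + 1) % 5 = 3 := by
        intro a k ha
        induction k with
        | zero => simpa using ha
        | succ k ih =>
          rw [show 2 * (k + 1) + 1 = 2 * k + 1 + 1 + 1 by ring, pow_succ, pow_succ, Nat.mul_mod,
            Nat.mul_mod (a ^ (2 * k + 1))]
          rcases ha with ha | ha <;> rcases ih with ih | ih <;> simp [ha, ih]
      rcases h with ⟨r, hr, h⟩ | ⟨r, hr, hr2, h⟩ | h | h
      · rcases hr.eq_two_or_odd' with rfl | ⟨k, rfl⟩
        · exact h6 (Or.inl h)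
        · exact h7 (h ▸ key 2 k (by norm_num))
      · obtain ⟨k, rfl⟩ := hr.odd_of_ne_two hr2
        exact h7 (h ▸ key 3 k (by norm_num))
      · exact h7 h.2.2
      · exact h6 (Or.inr h)
    · obtain ⟨m, h6, h7⟩ := (Class.subfield_cases h3).resolve_left hH
      obtain ⟨f, hf⟩ := Class.subfield_embed h3
      have := Fintype.ofFinite R
      have key : ∀ a r : ℕ, a.Prime → r.Prime → Fintype.card F = a ^ r → Nat.card R = a := by
        intro a r ha hr h
        rw [h] at h7
        obtain ⟨i, -, hi⟩ := (Nat.dvd_prime_pow ha).1 ((dvd_pow_self _ (by omega)).trans h7.dvd)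
        rw [hi, ← pow_mul] at h7
        have h8 := Nat.pow_right_injective ha.two_le h7
        rcases (Nat.dvd_prime hr).1 (Dvd.intro_left _ h8) with h9 | h9
        · omega
        · subst h9
          rw [hi, show i = 1 from Nat.eq_of_mul_eq_mul_right hr.pos (by simpa using h8), pow_one]
      have h8 : Nat.card R = 3 := by
        rcases h with ⟨r, hr, h⟩ | ⟨r, hr, hr2, h⟩ | h | h
        · have := key 2 r Nat.prime_two hr h
          omega
        · exact key 3 r Nat.prime_three hr h
        · exact absurd (h7 ▸ h.1) (Nat.Prime.not_prime_pow' (by omega))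
        · exact absurd (h7 ▸ h ▸ Nat.prime_five) (Nat.Prime.not_prime_pow' (by omega))
      refine Class.isSolvable_of_card_dvd_24 ((Subgroup.card_dvd_of_injective f hf).trans ?_)
      rw [Class.card_PGL2, ← Nat.card_eq_fintype_card, h8]; norm_num

end Cfsg.Agent.S0810
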