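import Cfsg.Statements.S0812
import Cfsg.Agent.Class.Dick5

set_option autoImplicit false
open Cfsg

namespace Cfsg.Agent.S0812

/-- For q ∉ {2, 3, 5, 7, 9, 11}, PSL_2(q) has a maximal subgroup isomorphic to the dihedral group of order 2(q − 1)/d, d = gcd(2, q − 1). -/
theorem result {F : Type*} [Field F] [Fintype F] {q : ℕ} (hF : Fintype.card F = q) (hq : q ∉ ({2, 3, 5, 7, 9, 11} : Finset ℕ)) : ∃ H : Subgroup (Matrix.ProjectiveSpecialLinearGroup (Fin 2) F), IsCoatom H ∧ Nonempty (H ≃* DihedralGroup ((q - 1) / Nat.gcd 2 (q - 1))) := by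
  subst hF
  obtain ⟨p, hp⟩ := CharP.exists F
  have : Fact p.Prime := ⟨CharP.char_is_prime F p⟩
  have hq1 : 1 < Fintype.card F := Fintype.one_lt_card
  have h1 := Class.card_PSL2 (F := F)
  simp only [Finset.mem_insert, Finset.mem_singleton, not_or] at hq
  obtain ⟨c, s, h4, h5, h6⟩ := Class.exists_dihedral (F := F) (Or.inr rfl) (by omega)
  have hd := Class.gcd_two_cases _ hq1.le
  obtain ⟨n, -, hn⟩ := FiniteField.card F p
  have h7 : IsPrimePow (Fintype.card F) := hn ▸ (Fact.out : p.Prime).isPrimePow.pow n.ne_zero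
  have h8 : Fintype.card F ≠ 6 := fun h => absurd (h ▸ h7) (by decide)
  rw [← h4]
  refine Class.dihedral_coatom p ?_ h5 h6 ?_ ?_ ?_ ?_ hq.1
  · rw [h4, Nat.coprime_comm, Nat.Prime.coprime_iff_not_dvd Fact.out]
    intro h
    have := (Nat.dvd_sub_iff_right hq1.le (Class.p_dvd_card (F := F) p)).1
      (h.trans (Nat.div_dvd_of_dvd (Nat.gcd_dvd_right _ _)))
    exact (Fact.out : p.Prime).not_dvd_one this
  · rcases hd with ⟨h, h'⟩ | ⟨h, h'⟩ <;> rw [h4, h'] <;> omega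
  · rcases hd with ⟨h, h'⟩ | ⟨h, h'⟩ <;> rw [h4, h'] <;> omega
  · by_cases h8 : Fintype.card F = 4
    · right
      rw [h8] at h1; norm_num at h1; omega
    · left
      rcases hd with ⟨h, h'⟩ | ⟨h, h'⟩ <;> rw [h4, h'] <;> omega
  · intro r h8 h9
    have : r = 3 ∨ 2 * r + 8 ≤ r ^ 2 := by
      rcases h8.eq_or_lt with h | h
      · exact Or.inl h.symm
      · exact Or.inr (by nlinarith)
    have : 9 ≤ r ^ 2 := by nlinarith
    rcases hd with ⟨h, h'⟩ | ⟨h, h'⟩ <;> rw [h4, h'] <;> omega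

end Cfsg.Agent.S0812
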