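import Cfsg.Statements.S0814
import Cfsg.Agent.Class.Aut8
import Cfsg.Agent.S0246

set_option autoImplicit false
open Cfsg

namespace Cfsg.Agent.S0814

/-- |Aut(PSp_2m(q))| = gcd(2, q−1) · f · |PSp_2m(q)| for q = p^f, m ≥ 2, (m, q) ≠ (2, 2), with an extra factor 2 exactly when m = 2 and p = 2. -/
theorem result {F : Type*} [Field F] [Fintype F] (p f : ℕ) [Fact p.Prime] (hf : 1 ≤ f) (hF : Fintype.card F = p ^ f) (m : ℕ) (hm : 2 ≤ m) (h22 : m = 2 → 3 ≤ p ^ f) : Nat.card (MulAut (Cfsg.PSp m F)) = (if m = 2 ∧ p = 2 then 2 else 1) * Nat.gcd 2 (p ^ f - 1) * f * Nat.card (Cfsg.PSp m F) := by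
  have hF' : Nat.card F = p ^ f := by rw [Nat.card_eq_fintype_card, hF]
  have := Class.charP_of_card_eq hF'
  have hn := Class.plusOS_finrank F m
  have h1 := Class.FS.sp_card_ind (p := p) (Class.spFS_nondeg m F) (by omega) hF' (Class.spFS_semi m)
  rw [← Nat.card_congr (Class.spEquiv m F).toEquiv, ← Class.card_center_mul_card_quot (Matrix.symplecticGroup (Fin m) F),
    S0246.result hF m (by omega)] at h1
  rw [Class.card_mulAut_congr (Class.pspEquiv m F)]
  split_ifs with h
  · obtain ⟨rfl, h⟩ := h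
    rw [Class.card_mulAut_S4 (p := p) ((Class.two_eq_zero_iff_of_card hF).2 h)
      (by have := h22 rfl; omega), h1]
    ring
  · rw [Class.card_eq_of_range_top (Class.FS.sp_mem_ind (p := p) (Class.spFS_nondeg m F) (by omega)
      fun h2 h4 => h ⟨by omega, (Class.two_eq_zero_iff_of_card hF).1 h2⟩), h1]
    ring

end Cfsg.Agent.S0814
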