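import Cfsg.Statements.S0816
import Cfsg.Agent.Class.Aut7

set_option autoImplicit false
open Cfsg

namespace Cfsg.Agent.S0816

/-- |Aut(PΩ_(2m+1)(q))| = 2 f · |PΩ_(2m+1)(q)| for q = p^f odd and m ≥ 3 (for the form quadFormOdd). -/
theorem result {F : Type*} [Field F] [Fintype F] (p f : ℕ) [Fact p.Prime] (hf : 1 ≤ f) (hF : Fintype.card F = p ^ f) (hodd : Odd p) (m : ℕ) (hm : 3 ≤ m) : Nat.card (MulAut (Cfsg.POmega F (Cfsg.quadFormOdd m F))) = 2 * f * Nat.card (Cfsg.POmega F (Cfsg.quadFormOdd m F)) := by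
    open Cfsg.Agent.Class Cfsg.Agent.Class.FS in
    have hF' : Nat.card F = p ^ f := by rw [Nat.card_eq_fintype_card, hF]
    have := Class.charP_of_card_eq hF'
    have h2 : (2 : F) ≠ 0 := fun h => by
      rw [(Class.two_eq_zero_iff_of_card hF).1 h] at hodd; exact absurd hodd (by decide)
    have hf := Class.oddOS_nondeg m h2
    have hn := Class.oddOS_finrank F m
    have e := Class.pomegaEquiv' hf (by omega)
    have h1 := Class.FS.orth_card_ind_odd (p := p) hf (by omega) h2 ⟨m, hn⟩ hF' (Class.oddOS_semi m)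
    rw [← Class.card_eq_of_range_top (Class.FS.orth_mem_ind hf (by omega) (by omega)),
      ← Class.card_mulAut_congr e, ← Class.FS.card_pomega hf (by omega), if_neg h2,
      if_neg (fun h => by have := ((Class.FS.neg1_mem_iff hf h2).1 h).1; rw [hn] at this; simp [parity_simps] at this),
      ← Nat.card_congr (Class.pomegaEquiv _).toEquiv] at h1
    refine Nat.eq_of_mul_eq_mul_left two_pos (h1.trans ?_)
    change _ = 2 * (2 * f * Nat.card (Cfsg.POmega F (Class.oddOS F m).Q))
    ring

end Cfsg.Agent.S0816
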