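import Cfsg.Statements.S0817
import Cfsg.Agent.Class.Aut8

set_option autoImplicit false
open Cfsg

namespace Cfsg.Agent.S0817

/-- |Aut(PΩ⁺_2m(q))| for q = p^f, m ≥ 4: |PΩ⁺_2m(q)| times f, times 3 when m = 4, times 2 if p = 2, and times 8 or 4 if p is odd according as m(q−1)/2 is even or odd. -/
theorem result {F : Type*} [Field F] [Fintype F] (p f : ℕ) [Fact p.Prime] (hf : 1 ≤ f) (hF : Fintype.card F = p ^ f) (m : ℕ) (hm : 4 ≤ m) : Nat.card (MulAut (Cfsg.POmega F (Cfsg.quadFormPlus m F))) = (if m = 4 then 3 else 1) * (if p = 2 then 2 else (if Even (m * (p ^ f - 1) / 2) then 8 else 4)) * f * Nat.card (Cfsg.POmega F (Cfsg.quadFormPlus m F)) := by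
  have hF' : Nat.card F = p ^ f := by rw [Nat.card_eq_fintype_card, hF]
  have := Class.charP_of_card_eq hF'
  have hf := Class.plusOS_nondeg F m
  have hn := Class.plusOS_finrank F m
  have hw := Class.plusOS_wi F m
  have e := Class.pomegaEquiv' hf (by omega)
  have h1 := Class.FS.orth_card_ind_even (p := p) hf (by omega) hn hF' (Class.plusOS_semi _)
  rw [← Class.FS.card_pomega hf (by omega), ← Nat.card_congr (Class.pomegaEquiv _).toEquiv] at h1
  have h3 : Nat.card (MulAut (Class.PQ (Class.plusOS F m).EO)) =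
      (if m = 4 then 3 else 1) * Nat.card (Class.FS.orth_AN (p := p) hf (by omega)).ind := by
    split_ifs with h
    · subst h
      exact Class.card_mulAut_O8
    · rw [one_mul, Class.card_eq_of_range_top (Class.FS.orth_mem_ind hf (by omega) (by omega))]
  rw [h1, ← Class.card_mulAut_congr e] at h3
  refine h3.trans ?_
  change _ = _ * f * Nat.card (Cfsg.POmega F (Class.plusOS F m).Q)
  by_cases h2 : p = 2
  · rw [if_pos h2, if_pos ((Class.two_eq_zero_iff_of_card hF).2 h2)]; ring
  · have h2' := mt (Class.two_eq_zero_iff_of_card hF).1 h2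
    have ho : Odd (p ^ f) := hF ▸ Class.odd_of_two_ne_zero h2'
    rw [if_neg h2, if_neg h2']
    simp only [Class.FS.neg1_mem_plus hf h2' hn hw, Class.even_half_iff ho, hF]
    split_ifs <;> ring

end Cfsg.Agent.S0817
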