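import Cfsg.Statements.S0818
import Cfsg.Agent.Class.Aut7

set_option autoImplicit false
open Cfsg

namespace Cfsg.Agent.S0818

/-- |Aut(PΩ⁻_2m(q))| for q = p^f, m ≥ 4 (form quadFormMinus (m−1) with anisotropic binary part): |PΩ⁻_2m(q)| times f, times 2 if p = 2, and times 4 or 8 if p is odd according as m(q−1)/2 is even or odd. -/
theorem result {F : Type*} [Field F] [Fintype F] (p f : ℕ) [Fact p.Prime] (hf : 1 ≤ f) (hF : Fintype.card F = p ^ f) (m : ℕ) (hm : 4 ≤ m) (a b : F) (hab : ∀ z₁ z₂ : F, z₁ ^ 2 + a * z₁ * z₂ + b * z₂ ^ 2 = 0 → z₁ = 0 ∧ z₂ = 0) : Nat.card (MulAut (Cfsg.POmega F (Cfsg.quadFormMinus (m - 1) F a b))) = (if p = 2 then 2 else (if Even (m * (p ^ f - 1) / 2) then 4 else 8)) * f * Nat.card (Cfsg.POmega F (Cfsg.quadFormMinus (m - 1) F a b)) := by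
    open Cfsg.Agent.Class Cfsg.Agent.Class.FS in
    have hF' : Nat.card F = p ^ f := by rw [Nat.card_eq_fintype_card, hF]
    have := Class.charP_of_card_eq hF'
    have hf := Class.minusOS_nondeg (m - 1) hab
    have hn := Class.minusOS_finrank (F := F) (m - 1)
    have hw := Class.minusOS_not_wi (m - 1) hab
    rw [Nat.sub_add_cancel (by omega)] at hn hw
    have e := Class.pomegaEquiv' hf (by omega)
    have h1 := Class.FS.orth_card_ind_even (p := p) hf (by omega) hn hF' (Class.minusOS_semi _ hab)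
    rw [← Class.card_eq_of_range_top (Class.FS.orth_mem_ind hf (by omega)
        (fun h => by rwa [show 4 = m by omega])),
      ← Class.card_mulAut_congr e, ← Class.FS.card_pomega hf (by omega),
      ← Nat.card_congr (Class.pomegaEquiv _).toEquiv] at h1
    refine h1.trans ?_
    change _ = _ * f * Nat.card (Cfsg.POmega F (Class.minusOS (m - 1) a b).Q)
    by_cases h2 : p = 2
    · rw [if_pos h2, if_pos ((Class.two_eq_zero_iff_of_card hF).2 h2)]; ring
    · have h2' := mt (Class.two_eq_zero_iff_of_card hF).1 h2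
      have ho : Odd (p ^ f) := hF ▸ Class.odd_of_two_ne_zero h2'
      rw [if_neg h2, if_neg h2']
      simp only [Class.FS.neg1_mem_minus hf h2' hn hw, Class.even_half_iff ho, hF,
        Class.odd_pow_mod_four ho]
      split_ifs <;> ring

end Cfsg.Agent.S0818
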