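import Cfsg.Statements.S0820
import Cfsg.Agent.Class.Exc4

set_option autoImplicit false
open Cfsg

namespace Cfsg.Agent.S0820

/-- Any two elements of order 2 of PSL_3(4) are conjugate. -/
theorem result {F : Type*} [Field F] [Fintype F] (hF : Fintype.card F = 4) (x y : Matrix.ProjectiveSpecialLinearGroup (Fin 3) F) (hx : orderOf x = 2) (hy : orderOf y = 2) : IsConj x y := by
  have h2 : (2 : F) = 0 := by
    have := FiniteField.cast_card_eq_zero F
    rw [hF] at this
    exact mul_self_eq_zero.1 (by linear_combination this)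
  have key : ∀ x : Matrix.ProjectiveSpecialLinearGroup (Fin 3) F, orderOf x = 2 →
      ∃ a l h, a ≠ 0 ∧ l ≠ 0 ∧ x = (Class.tv a l h : Matrix.SpecialLinearGroup (Fin 3) F) := by
    rintro ⟨A⟩ hx
    have h1 : ((A ^ 2 : Matrix.SpecialLinearGroup (Fin 3) F) : Matrix.ProjectiveSpecialLinearGroup (Fin 3) F) = 1 :=
      hx ▸ pow_orderOf_eq_one (A : Matrix.ProjectiveSpecialLinearGroup (Fin 3) F)
    obtain ⟨c, hc, hA⟩ := Matrix.SpecialLinearGroup.mem_center_iff.1 ((QuotientGroup.eq_one_iff _).1 h1)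
    have h3 : (A ^ 3).1 * (A ^ 3).1 = 1 := by
      rw [show (A ^ 3).1 * (A ^ 3).1 = (A ^ 2).1 ^ 3 from congrArg Subtype.val
        (by group : A ^ 3 * A ^ 3 = (A ^ 2) ^ 3), ← show _ = (A ^ 2).1 from hA, ← map_pow,
        show c ^ 3 = 1 from hc, map_one]
    have h4 : ((A ^ 3 : Matrix.SpecialLinearGroup (Fin 3) F) : Matrix.ProjectiveSpecialLinearGroup (Fin 3) F) = A := by
      rw [pow_succ, QuotientGroup.mk_mul, h1, one_mul]
    have h5 : ((A ^ 3).1 - 1) * ((A ^ 3).1 - 1) = 0 := by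
      rw [mul_sub, sub_mul, h3, mul_one, one_mul, sub_sub, ← add_sub_assoc, ← sub_add, ← two_smul F, h2,
        zero_smul, sub_zero, ← two_smul F, h2, zero_smul]
    have h6 := Matrix.rank_add_rank_le_card_of_mul_eq_zero h5
    have h7 : ((A ^ 3).1 - 1).rank ≠ 0 := fun h => by
      rw [Matrix.rank, Submodule.finrank_eq_zero, LinearMap.range_eq_bot, ← Matrix.toLin'_apply',
        LinearEquiv.map_eq_zero_iff, sub_eq_zero] at h
      rw [show A ^ 3 = 1 from Subtype.ext h] at h4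
      exact absurd (hx.symm.trans (orderOf_eq_one_iff.2 h4.symm)) (by decide)
    obtain ⟨a, l, ha, hl, h, e⟩ := Class.IsTransvection.exists ⟨by rw [Fintype.card_fin] at h6; omega, h5⟩
    exact ⟨a, l, h, ha, hl, h4.symm.trans (congrArg _ (Subtype.ext e))⟩
  obtain ⟨a, l, h, ha, hl, rfl⟩ := key x hx
  obtain ⟨a', l', h', ha', hl', rfl⟩ := key y hy
  exact (QuotientGroup.mk' _).map_isConj (Class.isConj_tv (by simp) ha ha' hl hl' h h')

end Cfsg.Agent.S0820
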