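import Cfsg.Statements.S0821
import Cfsg.Agent.Class.Aut7

set_option autoImplicit false
open Cfsg

namespace Cfsg.Agent.S0821

/-- PSp_2m(q) ≇ PΩ_(2m+1)(q) for q odd and m ≥ 3 (they have the same order). -/
theorem result {F : Type*} [Field F] [Fintype F] (hodd : Odd (Fintype.card F)) (m : ℕ) (hm : 3 ≤ m) : IsEmpty (Cfsg.PSp m F ≃* Cfsg.POmega F (Cfsg.quadFormOdd m F)) := by
    have h2 := Class.two_ne_zero_of_odd hodd
    have hf := Class.oddOS_nondeg m h2
    have hn := Class.oddOS_finrank F m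
    exact ⟨fun e => (Class.FS.orth_ne_sp hf (Class.spFS_nondeg m F) h2 hm hn
      (Class.plusOS_finrank F m)).false
      ((Class.pomegaEquiv' hf (by omega)).symm.trans (e.symm.trans (Class.pspEquiv m F)))⟩

end Cfsg.Agent.S0821
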