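import Cfsg.Statements.S0822
import Cfsg.Agent.Class.Exc4

set_option autoImplicit false
open Cfsg

namespace Cfsg.Agent.S0822

/-- The table of the roots of `E₆` modulo 2, indexed by the roots modulo 3. -/
def tab : ℕ := 683439432524029060032476772574259567671941083600588481178358708817898731001372576021507986024799501932838374066151781397979251545561733903771928558397739173922312517705788417384891834704752686335903067593164769736647248585665477418199510525966450528488623729513385449300788541036835892588096907688709265605067849647004309226560518478012208972879184734034086616903768640897695917063452852959668561790776996206064367623095402251969353482240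

/-- The root modulo 2. -/
def phi (v : Fin 5 → ZMod 3) (a : (Fin 2 ⊕ Fin 2) ⊕ Fin 2) : ZMod 2 :=
  (tab >>> (6 * ((v 0).val + 3 * (v 1).val + 9 * (v 2).val + 27 * (v 3).val + 81 * (v 4).val) +
    Sum.elim (Sum.elim ![0, 1] ![2, 3]) ![4, 5] a) : ℕ)

theorem phi_Q : ∀ a b c d e : ZMod 3, ![a, b, c, d, e] ⬝ᵥ ![a, b, c, d, e] = 2 →
    (Class.minusOS 2 (1 : ZMod 2) 1).Q (phi ![a, b, c, d, e]) = 1 := by
  simp only [Class.minusOS_Q]
  decide +kernel

theorem phi_B : ∀ a b c d e : ZMod 3, ![a, b, c, d, e] ⬝ᵥ ![a, b, c, d, e] = 2 →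
    ∀ a' b' c' d' e' : ZMod 3, ![a', b', c', d', e'] ⬝ᵥ ![a', b', c', d', e'] = 2 →
    (Class.minusOS 2 (1 : ZMod 2) 1).B (phi ![a, b, c, d, e]) (phi ![a', b', c', d', e']) =
      if ![a, b, c, d, e] ⬝ᵥ ![a', b', c', d', e'] = 0 ∨ ![a, b, c, d, e] = ![a', b', c', d', e'] ∨
        ![a, b, c, d, e] = -![a', b', c', d', e'] then 0 else 1 := by
  simp only [Class.minusOS_B]
  decide +kernel

theorem eta5 (v : Fin 5 → ZMod 3) : ![v 0, v 1, v 2, v 3, v 4] = v := by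
  ext i; fin_cases i <;> rfl

/-- PSU_4(2) ≅ PSp_4(3): with |F| = 4 and |K| = 3, the projective special unitary group of the standard Hermitian form on F^4 is isomorphic to PSp_4(K). -/
theorem result {F K : Type*} [Field F] [Fintype F] [Field K] [Fintype K] (hF : Fintype.card F = 4) (hK : Fintype.card K = 3) : Nonempty (Cfsg.PSU 4 F 2 ≃* Cfsg.PSp 2 K) := by
  let f : Class.OS (ZMod 3) (Fin 5 → ZMod 3) := Class.FS.ofSymm (Matrix.toBilin' 1)
  have hQ : ∀ v, f.Q v = v ⬝ᵥ v := fun v => by simp [f, Matrix.toBilin'_apply']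
  have hB : ∀ v w, f.B v w = 2 * v ⬝ᵥ w := fun v w => by
    have := f.orth_Q_add v w
    simp only [hQ, add_dotProduct, dotProduct_add, dotProduct_comm w v] at this
    linear_combination -this
  have h2 : (2 : ZMod 3) ≠ 0 := by decide
  have hf : f.Nondeg := Class.FS.nondeg_of_sep fun x hx => funext fun i => by
    simpa [hB, h2] using hx (Pi.single i 1)
  have hab : ∀ x y : ZMod 2, x ^ 2 + 1 * x * y + 1 * y ^ 2 = 0 → x = 0 ∧ y = 0 := by decide
  have hf' := Class.minusOS_nondeg 2 hab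
  obtain ⟨ρ, hρ⟩ := Class.FS.exists_hom_of_conf hf' (G := f.Isom) (X := {v // v ⬝ᵥ v = 2})
    (fun g x => ⟨g.1 x, by rw [← hQ, Class.FS.Isom_Q g.2, hQ, x.2]⟩) (fun _ => rfl) (fun _ _ _ => rfl)
    (fun x => phi x) (eq_top_iff.2 ((Pi.basisFun (ZMod 2) ((Fin 2 ⊕ Fin 2) ⊕ Fin 2)).span_eq ▸ Submodule.span_le.2 (by
      rintro _ ⟨i, rfl⟩
      obtain ⟨x, y, h⟩ : ∃ x y : {v : Fin 5 → ZMod 3 // v ⬝ᵥ v = 2}, phi x + phi y = Pi.single i 1 := by
        rcases i with (i | i) | i <;> fin_cases i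
        exacts [⟨⟨![1, 2, 0, 0, 0], rfl⟩, ⟨![2, 2, 1, 1, 1], rfl⟩, by decide +kernel⟩,
          ⟨⟨![1, 1, 0, 0, 0], rfl⟩, ⟨![0, 0, 1, 0, 1], rfl⟩, by decide +kernel⟩,
          ⟨⟨![1, 1, 0, 0, 0], rfl⟩, ⟨![1, 2, 0, 0, 0], rfl⟩, by decide +kernel⟩,
          ⟨⟨![1, 1, 0, 0, 0], rfl⟩, ⟨![0, 0, 1, 1, 0], rfl⟩, by decide +kernel⟩,
          ⟨⟨![1, 1, 0, 0, 0], rfl⟩, ⟨![1, 0, 1, 0, 0], rfl⟩, by decide +kernel⟩,
          ⟨⟨![1, 0, 1, 0, 0], rfl⟩, ⟨![0, 1, 1, 0, 0], rfl⟩, by decide +kernel⟩]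
      rw [Pi.basisFun_apply, ← h]
      exact add_mem (Submodule.subset_span ⟨x, rfl⟩) (Submodule.subset_span ⟨y, rfl⟩))))
    (fun g x y => by
      have h : ∀ x y : {v : Fin 5 → ZMod 3 // v ⬝ᵥ v = 2}, (Class.minusOS 2 (1 : ZMod 2) 1).B (phi x) (phi y) =
          if x.1 ⬝ᵥ y.1 = 0 ∨ x.1 = y.1 ∨ x.1 = -y.1 then 0 else 1 := fun x y => by
        have := phi_B (x.1 0) (x.1 1) (x.1 2) (x.1 3) (x.1 4) (by rw [eta5, x.2])
          (y.1 0) (y.1 1) (y.1 2) (y.1 3) (y.1 4) (by rw [eta5, y.2])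
        simpa only [eta5] using this
      have h3 : g.1 x ⬝ᵥ g.1 y = x.1 ⬝ᵥ y.1 :=
        mul_left_cancel₀ h2 (by rw [← hB, ← hB, Class.FS.Isom_B g.2])
      rw [h, h]
      simp only [h3, ← map_neg, g.1.injective.eq_iff])
    fun g x => by
      have h : ∀ x : {v : Fin 5 → ZMod 3 // v ⬝ᵥ v = 2}, (Class.minusOS 2 (1 : ZMod 2) 1).Q (phi x) = 1 :=
        fun x => by simpa only [eta5] using phi_Q (x.1 0) (x.1 1) (x.1 2) (x.1 3) (x.1 4) (by rw [eta5, x.2])
      rw [h, h]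
  have := Class.finite_linearEquiv (F := ZMod 3) (V := Fin 5 → ZMod 3)
  have := Class.finite_linearEquiv (F := ZMod 2) (V := (Fin 2 ⊕ Fin 2) ⊕ Fin 2 → ZMod 2)
  have hn : 5 ≤ Module.finrank (ZMod 3) (Fin 5 → ZMod 3) := by simp
  obtain ⟨e₁⟩ := Class.quot_equiv_of_simple' (ρ.comp (commutator f.Isom).subtype)
    (Class.FS.omega_perfect hf hn) (Class.FS.omega_simple hf hn)
    ⟨⟨f.ee ![1, 1, 1, 0, 0] ![0, 0, 0, 1, 0], by
      rw [← Class.FS.EOs_eq hf (Class.FS.rc_of_two h2) (by omega)]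
      exact Class.FS.ee_mem_EOs _ _⟩, fun h => by
      have := hρ (f.ee ![1, 1, 1, 0, 0] ![0, 0, 0, 1, 0]) ⟨![1, 1, 0, 0, 0], rfl⟩
      rw [show ρ (f.ee ![1, 1, 1, 0, 0] ![0, 0, 0, 1, 0]) = 1 from h] at this
      change phi _ = _ at this
      simp only [Class.FS.ee_apply (f := f) (u := ![1, 1, 1, 0, 0]) (v := ![0, 0, 0, 1, 0])
        (by rw [hQ]; rfl) (by rw [hB]; rfl), hB, hQ] at this
      exact absurd this (by decide +kernel)⟩ (by
      have h1 := Class.FS.card_pomega_odd hf h2 (m := 2) (by simp) le_rfl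
      have h3 := Class.FS.card_pomega_minus hf' (Class.minusOS_finrank 2) le_rfl
        (Class.minusOS_not_wi 2 hab)
      simp [Finset.prod_range_succ] at h1 h3
      omega)
  obtain ⟨e₂⟩ := Class.omega6m_equiv hab (K := F) (by simpa)
  obtain ⟨e₃⟩ := Class.omega5_equiv h2
  obtain ⟨e₄⟩ := Class.FS.nonempty_isom_of_odd h2 (Class.oddOS_nondeg 2 h2) hf (by simp) (by simp; decide)
  rw [ZMod.card] at e₂
  let j : ZMod 3 ≃+* K := FiniteField.ringEquivOfCardEq (by simpa using hK.symm)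
  let e₅ : Matrix.symplecticGroup (Fin 2) (ZMod 3) ≃* Matrix.symplecticGroup (Fin 2) K :=
    { toFun := fun A => ⟨A.1.map j.toRingHom, SymplecticGroup.map_mem A.2 _⟩
      invFun := fun A => ⟨A.1.map j.symm.toRingHom, SymplecticGroup.map_mem A.2 _⟩
      left_inv := fun A => Subtype.ext (by ext; simp)
      right_inv := fun A => Subtype.ext (by ext; simp)
      map_mul' := fun A B => Subtype.ext Matrix.map_mul }
  exact ⟨e₂.symm.trans (e₁.trans ((Class.quotCenterCongr (Class.commCongr e₄)).trans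
    (e₃.trans (Class.quotCenterCongr e₅))))⟩

end Cfsg.Agent.S0822
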