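import Cfsg.Statements.S0823
import Cfsg.Agent.Class.Exc4

set_option autoImplicit false
open Cfsg

namespace Cfsg.Agent.S0823

/-- SO_3(3) ≅ S_4: the determinant-one isometries of the form x_0² + x_1y_1 over the field with 3 elements form a group isomorphic to the symmetric group on 4 letters. -/
theorem result {F : Type*} [Field F] [Fintype F] (hF : Fintype.card F = 3) : Nonempty (↥(Cfsg.specialIsometryGroup F (Cfsg.quadFormOdd 1 F)) ≃* Equiv.Perm (Fin 4)) := by
  have h3 : ((3 : ℕ) : F) = 0 := hF ▸ FiniteField.cast_card_eq_zero F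
  have : CharP F 3 := (CharP.charP_iff_prime_eq_zero Nat.prime_three).2 h3
  have h2 : (2 : F) ≠ 0 := Class.two_ne_zero_of_odd (by rw [hF]; decide)
  let f := Class.anOS F 3
  have hf : f.Nondeg := Class.anOS_nondeg h3
  let c : Fin 4 → Fin 3 → F := Fin.cons 0 fun i => Pi.single i 1
  let D : Fin 4 → Fin 4 → Fin 4 → Fin 4 → ℤ := fun i j k l => (if i = k then 1 else 0) -
    (if i = l then 1 else 0) - (if j = k then 1 else 0) + if j = l then 1 else 0
  have h1 : ∀ i j k l, f.B (c i - c j) (c k - c l) = D i j k l := by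
    have : ∀ i k, f.B (c i) (c k) = (if i = k then 1 else 0) + Fin.cons (α := fun _ => F) (-1) 0 i +
        Fin.cons (α := fun _ => F) (-1) 0 k + 1 := fun i k => by
      cases i using Fin.cases <;> cases k using Fin.cases <;>
        simp [c, f, Class.anOS_single, Fin.succ_ne_zero, (Fin.succ_ne_zero _).symm]
    intro i j k l
    simp only [map_sub, LinearMap.sub_apply, this, D]
    push_cast
    ring
  have hD : ∀ (g : Equiv.Perm (Fin 4)) i j k l, D (g i) (g j) (g k) (g l) = D i j k l := by simp [D]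
  obtain ⟨ρ, hρ⟩ := Class.FS.exists_hom_of_conf hf (G := Equiv.Perm (Fin 4))
    (fun g (x : Fin 4 × Fin 4) => (g x.1, g x.2)) (fun _ => rfl) (fun _ _ _ => rfl)
    (fun x => c x.1 - c x.2) (Class.span_of_single fun i => ⟨(i.succ, 0), by simp [c]⟩)
    (fun g x y => by rw [h1, h1, hD]) fun g x => mul_left_cancel₀ h2 (by
      rw [← Class.FS.orth_self, ← Class.FS.orth_self, h1, h1, hD])
  have hi : Function.Injective ρ := (injective_iff_map_eq_one _).2 fun g hg =>
    (by decide +kernel : ∀ g : Equiv.Perm (Fin 4),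
      (∀ i j k l, D i j k l ≡ D (g i) (g j) k l [ZMOD (3 : ℕ)]) → g = 1) g fun i j k l => by
      rw [← CharP.intCast_eq_intCast F, ← h1, ← h1]
      have := hρ g (i, j)
      rw [hg] at this
      exact congrArg (f.B · _) this
  have hf' := Class.oddOS_nondeg 1 h2
  obtain ⟨e⟩ := Class.FS.nonempty_isom_of_odd h2 hf' hf (by simp) (by simp; decide)
  have hd : ∀ g : (Class.oddOS F 1).Isom, g.1.det * g.1.det = 1 := fun g =>
    Units.ext (Class.FS.det_norm hf' g.2)
  let ψ : (Class.oddOS F 1).Isom →* (Class.oddOS F 1).SOs := MonoidHom.mk' (fun g =>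
    ⟨⟨Class.scal _ g.1.det * g.1, mul_mem (Class.FS.scal_mem_Isom (Class.FS.det_norm hf' g.2)) g.2⟩, by
      rw [Class.FS.mem_SOs, map_mul, Class.det_scal, Class.oddOS_finrank]
      simp [pow_succ, hd]⟩) fun a b => Subtype.ext (Subtype.ext (LinearEquiv.ext fun x => by
        simp [smul_smul]))
  have := Class.finite_linearEquiv (F := F) (V := Unit ⊕ (Fin 1 ⊕ Fin 1) → F)
  refine (Class.equiv_of_inj_card (ψ.comp (e.toMonoidHom.comp ρ)) ((injective_iff_map_eq_one _).2
    fun g hg => ?_) ?_).map fun e' => (Class.soEquiv (Class.oddOS F 1)).trans e'.symm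
  · have h4 : e (ρ g) ∈ Subgroup.center _ := Class.FS.mem_center_of_smul (c := (e (ρ g)).1.det)
      fun x => by
        have h5 : ((e (ρ g)).1.det : F) • (e (ρ g)).1 x = x :=
          LinearEquiv.congr_fun (congrArg (·.1.1) hg) x
        conv_rhs => rw [← h5, smul_smul, ← Units.val_mul, hd, Units.val_one, one_smul]
    rw [Class.mem_center_congr, Subgroup.mem_center_iff] at h4
    exact (by decide +kernel : ∀ g : Equiv.Perm (Fin 4), (∀ h, h * g = g * h) → g = 1) g
      fun h => hi (by rw [map_mul, map_mul, h4])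
  · have h4 := (Class.oddOS F 1).SOs.index_mul_card
    rw [Class.FS.index_SOs hf' h2, Class.FS.card_Isom_odd 1 hf' (Class.oddOS_finrank F 1),
      Nat.card_eq_fintype_card (α := F), hF] at h4
    simp [Fintype.card_perm, Nat.factorial] at h4 ⊢
    omega

end Cfsg.Agent.S0823
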