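import Cfsg.Statements.S0828
import Cfsg.Agent.Class.Exc4

set_option autoImplicit false
open Cfsg

namespace Cfsg.Agent.S0828

/-- The symplectic generalised quadrangle over a field with q elements: the number of 2-dimensional subspaces of F^4 on which the symplectic form vanishes is (q + 1)(q² + 1), and every non-zero vector lies in exactly q + 1 of them. -/
theorem result {F : Type*} [Field F] [Fintype F] {q : ℕ} (hF : Fintype.card F = q) : Nat.card {W : Submodule F (Fin 2 ⊕ Fin 2 → F) // Module.finrank F W = 2 ∧ ∀ u ∈ W, ∀ v ∈ W, Cfsg.sympForm 2 F u v = 0} = (q + 1) * (q ^ 2 + 1) ∧ ∀ v : Fin 2 ⊕ Fin 2 → F, v ≠ 0 → Nat.card {W : Submodule F (Fin 2 ⊕ Fin 2 → F) // Module.finrank F W = 2 ∧ v ∈ W ∧ ∀ u ∈ W, ∀ w ∈ W, Cfsg.sympForm 2 F u w = 0} = q + 1 := by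
  have hf := Class.spFS_nondeg 2 F
  have hq : 1 < q := hF ▸ Fintype.one_lt_card
  have hc : Nat.card F = q := by rw [Nat.card_eq_fintype_card, hF]
  have h3 : ∀ W : Submodule F (Fin 2 ⊕ Fin 2 → F), (Class.spFS 2 F).TS W ↔
      ∀ u ∈ W, ∀ v ∈ W, Cfsg.sympForm 2 F u v = 0 := fun W => by
    simp only [Class.FS.sp_ts, Class.spFS_B]
  constructor
  · have h1 := Class.card_subspaces_mul (F := F) (V := Fin 2 ⊕ Fin 2 → F) 2 (Class.spFS 2 F).TS
    rw [Class.FS.card_ts_pairs hf (q ^ 2) (fun u v huv => by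
      have := huv.finrank_hperp
      rw [Nat.card_congr (Equiv.subtypeUnivEquiv fun _ => Class.FS.sp_Q _ _),
        Module.natCard_eq_pow_finrank (K := F), hc]
      simp at this; congr 1)] at h1
    have h2 := Class.FS.card_sing_add_one (f := Class.spFS 2 F)
    rw [Nat.card_congr (Equiv.subtypeUnivEquiv fun _ => Class.FS.sp_Q _ _),
      Module.natCard_eq_pow_finrank (K := F) (V := Fin 2 ⊕ Fin 2 → F), hc] at h2
    simp only [h3, Fin.prod_univ_two, Fin.val_zero, Fin.val_one, hc, Nat.eq_sub_of_add_eq h2] at h1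
    have h5 : q ^ 0 < q ^ 2 := Nat.pow_lt_pow_right hq (by norm_num)
    have h6 : q ^ 1 < q ^ 2 := Nat.pow_lt_pow_right hq (by norm_num)
    apply Nat.eq_of_mul_eq_mul_right (Nat.mul_pos (Nat.sub_pos_of_lt h5) (Nat.sub_pos_of_lt h6))
    rw [h1]
    zify [h5.le, h6.le, Nat.one_le_pow _ _ (zero_lt_one.trans hq)]
    simp
    ring
  · intro v hv
    obtain ⟨w, hw⟩ := hf.exists_partner' (u := v) rfl hv
    have hn := hw.finrank_hperp
    simp at hn
    have hc2 := Projectivization.card_of_finrank_two F ((Class.spFS 2 F).hperp v w) (by omega)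
    rw [← hc, ← hc2]
    have hli : ∀ x : (Class.spFS 2 F).hperp v w, x ≠ 0 → LinearIndependent F ![v, x.1] := fun x hx =>
      (LinearIndependent.pair_iff' hv).2 fun a ha => hx (Subtype.ext (by
        have := (Class.FS.mem_hperp.1 x.2).2
        rw [← ha, map_smul, hw.B21] at this
        rw [← ha, show a = 0 by simpa using this, zero_smul]; rfl))
    have hr : ∀ x : (Class.spFS 2 F).hperp v w, x ≠ 0 →
        Module.finrank F (Submodule.span F (Set.range ![v, x.1])) = 2 := fun x hx => by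
      simpa using finrank_span_eq_card (hli x hx)
    have hts : ∀ x : (Class.spFS 2 F).hperp v w,
        (Class.spFS 2 F).TS (Submodule.span F (Set.range ![v, x.1])) := fun x => by
      have := (Class.FS.mem_hperp.1 x.2).1
      refine Class.FS.ts_span (fun _ _ => rfl) ?_
      rintro _ ⟨i, rfl⟩ _ ⟨j, rfl⟩
      fin_cases i <;> fin_cases j <;> simp [Class.FS.sp_self, this, Class.FS.B_comm_zero this]
    refine (Nat.card_congr (Equiv.ofBijective (fun p => ⟨Submodule.span F (Set.range ![v, p.rep.1]),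
      hr _ p.rep_nonzero, Submodule.subset_span ⟨0, rfl⟩, (h3 _).1 (hts _)⟩)
      ⟨fun p p' h => ?_, fun ⟨W, h1, h2, h4⟩ => ?_⟩)).symm
    · have h1 : p.rep.1 ∈ Submodule.span F (Set.range ![v, p'.rep.1]) :=
        (congrArg Subtype.val h).le (Submodule.subset_span ⟨1, rfl⟩)
      rw [Matrix.range_cons_cons_empty, Submodule.mem_span_pair] at h1
      obtain ⟨a, b, h1⟩ := h1
      have h2 := (Class.FS.mem_hperp.1 p.rep.2).2
      rw [← h1] at h2
      simp [hw.B21, (Class.FS.mem_hperp.1 p'.rep.2).2] at h2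
      rw [← p.mk_rep, ← p'.mk_rep, Projectivization.mk_eq_mk_iff']
      exact ⟨b, Subtype.ext (by simpa [h2] using h1)⟩
    · obtain ⟨y, hy, hy'⟩ : ∃ y ∈ W, y ∉ Submodule.span F {v} := by
        by_contra! h
        have := Submodule.finrank_mono h
        rw [finrank_span_singleton hv] at this
        omega
      obtain ⟨a, b, x, hx, rfl⟩ := hw.decomp y
      have hb := ((Class.FS.sp_ts.1 ((h3 W).2 h4)) _ h2 _ hy)
      simp [hw.B11, hw.B12, (Class.FS.mem_hperp.1 hx).1] at hb
      rw [hb, zero_smul, add_zero] at hy hy'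
      have hx0 : (⟨x, hx⟩ : (Class.spFS 2 F).hperp v w) ≠ 0 := fun h => hy' (by
        rw [show x = 0 from congrArg Subtype.val h, add_zero]
        exact Submodule.mem_span_singleton.2 ⟨a, rfl⟩)
      refine ⟨Projectivization.mk F _ hx0, Subtype.ext (Submodule.eq_of_le_of_finrank_eq
        (Submodule.span_le.2 ?_) ((hr _ (Projectivization.rep_nonzero _)).trans h1.symm))⟩
      obtain ⟨c, hc⟩ := Projectivization.exists_smul_eq_mk_rep F _ hx0
      rintro _ ⟨i, rfl⟩
      fin_cases i
      · exact h2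
      · exact congrArg Subtype.val hc ▸ W.smul_mem _ ((W.add_mem_iff_right (W.smul_mem a h2)).1 hy)

end Cfsg.Agent.S0828
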