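import Cfsg.Statements.S0830
import Cfsg.Agent.Class.FS6

set_option autoImplicit false
open Cfsg

namespace Cfsg.Agent.S0830

/-- The unitary quadrangle of PSU_5(q): with |F| = q², the number of 2-dimensional subspaces of F^5 on which the Hermitian form vanishes is (q³ + 1)(q⁵ + 1). -/
theorem result {F : Type*} [Field F] [Fintype F] {q : ℕ} (hF : Fintype.card F = q ^ 2) : Nat.card {W : Submodule F (Fin 5 → F) // Module.finrank F W = 2 ∧ ∀ u ∈ W, ∀ v ∈ W, Cfsg.hermForm 5 F q u v = 0} = (q ^ 3 + 1) * (q ^ 5 + 1) := by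
  obtain ⟨σ, h⟩ := Class.exists_UF hF
  have := h.finite
  have hq := h.two_le
  have h1 := Class.card_subspaces_mul (F := F) (V := Fin 5 → F) 2 (Class.uFS h 5).TS
  rw [Class.FS.card_ts_pairs (Class.uFS_nondeg h) _ (fun u v huv =>
    Class.FS.herm_card_zero h (huv.nondeg_hperp (Class.uFS_nondeg h)) (n := 1)
      (by have := huv.finrank_hperp; simp at this; omega))] at h1
  have h2 := Class.FS.card_sing_add_one (f := Class.uFS h 5)
  rw [Class.FS.herm_card_zero h (Class.uFS_nondeg h) (n := 3) (by simp), add_left_inj] at h2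
  rw [h2, h.card] at h1
  have h3 : ∀ W : Submodule F (Fin 5 → F), (Class.uFS h 5).TS W ↔
      ∀ u ∈ W, ∀ v ∈ W, Cfsg.hermForm 5 F q u v = 0 := fun W => by
    simp only [Class.FS.herm_ts, Class.uFS_B]
    exact ⟨fun h u hu v hv => h v hv u hu, fun h u hu v hv => h v hv u hu⟩
  simp only [h3, Fin.prod_univ_two, Fin.val_zero, Fin.val_one, Nat.add_sub_cancel] at h1
  have h4 : 1 < q ^ 2 := Nat.one_lt_pow two_ne_zero hq
  have h5 : (q ^ 2) ^ 0 < (q ^ 2) ^ 2 := Nat.pow_lt_pow_right h4 (by norm_num)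
  have h6 : (q ^ 2) ^ 1 < (q ^ 2) ^ 2 := Nat.pow_lt_pow_right h4 (by norm_num)
  apply Nat.eq_of_mul_eq_mul_right (Nat.mul_pos (Nat.sub_pos_of_lt h5) (Nat.sub_pos_of_lt h6))
  rw [h1]
  zify [h5.le, h6.le]
  simp only [Class.uFac_cast (show 1 ≤ q by omega)]
  ring

end Cfsg.Agent.S0830
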