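import Cfsg.Statements.S0831
import Cfsg.Agent.Class.Sp2

set_option autoImplicit false
open Cfsg

namespace Cfsg.Agent.S0831

/-- The two families of maximal totally singular subspaces of the hyperbolic quadric: for the form Σ x_i y_i on F^(2m), m ≥ 1, and m-dimensional subspaces U, W, X on which it vanishes, the parities of m − dim(U ∩ W), m − dim(W ∩ X) and m − dim(U ∩ X) sum to an even number (so 'even codimension of the intersection' is an equivalence relation), and there exist two such subspaces meeting in codimension 1 (so there are exactly two classes). -/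
theorem result {F : Type*} [Field F] (m : ℕ) (hm : 1 ≤ m) : (∀ U W X : Submodule F (Fin m ⊕ Fin m → F), (Module.finrank F U = m ∧ ∀ w ∈ U, Cfsg.quadFormPlus m F w = 0) → (Module.finrank F W = m ∧ ∀ w ∈ W, Cfsg.quadFormPlus m F w = 0) → (Module.finrank F X = m ∧ ∀ w ∈ X, Cfsg.quadFormPlus m F w = 0) → Even ((m - Module.finrank F ↥(U ⊓ W)) + (m - Module.finrank F ↥(W ⊓ X)) + (m - Module.finrank F ↥(U ⊓ X)))) ∧ ∃ U W : Submodule F (Fin m ⊕ Fin m → F), (Module.finrank F U = m ∧ ∀ w ∈ U, Cfsg.quadFormPlus m F w = 0) ∧ (Module.finrank F W = m ∧ ∀ w ∈ W, Cfsg.quadFormPlus m F w = 0) ∧ Module.finrank F ↥(U ⊓ W) + 1 = m := by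
  have hf := Class.plusOS_nondeg F m
  have hn := Class.plusOS_finrank F m
  constructor
  · rintro U W X ⟨hU, hU'⟩ ⟨hW, hW'⟩ ⟨hX, hX'⟩
    have h1 := Submodule.finrank_mono (inf_le_left : U ⊓ W ≤ U)
    have h2 := Submodule.finrank_mono (inf_le_left : U ⊓ X ≤ U)
    have h3 := Submodule.finrank_mono (inf_le_left : W ⊓ X ≤ W)
    have := Class.FS.parity_max hf hn (Class.FS.orth_ts.2 hU') hU (Class.FS.orth_ts.2 hW') hW
      (m - Module.finrank F ↥(W ⊓ X)) X (Class.FS.orth_ts.2 hX') hX (by omega)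
    rw [Nat.even_iff] at this ⊢
    omega
  · obtain ⟨W, h1, h2⟩ := (Class.plusOS_wi F m).exists_eq
    obtain ⟨φ, hφ⟩ := (finrank_le_iff_exists_linearMap (R := F) (M := Fin (m - 1) → F) (M' := W)).1
      (by simp; omega)
    have h3 : Module.finrank F (LinearMap.range (W.subtype ∘ₗ φ)) + 1 = m := by
      rw [LinearMap.finrank_range_of_inj (f := W.subtype ∘ₗ φ) (W.subtype_injective.comp hφ)]
      simp; omega
    obtain ⟨W', h4, h5, -, h6, -⟩ := Class.FS.two_max hf h1 (by omega) (Y := LinearMap.range (W.subtype ∘ₗ φ))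
      (by rintro _ ⟨x, rfl⟩; exact (φ x).2) (by omega)
    exact ⟨W, W', ⟨h2, h1.1⟩, ⟨h5.trans h2, h4.1⟩, h6 ▸ h3⟩

end Cfsg.Agent.S0831
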