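import Cfsg.Statements.S0833
import Cfsg.Agent.Class.Sp2

set_option autoImplicit false
open Cfsg

namespace Cfsg.Agent.S0833

/-- If B₁, B₂ are non-degenerate alternating forms on U (dim 2k) and W (dim 2l), then B₁ ⊗ B₂ on U ⊗ W is symmetric, non-degenerate, and vanishes identically on some subspace of dimension 2kl (half of dim U ⊗ W). -/
theorem result {F U W : Type*} [Field F] [Fintype F] [AddCommGroup U] [Module F U] [FiniteDimensional F U] [AddCommGroup W] [Module F W] [FiniteDimensional F W] (B₁ : LinearMap.BilinForm F U) (B₂ : LinearMap.BilinForm F W) (h₁ : B₁.Nondegenerate) (h₂ : B₂.Nondegenerate) (hA₁ : B₁.IsAlt) (hA₂ : B₂.IsAlt) (k l : ℕ) (hU : Module.finrank F U = 2 * k) (hW : Module.finrank F W = 2 * l) : (B₁.tmul B₂).IsSymm ∧ (B₁.tmul B₂).Nondegenerate ∧ (∃ X : Submodule F (TensorProduct F U W), Module.finrank F X = 2 * k * l ∧ ∀ x ∈ X, ∀ y ∈ X, (B₁.tmul B₂) x y = 0) := by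
  have hS := Class.FS.tmul_isSymm (B₁ := B₁) (B₂ := B₂) (ε := -1) (by simp)
    (fun x y => by rw [← hA₁.neg_eq]; simp) (fun x y => by rw [← hA₂.neg_eq]; simp)
  have key : ∀ x y z w, (B₁.tmul B₂) (x ⊗ₜ y) (z ⊗ₜ w) = B₁ x z * B₂ y w := fun x y z w => by
    simp [LinearMap.BilinForm.tmul, mul_comm]
  refine ⟨hS, ?_, ?_⟩
  · have : (B₁.tmul B₂).SeparatingRight := fun x hx => by
      let b₁ := Module.finBasis F U
      let b₂ := Module.finBasis F W
      refine (b₁.tensorProduct b₂).ext_elem fun p => ?_
      have := hx (B₁.dualBasis h₁ b₁ p.1 ⊗ₜ B₂.dualBasis h₂ b₂ p.2)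
      rw [← (b₁.tensorProduct b₂).sum_repr x, map_sum, Finset.sum_eq_single p] at this
      · simpa [Module.Basis.tensorProduct_apply', key, LinearMap.BilinForm.apply_dualBasis_left] using this
      · intro p' _ hp
        simp only [Module.Basis.tensorProduct_apply', map_smul, key,
          LinearMap.BilinForm.apply_dualBasis_left]
        split_ifs with h3 h4
        · exact absurd (Prod.ext h3 h4) hp
        all_goals simp
      · simp
    exact ⟨fun x hx => this x fun y => (hS.eq y x).trans (hx y), this⟩
  · obtain ⟨e, he⟩ := Class.FS.sp_isIso _ (Class.FS.nondeg_of_sep (f := Class.FS.ofAlt B₁ hA₁) h₁.1)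
      (Class.spFS_nondeg k F) hU (by simp [two_mul])
    let L : (Fin k → F) →ₗ[F] U := e.toLinearMap ∘ₗ
      { toFun := fun x => Sum.elim x 0
        map_add' := fun _ _ => by ext (i | i) <;> simp
        map_smul' := fun _ _ => by ext (i | i) <;> simp }
    have hL : Function.Injective L := fun x y h => funext fun i => congrFun (e.injective h) (.inl i)
    have hL' : ∀ x y, B₁ (L x) (L y) = 0 := fun x y => (he.1 _ _).trans (by
      simp [Class.spFS_B, Class.sympForm_eq])
    refine ⟨LinearMap.range (L.rTensor W), ?_, ?_⟩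
    · rw [LinearMap.finrank_range_of_inj (Module.Flat.rTensor_preserves_injective_linearMap L hL)]
      simp [hW]; ring
    · rintro _ ⟨x, rfl⟩ _ ⟨y, rfl⟩
      induction x with
      | zero => simp
      | add a b ha hb => simp only [map_add, LinearMap.add_apply, ha, hb, add_zero]
      | tmul a b =>
        induction y with
        | zero => simp
        | add a b ha hb => simp only [map_add, ha, hb, add_zero]
        | tmul c d => simp only [LinearMap.rTensor_tmul, key, hL', zero_mul]

end Cfsg.Agent.S0833
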