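import Cfsg.Statements.S0837
import Cfsg.Agent.Class.Uni

set_option autoImplicit false
open Cfsg

namespace Cfsg.Agent.S0837

/-- If W ≤ F^n (|F| = q²) is a k-dimensional subspace on which the Hermitian form Σ x_i y_i^q is non-degenerate, then the stabiliser of W in GU_n(q) is isomorphic to GU_k(q) × GU_(n−k)(q). -/
theorem result {F : Type*} [Field F] [Fintype F] {q : ℕ} (hF : Fintype.card F = q ^ 2) (n k : ℕ) (hk : k ≤ n) (W : Submodule F (Fin n → F)) (hWk : Module.finrank F W = k) (hW : ∀ u ∈ W, (∀ v ∈ W, Cfsg.hermForm n F q u v = 0) → u = 0) : Nonempty (↥((Cfsg.stabilizing (Cfsg.glToMat (Fin n) F) (W : Set (Fin n → F))).subgroupOf (Cfsg.GU n F q)) ≃* ↥(Cfsg.GU k F q) × ↥(Cfsg.GU (n - k) F q)) := by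
  obtain ⟨σ, h⟩ := Class.exists_UF hF
  have hf := Class.uFS_nondeg h (n := n)
  have hd : Disjoint W ((Class.uFS h n).perp W) := Submodule.disjoint_def.2 fun x hx hx' =>
    hW x hx fun v hv => by rw [← Class.uFS_B h]; exact hx' v hv
  have h1 : (Cfsg.stabilizing (Cfsg.glToMat (Fin n) F) (W : Set (Fin n → F))).subgroupOf (Cfsg.GU n F q) =
      (Class.stab W).comap (Class.guLin F q n) := rfl
  have h2 := hf.finrank_perp W
  obtain ⟨e₁, he₁⟩ := Class.FS.herm_isIso h (Class.uFS_nondeg h (n := k)) (Class.FS.nondeg_res hd)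
    (by simpa)
  obtain ⟨e₂, he₂⟩ := Class.FS.herm_isIso h (Class.uFS_nondeg h (n := n - k)) (hf.nondeg_perp hd)
    (by simp at h2 ⊢; omega)
  rw [h1]
  exact ⟨(Class.comapEquiv _ Class.guLin_injective _).trans
    ((MulEquiv.subgroupCongr (by rw [Class.guLin_range h])).trans
      ((Class.FS.stabEquivProd (hf.isCompl_perp hd)).trans
        ((he₁.isomEquiv.trans (Class.guEquiv h k).symm).prodCongr
          (he₂.isomEquiv.trans (Class.guEquiv h (n - k)).symm))))⟩

end Cfsg.Agent.S0837
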