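import Cfsg.Statements.S0839
import Cfsg.Agent.Class.Lin2

set_option autoImplicit false
open Cfsg

namespace Cfsg.Agent.S0839

/-- Every transvection t ∈ SL_(n+2)(F) (rank(t − 1) = 1, (t − 1)² = 0) is conjugate in SL_(n+2)(F) to 1 + v·e_0ᵀ for some column vector v with v_0 = 0 (the group A of matrices that are the identity except in the first column below the diagonal); the dimension is written n + 2 ≥ 2. -/
theorem result {F : Type*} [Field F] (n : ℕ) (t : Matrix.SpecialLinearGroup (Fin (n + 2)) F) (ht : Cfsg.IsTransvection (t : Matrix (Fin (n + 2)) (Fin (n + 2)) F)) : ∃ (g : Matrix.SpecialLinearGroup (Fin (n + 2)) F) (v : Fin (n + 2) → F), v 0 = 0 ∧ ((g⁻¹ * t * g : Matrix.SpecialLinearGroup (Fin (n + 2)) F) : Matrix (Fin (n + 2)) (Fin (n + 2)) F) = 1 + Matrix.vecMulVec v (Pi.single 0 1) := by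
  obtain ⟨a, l, ha, hl, h1, h2⟩ := Class.IsTransvection.exists ht
  obtain ⟨g, hg⟩ := Class.exists_SL_vec (by simp) hl (a' := Pi.single 0 1) (by simp)
  have h3 : Matrix.vecMul l (Matrix.SpecialLinearGroup.transpose g).1 = Pi.single 0 1 := by
    rw [← hg]; exact Matrix.vecMul_transpose _ _
  refine ⟨g.transpose, (g.transpose⁻¹).1.mulVec a, ?_, ?_⟩
  · rw [← single_one_dotProduct 0 (Matrix.mulVec _ _), ← h3, ← Matrix.dotProduct_mulVec,
      Matrix.mulVec_mulVec, Class.sl_mul_inv, Matrix.one_mulVec, h1]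
  · rw [Matrix.SpecialLinearGroup.coe_mul, Matrix.SpecialLinearGroup.coe_mul, h2,
      Class.conj_vecMulVec (Class.sl_inv_mul _), h3]

end Cfsg.Agent.S0839
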