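import Cfsg.Statements.S0840
import Cfsg.Agent.Char.Misc

set_option autoImplicit false
open scoped ComplexConjugate
open Cfsg

namespace Cfsg.Agent.S0840

open Cfsg.Agent.Char

/-- Class multiplication coefficients from the character table: for elements a, b, c of a finite group G, the number of ordered pairs (x, y) with x conjugate to a, y conjugate to b and x * y = c equals the product of the sizes of the conjugacy classes of a and b, divided by the order of G, times the sum over the irreducible characters χ of χ a * χ b * conj (χ c) / χ 1. -/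
theorem result {G : Type*} [Group G] [Finite G] (a b c : G) : (Nat.card {p : G × G // IsConj a p.1 ∧ IsConj b p.2 ∧ p.1 * p.2 = c} : ℂ) = (Nat.card {x : G // IsConj a x} : ℂ) * (Nat.card {x : G // IsConj b x} : ℂ) / (Nat.card G : ℂ) * ∑ᶠ χ : Cfsg.IrrCharacter G, (χ : G → ℂ) a * (χ : G → ℂ) b * conj ((χ : G → ℂ) c) / (χ : G → ℂ) 1 := by
  classical
  have := Fintype.ofFinite G
  rw [finsum_eq_sum_of_fintype]
  have h0 := card_ne_zero G
  have key : (Nat.card {p : G × G // IsConj a p.1 ∧ IsConj b p.2 ∧ p.1 * p.2 = c} : ℂ) * Nat.card G =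
      ∑ x, ∑ y, classInd a x * classInd b y *
        (if x * (y * c⁻¹) = 1 then (Nat.card G : ℂ) else 0) := by
    rw [← Fintype.sum_prod_type', Nat.card_eq_fintype_card, Fintype.card_subtype, ← nsmul_eq_mul,
      ← Finset.sum_const, Finset.sum_filter]
    refine Finset.sum_congr rfl fun p _ => ?_
    simp only [classInd, ← mul_assoc, mul_inv_eq_one]
    by_cases h1 : IsConj a p.1 <;> by_cases h2 : IsConj b p.2 <;>
      simp [h1, h2, -isConj_iff]
  rw [← eq_div_iff h0] at key
  rw [key, div_mul_eq_mul_div]
  congr 1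
  simp only [← sum_irr_one_mul, Finset.mul_sum]
  rw [Finset.sum_comm]
  simp only [Finset.sum_comm (t := (Finset.univ : Finset (IrrCharacter G)))]
  refine Finset.sum_congr rfl fun χ _ => ?_
  have h1 := fun y => χ.2.sum_mul_apply_mul (isClassFunction_classInd a) (y * c⁻¹)
  have h2 := χ.2.sum_mul_apply_mul (isClassFunction_classInd b) c⁻¹
  rw [sum_classInd_mul _ χ.2.isClassFunction] at h1 h2
  have h3 : ∀ y, ∑ x, classInd a x * classInd b y * ((χ : G → ℂ) 1 * (χ : G → ℂ) (x * (y * c⁻¹))) =
      (Subgroup.centralizer ({a} : Set G)).index * (χ : G → ℂ) a *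
        (classInd b y * (χ : G → ℂ) (y * c⁻¹)) := fun y => by
    have := h1 y
    rw [eq_div_iff χ.2.one_ne_zero] at this
    calc _ = classInd b y * ((∑ x, classInd a x * (χ : G → ℂ) (x * (y * c⁻¹))) * (χ : G → ℂ) 1) := by
          rw [Finset.sum_mul, Finset.mul_sum]
          exact Finset.sum_congr rfl fun _ _ => by ring
      _ = _ := by rw [this]; ring
  simp only [h3, ← Finset.mul_sum, h2, card_isConj_eq_index, χ.2.isCharacter.apply_inv]
  ring

end Cfsg.Agent.S0840
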