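import Cfsg.Statements.S0841
import Cfsg.Agent.Char.Basic

set_option autoImplicit false
open Cfsg

namespace Cfsg.Agent.S0841

open Cfsg.Agent.Char

/-- If the commutator subgroup of G lies in the centre, then for all x, y in G and every natural number n one has (x * y) ^ n = x ^ n * y ^ n * c ^ (n * (n - 1) / 2) with c = y⁻¹ * x⁻¹ * y * x. -/
theorem result {G : Type*} [Group G] (hG : commutator G ≤ Subgroup.center G) (x y : G) (n : ℕ) : (x * y) ^ n = x ^ n * y ^ n * (y⁻¹ * x⁻¹ * y * x) ^ (n * (n - 1) / 2) := by
  set c := y⁻¹ * x⁻¹ * y * x with hc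
  have hz : ∀ g, g * c = c * g := Subgroup.mem_center_iff.1 (hG (by
    simpa [commutatorElement_def, commutator] using Subgroup.commutator_mem_commutator
      (Subgroup.mem_top y⁻¹) (Subgroup.mem_top x⁻¹)))
  have hk : ∀ g k, g * c ^ k = c ^ k * g := fun g k => (Commute.pow_right (hz g) k)
  have h1 : ∀ n : ℕ, y ^ n * x = x * y ^ n * c ^ n := fun n => by
    induction n with
    | zero => simp
    | succ n ih =>
      calc y ^ (n + 1) * x = y * (y ^ n * x) := by group
        _ = (x * y * c) * y ^ n * c ^ n := by rw [ih, hc]; group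
        _ = x * y * (c * y ^ n) * c ^ n := by group
        _ = _ := by rw [← hz]; group
  induction n with
  | zero => simp
  | succ n ih =>
    have e : (n + 1) * (n + 1 - 1) / 2 = n + n * (n - 1) / 2 := by
      rw [← Nat.choose_two_right, ← Nat.choose_two_right, Nat.choose_succ_succ' n 1]; simp
    rw [pow_succ, ih, e]
    calc _ = x ^ n * y ^ n * (c ^ (n * (n - 1) / 2) * (x * y)) := by group
      _ = x ^ n * (y ^ n * x) * y * c ^ (n * (n - 1) / 2) := by rw [← hk]; group
      _ = x ^ n * x * y ^ n * (c ^ n * y) * c ^ (n * (n - 1) / 2) := by rw [h1]; group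
      _ = _ := by rw [← hk, pow_add]; group

end Cfsg.Agent.S0841
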