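import Cfsg.Statements.S0850
import Cfsg.Agent.Char.Coh3

set_option autoImplicit false
open Cfsg

namespace Cfsg.Agent.S0850

open Cfsg.Agent.Char

/-- Let K be a subgroup of the finite group G that meets each conjugate by an element outside its normalizer N trivially, is properly contained in N, and contains the centralizer of each of its non-identity elements (a T.I. subgroup with Frobenius normalizer). Then no element of N outside K is conjugate in G to an element of K, and for every class function ϑ of N that vanishes on N away from K and at the identity, the function induced from ϑ to G agrees with ϑ on all of N. -/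
theorem result {G : Type*} [Group G] [Fintype G] (K : Subgroup G) (hTI : ∀ g : G, g ∉ Subgroup.normalizer (K : Set G) → ∀ k ∈ K, g * k * g⁻¹ ∈ K → k = 1) (hlt : K < Subgroup.normalizer (K : Set G)) (hC : ∀ k ∈ K, k ≠ 1 → Subgroup.centralizer ({k} : Set G) ≤ K) : (∀ x ∈ Subgroup.normalizer (K : Set G), x ∉ K → ∀ g : G, g * x * g⁻¹ ∉ K) ∧ ∀ (ϑ : Subgroup.normalizer (K : Set G) → ℂ), Cfsg.IsClassFunction (Subgroup.normalizer (K : Set G)) ϑ → (∀ x : Subgroup.normalizer (K : Set G), (x : G) ∉ K → ϑ x = 0) → ϑ 1 = 0 → ∀ x : Subgroup.normalizer (K : Set G), Cfsg.indFun (Subgroup.normalizer (K : Set G)) ϑ x = ϑ x := by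
  set N := Subgroup.normalizer (K : Set G) with hN
  have : (K.subgroupOf N).Normal := Subgroup.normal_subgroupOf_of_le_normalizer le_rfl
  have h1 := coprime_of_modEq_one (card_modEq_one_of_centralizer_le (K := K.subgroupOf N)
    (D := K.subgroupOf N) (centralizer_le_subgroupOf fun k hk h => inf_le_right.trans (hC k hk h)))
  rw [Core.card_subgroupOf_of_le hlt.le] at h1
  have h2 : ∀ x ∈ N, x ∉ K → ∀ g : G, g * x * g⁻¹ ∉ K := by
    intro x hx hxK g hg
    refine hxK (mem_of_orderOf_coprime_index (H := K.subgroupOf N) (x := ⟨x, hx⟩)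
      (h1.coprime_dvd_left ?_))
    rw [← Subgroup.orderOf_coe, ← orderOf_injective (MulAut.conj g).toMonoidHom
      (MulAut.conj g).injective]
    exact K.orderOf_dvd_natCard hg
  refine ⟨h2, fun ϑ h3 h4 h5 x => indFun_apply_eq_of_forall h3 x fun g hg => ?_⟩
  rw [extendByZero_apply]
  split_ifs with h6
  · by_cases h7 : g * x * g⁻¹ ∈ K
    · by_cases h8 : (x : G) ∈ K
      · rw [← h5]
        congr 1
        ext
        simp [hTI g hg x h8 h7]
      · exact (h2 x x.2 h8 g h7).elim
    · exact h4 _ h7
  · rfl

end Cfsg.Agent.S0850
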