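import Cfsg.Statements.S0851
import Cfsg.Agent.Char.Coh3

set_option autoImplicit false
open Cfsg

namespace Cfsg.Agent.S0851

open Cfsg.Agent.Char

/-- Let K be a subgroup of the finite group G that meets each conjugate by an element outside its normalizer N trivially, is properly contained in N, and contains the centralizer of each of its non-identity elements (a T.I. subgroup with Frobenius normalizer). Suppose K is abelian, let e be the index of K in N, and call an irreducible character of N relevant when it takes at some element of K a value different from its degree. Then either there is exactly one relevant character and K is an elementary abelian p-group of order e + 1 for some prime p, or there are a sign ε and an injective map f from the relevant characters to the irreducible characters of G such that inducing χ - ξ to G gives ε (f χ - f ξ) for all relevant χ and ξ. -/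
theorem result {G : Type*} [Group G] [Fintype G] (K : Subgroup G) (hTI : ∀ g : G, g ∉ Subgroup.normalizer (K : Set G) → ∀ k ∈ K, g * k * g⁻¹ ∈ K → k = 1) (hlt : K < Subgroup.normalizer (K : Set G)) (hC : ∀ k ∈ K, k ≠ 1 → Subgroup.centralizer ({k} : Set G) ≤ K) (hab : ∀ a ∈ K, ∀ b ∈ K, a * b = b * a) : (Nat.card {χ : Cfsg.IrrCharacter (Subgroup.normalizer (K : Set G)) // ∃ k : Subgroup.normalizer (K : Set G), (k : G) ∈ K ∧ (χ : ↥(Subgroup.normalizer (K : Set G)) → ℂ) k ≠ (χ : ↥(Subgroup.normalizer (K : Set G)) → ℂ) 1} = 1 ∧ ∃ p : ℕ, p.Prime ∧ Cfsg.IsElementaryAbelian p K ∧ Nat.card K = (K.subgroupOf (Subgroup.normalizer (K : Set G))).index + 1) ∨ ∃ (ε : ℂ) (f : {χ : Cfsg.IrrCharacter (Subgroup.normalizer (K : Set G)) // ∃ k : Subgroup.normalizer (K : Set G), (k : G) ∈ K ∧ (χ : ↥(Subgroup.normalizer (K : Set G)) → ℂ) k ≠ (χ : ↥(Subgroup.normalizer (K : Set G)) → ℂ) 1} → Cfsg.IrrCharacter G), (ε = 1 ∨ ε = -1) ∧ Function.Injective f ∧ ∀ χ ξ, Cfsg.indFun (Subgroup.normalizer (K : Set G)) ((χ.1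 : ↥(Subgroup.normalizer (K : Set G)) → ℂ) - (ξ.1 : ↥(Subgroup.normalizer (K : Set G)) → ℂ)) = ε • ((f χ : G → ℂ) - (f ξ : G → ℂ)) := by
  right
  set N := Subgroup.normalizer (K : Set G) with hN
  have : (K.subgroupOf N).Normal := Subgroup.normal_subgroupOf_of_le_normalizer le_rfl
  have hC' := centralizer_le_subgroupOf (N := N) fun k hk h => inf_le_right.trans (hC k hk h)
  have := Fintype.ofFinite N
  have h1 : ∀ χ : {χ : IrrCharacter N // ∃ k : N, (k : G) ∈ K ∧ (χ : N → ℂ) k ≠ (χ : N → ℂ) 1},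
      (χ.1 : N → ℂ) ∈ inducedIrrAbove (K.subgroupOf N) ⊥ := fun χ => by
    rw [inducedIrrAbove_bot_eq hC']; exact ⟨χ.1.2, χ.2⟩
  have h2 : ⁅K.subgroupOf N, K.subgroupOf N⁆ ≤ ⊥ := Subgroup.commutator_le.2 fun a ha b hb => by
    rw [Subgroup.mem_bot, commutatorElement_eq_one_iff_mul_comm]
    exact Subtype.ext (hab _ ha _ hb)
  obtain ⟨ε, h3, μ, h4, h5, h6⟩ := exists_exceptional_TI (T := K) hTI
    (fun χ : {χ : IrrCharacter N // ∃ k : N, (k : G) ∈ K ∧ (χ : N → ℂ) k ≠ (χ : N → ℂ) 1} =>
      (χ.1 : N → ℂ)) (fun χ => χ.1.2) (fun a b e => Subtype.ext (Subtype.ext e))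
    (fun a b x hx => by
      rw [apply_eq_zero_of_mem_inducedIrrAbove (h1 a) hx,
        apply_eq_zero_of_mem_inducedIrrAbove (h1 b) hx])
    fun a b => by rw [degree_eq_of_commutator_le h2 (h1 a), degree_eq_of_commutator_le h2 (h1 b)]
  exact ⟨ε, fun χ => ⟨μ χ, h4 χ⟩, h3, fun a b e => h5 (congrArg Subtype.val e), h6⟩

end Cfsg.Agent.S0851
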