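import Cfsg.Statements.S0852
import Cfsg.Agent.Char.Coh3

set_option autoImplicit false
open Cfsg

namespace Cfsg.Agent.S0852

open Cfsg.Agent.Char

open Cfsg Cfsg.Agent.Char in
theorem aux {G : Type*} [Group G] [Fintype G] (K N : Subgroup G) [(K.subgroupOf N).Normal]
    (hTI : ∀ g : G, g ∉ N → ∀ k ∈ K, g * k * g⁻¹ ∈ K → k = 1) (hlt : K < N)
    (hC : ∀ k ∈ K, k ≠ 1 → Subgroup.centralizer ({k} : Set G) ≤ K) [Fintype N] (S : Set (N → ℂ))
    (hS : S = {χ : N → ℂ | Cfsg.IsIrrCharacter N χ ∧ ∃ k : N, (k : G) ∈ K ∧ χ k ≠ χ 1})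
    (htwo : ∃ χ ∈ S, ∃ ξ ∈ S, χ ≠ ξ) (star : (N → ℂ) → (G → ℂ))
    (hstar : Cfsg.IsLinearIsometryOn (Cfsg.zspan S) star)
    (hext : ∀ α ∈ Cfsg.zspanOn S ({1}ᶜ : Set N), star α = Cfsg.indFun N α) (ψ : G → ℂ) (hψ : Cfsg.IsIrrCharacter G ψ) :
    (∃ χ ∈ S, ψ = star χ ∨ ψ = -star χ) ↔ ∃ a ∈ K, ∃ b ∈ K, a ≠ 1 ∧ b ≠ 1 ∧ ψ a ≠ ψ b := by
  have hC' := centralizer_le_subgroupOf (N := N) fun k hk h => inf_le_right.trans (hC k hk h)
  have hS' : S = inducedIrrAbove (K.subgroupOf N) ⊥ := by rw [inducedIrrAbove_bot_eq hC', hS]; rfl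
  have hD : DegIso S (indLin N) := hS' ▸ degIso_indLin_seqInd hTI ⊥
  rw [zspanOn_eq_span1] at hext
  obtain ⟨ν, hν, e⟩ := exists_cohWith_of_isometry (τ := indLin N) hD.char hD.ne_zero hstar hext
  have hirr : ∀ χ ∈ S, IsIrrCharacter N χ := fun χ hχ => (hS ▸ hχ).1
  constructor
  · rintro ⟨χ, hχ, h1⟩
    by_contra h2
    push Not at h2
    obtain ⟨ξ, hξ, hne⟩ : ∃ ξ ∈ S, ξ ≠ χ := by
      obtain ⟨a, ha, b, hb, hab⟩ := htwo
      by_cases h : a = χ
      · exact ⟨b, hb, h ▸ hab.symm⟩
      · exact ⟨a, ha, h⟩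
    have m := smul_sub_smul_mem_span1 hχ hξ (hD.char _ hχ) (hD.char _ hξ)
    obtain ⟨-, k, hk, hk'⟩ := hS ▸ hχ
    have hk1 : (k : G) ≠ 1 := fun e => hk' (by rw [show k = 1 from Subtype.ext e])
    have h3 := classInner_eq_of_const (K := K.subgroupOf N) (f := fun x : N => ψ x) (c := ψ k)
      (fun x hx hx1 => h2 _ hx _ hk (fun e => hx1 (Subtype.ext e)) hk1)
      (fun x hx => mem_span_vanish
        (fun φ hφ => apply_eq_zero_of_mem_inducedIrrAbove (hS' ▸ hφ) hx) m.1) m.2
    rw [← classInner_indFun_right _ _ hψ.isClassFunction, ← indLin_apply, ← hν.agree _ m.2,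
      classInner_eq_zero_comm.1 (orth_span_of
        (fun φ hφ => classInner_one_of_mem_inducedIrrAbove (hS' ▸ hφ))
        (mem_span_complex_of_int m.1)), mul_zero] at h3
    have h4 : classInner (ν χ) (ν (ξ 1 • χ - χ 1 • ξ)) = 0 := by
      rw [← e χ (Submodule.subset_span hχ)] at h1
      rcases h1 with h1 | h1
      · rw [← h1, h3]
      · rw [h1, classInner_neg_left, neg_eq_zero] at h3; exact h3
    rw [hν.inner_span (Submodule.subset_span hχ) (mem_span_complex_of_int m.1),
      classInner_sub_right, classInner_smul_right, classInner_smul_right,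
      hD.orth χ hχ ξ hξ hne.symm, (hirr χ hχ).classInner_self] at h4
    exact hD.one_ne_zero hξ (by simpa using h4)
  · rintro ⟨a, ha, b, hb, ha1, hb1, hab⟩
    by_contra h1
    push Not at h1
    refine hab (apply_eq_of_orth_span1 (K := K.subgroupOf N) (hψ.isClassFunction.restrict N)
      (fun α hα => ?_) (a := ⟨a, hlt.le ha⟩) (b := ⟨b, hlt.le hb⟩) ha
      (fun e => ha1 (congrArg Subtype.val e)) hb fun e => hb1 (congrArg Subtype.val e))
    replace hα : α ∈ span1 S := hS ▸ hα
    rw [← classInner_indFun_right _ _ hψ.isClassFunction, ← indLin_apply, ← hν.agree _ hα.2,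
      classInner_eq_zero_comm]
    have h2 : ν α ∈ Submodule.span ℂ (ν '' S) :=
      Submodule.apply_mem_span_image_of_mem_span ν (mem_span_complex_of_int hα.1)
    refine orth_span_of ?_ h2
    rintro _ ⟨χ, hχ, rfl⟩
    by_contra h3
    have := h1 χ hχ
    rw [← e χ (Submodule.subset_span hχ)] at this
    exact ((hψ.isDirr).eq_or_eq_neg (hν.isDirr hχ (hirr χ hχ))
      (mt classInner_eq_zero_comm.1 h3)).elim this.1 this.2

/-- Let K be a subgroup of the finite group G that meets each conjugate by an element outside its normalizer N trivially, is properly contained in N, and contains the centralizer of each of its non-identity elements (a T.I. subgroup with Frobenius normalizer). Let S be the set of irreducible characters of N taking at some element of K a value different from their degree, suppose S has at least two members, and let star be a linear isometry on the integer span of S into the generalized characters of G that agrees with induction on the members vanishing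 at the identity (so S is coherent, with star as the extending isometry). Then an irreducible character ψ of G is of the form star χ or -star χ for some χ in S if and only if ψ is not constant on the non-identity elements of K. -/
theorem result {G : Type*} [Group G] [Fintype G] (K : Subgroup G) (hTI : ∀ g : G, g ∉ Subgroup.normalizer (K : Set G) → ∀ k ∈ K, g * k * g⁻¹ ∈ K → k = 1) (hlt : K < Subgroup.normalizer (K : Set G)) (hC : ∀ k ∈ K, k ≠ 1 → Subgroup.centralizer ({k} : Set G) ≤ K) [Fintype ↥(Subgroup.normalizer (K : Set G))] (S : Set (↥(Subgroup.normalizer (K : Set G)) → ℂ)) (hS : S = {χ : ↥(Subgroup.normalizer (K : Set G)) → ℂ | Cfsg.IsIrrCharacter ↥(Subgroup.normalizer (K : Set G)) χ ∧ ∃ k : ↥(Subgroup.normalizer (K : Set G)), (k : G) ∈ K ∧ χ k ≠ χ 1}) (htwo : ∃ χ ∈ S, ∃ ξ ∈ S, χ ≠ ξ) (star : (↥(Subgroup.normalizer (K : Set G)) → ℂ) → (G → ℂ)) (hstar : Cfsg.IsLinearIsometryOn (Cfsg.zspan S) star) (hext : ∀ α ∈ Cfsg.zspanOn S ({1}ᶜ : Set ↥(Subgroup.normalizer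 (K : Set G))), star α = Cfsg.indFun (Subgroup.normalizer (K : Set G)) α) (ψ : G → ℂ) (hψ : Cfsg.IsIrrCharacter G ψ) : (∃ χ ∈ S, ψ = star χ ∨ ψ = -star χ) ↔ ∃ a ∈ K, ∃ b ∈ K, a ≠ 1 ∧ b ≠ 1 ∧ ψ a ≠ ψ b := by
  have : (K.subgroupOf (Subgroup.normalizer (K : Set G))).Normal :=
    Subgroup.normal_subgroupOf_of_le_normalizer le_rfl
  exact aux K _ hTI hlt hC S hS htwo star hstar hext ψ hψ

end Cfsg.Agent.S0852
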