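import Cfsg.Statements.S0853
import Cfsg.Agent.Char.Coh3

set_option autoImplicit false
open Cfsg

namespace Cfsg.Agent.S0853

open Cfsg.Agent.Char

open Cfsg Cfsg.Agent.Char in
theorem aux {G : Type*} [Group G] [Fintype G] (K N : Subgroup G) [(K.subgroupOf N).Normal]
    (hTI : ∀ g : G, g ∉ N → ∀ k ∈ K, g * k * g⁻¹ ∈ K → k = 1) (hlt : K < N)
    (hC : ∀ k ∈ K, k ≠ 1 → Subgroup.centralizer ({k} : Set G) ≤ K) [Fintype N] (S : Set (N → ℂ))
    (hS : S = {χ : N → ℂ | Cfsg.IsIrrCharacter N χ ∧ ∃ k : N, (k : G) ∈ K ∧ χ k ≠ χ 1})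
    (htwo : ∃ χ ∈ S, ∃ ξ ∈ S, χ ≠ ξ) (star : (N → ℂ) → (G → ℂ))
    (hstar : Cfsg.IsLinearIsometryOn (Cfsg.zspan S) star)
    (hext : ∀ α ∈ Cfsg.zspanOn S ({1}ᶜ : Set N), star α = Cfsg.indFun N α) :
    ∃ m : ℤ, ∀ χ ∈ S, ∀ k : N, (k : G) ∈ K → k ≠ 1 →
      star χ k - χ k = (m : ℂ) * χ 1 / ((K.subgroupOf N).index : ℂ) := by
  classical
  have hC' := centralizer_le_subgroupOf (N := N) fun k hk h => inf_le_right.trans (hC k hk h)
  have hS' : S = inducedIrrAbove (K.subgroupOf N) ⊥ := by rw [inducedIrrAbove_bot_eq hC', hS]; rfl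
  have hD : DegIso S (indLin N) := hS' ▸ degIso_indLin_seqInd hTI ⊥
  rw [zspanOn_eq_span1] at hext
  obtain ⟨ν, hν, e⟩ := exists_cohWith_of_isometry (τ := indLin N) hD.char hD.ne_zero hstar hext
  obtain ⟨χ₀, hχ₀, -⟩ := htwo
  obtain ⟨-, k₀, hk₀, hk'⟩ := hS ▸ hχ₀
  have hk1 : k₀ ≠ 1 := fun e => hk' (by rw [e])
  have h1 : ∀ χ ∈ S, IsGeneralizedCharacter N ((fun x : N => ν χ x) - χ) :=
    fun χ hχ => ((hν.gen χ hχ).restrict N).sub (hD.char χ hχ).isGen
  have h2 : ∀ χ ∈ S, ∀ k : N, (k : G) ∈ K → k ≠ 1 → ν χ k - χ k = ν χ k₀ - χ k₀ := by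
    intro χ hχ k hk hk'
    refine apply_eq_of_orth_span1 (K := K.subgroupOf N) (h1 χ hχ).isClassFunction
      (fun α hα => ?_) hk hk' hk₀ hk1
    replace hα : α ∈ span1 S := hS ▸ hα
    rw [classInner_sub_left, ← classInner_indFun_right _ _ (hν.gen χ hχ).isClassFunction,
      ← indLin_apply, ← hν.agree _ hα.2,
      hν.inner_span (Submodule.subset_span hχ) (mem_span_complex_of_int hα.1), sub_self]
  set c := (ν χ₀ k₀ - χ₀ k₀) / χ₀ 1 with hc
  have h3 : ∀ χ ∈ S, ν χ k₀ - χ k₀ = c * χ 1 := by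
    intro χ hχ
    have m := smul_sub_smul_mem_span1 hχ hχ₀ (hD.char _ hχ) (hD.char _ hχ₀)
    have h3 := indFun_apply_TI (T := K) hTI
      (mem_span_isGen (fun φ hφ => (hD.char φ hφ).isGen) m.1).isClassFunction
      (fun x hx => mem_span_vanish
        (fun φ hφ => apply_eq_zero_of_mem_inducedIrrAbove (hS' ▸ hφ) hx) m.1) k₀ hk₀ hk1
    rw [← indLin_apply, ← hν.agree _ m.2] at h3
    simp only [map_sub, map_smul, Pi.sub_apply, Pi.smul_apply, smul_eq_mul] at h3
    have h4 := hD.one_ne_zero hχ₀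
    rw [hc]
    field_simp
    linear_combination h3
  set K' := K.subgroupOf N with hK'
  have : Nontrivial K' := ⟨⟨⟨k₀, hk₀⟩, 1, fun e => hk1 (congrArg Subtype.val e)⟩⟩
  have h4 : ∀ χ ∈ S, ∃ n : ℤ, c * χ 1 = n := by
    intro χ hχ
    obtain ⟨n, -, h4, -⟩ := exists_int_of_const ((h1 χ hχ).restrict K') (c := c * χ 1)
      fun k hk => (h2 χ hχ k k.2 fun e => hk (Subtype.ext e)).trans (h3 χ hχ)
    exact ⟨n, h4⟩
  have h5 : ∀ θ, IsIrrCharacter K' θ → θ ≠ (fun _ => 1) → ∃ n : ℤ, c * K'.index * θ 1 = n := by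
    intro θ h5 h6
    obtain ⟨n, hn⟩ := h4 (indFun K' θ)
      (hS' ▸ ⟨θ, h5, h6, fun a ha => by rw [show a = 1 from Subtype.ext ha], rfl⟩)
    exact ⟨n, by rw [← hn, indFun_one, mul_assoc]⟩
  have := Fintype.ofFinite K'
  have h6 : IsGeneralizedCharacter K' ((c * K'.index) • ((fun g => if g = 1 then
      (Nat.card K' : ℂ) else 0) - fun _ => 1)) := by
    refine ((isCharacter_regular.isClassFunction.sub (isClassFunction_const 1)).smul
      _).isGen_of_classInner fun θ hθ => ?_
    rw [classInner_smul_left, classInner_sub_left, isCharacter_regular.classInner_comm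
      hθ.isCharacter, classInner_regular]
    by_cases h6 : θ = fun _ => 1
    · exact ⟨0, by rw [h6, isIrrCharacter_one.classInner_self]; simp⟩
    · rw [isIrrCharacter_one.classInner_of_ne hθ (Ne.symm h6), sub_zero]
      exact h5 θ hθ h6
  obtain ⟨n, -, h7, -⟩ := exists_int_of_const h6 (c := -(c * K'.index))
    fun k hk => by simp [hk]
  refine ⟨-n, fun χ hχ k hk hk' => ?_⟩
  rw [← e χ (Submodule.subset_span hχ), h2 χ hχ k hk hk', h3 χ hχ, Int.cast_neg, ← h7]
  have : (K'.index : ℂ) ≠ 0 := by exact_mod_cast (Core.index_pos K').ne'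
  field_simp

/-- Let K be a subgroup of the finite group G that meets each conjugate by an element outside its normalizer N trivially, is properly contained in N, and contains the centralizer of each of its non-identity elements (a T.I. subgroup with Frobenius normalizer). Let S be the set of irreducible characters of N taking at some element of K a value different from their degree, suppose S has at least two members, and let star be a linear isometry on the integer span of S into the generalized characters of G that agrees with induction on the members vanishing at the identity (so S is coherent, with star as the extending isometry). Then there is a single integer m such that star χ k - χ k = m * χ 1 / e for every χ in S and every non-identity element k of K, where e is the index of K in N. -/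
theorem result {G : Type*} [Group G] [Fintype G] (K : Subgroup G) (hTI : ∀ g : G, g ∉ Subgroup.normalizer (K : Set G) → ∀ k ∈ K, g * k * g⁻¹ ∈ K → k = 1) (hlt : K < Subgroup.normalizer (K : Set G)) (hC : ∀ k ∈ K, k ≠ 1 → Subgroup.centralizer ({k} : Set G) ≤ K) [Fintype ↥(Subgroup.normalizer (K : Set G))] (S : Set (↥(Subgroup.normalizer (K : Set G)) → ℂ)) (hS : S = {χ : ↥(Subgroup.normalizer (K : Set G)) → ℂ | Cfsg.IsIrrCharacter ↥(Subgroup.normalizer (K : Set G)) χ ∧ ∃ k : ↥(Subgroup.normalizer (K : Set G)), (k : G) ∈ K ∧ χ k ≠ χ 1}) (htwo : ∃ χ ∈ S, ∃ ξ ∈ S, χ ≠ ξ) (star : (↥(Subgroup.normalizer (K : Set G)) → ℂ) → (G → ℂ)) (hstar : Cfsg.IsLinearIsometryOn (Cfsg.zspan S) star) (hext : ∀ α ∈ Cfsg.zspanOn S ({1}ᶜ : Set ↥(Subgroup.normalizer (K : Set G))), star α = Cfsg.indFun (Subgroup.normalizer (K : Set G)) α) : ∃ m : ℤ, ∀ χ ∈ S, ∀ k : ↥(Subgroup.normalizer (K : Set G)), (k : G) ∈ K → k ≠ 1 → star χ k - χ k = (m : ℂ) * χ 1 / ((K.subgroupOf (Subgroup.normalizer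 (K : Set G))).index : ℂ) := by
  have : (K.subgroupOf (Subgroup.normalizer (K : Set G))).Normal :=
    Subgroup.normal_subgroupOf_of_le_normalizer le_rfl
  exact aux K _ hTI hlt hC S hS htwo star hstar hext

end Cfsg.Agent.S0853
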