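import Cfsg.Statements.S0875
import Cfsg.Agent.Char.Brauer2

set_option autoImplicit false
open Cfsg

namespace Cfsg.Agent.S0875

open Cfsg.Agent.Char

/-- Let G be a finite group of order m * n with m and n coprime, and g an element whose order is coprime to m. Every x in G factors uniquely as x = u * v with u, v commuting, the order of u coprime to n and the order of v coprime to m; let ϑ be the function on G equal to n at those x whose factor v is conjugate to g and equal to 0 elsewhere. Then ϑ is a linear combination of the irreducible characters of G with algebraic-integer coefficients. -/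
theorem result {G : Type*} [Group G] [Fintype G] (m n : ℕ) (hmn : Nat.card G = m * n) (hcop : Nat.Coprime m n) (g : G) (hg : Nat.Coprime (orderOf g) m) (ϑ : G → ℂ) (hϑ1 : ∀ x : G, (∃ v : G, IsConj v g ∧ (∃ u : G, x = u * v ∧ Commute u v ∧ Nat.Coprime (orderOf u) n ∧ Nat.Coprime (orderOf v) m)) → ϑ x = n) (hϑ0 : ∀ x : G, (¬ ∃ v : G, IsConj v g ∧ (∃ u : G, x = u * v ∧ Commute u v ∧ Nat.Coprime (orderOf u) n ∧ Nat.Coprime (orderOf v) m)) → ϑ x = 0) : ∃ c : Cfsg.IrrCharacter G → ℂ, (∀ χ, c χ ∈ Cfsg.AlgInt) ∧ ϑ = ∑ᶠ χ : Cfsg.IrrCharacter G, c χ • (χ : G → ℂ) := by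
  classical
  obtain ⟨k, hk, hk'⟩ := Nat.chineseRemainder hcop 0 1
  have hm : ∀ u : G, (orderOf u).Coprime n → orderOf u ∣ m := fun u hu =>
    hu.dvd_of_dvd_mul_right (hmn ▸ orderOf_dvd_natCard u)
  have hn : ∀ u : G, (orderOf u).Coprime m → orderOf u ∣ n := fun u hu =>
    hu.dvd_of_dvd_mul_left (hmn ▸ orderOf_dvd_natCard u)
  have e : ϑ = fun x => (n : ℂ) * classInd g (x ^ k) := by
    ext x
    by_cases h : IsConj g (x ^ k)
    · rw [hϑ1 x, classInd, if_pos h, mul_one]
      have hx : x ^ (m * n) = 1 := hmn ▸ pow_card_eq_one'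
      obtain ⟨a, ha⟩ := (Nat.modEq_zero_iff_dvd).1 hk
      have h1 : orderOf (x ^ k) ∣ n := orderOf_dvd_of_pow_eq_one (by
        rw [← pow_mul, ha, mul_right_comm, pow_mul, hx, one_pow])
      refine ⟨x ^ k, h.symm, x * (x ^ k)⁻¹, by simp,
        ((Commute.refl x).mul_left (Commute.self_pow x k).symm.inv_left).pow_right k, ?_,
        hcop.symm.coprime_dvd_left h1⟩
      refine hcop.coprime_dvd_left (orderOf_dvd_of_pow_eq_one ?_)
      rw [(Commute.self_pow x k).inv_right.mul_pow, inv_pow, mul_inv_eq_one, ← pow_mul,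
        pow_eq_pow_iff_modEq]
      refine Nat.ModEq.of_dvd (orderOf_dvd_of_pow_eq_one hx) ?_
      rw [mul_comm k m]
      simpa using (hk'.mul_left' m).symm
    · rw [hϑ0 x, classInd, if_neg h, mul_zero]
      rintro ⟨v, h1, u, rfl, h2, h3, h4⟩
      rw [pow_eq_part hk hk' h2.eq (hm u h3) (hn v h4)] at h
      exact h h1.symm
  have hc : IsClassFunction G ϑ := fun a b => by
    simp only [e, conj_pow, isClassFunction_classInd g _ b]
  refine ⟨fun χ => classInner ϑ χ, fun χ => ?_, ?_⟩
  · rw [e]; exact isIntegral_classInner_part hcop hmn.dvd hk hk' g χ.2.isGen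
  · rw [finsum_eq_sum_of_fintype]; exact hc.eq_sum_irr

end Cfsg.Agent.S0875
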