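import Cfsg.Statements.S0876
import Cfsg.Agent.Char.Brauer2
import Cfsg.Agent.Blk.Loc

set_option autoImplicit false
open Cfsg

namespace Cfsg.Agent.S0876

open Cfsg.Agent.Char

open Cfsg.Agent.Blk in
theorem sub_mem {G : Type*} [Group G] [Finite G] {p : ℕ} {M : Ideal AlgInt} [PMod p M] {χ : G → ℂ}
    (hχ : IsCharacter G χ) {a y : G} (h : Commute a y) {k : ℕ} (ha : orderOf a = p ^ k) :
    χ (a * y) - χ y ∈ LP M := by
  let A := Subgroup.closure ({a, y} : Set G)
  have hA : IsMulCommutative A := Subgroup.isMulCommutative_closure (by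
    rintro b (rfl | rfl) c (rfl | rfl)
    exacts [rfl, h.eq, h.symm.eq, rfl])
  have h1 : a ∈ A := Subgroup.subset_closure (by simp)
  have h2 : y ∈ A := Subgroup.subset_closure (by simp)
  obtain ⟨n, l, -, hl⟩ := (hχ.restrict A).exists_sum_hom_of_comm hA.is_comm.comm
  have e1 := hl (⟨a, h1⟩ * ⟨y, h2⟩)
  have e2 := hl ⟨y, h2⟩
  simp only [Subgroup.coe_mul, map_mul, Units.val_mul] at e1 e2
  rw [e1, e2, ← Finset.sum_sub_distrib]
  refine AddSubgroup.sum_mem _ fun i _ => ?_
  rw [← sub_one_mul]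
  refine LP_mul_right (sub_one_mem_LP (k := k) ?_)
    (LR_of_isIntegral ((isCharacter_hom (l i)).isIntegral _))
  rw [← ha, ← hom_pow_orderOf (l i) ⟨a, h1⟩, ← Subgroup.orderOf_coe]

/-- Let G be a finite group, p a prime and M a maximal ideal of the ring of algebraic integers containing p. Let x, y be elements with p-parts a and b (so a⁻¹ * x and b⁻¹ * y are their p-regular parts). Then a⁻¹ * x and b⁻¹ * y are conjugate in G if and only if, for every irreducible character χ, the difference χ x - χ y lies in the local ideal at M. -/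
theorem result {G : Type*} [Group G] [Finite G] (p : ℕ) (M : Ideal Cfsg.AlgInt) (hM : Cfsg.IsPModular p M) (x y a b : G) (ha : Cfsg.IsPPart p x a) (hb : Cfsg.IsPPart p y b) : IsConj (a⁻¹ * x) (b⁻¹ * y) ↔ ∀ χ : Cfsg.IrrCharacter G, Cfsg.MemLocalIdeal M ((χ : G → ℂ) x - (χ : G → ℂ) y) := by
  classical
  have : Blk.PMod p M := ⟨hM⟩
  have := Fintype.ofFinite G
  obtain ⟨x', rfl, h1, ⟨i, h2⟩, h3⟩ := ha
  obtain ⟨y', rfl, h4, ⟨j, h5⟩, h6⟩ := hb
  simp only [inv_mul_cancel_left]
  refine ⟨fun h χ => ?_, fun h => ?_⟩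
  · refine Blk.LP_trans (sub_mem χ.2.isCharacter h1 h2) ?_
    rw [χ.2.isClassFunction.of_isConj h]
    exact Blk.LP_symm (sub_mem χ.2.isCharacter h4 h5)
  by_contra hne
  have hp := hM.1
  obtain ⟨e, n, hn, hG⟩ := Nat.exists_eq_pow_mul_and_not_dvd (Nat.card_pos (α := G)).ne' p hp.ne_one
  have hcop : (p ^ e).Coprime n := ((hp.coprime_iff_not_dvd).2 hn).pow_left _
  obtain ⟨k, hk, hk'⟩ := Nat.chineseRemainder hcop 0 1
  have hm' : ∀ (u : G) (i : ℕ), orderOf u = p ^ i → orderOf u ∣ p ^ e := fun u i hu =>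
    Nat.Coprime.dvd_of_dvd_mul_right (by rw [hu]; exact ((hp.coprime_iff_not_dvd).2 hn).pow_left _)
      (hG ▸ orderOf_dvd_natCard u)
  have hn' : ∀ u : G, ¬ p ∣ orderOf u → orderOf u ∣ n := fun u hu =>
    Nat.Coprime.dvd_of_dvd_mul_left (((hp.coprime_iff_not_dvd).2 hu).symm.pow_right _)
      (hG ▸ orderOf_dvd_natCard u)
  let θ : G → ℂ := fun x => (n : ℂ) * classInd x' (x ^ k)
  have hc : IsClassFunction G θ := fun a b => by
    simp only [θ, conj_pow, isClassFunction_classInd x' _ b]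
  have key : θ (a * x') - θ (b * y') ∈ Blk.LP M := by
    rw [hc.apply_eq_sum_irr, hc.apply_eq_sum_irr (b * y'), ← Finset.sum_sub_distrib]
    refine AddSubgroup.sum_mem _ fun χ _ => ?_
    rw [← mul_sub]
    exact Blk.LP_mul_left (Blk.LR_of_isIntegral
      (isIntegral_classInner_part hcop hG.dvd hk hk' x' χ.2.isGen)) (h χ)
  simp only [θ, pow_eq_part hk hk' h1.eq (hm' a i h2) (hn' x' h3),
    pow_eq_part hk hk' h4.eq (hm' b j h5) (hn' y' h6), classInd, if_neg hne, IsConj.refl,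
    if_true, mul_one, mul_zero, sub_zero] at key
  exact hn (Blk.natCast_mem_LP.1 key)

end Cfsg.Agent.S0876
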