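import Cfsg.Statements.S0900
import Cfsg.Agent.Char.Clifford2

set_option autoImplicit false
open Cfsg

namespace Cfsg.Agent.S0900

open Cfsg.Agent.Char

/-- Let N be a normal subgroup of the finite group G, χ an irreducible character of G and ϑ an irreducible character of N having nonzero inner product with the restriction of χ. Consider: (a) the restriction of χ to N is e • ϑ for a natural number e with e ^ 2 equal to the index of N; (b) χ vanishes outside N and ϑ is invariant under conjugation by G; (c) ϑ is invariant and every irreducible character of G having nonzero inner product with the function induced from ϑ equals χ. Then (a) ↔ (b) and (a) ↔ (c). -/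
theorem result {G : Type*} [Group G] [Fintype G] (N : Subgroup G) [hN : N.Normal] [Fintype N] (χ : G → ℂ) (hχ : Cfsg.IsIrrCharacter G χ) (ϑ : N → ℂ) (hϑ : Cfsg.IsIrrCharacter N ϑ) (hcon : Cfsg.classInner (fun n : N => χ n) ϑ ≠ 0) : ((∃ e : ℕ, (fun n : N => χ n) = (e : ℂ) • ϑ ∧ e ^ 2 = N.index) ↔ ((∀ g : G, g ∉ N → χ g = 0) ∧ ∀ (g : G) (n : N), ϑ ⟨g * n * g⁻¹, hN.conj_mem (n : G) n.2 g⟩ = ϑ n)) ∧ ((∃ e : ℕ, (fun n : N => χ n) = (e : ℂ) • ϑ ∧ e ^ 2 = N.index) ↔ (∀ (g : G) (n : N), ϑ ⟨g * n * g⁻¹, hN.conj_mem (n : G) n.2 g⟩ = ϑ n ∧ ∀ ψ : G → ℂ, Cfsg.IsIrrCharacter G ψ → Cfsg.classInner (Cfsg.indFun N ϑ) ψ ≠ 0 → ψ = χ)) := by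
  obtain ⟨e, he⟩ := (hχ.isCharacter.restrict N).classInner_nat hϑ.isCharacter
  have hA : (∃ e : ℕ, (fun n : N => χ n) = (e : ℂ) • ϑ ∧ e ^ 2 = N.index) →
      ∀ g, conjBy ϑ g = ϑ := by
    rintro ⟨e, h1, h2⟩
    refine invariant_of_restrict_eq_smul hχ.isClassFunction ?_ h1
    rintro h
    rw [Nat.cast_eq_zero] at h
    exact N.index_ne_zero_of_finite (by rw [← h2, h]; rfl)
  have hB : (∀ g, conjBy ϑ g = ϑ) → (fun n : N => χ n) = (e : ℂ) • ϑ := fun h => by
    rw [← he]; exact hχ.clifford_invariant hϑ h hcon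
  refine ⟨⟨fun h => ⟨fun g hg => ?_, fun g => congrFun (hA h g)⟩, fun h => ?_⟩,
    ⟨fun h g n => ⟨congrFun (hA h g) n, fun ψ hψ h1 => ?_⟩, fun h => ?_⟩⟩
  · obtain ⟨e, h1, h2⟩ := h
    exact vanish_of_fully_ramified hχ hϑ h1 h2 hg
  · have h1 := hB fun g => funext (h.2 g)
    exact ⟨e, h1, sq_eq_index_of_vanish hχ hϑ h1 h.1⟩
  · obtain ⟨e, h2, h3⟩ := h
    rw [indFun_eq_smul_of_fully_ramified hχ hϑ h2 h3, classInner_smul_left] at h1
    exact (hχ.eq_of_classInner_ne_zero hψ (right_ne_zero_of_mul h1)).symm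
  · have h1 := hB fun g => funext fun n => (h g n).1
    exact ⟨e, h1, sq_eq_index_of_indFun_eq_smul hχ hϑ h1
      ((isClassFunction_indFun N ϑ).eq_smul_of_unique hχ (h 1 1).2)⟩

end Cfsg.Agent.S0900
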