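import Cfsg.Statements.S0901
import Cfsg.Agent.Blk.Main

set_option autoImplicit false
open Cfsg

namespace Cfsg.Agent.S0901

open Cfsg.Agent.Blk Cfsg.Agent.Char Cfsg.Agent.PLoc


theorem result (p : ℕ) [Fact p.Prime] (M : Ideal Cfsg.AlgInt) (hM : Cfsg.IsPModular p M) : (∀ ε₁ ε₂ : Cfsg.AlgInt, (∃ m : ℕ, ¬ p ∣ m ∧ (ε₁ : ℂ) ^ m = 1) → (∃ m : ℕ, ¬ p ∣ m ∧ (ε₂ : ℂ) ^ m = 1) → ε₁ - ε₂ ∈ M → ε₁ = ε₂) ∧ (∀ a : Cfsg.AlgInt, a ∉ M → ∃ ε : Cfsg.AlgInt, (∃ m : ℕ, ¬ p ∣ m ∧ (ε : ℂ) ^ m = 1) ∧ a - ε ∈ M) := by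
  haveI : PMod p M := ⟨hM⟩
  have hp := hM.1
  refine ⟨?_, ?_⟩
  · rintro e₁ e₂ ⟨m₁, hm₁, h₁⟩ ⟨m₂, hm₂, h₂⟩ h
    have h0 : m₂ ≠ 0 := by rintro rfl; simp at hm₂
    have he : (e₂ : ℂ) ≠ 0 := by rintro h; rw [h, zero_pow h0] at h₂; exact zero_ne_one h₂
    have hinv : (e₂ : ℂ)⁻¹ ∈ LR M :=
      LR_of_isIntegral (Blk.isIntegral_of_pow_eq_one h0 (by rw [inv_pow, h₂, inv_one]))
    have h3 : (e₁ : ℂ) * (e₂ : ℂ)⁻¹ = 1 := by
      refine eq_one_of_pow_eq_one_of_sub_mem (M := M) (m := m₁ * m₂)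
        (fun h => (hp.dvd_mul.mp h).elim hm₁ hm₂) ?_ ?_
      · rw [mul_pow, pow_mul, h₁, mul_comm m₁, pow_mul, inv_pow, h₂]; simp
      · have := LP_mul_right (algInt_mem_LP.mpr h) hinv
        push_cast at this
        rwa [sub_mul, mul_inv_cancel₀ he] at this
    exact Subtype.ext ((mul_inv_eq_one₀ he).mp h3)
  · intro a ha
    let a' : LR M := ⟨a, algInt_mem_LR a⟩
    have ha0 : res M a' ≠ 0 := fun h => ha (algInt_mem_LP.mp (res_eq_zero.mp h))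
    letI : Algebra (ZMod p) (RF M) := ZMod.algebra _ p
    have h1 : IsIntegral ℤ a' :=
      (isIntegral_algHom_iff (LR M).subtype.toIntAlgHom Subtype.val_injective).mp a.2
    have h2 : IsIntegral (ZMod p) (res M a') :=
      h1.map_of_comp_eq (Int.castRingHom (ZMod p)) (res M) (RingHom.ext_int _ _)
    haveI := (Module.Finite.iff_fg).mpr h2.fg_adjoin_singleton
    haveI : Finite (Algebra.adjoin (ZMod p) {res M a'}).toSubmodule :=
      Module.finite_of_finite (ZMod p)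
    obtain ⟨i, j, hij, h3⟩ := Finite.exists_ne_map_eq_of_infinite (fun n : ℕ =>
      (⟨res M a' ^ n, pow_mem (Algebra.self_mem_adjoin_singleton (ZMod p) (res M a')) n⟩ :
        (Algebra.adjoin (ZMod p) {res M a'}).toSubmodule))
    have h4 : res M a' ^ i = res M a' ^ j := congrArg Subtype.val h3
    obtain ⟨k, hk, h5⟩ : ∃ k, k ≠ 0 ∧ res M a' ^ k = 1 := by
      rcases lt_or_gt_of_ne hij with h | h
      · obtain ⟨d, rfl⟩ := Nat.exists_eq_add_of_lt h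
        refine ⟨d + 1, by omega, mul_left_cancel₀ (pow_ne_zero i ha0) ?_⟩
        rw [← pow_add, mul_one, h4, add_assoc]
      · obtain ⟨d, rfl⟩ := Nat.exists_eq_add_of_lt h
        refine ⟨d + 1, by omega, mul_left_cancel₀ (pow_ne_zero j ha0) ?_⟩
        rw [← pow_add, mul_one, ← h4, add_assoc]
    obtain ⟨s, m, hm, rfl⟩ := Nat.exists_eq_pow_mul_and_not_dvd hk p hp.one_lt.ne'
    have h6 : res M a' ^ m = 1 := by
      have : (res M a' ^ m - 1) ^ p ^ s = 0 := by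
        rw [sub_pow_char_pow, ← pow_mul, mul_comm, h5, one_pow, sub_self]
      exact sub_eq_zero.mp (pow_eq_zero_iff (pow_ne_zero _ hp.ne_zero) |>.mp this)
    have hm0 : m ≠ 0 := by rintro rfl; simp at hm
    have h7 : (a : ℂ) ^ m - 1 ∈ LP M := by
      rw [← map_pow, ← map_one (res M), res_eq_res] at h6; exact h6
    have h8 := congrArg (Polynomial.eval (a : ℂ))
      (Polynomial.X_pow_sub_one_eq_prod (Nat.pos_of_ne_zero hm0) (Complex.isPrimitiveRoot_exp m hm0))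
    simp only [Polynomial.eval_sub, Polynomial.eval_pow, Polynomial.eval_X, Polynomial.eval_one,
      Polynomial.eval_prod, Polynomial.eval_C] at h8
    rw [h8] at h7
    by_contra hc
    push Not at hc
    revert h7
    refine Finset.prod_induction _ (fun z => z ∈ LR M ∧ z ∉ LP M) (fun x y hx hy =>
      ⟨mul_mem hx.1 hy.1, mul_notMem_LP hx.1 hx.2 hy.2⟩) ⟨one_mem _, one_notMem_LP⟩ ?_ |>.2
    intro z hz
    have hz1 := (Polynomial.mem_nthRootsFinset (Nat.pos_of_ne_zero hm0) 1).mp hz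
    have hz2 := Blk.isIntegral_of_pow_eq_one hm0 hz1
    exact ⟨sub_mem (algInt_mem_LR a) (LR_of_isIntegral hz2),
      fun h => hc ⟨z, hz2⟩ ⟨m, hm, hz1⟩ (algInt_mem_LP.mp h)⟩

end Cfsg.Agent.S0901
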