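import Cfsg.Statements.S0902
import Cfsg.Agent.Blk.Main

set_option autoImplicit false
open Cfsg

namespace Cfsg.Agent.S0902

open Cfsg.Agent.Blk Cfsg.Agent.Char Cfsg.Agent.PLoc


theorem result {G : Type*} [Group G] [Finite G] (p : ℕ) [Fact p.Prime] (M : Ideal Cfsg.AlgInt) (hM : Cfsg.IsPModular p M) (χ ψ : Cfsg.IrrCharacter G) (h : Cfsg.SameBlock M (χ : G → ℂ) (ψ : G → ℂ)) (M' : Ideal Cfsg.AlgInt) (hM' : Cfsg.IsPModular p M') (g : G) : ∃ r : Cfsg.AlgInt, r ∈ M' ∧ (r : ℂ) = Cfsg.centralChar (χ : G → ℂ) g - Cfsg.centralChar (ψ : G → ℂ) g := by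
  haveI : PMod p M := ⟨hM⟩
  obtain ⟨θ, hθ, h0⟩ := exists_nu_eq (p := p) (isPBlock_blockOf (M := M) χ)
  have h1 := ne_zero_of_notMem_LP (om_aR_notMem (isPBlock_blockOf χ) hθ (mem_blockOf_self χ) h0)
  have h2 := ne_zero_of_notMem_LP (om_aR_notMem (isPBlock_blockOf χ) hθ h h0)
  haveI : PMod p M' := ⟨hM'⟩
  have h3 : SameBlock M' (θ : G → ℂ) χ := by
    by_contra h; exact h1 (om_aR_eq_zero h)
  have h4 : SameBlock M' (θ : G → ℂ) ψ := by
    by_contra h; exact h2 (om_aR_eq_zero h)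
  exact ⟨⟨_, (isIntegral_centralChar χ g).sub (isIntegral_centralChar ψ g)⟩,
    algInt_mem_LP.mp (sameBlock_trans (sameBlock_symm h3) h4 g), rfl⟩

end Cfsg.Agent.S0902
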