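import Cfsg.Statements.S0903
import Cfsg.Agent.Blk.More

set_option autoImplicit false
open Cfsg

namespace Cfsg.Agent.S0903

open Cfsg.Agent.Blk Cfsg.Agent.Char Cfsg.Agent.PLoc


theorem result {G : Type*} [Group G] [Finite G] (p : ℕ) [Fact p.Prime] (P : Subgroup G) (hP : IsPGroup p P) (c : G) (hc : c ∈ Subgroup.centralizer (P : Set G)) (g h : G) : Nat.card {xy : G × G // IsConj g xy.1 ∧ IsConj h xy.2 ∧ xy.1 * xy.2 = c} ≡ Nat.card {xy : G × G // IsConj g xy.1 ∧ IsConj h xy.2 ∧ xy.1 * xy.2 = c ∧ xy.1 ∈ Subgroup.centralizer (P : Set G) ∧ xy.2 ∈ Subgroup.centralizer (P : Set G)} [MOD p] := by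
  letI : MulAction P {xy : G × G // IsConj g xy.1 ∧ IsConj h xy.2 ∧ xy.1 * xy.2 = c} :=
    { smul := fun u xy => ⟨(u * xy.1.1 * u⁻¹, u * xy.1.2 * u⁻¹), xy.2.1.trans (isConj_conj _ _),
        xy.2.2.1.trans (isConj_conj _ _), by
          rw [Subgroup.coe_inv, conj_mul, xy.2.2.2, hc u u.2, mul_inv_cancel_right]⟩
      one_smul := fun xy => Subtype.ext (Prod.ext (by simp [HSMul.hSMul]) (by simp [HSMul.hSMul]))
      mul_smul := fun u v xy => Subtype.ext (Prod.ext (by simp [HSMul.hSMul, mul_assoc])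
        (by simp [HSMul.hSMul, mul_assoc])) }
  refine (hP.card_modEq_card_fixedPoints _).trans (congrArg (· % p) ?_)
  refine Nat.card_congr ⟨fun x => ⟨x.1.1, x.1.2.1, x.1.2.2.1, x.1.2.2.2, fun u hu => ?_,
    fun u hu => ?_⟩, fun x => ⟨⟨x.1, x.2.1, x.2.2.1, x.2.2.2.1⟩, fun u => Subtype.ext
      (Prod.ext (mul_inv_eq_iff_eq_mul.mpr (x.2.2.2.2.1 u u.2))
        (mul_inv_eq_iff_eq_mul.mpr (x.2.2.2.2.2 u u.2)))⟩, fun _ => rfl, fun _ => rfl⟩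
  · exact mul_inv_eq_iff_eq_mul.mp (congrArg (fun y => y.1.1) (x.2 ⟨u, hu⟩))
  · exact mul_inv_eq_iff_eq_mul.mp (congrArg (fun y => y.1.2) (x.2 ⟨u, hu⟩))

end Cfsg.Agent.S0903
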