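import Cfsg.Statements.S0905
import Cfsg.Agent.Blk.Main

set_option autoImplicit false
open Cfsg

namespace Cfsg.Agent.S0905

open Cfsg.Agent.Blk Cfsg.Agent.Char Cfsg.Agent.PLoc


theorem result {G : Type*} [Group G] [Finite G] (p : ℕ) [Fact p.Prime] (F : Type*) [Field F] [CharP F p] (g : G) (hg : ∀ x : G, IsConj g x → x ∉ Subgroup.centralizer (Cfsg.pCore p G : Set G)) : IsNilpotent (∑ᶠ x ∈ ConjClasses.carrier (ConjClasses.mk g), MonoidAlgebra.single x (1 : F) : MonoidAlgebra F G) := by
  classical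
  have := Fintype.ofFinite G
  have h := isNilpotent_indicator (F := F) (pCore_isPGroup (p := p) (G := G)) (IsConj g)
    (fun x u _ h => h.trans (isConj_conj x u)) hg
  convert h using 1
  refine ga_ext fun x => ?_
  rw [finsum_mem_eq_finite_toFinset_sum _ (Set.toFinite _), coeff_sum_apply, coeff_ofFn]
  simp only [MonoidAlgebra.coeff_single, Finsupp.single_apply, Finset.sum_ite_eq',
    Set.Finite.mem_toFinset, ConjClasses.mem_carrier_iff_mk_eq, ConjClasses.mk_eq_mk_iff_isConj]
  by_cases hx : IsConj g x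
  · rw [if_pos hx, if_pos hx.symm]
  · rw [if_neg hx, if_neg (mt IsConj.symm hx)]

end Cfsg.Agent.S0905
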