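import Cfsg.Statements.S0914
import Cfsg.Agent.Blk.Main

set_option autoImplicit false
open Cfsg

namespace Cfsg.Agent.S0914

open Cfsg.Agent.Blk Cfsg.Agent.Char Cfsg.Agent.PLoc


theorem result {G : Type*} [Group G] [Finite G] (p : ℕ) [Fact p.Prime] (M : Ideal Cfsg.AlgInt) (hM : Cfsg.IsPModular p M) (χ : Cfsg.IrrCharacter G) : ¬ p ∣ Nat.card G / Cfsg.charDegree (χ : G → ℂ) ↔ Cfsg.blockOf M (χ : G → ℂ) = {χ} := by
  haveI : PMod p M := ⟨hM⟩
  have h1 : ¬ p ∣ Nat.card G / charDegree (χ : G → ℂ) ↔ nu p χ = (Nat.card G).factorization p := by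
    obtain ⟨k, hk⟩ := charDegree_dvd_card χ
    have hk0 : k ≠ 0 := by rintro rfl; exact Nat.card_pos.ne' hk
    rw [hk, Nat.mul_div_cancel_left _ (Nat.pos_of_ne_zero (charDegree_ne_zero χ)),
      Nat.factorization_mul (charDegree_ne_zero χ) hk0, Finsupp.add_apply, left_eq_add,
      Nat.factorization_eq_zero_iff]
    simp [hM.1, hk0]
  rw [h1]
  exact ⟨blockOf_eq_singleton, nu_eq_of_blockOf_eq⟩

end Cfsg.Agent.S0914
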