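import Cfsg.Statements.S0915
import Cfsg.Agent.Blk.Norm
import Cfsg.Agent.PLoc.PStable

set_option autoImplicit false
open Cfsg

namespace Cfsg.Agent.S0915

open Cfsg.Agent.Blk Cfsg.Agent.Char Cfsg.Agent.PLoc


theorem result {G : Type*} [Group G] [Finite G] (p : ℕ) [Fact p.Prime] (M : Ideal Cfsg.AlgInt) (hM : Cfsg.IsPModular p M) (hsolv : Cfsg.IsPSolvable p G) (hcore : Cfsg.pPrimeCore p G = ⊥) (χ ψ : Cfsg.IrrCharacter G) : Cfsg.SameBlock M (χ : G → ℂ) (ψ : G → ℂ) := by
  haveI : PMod p M := ⟨hM⟩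
  have hC := centralizer_pCore_le_of_isPSolvable hsolv hcore
  refine sameBlock_of_reg fun g hg => ?_
  by_cases h1 : g = 1
  · subst h1
    have : ∀ θ : IrrCharacter G, centralChar (θ : G → ℂ) 1 = 1 := fun θ => by
      rw [centralChar, mul_div_cancel_right₀ _ θ.2.one_ne_zero, Nat.cast_eq_one,
        Subgroup.index_eq_one, eq_top_iff]
      exact fun x _ => Subgroup.mem_centralizer_singleton_iff.mpr (by simp)
    rw [this, this, sub_self]; exact zero_mem _
  · have h2 : g ∉ Subgroup.centralizer (pCore p G : Set G) := fun h => h1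
      (eq_one_of_isPGroup_of_coprime pCore_isPGroup (hC h)
        ((Nat.Prime.coprime_iff_not_dvd Fact.out).mpr hg).symm)
    exact sub_mem (centralChar_mem_LP pCore_isPGroup χ h2) (centralChar_mem_LP pCore_isPGroup ψ h2)

end Cfsg.Agent.S0915
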