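import Cfsg.Statements.S0918
import Cfsg.Agent.Blk.Main

set_option autoImplicit false
open Cfsg

namespace Cfsg.Agent.S0918

open Cfsg.Agent.Blk Cfsg.Agent.Char Cfsg.Agent.PLoc


theorem result {G : Type*} [Group G] [Finite G] (p : ℕ) [Fact p.Prime] (M : Ideal Cfsg.AlgInt) (hM : Cfsg.IsPModular p M) (P H : Subgroup G) (hP : IsPGroup p P) (hPH : P ≤ H) (hCH : Subgroup.centralizer (P : Set G) ≤ H) (hHN : H ≤ Subgroup.normalizer (P : Set G)) (b : Set (Cfsg.IrrCharacter H)) (hb : Cfsg.IsPBlock M b) (B : Set (Cfsg.IrrCharacter G)) (hB : Cfsg.IsPBlock M B) : Cfsg.IsInducedBlock M H b B ↔ ∀ ξ ∈ b, ∀ χ ∈ B, ∀ g : G, Cfsg.MemLocalIdeal M (Cfsg.brauerCentralChar P H (ξ : H → ℂ) g - Cfsg.centralChar (χ : G → ℂ) g) := by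
  haveI : PMod p M := ⟨hM⟩
  have key : ∀ (ξ : IrrCharacter H) (g : G),
      inducedCentralChar H (ξ : H → ℂ) g - brauerCentralChar P H (ξ : H → ℂ) g ∈ LP M := by
    intro ξ g
    rw [← om_pull_cls, ← om_pull_br_cls]
    exact om_pull_sub_br H.subtype_injective hP (by rwa [H.range_subtype])
      (by rwa [H.range_subtype]) ξ (cls_mem_ZR g)
  exact ⟨fun h ξ hξ χ hχ g => LP_trans (LP_symm (key ξ g)) (h.2.2 ξ hξ χ hχ g),
    fun h => ⟨hb, hB, fun ξ hξ χ hχ g => LP_trans (key ξ g) (h ξ hξ χ hχ g)⟩⟩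

end Cfsg.Agent.S0918
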