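import Cfsg.Statements.S0919
import Cfsg.Agent.Blk.Main

set_option autoImplicit false
open Cfsg

namespace Cfsg.Agent.S0919

open Cfsg.Agent.Blk Cfsg.Agent.Char Cfsg.Agent.PLoc


theorem result {G : Type*} [Group G] [Finite G] (p : ℕ) [Fact p.Prime] (M : Ideal Cfsg.AlgInt) (hM : Cfsg.IsPModular p M) (P H : Subgroup G) (hP : IsPGroup p P) (hPH : P ≤ H) (hCH : Subgroup.centralizer (P : Set G) ≤ H) (hHN : H ≤ Subgroup.normalizer (P : Set G)) (b : Set (Cfsg.IrrCharacter H)) (hb : Cfsg.IsPBlock M b) : Cfsg.InducedBlockDefined M H b := by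
  haveI : PMod p M := ⟨hM⟩
  obtain ⟨ξ, hξ⟩ := blk_nonempty hb
  obtain ⟨χ, h⟩ := exists_ind (M := M) H.subtype_injective hP (by rwa [H.range_subtype])
    (by rwa [H.range_subtype]) (by rwa [H.range_subtype]) ξ
  exact ⟨_, isInduced_of_ind hb (isPBlock_blockOf χ) hξ (mem_blockOf_self χ) h⟩

end Cfsg.Agent.S0919
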