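import Cfsg.Statements.S0920
import Cfsg.Agent.Blk.First

set_option autoImplicit false
open Cfsg

namespace Cfsg.Agent.S0920

open Cfsg.Agent.Blk Cfsg.Agent.Char Cfsg.Agent.PLoc


theorem result {G : Type*} [Group G] [Finite G] (p : ℕ) [Fact p.Prime] (M : Ideal Cfsg.AlgInt) (hM : Cfsg.IsPModular p M) (D : Subgroup G) (hD : IsPGroup p D) : (∀ b : Set (Cfsg.IrrCharacter (Subgroup.normalizer (D : Set G))), Cfsg.IsPBlock M b → Cfsg.IsDefectGroup p M b (D.subgroupOf (Subgroup.normalizer (D : Set G))) → ∃ B : Set (Cfsg.IrrCharacter G), Cfsg.IsPBlock M B ∧ Cfsg.IsDefectGroup p M B D ∧ Cfsg.IsInducedBlock M (Subgroup.normalizer (D : Set G)) b B) ∧ (∀ B : Set (Cfsg.IrrCharacter G), Cfsg.IsPBlock M B → Cfsg.IsDefectGroup p M B D → ∃! b : Set (Cfsg.IrrCharacter (Subgroup.normalizer (D : Set G))), Cfsg.IsPBlock M b ∧ Cfsg.IsDefectGroup p M b (D.subgroupOf (Subgroup.normalizer (D : Set G))) ∧ Cfsg.IsInducedBlock M (Subgroup.normalizer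 (D : Set G)) b B) := by
  haveI : PMod p M := ⟨hM⟩
  have hf := (Subgroup.normalizer (D : Set G)).subtype_injective
  have hN := (Subgroup.normalizer (D : Set G)).range_subtype
  refine ⟨fun b hb h => ?_, fun B hB h => ?_⟩
  · obtain ⟨ξ, hξ⟩ := blk_nonempty hb
    obtain ⟨χ, hχ⟩ := exists_ind (M := M) hf hD (hN.symm ▸ Subgroup.le_normalizer)
      (hN.symm ▸ Subgroup.centralizer_le_normalizer _) hN.le ξ
    exact ⟨_, isPBlock_blockOf χ,
      hχ.defect_of_comap hf hN hb hξ (isPBlock_blockOf χ) (mem_blockOf_self χ) h,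
      isInduced_of_ind hb (isPBlock_blockOf χ) hξ (mem_blockOf_self χ) hχ⟩
  · obtain ⟨ξ, χ, hχ, h1, h2⟩ := exists_root_defect hB h (le_normalizer_sup_cent D) le_rfl
    refine ⟨_, ⟨isPBlock_blockOf ξ, h2,
      isInduced_of_ind (isPBlock_blockOf ξ) hB (mem_blockOf_self ξ) hχ h1⟩, ?_⟩
    rintro b ⟨hb, h3, h4⟩
    obtain ⟨ξ', hξ'⟩ := blk_nonempty hb
    exact blk_eq_of_mem hb (isPBlock_blockOf ξ)
      ((ind_of_isInduced h4 hξ' hχ).mem_of_defect hf hN h1 hb hξ' h3) (mem_blockOf_self ξ)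

end Cfsg.Agent.S0920
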