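import Cfsg.Statements.S0922
import Cfsg.Agent.Blk.Main

set_option autoImplicit false
open Cfsg

namespace Cfsg.Agent.S0922

open Cfsg.Agent.Blk Cfsg.Agent.Char Cfsg.Agent.PLoc


theorem result {G : Type*} [Group G] [Finite G] (p : ℕ) [Fact p.Prime] (M : Ideal Cfsg.AlgInt) (hM : Cfsg.IsPModular p M) (H : Subgroup G) (b : Set (Cfsg.IrrCharacter H)) (B : Set (Cfsg.IrrCharacter G)) (hind : Cfsg.IsInducedBlock M H b B) (h : H) (hC : ∀ z : G, Cfsg.IsPPart p (h : G) z → Subgroup.centralizer ({z} : Set G) ≤ H) (χ : Cfsg.IrrCharacter G) (hχ : χ ∉ B) : ∑ᶠ k : H, Cfsg.blockCoeff b k * (χ : G → ℂ) ((k : G) * (h : G)) = 0 := by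
  haveI : PMod p M := ⟨hM⟩
  have := Fintype.ofFinite H
  obtain ⟨ξ, hξ⟩ := blk_nonempty hind.1
  obtain ⟨χ₀, hχ₀⟩ := blk_nonempty hind.2.1
  have h1 := second_main H.subtype_injective hind.1 hξ (ind_of_isInduced hind hξ hχ₀)
    (fun h => hχ (blk_mem hind.2.1 hχ₀ h)) h (by rwa [H.range_subtype])
  rw [ev_mul_single] at h1
  rw [finsum_eq_sum_of_fintype]
  simpa using h1

end Cfsg.Agent.S0922
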