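import Cfsg.Statements.S0923
import Cfsg.Agent.Blk.Main

set_option autoImplicit false
open Cfsg

namespace Cfsg.Agent.S0923

open Cfsg.Agent.Blk Cfsg.Agent.Char Cfsg.Agent.PLoc


theorem result {G : Type*} [Group G] [Finite G] (p : ℕ) [Fact p.Prime] (M : Ideal Cfsg.AlgInt) (hM : Cfsg.IsPModular p M) (x : G) (hx : ∃ k : ℕ, orderOf x = p ^ k) (B : Set (Cfsg.IrrCharacter G)) (hB : Cfsg.IsPBlock M B) (χ : Cfsg.IrrCharacter G) (hχ : χ ∈ B) (b : Set (Cfsg.IrrCharacter (Subgroup.centralizer ({x} : Set G)))) (hb : Cfsg.IsPBlock M b) (hnot : ¬ Cfsg.IsInducedBlock M (Subgroup.centralizer ({x} : Set G)) b B) (y : Subgroup.centralizer ({x} : Set G)) (hy : ¬ p ∣ orderOf y) : Cfsg.blockPart b (fun c : Subgroup.centralizer ({x} : Set G) => (χ : G → ℂ) (x * (c : G))) y = 0 := by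
  haveI : PMod p M := ⟨hM⟩
  have := Fintype.ofFinite (Subgroup.centralizer ({x} : Set G))
  obtain ⟨ξ, hξ⟩ := blk_nonempty hb
  obtain ⟨χ₀, h0⟩ := exists_ind_cent (M := M) hx ξ
  let x' : Subgroup.centralizer ({x} : Set G) := ⟨x, Subgroup.mem_centralizer_singleton_iff.mpr rfl⟩
  have hxy : IsPPart p ((x' * y : Subgroup.centralizer ({x} : Set G)) : G) x :=
    ppart_mk (Subgroup.mem_centralizer_singleton_iff.mp y.2).symm hx (by rwa [Subgroup.orderOf_coe])
  have h1 := second_main (Subgroup.subtype_injective _) hb hξ h0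
    (fun h => hnot (isInduced_of_ind hb hB hξ hχ (h0.right h))) (x' * y) (cent_ppart_le_range hxy)
  rw [blockPart_eq_ev, ev_mul_single, ← h1, ev_mul_single]
  · refine Finset.sum_congr rfl fun k _ => ?_
    congr 2
    simp only [Subgroup.coe_mul, Subgroup.subtype_apply, x']
    rw [← mul_assoc, ← mul_assoc, Subgroup.mem_centralizer_singleton_iff.mp k.2]
  · intro g h
    beta_reduce
    rw [← χ.2.isClassFunction (x * g) h]
    congr 1
    simp only [Subgroup.coe_mul, Subgroup.coe_inv, ← mul_assoc]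
    rw [Subgroup.mem_centralizer_singleton_iff.mp h.2]

end Cfsg.Agent.S0923
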