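import Cfsg.Statements.S0924
import Cfsg.Agent.Blk.Main

set_option autoImplicit false
open Cfsg

namespace Cfsg.Agent.S0924

open Cfsg.Agent.Blk Cfsg.Agent.Char Cfsg.Agent.PLoc


theorem result {G : Type*} [Group G] [Finite G] (p : ℕ) [Fact p.Prime] (M : Ideal Cfsg.AlgInt) (hM : Cfsg.IsPModular p M) (χ : Cfsg.IrrCharacter G) (g x : G) (hx : Cfsg.IsPPart p g x) (hD : ∀ D : Subgroup G, Cfsg.IsDefectGroup p M (Cfsg.blockOf M (χ : G → ℂ)) D → x ∉ D) : (χ : G → ℂ) g = 0 := by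
  haveI : PMod p M := ⟨hM⟩
  by_contra hg
  obtain ⟨D, h1, h2⟩ := exists_defect_mem (isPBlock_blockOf (M := M) χ) (mem_blockOf_self χ) hx hg
  exact hD D h1 h2

end Cfsg.Agent.S0924
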