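import Cfsg.Statements.S0926
import Cfsg.Agent.Blk.Main

set_option autoImplicit false
open Cfsg

namespace Cfsg.Agent.S0926

open Cfsg.Agent.Blk Cfsg.Agent.Char Cfsg.Agent.PLoc


theorem result {G : Type*} [Group G] [Finite G] (p : ℕ) [Fact p.Prime] (M : Ideal Cfsg.AlgInt) (hM : Cfsg.IsPModular p M) (B : Set (Cfsg.IrrCharacter G)) (hB : Cfsg.IsPBlock M B) (D : Subgroup G) (hD : Cfsg.IsDefectGroup p M B D) (χ : Cfsg.IrrCharacter G) (hχ : χ ∈ B) (h0 : Cfsg.blockHeight p B (χ : G → ℂ) = 0) (x : G) (hx : ∃ k : ℕ, orderOf x = p ^ k) : (∃ g : G, g * x * g⁻¹ ∈ D) ↔ ∃ u : G, (∃ z : G, Cfsg.IsPPart p u z ∧ IsConj x z) ∧ (χ : G → ℂ) u ≠ 0 := by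
  haveI : PMod p M := ⟨hM⟩
  constructor
  · rintro ⟨g, hg⟩
    obtain ⟨y, hy, hS⟩ := isDefectGroup_iff.mp hD
    have hc : Commute (g * x * g⁻¹) y := Subgroup.mem_centralizer_singleton_iff.mp (hS.le hg)
    have hx' := IsPGroup_orderOf hS.isP hg
    refine ⟨_, ⟨_, ppart_mk hc hx' (reg_of_isDefectClass hB hy), isConj_conj x g⟩, ?_⟩
    exact ne_zero_of_notMem_LP (notMem_LP_of_sub (char_mul_sub_mem χ.2.isCharacter hc hx')
      (apply_defectClass_notMem hB hy hχ ((height_zero_iff hχ).mp h0)))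
  · rintro ⟨u, ⟨z, hz, hc⟩, hu⟩
    obtain ⟨E, hE, h1⟩ := exists_defect_mem hB hχ hz hu
    obtain ⟨v, rfl⟩ := defect_conj hB hE hD
    obtain ⟨c, rfl⟩ := isConj_iff.mp hc
    refine ⟨v * c, ?_⟩
    convert conj_mem_cj.mpr h1 using 1
    group

end Cfsg.Agent.S0926
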