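import Cfsg.Statements.S0928
import Cfsg.Agent.Blk.First

set_option autoImplicit false
open Cfsg

namespace Cfsg.Agent.S0928

open Cfsg.Agent.Blk Cfsg.Agent.Char Cfsg.Agent.PLoc


theorem result {G : Type*} [Group G] [Finite G] (p : ℕ) [Fact p.Prime] (χ : Cfsg.IrrCharacter G) (hvan : ∀ g : G, orderOf g = p → (χ : G → ℂ) g = 0) : (Cfsg.charDegree (χ : G → ℂ)).factorization p = (Nat.card G).factorization p := by
  classical
  have := Fintype.ofFinite G
  obtain ⟨M, hM⟩ := exists_isPModular p Fact.out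
  haveI : PMod p M := ⟨hM⟩
  have hB := isPBlock_blockOf (M := M) χ
  obtain ⟨D, hD⟩ := exists_defect (p := p) hB
  by_cases hc : D = ⊥
  · exact nu_eq_of_defect_bot hB (hc ▸ hD) (mem_blockOf_self χ)
  exfalso
  obtain ⟨z, hz, hzD, hz1⟩ := exists_central_order_p (defect_isPGroup hD) hc
  set s : GA G := ofFn fun g => if g ^ p = 1 then 1 else 0 with hs
  have hsZ : s ∈ ZR M G := ofFn_mem_ZR (fun g x => if_congr (by rw [conj_pow]; simp) rfl rfl)
    fun g => by split_ifs; exacts [one_mem _, zero_mem _]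
  have h1 : om χ s = 1 := by
    rw [om_def, ev_eq_sum, Finset.sum_eq_single 1]
    · simp [hs, χ.2.one_ne_zero]
    · intro g _ hg
      rw [hs, coeff_ofFn]
      split_ifs with h
      · rw [hvan g (orderOf_eq_prime h hg), mul_zero]
      · exact zero_mul _
    · simp
  obtain ⟨K, hK⟩ : ∃ K, K = D ⊔ Subgroup.centralizer (D : Set G) := ⟨_, rfl⟩
  have := Fintype.ofFinite K
  obtain ⟨ξ, ψ, hψ, h, hE⟩ := exists_root_defect hB hD hK.ge (hK ▸ le_normalizer_sup_cent D)
  have h4 : K.subtype.range ≤ Subgroup.normalizer (D : Set G) := by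
    rw [Subgroup.range_subtype, hK]; exact le_normalizer_sup_cent D
  haveI : (D.subgroupOf K).Normal := normal_comap_of_range_le h4
  have h2 := om_pull_sub_br (M := M) K.subtype_injective (defect_isPGroup hD)
    (by rw [Subgroup.range_subtype, hK]; exact le_sup_left) h4 ξ hsZ
  have h3 := LP_trans (LP_symm h2) (LP_trans (h s hsZ)
    (om_sub_mem_of_blk hB hψ (mem_blockOf_self χ) hsZ))
  rw [h1] at h3
  refine notMem_LP_of_sub h3 one_notMem_LP ?_
  have hcen : ∀ k : K, (k : G) ∈ D → (k : G) ∈ Subgroup.centralizer (D : Set G) →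
      k ∈ Subgroup.center K := by
    intro k h1 h2
    have : K ≤ Subgroup.centralizer {(k : G)} :=
      hK.le.trans (sup_le (le_cent_iff.mpr h2) fun x hx =>
        Subgroup.mem_centralizer_singleton_iff.mpr (hx _ h1).symm)
    exact Subgroup.mem_center_iff.mpr fun x =>
      Subtype.ext (Subgroup.mem_centralizer_singleton_iff.mp (this x.2))
  set F : K → ℂ := fun k => if (k : G) ∈ D ∧ (k : G) ∈ Subgroup.centralizer (D : Set G) ∧
    (k : G) ^ p = 1 then 1 else 0 with hF
  set z' : K := ⟨z, hK ▸ Subgroup.mem_sup_left hz⟩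
  have hz2 : z ^ p = 1 := hz1 ▸ pow_orderOf_eq_one z
  have h5 : ∑ k, F k ∈ LP M := by
    refine sum_mem_LP_of_invariant (P := Subgroup.zpowers z')
      (isPGroup_zpowers (k := 1) (Subtype.ext (by simpa using hz2))) F ?_
      (fun k => by simp only [hF]; split_ifs; exacts [one_mem _, zero_mem _]) fun k hk => ?_
    · rintro ⟨_, n, rfl⟩ x
      have a1 : z ^ n ∈ D := zpow_mem hz n
      have a2 : z ^ n ∈ Subgroup.centralizer (D : Set G) := zpow_mem hzD n
      have a3 : (z ^ n) ^ p = 1 := by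
        rw [← zpow_natCast, ← zpow_mul, mul_comm, zpow_mul, zpow_natCast, hz2, one_zpow]
      refine if_congr ?_ rfl rfl
      change z ^ n * x ∈ D ∧ z ^ n * x ∈ _ ∧ (z ^ n * x) ^ p = 1 ↔ _
      rw [mul_mem_cancel_left a1, mul_mem_cancel_left a2]
      refine and_congr_right fun b1 => and_congr_right fun b2 => ?_
      rw [Commute.mul_pow (b2 _ a1), a3, one_mul]
    · have := hk ⟨z', Subgroup.mem_zpowers _⟩
      have h6 : z = 1 := congrArg Subtype.val (mul_eq_right.mp this : z' = 1)
      rw [h6, orderOf_one] at hz1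
      exact absurd hz1.symm (Fact.out : p.Prime).ne_one
  refine LP_of_sub ?_ h5
  rw [om_def, ev_eq_sum, Finset.sum_div, ← Finset.sum_sub_distrib]
  refine (LP M).sum_mem fun k _ => ?_
  rw [coeff_pull, Subgroup.subtype_apply]
  by_cases a2 : (k : G) ∈ Subgroup.centralizer (D : Set G)
  · rw [coeff_br_of_mem _ a2, hs, coeff_ofFn]
    by_cases a3 : (k : G) ^ p = 1
    · have a4 : ∃ n, orderOf k = p ^ n := (Nat.dvd_prime_pow Fact.out (m := 1)).mp
        (orderOf_dvd_of_pow_eq_one (Subtype.ext (by simpa using a3))) |>.imp fun _ h => h.2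
      by_cases a1 : (k : G) ∈ D
      · simp only [hF, a1, a2, a3, and_self, if_true, one_mul]
        exact div_sub_one_mem_LP_of_center ξ (hcen k a1 a2) a4
      · rw [apply_eq_zero_of_normal_defect (isPBlock_blockOf ξ) hE (mem_blockOf_self ξ)
          (ppart_self Fact.out a4) a1]
        simp [hF, a1]
    · simp [hF, a3]
  · rw [coeff_br_of_notMem _ a2]
    simp [hF, a2]

end Cfsg.Agent.S0928
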