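import Cfsg.Statements.S0930
import Cfsg.Agent.Blk.First

set_option autoImplicit false
open Cfsg

namespace Cfsg.Agent.S0930

open Cfsg.Agent.Blk Cfsg.Agent.Char Cfsg.Agent.PLoc


theorem result {G : Type*} [Group G] [Finite G] (p : ℕ) [Fact p.Prime] (M : Ideal Cfsg.AlgInt) (hM : Cfsg.IsPModular p M) (H : Subgroup G) (b : Set (Cfsg.IrrCharacter H)) (B : Set (Cfsg.IrrCharacter G)) (hind : Cfsg.IsInducedBlock M H b B) (D : Subgroup H) (hD : Cfsg.IsDefectGroup p M b D) (P : Subgroup G) (hP : Cfsg.IsDefectGroup p M B P) (x : G) (hx : x ∈ P) (hxc : ∀ w ∈ P, x * w = w * x) : ∃ g : G, g * x * g⁻¹ ∈ D.map H.subtype ∧ ∀ w ∈ D.map H.subtype, (g * x * g⁻¹) * w = w * (g * x * g⁻¹) := by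
  haveI : PMod p M := ⟨hM⟩
  obtain ⟨ξ, hξ⟩ := blk_nonempty hind.1
  obtain ⟨χ, hχ⟩ := blk_nonempty hind.2.1
  obtain ⟨z, h1, h2, h3⟩ := (ind_of_isInduced hind hξ hχ).exists_conj_center H.subtype_injective
    hind.1 hξ hind.2.1 hχ hD hP hx fun w hw => (hxc w hw).symm
  obtain ⟨g, hg⟩ := isConj_iff.mp h3
  refine ⟨g, hg ▸ ⟨z, h1, rfl⟩, ?_⟩
  rintro _ ⟨w, hw, rfl⟩
  rw [hg, ← map_mul, ← map_mul, h2 w hw]

end Cfsg.Agent.S0930
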