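import Cfsg.Statements.S0931
import Cfsg.Agent.Blk.First

set_option autoImplicit false
open Cfsg

namespace Cfsg.Agent.S0931

open Cfsg.Agent.Blk Cfsg.Agent.Char Cfsg.Agent.PLoc


theorem result {G : Type*} [Group G] [Finite G] (p : ℕ) [Fact p.Prime] (M : Ideal Cfsg.AlgInt) (hM : Cfsg.IsPModular p M) (H : Subgroup G) (b : Set (Cfsg.IrrCharacter H)) (B : Set (Cfsg.IrrCharacter G)) (hind : Cfsg.IsInducedBlock M H b B) : Cfsg.blockDefect p b = 0 ↔ Cfsg.blockDefect p B = 0 := by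
  haveI : PMod p M := ⟨hM⟩
  obtain ⟨ξ, hξ⟩ := blk_nonempty hind.1
  obtain ⟨χ, hχ⟩ := blk_nonempty hind.2.1
  have h := ind_of_isInduced hind hξ hχ
  obtain ⟨D, hD⟩ := exists_defect (p := p) hind.1
  obtain ⟨E, hE, h1⟩ := h.map_defect_le hind.1 hξ hind.2.1 hχ hD
  rw [blockDefect_eq_zero_iff hind.1 hD, blockDefect_eq_zero_iff hind.2.1 hE]
  refine ⟨fun h2 => ?_, fun h2 => (Subgroup.map_eq_bot_iff_of_injective _ H.subtype_injective).mp
    (le_bot_iff.mp (h2 ▸ h1))⟩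
  by_contra hc
  obtain ⟨x, hx, h3, h4⟩ := exists_central_order_p (defect_isPGroup hE) hc
  obtain ⟨z, h5, -, h6⟩ := h.exists_conj_center H.subtype_injective
    hind.1 hξ hind.2.1 hχ hD hE hx h3
  rw [h2, Subgroup.mem_bot] at h5
  rw [h5, map_one, isConj_one_left] at h6
  rw [h6, orderOf_one] at h4
  exact (Fact.out : p.Prime).ne_one h4.symm

end Cfsg.Agent.S0931
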