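import Cfsg.Statements.S0932
import Cfsg.Agent.Blk.Main

set_option autoImplicit false
open Cfsg

namespace Cfsg.Agent.S0932

open Cfsg.Agent.Blk Cfsg.Agent.Char Cfsg.Agent.PLoc


theorem result {G : Type*} [Group G] [Fintype G] (H : Subgroup G) (ξ : H → ℂ) (hξ : Cfsg.IsCharacter H ξ) (g : G) : Cfsg.inducedCentralChar H ξ g = Cfsg.centralChar (Cfsg.indFun H ξ) g := by
  classical
  by_cases h0 : ξ 1 = 0
  · rw [hξ.eq_zero_of_one_eq_zero h0]
    simp [inducedCentralChar, centralChar]
  rw [← om_pull_cls, ← om_cls (isClassFunction_indFun H ξ), om_def, om_def, indFun_one,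
    ev_eq_sum, ev_eq_sum]
  have h1 := classInner_indFun_left H ξ (χ := fun x => (starRingEnd ℂ) ((cls g).coeff x))
    (mem_ZA.mp (cls_mem_ZA g)).conj
  have h2 := congrArg (fun z => (Nat.card G : ℂ) * z) h1
  simp only [card_mul_classInner, Complex.conj_conj] at h2
  have h3 : (Nat.card G : ℂ) = H.index * Nat.card H := by
    rw [← Nat.cast_mul, H.index_mul_card]
  rw [h3, mul_assoc, card_mul_classInner] at h2
  simp only [Complex.conj_conj] at h2
  have h4 : (H.index : ℂ) ≠ 0 := by exact_mod_cast H.index_ne_zero_of_finite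
  simp only [coeff_pull, Subgroup.subtype_apply, mul_comm ((cls g).coeff _)]
  rw [h2]
  field_simp

end Cfsg.Agent.S0932
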