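import Cfsg.Statements.S0933
import Cfsg.Agent.Blk.Main
import Cfsg.Agent.S0932

set_option autoImplicit false
open Cfsg

namespace Cfsg.Agent.S0933

open Cfsg.Agent.Blk Cfsg.Agent.Char Cfsg.Agent.PLoc


theorem result {G : Type*} [Group G] [Fintype G] (p : ℕ) [Fact p.Prime] (M : Ideal Cfsg.AlgInt) (hM : Cfsg.IsPModular p M) (H : Subgroup G) (ξ : Cfsg.IrrCharacter H) (hind : Cfsg.IsIrrCharacter G (Cfsg.indFun H (ξ : H → ℂ))) : Cfsg.IsInducedBlock M H (Cfsg.blockOf M (ξ : H → ℂ)) (Cfsg.blockOf M (Cfsg.indFun H (ξ : H → ℂ))) := by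
  haveI : PMod p M := ⟨hM⟩
  refine isInduced_of_ind (isPBlock_blockOf ξ) (isPBlock_blockOf ⟨_, hind⟩) (mem_blockOf_self ξ)
    (mem_blockOf_self ⟨_, hind⟩) (ind_of_cls fun g => ?_)
  rw [om_pull_cls, S0932.result H _ ξ.2.isCharacter, sub_self]
  exact zero_mem _

end Cfsg.Agent.S0933
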