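import Cfsg.Statements.S0935
import Cfsg.Agent.Blk.Main

set_option autoImplicit false
open Cfsg

namespace Cfsg.Agent.S0935

open Cfsg.Agent.Blk Cfsg.Agent.Char Cfsg.Agent.PLoc


theorem result {G : Type*} [Group G] [Finite G] (p : ℕ) [Fact p.Prime] (M : Ideal Cfsg.AlgInt) (hM : Cfsg.IsPModular p M) (H : Subgroup G) (χ : Cfsg.IrrCharacter G) (hres : Cfsg.IsIrrCharacter H (fun h : H => (χ : G → ℂ) h)) (hχ0 : Cfsg.blockHeight p (Cfsg.blockOf M (χ : G → ℂ)) (χ : G → ℂ) = 0) (hψ0 : Cfsg.blockHeight p (Cfsg.blockOf M (fun h : H => (χ : G → ℂ) h)) (fun h : H => (χ : G → ℂ) h) = 0) (e : Set (Cfsg.IrrCharacter H)) (he : Cfsg.InducedBlockDefined M H e) : Cfsg.IsInducedBlock M H e (Cfsg.blockOf M (χ : G → ℂ)) ↔ e = Cfsg.blockOf M (fun h : H => (χ : G → ℂ) h) := by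
  haveI : PMod p M := ⟨hM⟩
  obtain ⟨B, hB⟩ := he
  obtain ⟨ξ, hξ⟩ := blk_nonempty hB.1
  obtain ⟨χ', hχ'⟩ := blk_nonempty hB.2.1
  have hind := ind_of_isInduced hB hξ hχ'
  have h := okuyama H.subtype_injective (χ := χ) (ψ := ⟨_, hres⟩) rfl
    ((height_zero_iff (mem_blockOf_self χ)).mp hχ0)
    ((height_zero_iff (mem_blockOf_self ⟨_, hres⟩)).mp hψ0) hind
  constructor
  · intro h1
    exact blk_eq_of_mem hB.1 (isPBlock_blockOf ⟨_, hres⟩) hξ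
      (h.mp ((ind_of_isInduced h1 hξ (mem_blockOf_self χ)).unique hind))
  · intro h1
    exact isInduced_of_ind hB.1 (isPBlock_blockOf χ) hξ (h.mpr (h1 ▸ hξ :)) hind

end Cfsg.Agent.S0935
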