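import Cfsg.Statements.S0936
import Cfsg.Agent.Blk.Main

set_option autoImplicit false
open Cfsg

namespace Cfsg.Agent.S0936

open Cfsg.Agent.Blk Cfsg.Agent.Char Cfsg.Agent.PLoc


theorem result {G : Type*} [Group G] [Finite G] (p : ℕ) [Fact p.Prime] (M : Ideal Cfsg.AlgInt) (hM : Cfsg.IsPModular p M) (H : Subgroup G) (b : Set (Cfsg.IrrCharacter H)) (hdef : Cfsg.InducedBlockDefined M H b) : Cfsg.IsInducedBlock M H b (Cfsg.principalBlock M G) ↔ b = Cfsg.principalBlock M H := by
  haveI : PMod p M := ⟨hM⟩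
  obtain ⟨B, hB⟩ := hdef
  obtain ⟨ξ, hξ⟩ := blk_nonempty hB.1
  obtain ⟨χ', hχ'⟩ := blk_nonempty hB.2.1
  have hind := ind_of_isInduced hB hξ hχ'
  constructor
  · intro h1
    exact blk_eq_of_mem hB.1 isPBlock_principal hξ ((third_main H.subtype_injective
      (ind_of_isInduced h1 hξ irrOne_mem_principal)).mp irrOne_mem_principal)
  · intro h1
    exact isInduced_of_ind hB.1 isPBlock_principal hξ
      ((third_main H.subtype_injective hind).mpr (h1 ▸ hξ :)) hind

end Cfsg.Agent.S0936
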