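import Cfsg.Statements.S0938
import Cfsg.Agent.Blk.Norm

set_option autoImplicit false
open Cfsg

namespace Cfsg.Agent.S0938

open Cfsg.Agent.Blk Cfsg.Agent.Char Cfsg.Agent.PLoc


theorem result {G : Type*} [Group G] [Finite G] (p : ℕ) [Fact p.Prime] (M : Ideal Cfsg.AlgInt) (hM : Cfsg.IsPModular p M) (B : Set (Cfsg.IrrCharacter G)) (hB : Cfsg.IsPBlock M B) (χ : Cfsg.IrrCharacter G) (hχ : χ ∈ B) : ∃ K : Subgroup G, K.Normal ∧ (K : Set G) = Cfsg.blockKer B ∧ ¬ p ∣ Nat.card K ∧ (∀ g ∈ K, (χ : G → ℂ) g = (χ : G → ℂ) 1) ∧ ∀ N : Subgroup G, N.Normal → ¬ p ∣ Nat.card N → (∀ g ∈ N, (χ : G → ℂ) g = (χ : G → ℂ) 1) → N ≤ K := by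
  haveI : PMod p M := ⟨hM⟩
  have hm : ∀ g, g ∈ (⨅ ψ ∈ B, charKer (ψ : G → ℂ)) ↔ ∀ ψ ∈ B, (ψ : G → ℂ) g = (ψ : G → ℂ) 1 := by
    intro g
    simp only [Subgroup.mem_iInf]
    exact forall₂_congr fun ψ _ => ψ.2.isCharacter.mem_charKer
  refine ⟨⨅ ψ ∈ B, charKer (ψ : G → ℂ), ⟨fun n hn g => (hm _).mpr fun ψ hψ => ?_⟩,
    Set.ext hm, fun h => ?_, fun g hg => (hm g).mp hg χ hχ, fun N hN hN' h n hn => (hm n).mpr
      fun ψ hψ => apply_eq_of_sameBlock hN' (blk_same hB hχ hψ) h n hn⟩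
  · rw [ψ.2.isClassFunction, (hm n).mp hn ψ hψ]
  · obtain ⟨x, hx, h1⟩ := exists_mem_orderOf_eq_prime Fact.out h
    exact reg_of_mem_blockKer hB ((hm x).mp hx) (h1 ▸ dvd_rfl)

end Cfsg.Agent.S0938
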