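import Cfsg.Statements.S0940
import Cfsg.Agent.Blk.More

set_option autoImplicit false
open Cfsg

namespace Cfsg.Agent.S0940

open Cfsg.Agent.Blk Cfsg.Agent.Char Cfsg.Agent.PLoc


theorem result {G : Type*} [Group G] [Finite G] (p : ℕ) [Fact p.Prime] (M : Ideal Cfsg.AlgInt) (hM : Cfsg.IsPModular p M) (g : G) (hg : ¬ p ∣ orderOf g) : Cfsg.MemLocalIdeal M (Cfsg.blockCoeff (Cfsg.principalBlock M G) g - (Nat.card {xy : G × G // (∃ k : ℕ, orderOf xy.1 = p ^ k) ∧ ¬ p ∣ orderOf xy.2 ∧ xy.1 * xy.2 = g} : ℂ) / (Nat.card {y : G // ¬ p ∣ orderOf y} : ℂ)) := by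
  haveI : PMod p M := ⟨hM⟩
  classical
  have := Fintype.ofFinite G
  have hB := isPBlock_principal (M := M) (G := G)
  set r := aR p (irrOne G : G → ℂ) with hr
  have hrZ : r ∈ ZR M G := aR_mem_ZR (irrOne G).2.isCharacter
  have hrc : ∀ x, r.coeff x = if ¬ p ∣ orderOf x then 1 else 0 := fun x => by
    rw [hr, aR, coeff_ofFn, regPart]; split_ifs <;> simp
  set c : ℂ := (Nat.card {y : G // ¬ p ∣ orderOf y} : ℂ) with hc
  have h1 : om (irrOne G) r = c := by
    rw [om_def, ev_eq_sum, hc, Nat.card_eq_fintype_card, Fintype.card_subtype]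
    simp only [hrc, irrOne_coe, mul_one, div_one, Finset.sum_boole]
  have h2 : c ∉ LP M := h1 ▸ om_aR_notMem hB irrOne_mem_principal irrOne_mem_principal nu_irrOne_eq
  have hcR : c ∈ LR M := natCast_mem _ _
  have h3 := psum_mem_LP (sub_mem hrZ (smul_mem_ZR hcR (fS_mem_ZR hB))) (fun χ => by
    rw [om_sub, om_smul]
    by_cases h : χ ∈ principalBlock M G
    · rw [om_fS_of_mem h, mul_one, ← h1]
      exact om_sub_mem_of_blk hB h irrOne_mem_principal hrZ
    · rw [om_fS_of_notMem h, om_aR_eq_zero (M := M) (χ := irrOne G) h]; simp) g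
  have h4 := LP_mul_left hcR (psum_fS hB hg)
  have h5 : (Nat.card {xy : G × G // (∃ k : ℕ, orderOf xy.1 = p ^ k) ∧ ¬ p ∣ orderOf xy.2 ∧
      xy.1 * xy.2 = g} : ℂ) = ∑ x, if ∃ k, orderOf x = p ^ k then r.coeff (x * g) else 0 := by
    simp only [hrc, ← ite_and, Finset.sum_boole]
    rw [← Fintype.card_subtype, ← Nat.card_eq_fintype_card]
    congr 1
    exact Nat.card_congr ⟨fun xy => ⟨xy.1.1⁻¹, by simpa using xy.2.1, by
        rw [inv_mul_eq_iff_eq_mul.mpr xy.2.2.2.symm]; exact xy.2.2.1⟩,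
      fun x => ⟨(x.1⁻¹, x.1 * g), by simpa using x.2.1, x.2.2, by simp⟩,
      fun xy => Subtype.ext (Prod.ext (by simp) (inv_mul_eq_iff_eq_mul.mpr xy.2.2.2.symm)), fun x => by simp⟩
  refine LP_of_mul_left hcR h2 ?_
  rw [mul_sub, mul_div_cancel₀ _ (ne_zero_of_notMem_LP h2), h5]
  convert neg_mem (add_mem h3 h4) using 1
  simp only [MonoidAlgebra.coeff_sub, MonoidAlgebra.coeff_smul, Finsupp.sub_apply, Finsupp.smul_apply, smul_eq_mul, mul_sub,
    Finset.mul_sum, mul_ite, mul_zero]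
  rw [← add_sub_assoc, ← Finset.sum_add_distrib, neg_sub]
  congr 1
  refine Finset.sum_congr rfl fun x _ => ?_
  split_ifs <;> simp

end Cfsg.Agent.S0940
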