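import Cfsg.Statements.S0941
import Cfsg.Agent.Blk.Norm

set_option autoImplicit false
open Cfsg

namespace Cfsg.Agent.S0941

open Cfsg.Agent.Blk Cfsg.Agent.Char Cfsg.Agent.PLoc


theorem result {G : Type*} [Group G] [Finite G] (p : ℕ) [Fact p.Prime] (M : Ideal Cfsg.AlgInt) (hM : Cfsg.IsPModular p M) (P : Subgroup G) [P.Normal] (hP : IsPGroup p P) (hC : ∃ k : ℕ, (Subgroup.centralizer (P : Set G)).index = p ^ k) : (∀ χ ψ : Cfsg.IrrCharacter (G ⧸ P), Cfsg.SameBlock M (χ : G ⧸ P → ℂ) (ψ : G ⧸ P → ℂ) ↔ Cfsg.SameBlock M ((χ : G ⧸ P → ℂ) ∘ QuotientGroup.mk) ((ψ : G ⧸ P → ℂ) ∘ QuotientGroup.mk)) ∧ ∀ B : Set (Cfsg.IrrCharacter G), Cfsg.IsPBlock M B → ∃ χ : Cfsg.IrrCharacter (G ⧸ P), ∃ θ ∈ B, (θ : G → ℂ) = (χ : G ⧸ P → ℂ) ∘ QuotientGroup.mk := by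
  have := Fintype.ofFinite G
  haveI : PMod p M := ⟨hM⟩
  refine ⟨fun χ ψ => ⟨fun h => sameBlock_infl _ (QuotientGroup.mk'_surjective P) h, fun h =>
    sameBlock_of_infl_pgroup (QuotientGroup.mk'_surjective P) (by rwa [QuotientGroup.ker_mk'])
      (fun x hx => by rw [QuotientGroup.ker_mk']; exact mem_of_index_pow hC hx) h⟩, fun B hB => ?_⟩
  obtain ⟨χ, hχ⟩ := exists_infl_mem hP hB
  exact ⟨χ, _, hχ, rfl⟩

end Cfsg.Agent.S0941
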