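import Cfsg.Statements.S0946
import Cfsg.Agent.Blk.Two

set_option autoImplicit false
open Cfsg

namespace Cfsg.Agent.S0946

open Cfsg.Agent.Blk Cfsg.Agent.Char Cfsg.Agent.PLoc


theorem result {G : Type*} [Group G] [Finite G] (P : Sylow 2 G) (m : ℕ) (hm : 1 ≤ m) (e : (P : Subgroup G) ≃* Multiplicative (ZMod (2 ^ m) × ZMod (2 ^ m))) : (∃ N : Subgroup G, N.Normal ∧ Subgroup.IsComplement' N (P : Subgroup G)) ∨ ∀ s t : G, orderOf s = 2 → orderOf t = 2 → IsConj s t := by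
  obtain ⟨hP, hV⟩ := homocyclic hm e
  by_cases h : Subgroup.normalizer (P : Set G) ≤ Subgroup.centralizer (P : Set G)
  · exact Or.inl ((exists_complement_iff_npc P).mpr
      ((isSylowOf_top P).npc_of_burnside (inf_le_right.trans h)))
  refine Or.inr fun s t hs ht => ?_
  obtain ⟨g, hg, h1, h2⟩ : ∃ g ∈ Subgroup.normalizer (P : Set G), (orderOf g).Coprime 2 ∧
      g ∉ Subgroup.centralizer (P : Set G) := by
    by_contra hc
    push Not at hc
    refine h fun g hg => ?_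
    obtain ⟨a, ha, b, hb, rfl, -, ⟨k, hk⟩, h2⟩ := exists_p_part 2 g
    have hN := (Subgroup.zpowers_le).mpr hg
    exact mul_mem (Subgroup.le_centralizer (P : Subgroup G) ((isSylowOf_top P).le_of_le_normalizer
      (isPGroup_zpowers hk) le_top ((Subgroup.zpowers_le).mpr (hN ha)) (Subgroup.mem_zpowers a)))
      (hc b (hN hb) h2)
  obtain ⟨s', a1, a2, a3⟩ := Inv.exists_isConj_mem_sylow P (k := 1) (by simpa using hs)
  obtain ⟨t', b1, b2, b3⟩ := Inv.exists_isConj_mem_sylow P (k := 1) (by simpa using ht)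
  rw [pow_one] at a3 b3
  have a4 : s' ∈ Core.powKer (P : Subgroup G) hP 2 :=
    Core.mem_powKer.mpr ⟨a1, by rw [sq, Inv.sq_of_ord2 a3]⟩
  obtain ⟨n, -, hn⟩ := Inv.kf_conj_of_odd hV (Core.normalizer_le_normalizer_powKer _ hP 2 hg)
    (Nat.coprime_two_right.mp h1) (fun hc => h2 (mem_cent_of_commute hP hV hg a1
      (Inv.ne_one_of_ord2 a3) (hc _ a4).symm)) a4
      (Core.mem_powKer.mpr ⟨b1, by rw [sq, Inv.sq_of_ord2 b3]⟩) (Inv.ne_one_of_ord2 a3)
      (Inv.ne_one_of_ord2 b3)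
  exact a2.symm.trans ((isConj_iff.mpr ⟨n, hn⟩).trans b2)

end Cfsg.Agent.S0946
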