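import Cfsg.Statements.S0948
import Cfsg.Agent.Blk.Two

set_option autoImplicit false
open Cfsg

namespace Cfsg.Agent.S0948

open Cfsg.Agent.Blk Cfsg.Agent.Char Cfsg.Agent.PLoc


theorem result {G : Type*} [Group G] [Finite G] (M : Ideal Cfsg.AlgInt) (hM : Cfsg.IsPModular 2 M) (P : Sylow 2 G) (hP : IsKleinFour (P : Subgroup G)) (hone : ∀ s t : G, orderOf s = 2 → orderOf t = 2 → IsConj s t) : ∃ ζ₂ ζ₃ ζ₄ : Cfsg.IrrCharacter G, ∃ ε : ℤ, (ε = 1 ∨ ε = -1) ∧ (ζ₂ : G → ℂ) ≠ (fun _ => 1) ∧ (ζ₃ : G → ℂ) ≠ (fun _ => 1) ∧ ζ₂ ≠ ζ₃ ∧ ζ₂ ≠ ζ₄ ∧ ζ₃ ≠ ζ₄ ∧ Cfsg.principalBlock M G = {χ : Cfsg.IrrCharacter G | (χ : G → ℂ) = (fun _ => 1) ∨ χ = ζ₂ ∨ χ = ζ₃ ∨ χ = ζ₄} ∧ (∀ z : G, orderOf z = 2 → (ζ₂ : G → ℂ) z = 1 ∧ (ζ₃ : G → ℂ) z = (ε : ℂ) ∧ (ζ₄ : G → ℂ) z = -1) ∧ (4 : ℤ) ∣ (Cfsg.charDegree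 (ζ₂ : G → ℂ) : ℤ) - 1 ∧ (4 : ℤ) ∣ (Cfsg.charDegree (ζ₃ : G → ℂ) : ℤ) - ε ∧ (4 : ℤ) ∣ (Cfsg.charDegree (ζ₄ : G → ℂ) : ℤ) + 1 ∧ ∀ y : G, Odd (orderOf y) → 1 + (ζ₂ : G → ℂ) y + (ε : ℂ) * (ζ₃ : G → ℂ) y - (ζ₄ : G → ℂ) y = 0 := by
  haveI : PMod 2 M := ⟨hM⟩
  obtain ⟨b, c, d, ε, h⟩ := exists_kleinBlk (M := M) P hP hone
  have h1 := fun z hz h1 => h.val z (Inv.kf_ord hP hz h1).symm.dvd
  refine ⟨b, c, d, ε, h.eps, fun e => h.n12 (Subtype.ext e.symm), fun e => h.n13 (Subtype.ext e.symm),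
    h.n23, h.n24, h.n34, Set.ext fun χ => (h.mem χ).trans (or_congr_left Subtype.ext_iff),
    fun z hz => h.val z hz.symm.dvd, four_dvd_of_klein hP b fun z hz e => by simpa using (h1 z hz e).1,
    four_dvd_of_klein hP c fun z hz e => (h1 z hz e).2.1, ?_,
    fun y hy => h.rel y (odd_iff_not_dvd.mp hy)⟩
  simpa using four_dvd_of_klein hP d (n := -1) fun z hz e => by simpa using (h1 z hz e).2.2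

end Cfsg.Agent.S0948
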