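import Cfsg.Statements.S0950
import Cfsg.Agent.Blk.Two

set_option autoImplicit false
open Cfsg

namespace Cfsg.Agent.S0950

open Cfsg.Agent.Blk Cfsg.Agent.Char Cfsg.Agent.PLoc


theorem result {G : Type*} [Group G] [Finite G] (S : Sylow 2 G) (e : (S : Subgroup G) ≃* QuaternionGroup 2) (hnc : ∀ N : Subgroup G, N.Normal → ¬ Subgroup.IsComplement' N (S : Subgroup G)) (A B : Subgroup G) (hA : A ≤ S) (hB : B ≤ S) (hA4 : Nat.card A = 4) (hB4 : Nat.card B = 4) : ∃ n ∈ Subgroup.normalizer ((S : Subgroup G) : Set G), B = A.map (MulAut.conj n).toMonoidHom := by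
  obtain ⟨z, h⟩ := Inv.exists_Q8 e
  have key : ∀ A : Subgroup G, A ≤ S → Nat.card A = 4 →
      ∃ a ∈ (S : Subgroup G), a * a = z ∧ A = Subgroup.zpowers a := fun A hA h4 => by
    by_cases h1 : ∃ a ∈ A, a * a = z
    · obtain ⟨a, ha, h1⟩ := h1
      exact ⟨a, hA ha, h1, (Subgroup.eq_of_le_of_card_ge ((Subgroup.zpowers_le).mpr ha)
        (by rw [h4, Nat.card_zpowers, h.ord4 h1])).symm⟩
    · have : A ≤ Subgroup.zpowers z := fun x hx => by
        rcases h.cases x (hA hx) with rfl | rfl | h2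
        exacts [one_mem _, Subgroup.mem_zpowers _, absurd ⟨x, hx, h2⟩ h1]
      have := Subgroup.card_le_of_le this
      rw [h4, Nat.card_zpowers, h.zord] at this
      omega
  obtain ⟨a, ha, h1, rfl⟩ := key A hA hA4
  obtain ⟨b, hb, h2, rfl⟩ := key B hB hB4
  obtain ⟨n, hn, h3⟩ := q8_conj h (fun hc => by
    obtain ⟨N, a, b⟩ := (exists_complement_iff_npc S).mpr hc
    exact hnc N a b) ha hb h1 h2
  exact ⟨n, hn, by rw [cj_def, cj_zpowers, h3]⟩

end Cfsg.Agent.S0950
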