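import Cfsg.Statements.S0951
import Cfsg.Agent.Blk.BS3

set_option autoImplicit false
open Cfsg

namespace Cfsg.Agent.S0951

open Cfsg.Agent.Blk Cfsg.Agent.Char Cfsg.Agent.PLoc


theorem result {G : Type*} [Group G] [Finite G] (M : Ideal Cfsg.AlgInt) (hM : Cfsg.IsPModular 2 M) (S : Sylow 2 G) (e : (S : Subgroup G) ≃* QuaternionGroup 2) (hO : ∀ N : Subgroup G, N.Normal → Odd (Nat.card N) → N = ⊥) (hG : (S : Subgroup G) ≠ ⊤) : Nat.card (Cfsg.principalBlock M G) = 7 := by
  have : PMod 2 M := ⟨hM⟩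
  obtain ⟨t, h1, h2⟩ := brauer_suzuki S (n := 0) e hO
  have h := r1_of_quaternion S (n := 0) e
  have hz : t ∈ Subgroup.center G := h2 ▸ Subgroup.mem_zpowers t
  obtain ⟨z, hQ⟩ := Inv.exists_Q8 e
  obtain rfl : z = t := h _ _ hQ.zord h1 (Subgroup.mem_center_iff.mp hz z)
  obtain ⟨ξ, s, K⟩ := exists_qBlk_of_q8 (M := M) h h1 hz S e fun a b => q8_isConj h hQ fun hn => by
    obtain ⟨N, hN, hc⟩ := (exists_complement_iff_npc S).mpr hn
    have := hO N hN (by
      rw [← hc.index_eq_card]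
      exact odd_iff_not_dvd.mpr S.not_dvd_index)
    subst this
    exact hG (Subgroup.isComplement'_bot_left.mp hc)
  rw [show principalBlock M G = Set.range ξ from Set.ext fun χ => by simp [K.mem, eq_comm],
    Nat.card_range_of_injective K.inj, Nat.card_fin]

end Cfsg.Agent.S0951
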