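import Cfsg.Statements.S0952
import Cfsg.Agent.Blk.Main

set_option autoImplicit false
open scoped ComplexConjugate
open Cfsg

namespace Cfsg.Agent.S0952

open Cfsg.Agent.Blk Cfsg.Agent.Char Cfsg.Agent.PLoc


theorem result {G : Type*} [Group G] [Finite G] (p : ℕ) [Fact p.Prime] (M : Ideal Cfsg.AlgInt) (hM : Cfsg.IsPModular p M) (χ ψ : Cfsg.IrrCharacter G) (h : ¬ Cfsg.SameBlock M (χ : G → ℂ) (ψ : G → ℂ)) : ∑ᶠ x ∈ {x : G | ¬ p ∣ orderOf x}, (χ : G → ℂ) x * conj ((ψ : G → ℂ) x) = 0 := by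
  classical
  haveI : PMod p M := ⟨hM⟩
  have := Fintype.ofFinite G
  have h1 := card_mul_classInner (regPart p (χ : G → ℂ)) ψ
  rw [classInner_regPart_eq_zero h, mul_zero] at h1
  rw [h1, finsum_mem_eq_finite_toFinset_sum _ (Set.toFinite _)]
  refine (Finset.sum_congr rfl fun x hx => ?_).trans (Finset.sum_subset (Finset.subset_univ _) ?_)
  · rw [regPart_of_not_dvd _ (by simpa using hx)]
  · intro x _ hx
    rw [regPart_of_dvd _ (by simpa using hx), zero_mul]

end Cfsg.Agent.S0952
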