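import Cfsg.Statements.S0953
import Cfsg.Agent.Blk.More

set_option autoImplicit false
open Cfsg

namespace Cfsg.Agent.S0953

open Cfsg.Agent.Blk Cfsg.Agent.Char Cfsg.Agent.PLoc


theorem result {G : Type*} [Group G] [Finite G] (p : ℕ) [Fact p.Prime] (M : Ideal Cfsg.AlgInt) (hM : Cfsg.IsPModular p M) (P : Sylow p G) : Nat.card {B : Set (Cfsg.IrrCharacter G) // Cfsg.IsPBlock M B ∧ Cfsg.IsDefectGroup p M B (P : Subgroup G)} = Nat.card {C : ConjClasses (Subgroup.normalizer ((P : Subgroup G) : Set G)) // ∀ n : Subgroup.normalizer ((P : Subgroup G) : Set G), ConjClasses.mk n = C → ¬ p ∣ orderOf n ∧ (n : G) ∈ Subgroup.centralizer ((P : Subgroup G) : Set G)} := by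
  haveI : PMod p M := ⟨hM⟩
  have hf := (Subgroup.normalizer ((P : Subgroup G) : Set G)).subtype_injective
  have hN := (Subgroup.normalizer ((P : Subgroup G) : Set G)).range_subtype
  have hle : (P : Subgroup G) ≤ (Subgroup.normalizer ((P : Subgroup G) : Set G)).subtype.range :=
    hN.symm ▸ Subgroup.le_normalizer
  set P' := (P : Subgroup G).subgroupOf (Subgroup.normalizer ((P : Subgroup G) : Set G))
  haveI : P'.Normal := normal_comap_of_range_le hN.le
  have hP' : IsPGroup p P' := P.isPGroup'.comap_of_injective _ hf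
  choose ξ χ hχ h1 h2 using fun B : {B : Set (IrrCharacter G) // IsPBlock M B ∧
    IsDefectGroup p M B (P : Subgroup G)} =>
      exists_root_defect B.2.1 B.2.2 (le_normalizer_sup_cent _) le_rfl
  refine le_antisymm (card_blocks_le (M := M) (fun B => blockOf M (ξ B).1)
    (fun B => isPBlock_blockOf _) (fun B B' h => Subtype.ext ?_) _ fun B B' ζ hζ g h3 h4 n hn => ?_) ?_
  · have h3 : ξ B' ∈ blockOf M (ξ B).1 := by
      have := mem_blockOf_self (M := M) (ξ B')
      rwa [← show blockOf M (ξ B).1 = blockOf M (ξ B').1 from h] at this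
    exact blk_eq_of_mem B.2.1 B'.2.1 (blk_mem B.2.1 (hχ B) (((h1 B).left h3).unique (h1 B'))) (hχ B')
  · have h5 : blockCoeff (blockOf M (ξ B').1) n ∉ LP M := by
      rwa [(isClassFunction_blockCoeff _).of_isConj (ConjClasses.mk_eq_mk_iff_isConj.mp hn)]
    exact ⟨reg_of_blockCoeff_ne_zero (isPBlock_blockOf _) (ne_zero_of_notMem_LP h5),
      (mem_centralizer_comap hf hle).mp (mem_cent_of_blockCoeff hP' (isPBlock_blockOf _) h5)⟩
  obtain ⟨S, hS⟩ : ∃ S : Sylow p (Subgroup.normalizer ((P : Subgroup G) : Set G)),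
    (S : Subgroup _) = P' := ⟨P.subtype Subgroup.le_normalizer, rfl⟩
  have h3 : NPC p (Subgroup.centralizer (P' : Set (Subgroup.normalizer ((P : Subgroup G) : Set G)))) := by
    have := isSylowOf_inf_normal S (Subgroup.centralizer (P' : Set (Subgroup.normalizer ((P : Subgroup G) : Set G))))
    rw [hS] at this
    exact this.npc_of_burnside (inf_le_left.trans (centralizer_anti inf_le_left))
  refine card_classes_le (M := M) ξ (fun ζ => ?_) (K := pResOf p (Subgroup.centralizer (P' : Set (Subgroup.normalizer ((P : Subgroup G) : Set G)))))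
    ((Nat.Prime.coprime_iff_not_dvd Fact.out).mp (npc_iff_coprime.mp h3).symm) _ fun g hg =>
      mem_pResOf ((mem_centralizer_comap hf hle).mpr (hg g rfl).2)
        ((Nat.Prime.coprime_iff_not_dvd Fact.out).mpr (hg g rfl).1).symm
  obtain ⟨ψ, hψ⟩ := exists_ind (M := M) hf P.isPGroup' hle
    (hN.symm ▸ Subgroup.centralizer_le_normalizer _) hN.le ζ
  obtain ⟨E, hE⟩ := exists_defect (p := p) (isPBlock_blockOf (M := M) ζ)
  have h4 : E = P' := by
    rw [← hS]
    exact S.is_maximal' (defect_isPGroup hE) (hS ▸ normal_le_defect (isPBlock_blockOf ζ) hE hP')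
  have h5 := hψ.defect_of_comap hf hN (isPBlock_blockOf ζ) (mem_blockOf_self ζ) (isPBlock_blockOf ψ)
    (mem_blockOf_self ψ) (h4 ▸ hE : IsDefectGroup p M _ P')
  exact ⟨⟨_, isPBlock_blockOf ψ, h5⟩, (h1 _).mem_of_defect hf hN
    (hψ.right (hχ ⟨_, isPBlock_blockOf ψ, h5⟩)) (isPBlock_blockOf _) (mem_blockOf_self _) (h2 _)⟩

end Cfsg.Agent.S0953
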