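import Cfsg.Statements.S0954
import Cfsg.Agent.Blk.Norm

set_option autoImplicit false
open Cfsg

namespace Cfsg.Agent.S0954

open Cfsg.Agent.Blk Cfsg.Agent.Char Cfsg.Agent.PLoc


theorem result {G : Type*} [Group G] [Fintype G] (p : ℕ) [Fact p.Prime] (M : Ideal Cfsg.AlgInt) (hM : Cfsg.IsPModular p M) (N : Subgroup G) [N.Normal] [Fintype N] (hN : ¬ p ∣ Nat.card N) (hidx : ∃ k : ℕ, N.index = p ^ k) (χ ψ : Cfsg.IrrCharacter G) : Cfsg.SameBlock M (χ : G → ℂ) (ψ : G → ℂ) ↔ ∃ θ : Cfsg.IrrCharacter N, Cfsg.classInner (fun n : N => (χ : G → ℂ) n) (θ : N → ℂ) ≠ 0 ∧ Cfsg.classInner (fun n : N => (ψ : G → ℂ) n) (θ : N → ℂ) ≠ 0 := by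
  haveI : PMod p M := ⟨hM⟩
  refine ⟨fun h => ?_, fun ⟨θ, h1, h2⟩ => sameBlock_of_reg fun g hg => ?_⟩
  · obtain ⟨θ, hθ⟩ := exists_over_right (e := N.subtype) χ
    exact ⟨θ, hθ, over_of_sameBlock hN h hθ⟩
  · have he := normEmb_subtype N
    have h3 := he.centralChar_eq (χ := χ) h1 ⟨g, mem_of_index_pow hidx hg⟩
    have h4 := he.centralChar_eq (χ := ψ) h2 ⟨g, mem_of_index_pow hidx hg⟩
    exact (h3.trans h4.symm : centralChar (χ : G → ℂ) g = centralChar (ψ : G → ℂ) g) ▸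
      (sub_self (centralChar (χ : G → ℂ) g)).symm ▸ zero_mem _

end Cfsg.Agent.S0954
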