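import Cfsg.Statements.S0955
import Cfsg.Agent.Blk.First

set_option autoImplicit false
open Cfsg

namespace Cfsg.Agent.S0955

open Cfsg.Agent.Blk Cfsg.Agent.Char Cfsg.Agent.PLoc


theorem result {G : Type*} [Group G] [Finite G] (p : ℕ) [Fact p.Prime] (M : Ideal Cfsg.AlgInt) (hM : Cfsg.IsPModular p M) (B : Set (Cfsg.IrrCharacter G)) (hB : Cfsg.IsPBlock M B) (D : Subgroup G) (hD : Cfsg.IsDefectGroup p M B D) : (Cfsg.pCore p (Subgroup.normalizer (D : Set G))).map (Subgroup.normalizer (D : Set G)).subtype = D := by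
  haveI : PMod p M := ⟨hM⟩
  obtain ⟨ξ, χ, hχ, h1, h2⟩ := exists_root_defect hB hD (le_normalizer_sup_cent D) le_rfl
  refine le_antisymm ?_ (le_pCoreOf Subgroup.le_normalizer le_rfl (defect_isPGroup hD))
  exact Subgroup.map_le_iff_le_comap.mpr (normal_le_defect (isPBlock_blockOf ξ) h2 pCore_isPGroup)

end Cfsg.Agent.S0955
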