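import Cfsg.Statements.S0956
import Cfsg.Agent.Blk.More

set_option autoImplicit false
open Cfsg

namespace Cfsg.Agent.S0956

open Cfsg.Agent.Blk Cfsg.Agent.Char Cfsg.Agent.PLoc


theorem result {G : Type*} [Group G] [Finite G] (p : ℕ) [Fact p.Prime] (M : Ideal Cfsg.AlgInt) (hM : Cfsg.IsPModular p M) (B : Set (Cfsg.IrrCharacter G)) (hB : Cfsg.IsPBlock M B) (D : Subgroup G) (hD : Cfsg.IsDefectGroup p M B D) (P : Sylow p G) (hDP : D ≤ P) : ∃ x : G, ¬ p ∣ orderOf x ∧ (∃ S : Sylow p (Subgroup.centralizer ({x} : Set G)), (S : Subgroup (Subgroup.centralizer ({x} : Set G))).map (Subgroup.centralizer ({x} : Set G)).subtype = D) ∧ (P : Subgroup G) ⊓ (P : Subgroup G).map (MulAut.conj x).toMonoidHom = D := by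
  haveI : PMod p M := ⟨hM⟩
  have hf := (Subgroup.normalizer (D : Set G)).subtype_injective
  have hN := (Subgroup.normalizer (D : Set G)).range_subtype
  haveI : (D.subgroupOf (Subgroup.normalizer (D : Set G))).Normal := normal_comap_of_range_le hN.le
  obtain ⟨ξ, χ, hχ, h1, h2⟩ := exists_root_defect hB hD (le_normalizer_sup_cent D) le_rfl
  obtain ⟨x, hx, h3⟩ := green_aux (isPBlock_blockOf (M := M) ξ)
    (P.isPGroup'.comap_of_injective _ hf)
  have h4 := isSylowOf_of_blockCoeff (isPBlock_blockOf ξ) h2 hx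
  have h5 := isSylowOf_map_cent hf hN h4
  obtain ⟨S, -, hS⟩ := h5.exists_sylow
  refine ⟨x, ?_, ⟨S, hS⟩, ?_⟩
  · rw [Subgroup.orderOf_coe]
    exact reg_of_blockCoeff_ne_zero (isPBlock_blockOf ξ) (ne_zero_of_notMem_LP hx)
  have h6 : D ≤ (P : Subgroup G) ⊓ cj x P := le_inf hDP
    ((cj_eq_self_iff.mpr x.2).ge.trans (cj_mono _ hDP))
  by_contra hc
  obtain ⟨y, hy, h7, h8⟩ := exists_mem_normalizer_not_mem (P.isPGroup'.to_le inf_le_left)
    (lt_of_le_of_ne h6 (Ne.symm hc))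
  have h9 : (⟨y, h7⟩ : Subgroup.normalizer (D : Set G)) ∈
      (P : Subgroup G).comap (Subgroup.normalizer (D : Set G)).subtype ⊓
        cj x ((P : Subgroup G).comap (Subgroup.normalizer (D : Set G)).subtype) :=
    ⟨hy.1, mem_cj.mpr (mem_cj (G := G).mp hy.2)⟩
  exact h8 (h4.le_of_le_normalizer ((P.isPGroup'.comap_of_injective _ hf).to_le inf_le_left) h3
    (fun z _ => mem_normalizer_of_normal _ z) h9)

end Cfsg.Agent.S0956
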