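import Cfsg.Statements.S0957
import Cfsg.Agent.Blk.More

set_option autoImplicit false
open Cfsg

namespace Cfsg.Agent.S0957

open Cfsg.Agent.Blk Cfsg.Agent.Char Cfsg.Agent.PLoc

theorem aux {P X : Type*} [Group P] [Finite P] [MulAction P X] [Finite X] {m : ℕ}
    (hm : m ∣ Nat.card P) (h : ∀ x : X, Nat.card (MulAction.stabilizer P x) ∣ m) :
    Nat.card P / m ∣ Nat.card X := by
  have := Fintype.ofFinite (MulAction.orbitRel.Quotient P X)
  rw [Nat.card_congr (MulAction.selfEquivSigmaOrbits P X), Nat.card_sigma]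
  refine Finset.dvd_sum fun ω _ => ?_
  rw [Nat.card_coe_set_eq, ← MulAction.index_stabilizer]
  obtain ⟨c, hc⟩ := h ω.out
  rw [← (MulAction.stabilizer P ω.out).card_mul_index, hc] at hm ⊢
  rw [Nat.mul_div_mul_left _ _ Nat.card_pos]
  exact Nat.div_dvd_of_dvd (Nat.dvd_of_mul_dvd_mul_left Nat.card_pos hm)


theorem result {G : Type*} [Group G] [Finite G] (p : ℕ) [Fact p.Prime] (P : Sylow p G) (g h : G) (S : Sylow p (Subgroup.centralizer ({g} : Set G))) : Nat.card P / Nat.card S ∣ Nat.card {yz : G × G // IsConj g yz.1 ∧ IsConj h yz.2 ∧ yz.2 * yz.1⁻¹ ∈ (P : Subgroup G)} := by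
  letI : MulAction P {yz : G × G // IsConj g yz.1 ∧ IsConj h yz.2 ∧ yz.2 * yz.1⁻¹ ∈ (P : Subgroup G)} :=
    { smul := fun u xy => ⟨(u * xy.1.1 * u⁻¹, u * xy.1.2 * u⁻¹), xy.2.1.trans (isConj_conj _ _),
        xy.2.2.1.trans (isConj_conj _ _), by
          rw [Subgroup.coe_inv, conj_inv, conj_mul]
          exact mul_mem (mul_mem u.2 xy.2.2.2) (inv_mem u.2)⟩
      one_smul := fun xy => Subtype.ext (Prod.ext (by simp [HSMul.hSMul]) (by simp [HSMul.hSMul]))
      mul_smul := fun u v xy => Subtype.ext (Prod.ext (by simp [HSMul.hSMul, mul_assoc])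
        (by simp [HSMul.hSMul, mul_assoc])) }
  refine aux ?_ fun ω => ?_
  · rw [S.card_eq_multiplicity, P.card_eq_multiplicity]
    exact pow_dvd_pow _ ((Nat.factorization_le_iff_dvd Nat.card_pos.ne' Nat.card_pos.ne').mpr
      (Subgroup.card_subgroup_dvd_card _) p)
  have h2 : (MulAction.stabilizer P ω).map (P : Subgroup G).subtype ≤
      Subgroup.centralizer {ω.1.1} := by
    rintro _ ⟨u, hu, rfl⟩
    exact Subgroup.mem_centralizer_singleton_iff.mpr
      (mul_inv_eq_iff_eq_mul.mp (congrArg (fun y => y.1.1) hu))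
  obtain ⟨k, hk⟩ := (P.isPGroup'.to_subgroup (MulAction.stabilizer P ω)).exists_card_eq
  rw [S.card_eq_multiplicity, card_centralizer_eq_of_isConj ω.2.1, hk]
  refine pow_dvd_pow _ (((Fact.out : p.Prime).pow_dvd_iff_le_factorization Nat.card_pos.ne').mp ?_)
  rw [← hk, ← Subgroup.card_map_of_injective (P : Subgroup G).subtype_injective]
  exact Subgroup.card_dvd_of_le h2

end Cfsg.Agent.S0957
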