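import Cfsg.Statements.S0958
import Cfsg.Agent.Blk.First

set_option autoImplicit false
open Cfsg

namespace Cfsg.Agent.S0958

open Cfsg.Agent.Blk Cfsg.Agent.Char Cfsg.Agent.PLoc


theorem result {G : Type*} [Group G] [Finite G] (p : ℕ) [Fact p.Prime] (M : Ideal Cfsg.AlgInt) (hM : Cfsg.IsPModular p M) (P H : Subgroup G) (hP : IsPGroup p P) (hPH : P ⊔ Subgroup.centralizer (P : Set G) ≤ H) (hHN : H ≤ Subgroup.normalizer (P : Set G)) (B : Set (Cfsg.IrrCharacter G)) (hB : Cfsg.IsPBlock M B) : (∃ b : Set (Cfsg.IrrCharacter H), Cfsg.IsInducedBlock M H b B) ↔ ∃ D : Subgroup G, Cfsg.IsDefectGroup p M B D ∧ ∃ x : G, P.map (MulAut.conj x).toMonoidHom ≤ D := by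
  haveI : PMod p M := ⟨hM⟩
  have h3 : P ≤ H.subtype.range := by rw [Subgroup.range_subtype]; exact le_sup_left.trans hPH
  have h4 : H.subtype.range ≤ Subgroup.normalizer (P : Set G) := by rwa [Subgroup.range_subtype]
  refine ⟨fun ⟨b, hb⟩ => ?_, fun ⟨D, hD, x, hx⟩ => ?_⟩
  · obtain ⟨ξ, hξ⟩ := blk_nonempty hb.1
    obtain ⟨χ, hχ⟩ := blk_nonempty hB
    obtain ⟨E, hE⟩ := exists_defect (p := p) hb.1
    obtain ⟨D, hD, h⟩ := (ind_of_isInduced hb hξ hχ).map_defect_le hb.1 hξ hB hχ hE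
    haveI := normal_comap_of_range_le h4
    refine ⟨D, hD, 1, ?_⟩
    rw [cj_def, cj_one, ← Subgroup.map_comap_eq_self h3]
    exact (Subgroup.map_mono
      (normal_le_defect hb.1 hE (hP.comap_of_injective _ H.subtype_injective))).trans h
  · obtain ⟨ξ, χ, hχ, h⟩ := exists_root H.subtype_injective h3
      (by rw [Subgroup.range_subtype]; exact le_sup_right.trans hPH) h4 hB (defect_cj hD x⁻¹)
      (cj_le_iff.mp hx)
    exact ⟨_, isInduced_of_ind (isPBlock_blockOf ξ) hB (mem_blockOf_self ξ) hχ h⟩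

end Cfsg.Agent.S0958
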