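import Cfsg.Statements.S0959
import Cfsg.Agent.Blk.Main

set_option autoImplicit false
open Cfsg

namespace Cfsg.Agent.S0959

open Cfsg.Agent.Blk Cfsg.Agent.Char Cfsg.Agent.PLoc


theorem result {G : Type*} [Group G] [Finite G] (p : ℕ) [Fact p.Prime] (M : Ideal Cfsg.AlgInt) (hM : Cfsg.IsPModular p M) (B : Set (Cfsg.IrrCharacter G)) (hB : Cfsg.IsPBlock M B) (D : Subgroup G) (hD : Cfsg.IsDefectGroup p M B D) (P : Subgroup G) (hP : IsPGroup p P) : (∃ g : G, Cfsg.MemLocalRing M (Cfsg.blockCoeff B g) ∧ ¬ Cfsg.MemLocalIdeal M (Cfsg.blockCoeff B g) ∧ ∃ c : G, IsConj g c ∧ c ∈ Subgroup.centralizer (P : Set G)) ↔ ∃ x : G, P.map (MulAut.conj x).toMonoidHom ≤ D := by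
  haveI : PMod p M := ⟨hM⟩
  constructor
  · rintro ⟨g, -, h1, c, hc, h2⟩
    exact le_defect hB hD hP ((isClassFunction_blockCoeff B).of_isConj hc ▸ h1) h2
  · rintro ⟨x, hx⟩
    obtain ⟨y, hy, hS⟩ := isDefectGroup_iff.mp (defect_cj hD x⁻¹)
    exact ⟨y, hy.1, hy.2.1, y, IsConj.refl y, le_cent_iff.mp ((cj_le_iff.mp hx).trans hS.le)⟩

end Cfsg.Agent.S0959
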