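import Cfsg.Statements.S0962
import Cfsg.Agent.Blk.First

set_option autoImplicit false
open Cfsg

namespace Cfsg.Agent.S0962

open Cfsg.Agent.Blk Cfsg.Agent.Char Cfsg.Agent.PLoc


theorem result {G : Type*} [Group G] [Finite G] (p : ℕ) [Fact p.Prime] (M : Ideal Cfsg.AlgInt) (hM : Cfsg.IsPModular p M) (d : ℕ) : Nat.card {B : Set (Cfsg.IrrCharacter G) // Cfsg.IsPBlock M B ∧ d ≤ Cfsg.blockDefect p B} ≤ Nat.card {C : ConjClasses G // ∃ g : G, ConjClasses.mk g = C ∧ Cfsg.IsPRegular p g ∧ d ≤ (Nat.card (Subgroup.centralizer ({g} : Set G))).factorization p} := by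
  haveI : PMod p M := ⟨hM⟩
  refine card_blocks_le (M := M) _ (fun B => B.2.1) Subtype.val_injective _
    fun B B' χ hχ g h1 h2 => ⟨g, rfl, reg_of_blockCoeff_ne_zero B'.2.1 (ne_zero_of_notMem_LP h2), ?_⟩
  obtain ⟨D, hD⟩ := exists_defect (p := p) B.2.1
  obtain ⟨x, hx, h3⟩ := defect_le_cent B.2.1 hD hχ h1
  rw [card_centralizer_eq_of_isConj h3]
  refine B.2.2.trans (((Fact.out : p.Prime).pow_dvd_iff_le_factorization Nat.card_pos.ne').mp ?_)
  rw [← card_defect B.2.1 hD]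
  exact Subgroup.card_dvd_of_le (le_cent_iff.mpr hx)

end Cfsg.Agent.S0962
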