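import Cfsg.Statements.S0963
import Cfsg.Agent.Blk.Norm

set_option autoImplicit false
open Cfsg

namespace Cfsg.Agent.S0963

open Cfsg.Agent.Blk Cfsg.Agent.Char Cfsg.Agent.PLoc


theorem result {G : Type*} [Group G] [Fintype G] (N : Subgroup G) [N.Normal] [Fintype N] (χ : Cfsg.IrrCharacter G) (θ : Cfsg.IrrCharacter N) : Cfsg.classInner (fun n : N => (χ : G → ℂ) n) (θ : N → ℂ) ≠ 0 ↔ ∀ n : N, Cfsg.centralChar (χ : G → ℂ) (n : G) = Cfsg.inducedCentralChar N (θ : N → ℂ) (n : G) := by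
  have he := normEmb_subtype N
  refine ⟨fun h n => (he.centralChar_eq (χ := χ) h n).trans (om_pull_cls _ _ _), fun h => ?_⟩
  obtain ⟨p, h1, hp⟩ := Nat.exists_infinite_primes (Nat.card N + 1)
  obtain ⟨M, hM⟩ := exists_isPModular p hp
  haveI : PMod p M := ⟨hM⟩
  haveI := Fact.mk hp
  obtain ⟨ζ, h2, h3⟩ := he.exists_over_of_cong (isPBlock_blockOf (M := M) θ) (mem_blockOf_self θ)
    (χ := χ) fun n => by
      rw [om_pull_cls, N.subtype_apply, h, sub_self]; exact zero_mem _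
  rw [blockOf_eq_singleton_of_not_dvd
    (fun h => by have := Nat.le_of_dvd Nat.card_pos h; omega)] at h2
  exact h2 ▸ h3

end Cfsg.Agent.S0963
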