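import Cfsg.Statements.S0965
import Cfsg.Agent.Blk.Norm

set_option autoImplicit false
open Cfsg

namespace Cfsg.Agent.S0965

open Cfsg.Agent.Blk Cfsg.Agent.Char Cfsg.Agent.PLoc


theorem result {G : Type*} [Group G] [Fintype G] (p : ℕ) [Fact p.Prime] (M : Ideal Cfsg.AlgInt) (hM : Cfsg.IsPModular p M) (N : Subgroup G) [N.Normal] [Fintype N] (B : Set (Cfsg.IrrCharacter G)) (hB : Cfsg.IsPBlock M B) (b : Set (Cfsg.IrrCharacter N)) (hb : Cfsg.IsPBlock M b) : (∃ χ ∈ B, ∃ θ ∈ b, Cfsg.classInner (fun n : N => (χ : G → ℂ) n) (θ : N → ℂ) ≠ 0) ↔ ∀ χ ∈ B, ∀ θ ∈ b, ∀ n : N, Cfsg.MemLocalIdeal M (Cfsg.centralChar (χ : G → ℂ) (n : G) - Cfsg.inducedCentralChar N (θ : N → ℂ) (n : G)) := by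
  haveI : PMod p M := ⟨hM⟩
  have he := normEmb_subtype N
  refine ⟨fun ⟨χ, hχ, θ, hθ, h⟩ χ' hχ' θ' hθ' n => ?_, fun h => ?_⟩
  · rw [← om_pull_cls]
    exact he.cong_of_over h (blk_same hB hχ hχ') (blk_same hb hθ hθ') n
  · obtain ⟨χ, hχ⟩ := blk_nonempty hB
    obtain ⟨θ, hθ⟩ := blk_nonempty hb
    exact ⟨χ, hχ, he.exists_over_of_cong hb hθ fun n => by
      rw [om_pull_cls]; exact h χ hχ θ hθ n⟩

end Cfsg.Agent.S0965
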