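import Cfsg.Statements.S0966
import Cfsg.Agent.Blk.Norm

set_option autoImplicit false
open Cfsg

namespace Cfsg.Agent.S0966

open Cfsg.Agent.Blk Cfsg.Agent.Char Cfsg.Agent.PLoc


theorem result {G : Type*} [Group G] [Fintype G] (p : ℕ) [Fact p.Prime] (M : Ideal Cfsg.AlgInt) (hM : Cfsg.IsPModular p M) (N : Subgroup G) [N.Normal] [Fintype N] (hidx : ∃ k : ℕ, N.index = p ^ k) (b : Set (Cfsg.IrrCharacter N)) (hb : Cfsg.IsPBlock M b) : ∃! B : Set (Cfsg.IrrCharacter G), Cfsg.IsPBlock M B ∧ ∃ χ ∈ B, ∃ θ ∈ b, Cfsg.classInner (fun n : N => (χ : G → ℂ) n) (θ : N → ℂ) ≠ 0 := by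
  haveI : PMod p M := ⟨hM⟩
  have he := normEmb_subtype N
  obtain ⟨θ, hθ⟩ := blk_nonempty hb
  obtain ⟨χ, hχ⟩ := exists_over_left θ he.inj
  refine ⟨_, ⟨isPBlock_blockOf χ, χ, mem_blockOf_self χ, θ, hθ, hχ⟩, ?_⟩
  rintro B ⟨hB, χ', hχ', θ', hθ', h⟩
  refine blk_eq_of_mem hB (isPBlock_blockOf χ) hχ' (sameBlock_of_reg fun g hg => ?_)
  have h3 := he.cong_of_over hχ (sameBlock_refl _) (blk_same hb hθ hθ') ⟨g, mem_of_index_pow hidx hg⟩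
  rwa [← he.centralChar_eq (χ := χ') h] at h3

end Cfsg.Agent.S0966
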