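import Cfsg.Statements.S0967
import Cfsg.Agent.Blk.Norm

set_option autoImplicit false
open Cfsg

namespace Cfsg.Agent.S0967

open Cfsg.Agent.Blk Cfsg.Agent.Char Cfsg.Agent.PLoc


theorem result {G : Type*} [Group G] [Finite G] (p : ℕ) [Fact p.Prime] (M : Ideal Cfsg.AlgInt) (hM : Cfsg.IsPModular p M) (N : Subgroup G) [N.Normal] (hN : ¬ p ∣ Nat.card N) (χ : Cfsg.IrrCharacter (G ⧸ N)) (ψ : Cfsg.IrrCharacter G) (hψ : ψ ∈ Cfsg.blockOf M ((χ : G ⧸ N → ℂ) ∘ QuotientGroup.mk)) : ∃ ψ' : Cfsg.IrrCharacter (G ⧸ N), (ψ : G → ℂ) = (ψ' : G ⧸ N → ℂ) ∘ QuotientGroup.mk ∧ Cfsg.SameBlock M (χ : G ⧸ N → ℂ) (ψ' : G ⧸ N → ℂ) := by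
  haveI : PMod p M := ⟨hM⟩
  have hs := QuotientGroup.mk'_surjective N
  obtain ⟨ψ', rfl⟩ := exists_infl _ hs (ψ := ψ) (by
    rw [QuotientGroup.ker_mk']
    refine apply_eq_of_sameBlock hN (χ := infl _ hs χ) hψ fun n hn => ?_
    rw [infl_apply, infl_apply, map_one, QuotientGroup.mk'_apply, (QuotientGroup.eq_one_iff n).mpr hn])
  exact ⟨ψ', rfl, sameBlock_of_infl_coprime hs (by rwa [QuotientGroup.ker_mk']) hψ⟩

end Cfsg.Agent.S0967
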