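import Cfsg.Statements.S0968
import Cfsg.Agent.Blk.More

set_option autoImplicit false
open Cfsg

namespace Cfsg.Agent.S0968

open Cfsg.Agent.Blk Cfsg.Agent.Char Cfsg.Agent.PLoc


theorem result {G : Type*} [Group G] [Finite G] (p : ℕ) [Fact p.Prime] (M : Ideal Cfsg.AlgInt) (hM : Cfsg.IsPModular p M) (P : Subgroup G) (hP : IsPGroup p P) (hG : P ⊔ Subgroup.centralizer (P : Set G) = ⊤) (B : Set (Cfsg.IrrCharacter G)) (hB : Cfsg.IsPBlock M B) (hD : Cfsg.IsDefectGroup p M B P) : (∃! θ : Cfsg.IrrCharacter G, θ ∈ B ∧ ∀ x ∈ P, (θ : G → ℂ) x = (θ : G → ℂ) 1) ∧ (∀ θ ∈ B, (∀ x ∈ P, (θ : G → ℂ) x = (θ : G → ℂ) 1) → (Cfsg.charDegree (θ : G → ℂ)).factorization p = P.index.factorization p) ∧ Nat.card B = Nat.card (ConjClasses P) := by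
  haveI : PMod p M := ⟨hM⟩
  classical
  have := Fintype.ofFinite G
  haveI : P.Normal := normal_of_top_le_normalizer (hG ▸ le_normalizer_sup_cent P)
  have hs := QuotientGroup.mk'_surjective P
  have hk : IsPGroup p (QuotientGroup.mk' P).ker := by rwa [QuotientGroup.ker_mk']
  have hC0 : ∀ x, ¬ p ∣ orderOf x → x ∈ Subgroup.centralizer (P : Set G) := fun x hx => by
    refine mem_of_index_pow ?_ hx
    rw [← Subgroup.relIndex_top_right, ← hG, relIndex_sup_of_le_normalizer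
      fun z _ => mem_normalizer_of_normal _ z]
    exact relIndex_eq_pow_of_isPGroup hP _
  have hC : ∀ x, ¬ p ∣ orderOf x → x ∈ Subgroup.centralizer ((QuotientGroup.mk' P).ker : Set G) := by
    rwa [QuotientGroup.ker_mk']
  have h0 : ∀ θ : IrrCharacter (G ⧸ P), infl _ hs θ ∈ B →
      nu p θ = (Nat.card (G ⧸ P)).factorization p := fun θ hθ => le_antisymm (nu_le_card θ) (by
    have := minNu_le (p := p) hθ
    rwa [← nu_index_defect hB hD, nu, charDegree_infl] at this)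
  have h1 : ∀ θ : IrrCharacter G, (∀ x ∈ P, (θ : G → ℂ) x = (θ : G → ℂ) 1) →
      ∃ η, infl _ hs η = θ := fun θ h => exists_infl _ hs (by rwa [QuotientGroup.ker_mk'])
  obtain ⟨θ, hθ⟩ := exists_infl_mem hP hB
  have h2 : ∀ x ∈ P, (infl _ hs θ : G → ℂ) x = (θ : G ⧸ P → ℂ) 1 := fun x hx => by
    rw [infl_apply, QuotientGroup.mk'_apply, (QuotientGroup.eq_one_iff x).mpr hx]
  refine ⟨⟨infl _ hs θ, ⟨hθ, fun x hx => (h2 x hx).trans (h2 1 (one_mem _)).symm⟩, ?_⟩, ?_, ?_⟩
  · rintro ψ ⟨hψ, h⟩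
    obtain ⟨η, rfl⟩ := h1 ψ h
    have h3 : η ∈ blockOf M (θ : G ⧸ P → ℂ) := sameBlock_of_infl_pgroup hs hk hC (blk_same hB hθ hψ)
    rw [blockOf_eq_singleton (h0 θ hθ)] at h3
    rw [h3]
  · intro ψ hψ h
    obtain ⟨η, rfl⟩ := h1 ψ h
    rw [charDegree_infl]; exact h0 η hψ
  have h3 : ∀ χ ∈ B, ∀ x ∈ P, ∀ y, ¬ p ∣ orderOf y → (χ : G → ℂ) (x * y) =
      (χ : G → ℂ) x * ((θ : G ⧸ P → ℂ) y / (θ : G ⧸ P → ℂ) 1) := fun χ hχ x hx y hy => by
    have a1 := apply_reg_eq hs hk hC (h0 θ hθ) (blk_same hB hχ hθ) hy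
    have a2 := sum_conj_irr χ x y
    rw [Finset.sum_congr rfl (g := fun _ => (χ : G → ℂ) (x * y)) fun u _ => ?_, Finset.sum_const,
      Finset.card_univ, ← Nat.card_eq_fintype_card, nsmul_eq_mul] at a2
    · have := card_ne_zero G
      have := χ.2.one_ne_zero
      have := θ.2.one_ne_zero
      rw [QuotientGroup.mk'_apply] at a1
      field_simp at a2 ⊢
      apply mul_left_cancel₀ χ.2.one_ne_zero
      linear_combination (θ : G ⧸ P → ℂ) 1 * a2 + (χ : G → ℂ) x * a1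
    · obtain ⟨c, hc, v, hv, rfl⟩ := (mem_sup_of_le_normalizer_left
        (N := Subgroup.centralizer (P : Set G)) (H := P) fun z _ =>
          mem_normalizer_of_normal _ z).mp (by rw [sup_comm, hG]; exact Subgroup.mem_top u)
      rw [show c * v * y * (c * v)⁻¹ * x = c * (v * y * v⁻¹ * (c⁻¹ * x * c)) * c⁻¹ by group,
        χ.2.isClassFunction, hC0 y hy v hv, mul_inv_cancel_right, mul_assoc, hc x hx,
        inv_mul_cancel_left, hC0 y hy x hx]
  have hcj : ∀ x y : P, IsConj (x : G) y → IsConj x y := fun x y h => by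
    obtain ⟨u, hu⟩ := isConj_iff.mp h
    obtain ⟨v, hv, c, hc, rfl⟩ := (mem_sup_of_le_normalizer_right
        (N := Subgroup.centralizer (P : Set G)) (H := P) fun z _ =>
          mem_normalizer_of_normal _ z).mp (by rw [hG]; exact Subgroup.mem_top u)
    refine isConj_iff.mpr ⟨⟨v, hv⟩, Subtype.ext ?_⟩
    rw [← hu, mul_assoc v c, ← hc _ x.2]
    simp [mul_assoc]
  have := Fintype.ofFinite (ConjClasses P)
  rw [Nat.card_eq_fintype_card, Nat.card_eq_fintype_card]
  refine le_antisymm (card_le_of_inj (fun (C : ConjClasses P) (χ : B) => (χ.1 : G → ℂ) C.out)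
    fun v hv => ?_) ?_
  · refine funext (Fintype.linearIndependent_iff.mp
      (linearIndependent_irr.comp (fun χ : B => χ.1) Subtype.val_injective) v (funext fun g => ?_))
    simp only [Finset.sum_apply, Pi.smul_apply, smul_eq_mul, Function.comp, Pi.zero_apply]
    obtain ⟨x, hx⟩ := exists_ppart (p := p) Fact.out g
    by_cases hxP : x ∈ P
    · obtain ⟨y, rfl, -, -, hy⟩ := hx
      rw [Finset.sum_congr rfl fun (χ : B) _ => by rw [h3 χ χ.2 x hxP y hy, ← mul_assoc],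
        ← Finset.sum_mul]
      refine mul_eq_zero_of_left ((Finset.sum_congr rfl fun χ _ => ?_).trans
        (hv (ConjClasses.mk ⟨x, hxP⟩))) _
      rw [mul_comm]
      exact congrArg (· * v χ)
        (χ.1.2.isClassFunction.of_isConj (P.subtype.map_isConj (isConj_out (⟨x, hxP⟩ : P))).symm)
    · exact Finset.sum_eq_zero fun χ _ => by
        rw [apply_eq_zero_of_normal_defect hB hD χ.2 hx hxP, mul_zero]
  set φ : ConjClasses P → G → ℂ := fun C g =>
    if ∃ z, IsPPart p g z ∧ IsConj (C.out : G) z then (infl _ hs θ : G → ℂ) g else 0 with hφ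
  have hφ1 : ∀ C, IsClassFunction G (φ C) := fun C g u => by
    simp only [hφ, (infl _ hs θ).2.isClassFunction g u]
    refine if_congr ⟨fun ⟨z, a, b⟩ => ⟨u⁻¹ * z * u⁻¹⁻¹, by simpa [mul_assoc] using ppart_conj a u⁻¹,
      b.trans (isConj_conj _ _)⟩, fun ⟨z, a, b⟩ => ⟨_, ppart_conj a u, b.trans (isConj_conj _ _)⟩⟩
      rfl rfl
  refine card_le_of_dual (fun (C : ConjClasses P) (χ : B) => (χ.1 : G → ℂ) C.out)
    (fun χ C => classInner (φ C) χ.1 / (θ : G ⧸ P → ℂ) 1) fun C C' => ?_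
  have a1 := (hφ1 C').apply_eq_sum_irr C.out
  rw [← Finset.sum_filter_add_sum_filter_not Finset.univ (· ∈ B),
    Finset.sum_subtype (p := (· ∈ B)) (F := inferInstance) (Finset.univ.filter (· ∈ B)) (by simp),
    Finset.sum_eq_zero (s := Finset.univ.filter fun χ => χ ∉ B), add_zero] at a1
  · rw [Finset.sum_congr rfl fun (χ : B) _ => by rw [mul_comm, div_mul_eq_mul_div],
      ← Finset.sum_div, ← a1]
    simp only [hφ]
    have a2 := ppart_self (p := p) Fact.out (IsPGroup_orderOf hP C.out.2)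
    by_cases h : C = C'
    · rw [if_pos h, if_pos ⟨_, a2, h ▸ IsConj.refl _⟩, h2 _ C.out.2, div_self θ.2.one_ne_zero]
    · rw [if_neg h, if_neg, zero_div]
      rintro ⟨z, a, b⟩
      rw [← ppart_unique Fact.out a2 a] at b
      exact h (by rw [← mk_out C, ← mk_out C', ConjClasses.mk_eq_mk_iff_isConj.mpr (hcj _ _ b)])
  · intro ψ hψ
    refine mul_eq_zero_of_left (classInner_eq_zero_of_sections hB (fun x => ?_)
      (Finset.mem_filter.mp hψ).2) _
    refine ⟨if IsConj (C'.out : G) x then 1 else 0, _, hθ, fun u z a b => ?_⟩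
    simp only [hφ, ite_mul, one_mul, zero_mul]
    exact if_congr ⟨fun ⟨w, c, d⟩ => d.trans (ppart_unique Fact.out c a ▸ b.symm),
      fun h => ⟨z, a, h.trans b⟩⟩ rfl rfl

end Cfsg.Agent.S0968
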