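import Cfsg.Statements.S0969
import Cfsg.Agent.Blk.More
import Cfsg.Agent.S0961

set_option autoImplicit false
open Cfsg

namespace Cfsg.Agent.S0969

open Cfsg.Agent.Blk Cfsg.Agent.Char Cfsg.Agent.PLoc


theorem result {G : Type*} [Group G] [Finite G] (p : ℕ) [Fact p.Prime] (M : Ideal Cfsg.AlgInt) (hM : Cfsg.IsPModular p M) (D : Subgroup G) (hD : IsPGroup p D) (hDZ : D ≤ Subgroup.center G) (χ : Cfsg.IrrCharacter G) (hdeg : (Cfsg.charDegree (χ : G → ℂ)).factorization p = D.index.factorization p) : Cfsg.IsDefectGroup p M (Cfsg.blockOf M (χ : G → ℂ)) D ∧ ∀ g x : G, Cfsg.IsPPart p g x → x ∉ D → (χ : G → ℂ) g = 0 := by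
  haveI : PMod p M := ⟨hM⟩
  classical
  have := Fintype.ofFinite G
  haveI := normal_of_le_center hDZ
  have hB := isPBlock_blockOf (M := M) χ
  set S : ℝ := ∑ y ∈ Finset.univ.filter (fun y : G => ¬ p ∣ orderOf y), ‖(χ : G → ℂ) y‖ ^ 2 with hS
  have h1 : ev χ (aR p (χ : G → ℂ)) = S := by
    rw [ev_aR, card_mul_classInner, hS, Finset.sum_filter]
    push_cast
    refine Finset.sum_congr rfl fun y _ => ?_
    rw [regPart]
    split_ifs <;> simp [Complex.mul_conj']
  obtain ⟨n, hn⟩ := (S0961.result p χ).classInner_int χ.2.isGen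
  have h2 : (Nat.card G : ℂ) * n = (p ^ (Nat.card G).factorization p : ℕ) * S := by
    rw [← hn, ← h1, ev_aR, card_mul_classInner, card_mul_classInner, Finset.mul_sum]
    refine Finset.sum_congr rfl fun y _ => ?_
    rw [regPart]
    split_ifs <;> simp [mul_assoc]
  obtain ⟨hu, hu'⟩ := div_unit_of_eq (M := M) (index_pos' D).ne' (charDegree_ne_zero χ) hdeg.symm
  have hG := card_ne_zero G
  have hD0 := card_ne_zero D
  have hp0 : (p : ℂ) ≠ 0 := Nat.cast_ne_zero.mpr (Fact.out : p.Prime).ne_zero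
  have hGD : (Nat.card G : ℂ) = Nat.card D * D.index := by rw [← D.card_mul_index]; push_cast; rfl
  have h3 : om χ (aR p (χ : G → ℂ)) = D.index / charDegree (χ : G → ℂ) *
      (((Nat.card D * n : ℤ) : ℂ) / (p : ℂ) ^ (Nat.card G).factorization p) := by
    rw [om_def, h1, irr_one_eq]
    have := Nat.cast_ne_zero (R := ℂ).mpr (charDegree_ne_zero χ)
    push_cast at h2 ⊢
    field_simp
    linear_combination h2.symm + n * hGD
  obtain ⟨k, hk⟩ := dvd_of_div_pow_mem_LR
    (LR_of_mul_left hu hu' (h3 ▸ om_mem_LR χ (aR_mem_ZR χ.2.isCharacter)))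
  have h4 : (Nat.card D : ℝ) * S = k * Nat.card G := by
    apply Complex.ofReal_injective
    have h5 := congrArg (Int.cast : ℤ → ℂ) hk
    push_cast at h2 h5 ⊢
    apply mul_left_cancel₀ (pow_ne_zero ((Nat.card G).factorization p) hp0)
    linear_combination (Nat.card G : ℂ) * h5 - (Nat.card D : ℂ) * h2
  set T := ((Finset.univ.filter (· ∈ D)) ×ˢ (Finset.univ.filter fun y : G => ¬ p ∣ orderOf y)).image
    fun zy => zy.1 * zy.2 with hT
  have hc : ∀ z ∈ D, ∀ y, Commute z y := fun z hz y => (Subgroup.mem_center_iff.mp (hDZ hz) y).symm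
  have h5 : ∑ g ∈ T, ‖(χ : G → ℂ) g‖ ^ 2 = Nat.card D * S := by
    rw [hT, Finset.sum_image, Finset.sum_product, Finset.sum_congr rfl (g := fun _ => S),
      Finset.sum_const, nsmul_eq_mul, Nat.card_eq_fintype_card, Fintype.card_subtype]
    · intro z hz
      have hz := (Finset.mem_filter.mp hz).2
      refine Finset.sum_congr rfl fun y _ => ?_
      rw [apply_mul_of_center χ (hDZ hz), norm_mul, norm_div, χ.2.norm_eq_of_comm (hc z hz),
        div_self (norm_ne_zero_iff.mpr χ.2.one_ne_zero), one_mul]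
    · rintro ⟨z, y⟩ h ⟨z', y'⟩ h' e
      simp only [Finset.coe_product, Finset.coe_filter, Finset.mem_univ, true_and, Set.mem_prod,
        Set.mem_setOf_eq] at h h' e
      have a1 := ppart_mk (hc z h.1 y) (IsPGroup_orderOf hD h.1) h.2
      have a2 := ppart_mk (hc z' h'.1 y') (IsPGroup_orderOf hD h'.1) h'.2
      obtain rfl := ppart_unique Fact.out a1 (e ▸ a2)
      rw [mul_left_cancel e]
  have h6 : ∑ g, ‖(χ : G → ℂ) g‖ ^ 2 = Nat.card G := by
    have := classInner_self_re (χ : G → ℂ)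
    rw [χ.2.classInner_self, Complex.one_re, eq_inv_mul_iff_mul_eq₀ (by simp), mul_one] at this
    exact this.symm
  have h7 := Finset.sum_add_sum_compl T fun g => ‖(χ : G → ℂ) g‖ ^ 2
  have h8 : 0 ≤ ∑ g ∈ Tᶜ, ‖(χ : G → ℂ) g‖ ^ 2 := Finset.sum_nonneg fun _ _ => sq_nonneg _
  have h9 : 0 < S := Finset.sum_pos' (fun _ _ => sq_nonneg _) ⟨1, by
    simpa using not_dvd_orderOf_one (G := G) (Fact.out : p.Prime), by
      exact pow_pos (norm_pos_iff.mpr χ.2.one_ne_zero) 2⟩
  have hG' : (0 : ℝ) < Nat.card G := Nat.cast_pos.mpr Nat.card_pos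
  have hD' : (0 : ℝ) < Nat.card D := Nat.cast_pos.mpr Nat.card_pos
  have hk1 : k = 1 := by
    have a1 : (0 : ℝ) < k := (mul_pos_iff_of_pos_right hG').mp (by rw [← h4]; positivity)
    have a2 : (k : ℝ) ≤ 1 := le_of_mul_le_mul_right (by linarith) hG'
    have a3 : 0 < k := by exact_mod_cast a1
    have a4 : k ≤ 1 := by exact_mod_cast a2
    omega
  subst hk1
  have h10 : om χ (aR p (χ : G → ℂ)) ∉ LP M := by
    rw [h3, hk]; push_cast; rwa [mul_one, div_self (pow_ne_zero _ hp0), mul_one]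
  obtain ⟨E, hE⟩ := exists_defect (p := p) hB
  refine ⟨defect_of_le_of_card hB hE hE (normal_le_defect hB hE hD) ?_, fun g x hx hxD => ?_⟩
  · obtain ⟨m, hm⟩ := hD.exists_card_eq
    have a1 := nu_card_mul p D
    rw [hm, Nat.factorization_pow_self Fact.out, ← hdeg] at a1
    rw [card_defect hB hE, blockDefect_eq, ← (height_zero_of_om_aR hB (mem_blockOf_self χ) h10).2,
      a1, hm, Nat.add_sub_cancel]
  · have a1 : ∑ g ∈ Tᶜ, ‖(χ : G → ℂ) g‖ ^ 2 = 0 := by
      rw [h5, h4, h6] at h7; simpa using h7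
    have a2 := (Finset.sum_eq_zero_iff_of_nonneg fun _ _ => sq_nonneg _).mp a1 g (by
      simp only [hT, Finset.mem_compl, Finset.mem_image, Finset.mem_product, Finset.mem_filter,
        Finset.mem_univ, true_and, not_exists, not_and, and_imp]
      rintro ⟨z, y⟩ a b rfl
      exact hxD (ppart_unique Fact.out (ppart_mk (hc z a y) (IsPGroup_orderOf hD a) b) hx ▸ a))
    simpa using a2

end Cfsg.Agent.S0969
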