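import Cfsg.Statements.S0970
import Cfsg.Agent.Blk.More

set_option autoImplicit false
open Cfsg

namespace Cfsg.Agent.S0970

open Cfsg.Agent.Blk Cfsg.Agent.Char Cfsg.Agent.PLoc


theorem result {G : Type*} [Group G] [Fintype G] (p : ℕ) [Fact p.Prime] (M : Ideal Cfsg.AlgInt) (hM : Cfsg.IsPModular p M) (N : Subgroup G) [hN : N.Normal] [Fintype N] (b : Set (Cfsg.IrrCharacter N)) (hb : Cfsg.IsPBlock M b) (hinv : ∀ g : G, ∀ θ ∈ b, ∀ θ' : Cfsg.IrrCharacter N, (∀ n : N, (θ' : N → ℂ) n = (θ : N → ℂ) ⟨g * n * g⁻¹, hN.conj_mem n n.2 g⟩) → θ' ∈ b) (B : Set (Cfsg.IrrCharacter G)) (hB : Cfsg.IsPBlock M B) (hcov : ∃ χ ∈ B, ∃ θ ∈ b, Cfsg.classInner (fun n : N => (χ : G → ℂ) n) (θ : N → ℂ) ≠ 0) (hmax : ∀ B' : Set (Cfsg.IrrCharacter G), Cfsg.IsPBlock M B' → (∃ χ ∈ B', ∃ θ ∈ b, Cfsg.classInner (fun n : N => (χ : G → ℂ) n) (θ : N → ℂ) ≠ 0) → Cfsg.blockDefect p B' ≤ Cfsg.blockDefect p B) (P : Subgroup G) (hP : Cfsg.IsDefectGroup p M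 B P) : ¬ p ∣ (P ⊔ N).index ∧ Cfsg.IsDefectGroup p M b ((P ⊓ N).subgroupOf N) ∧ Cfsg.blockDefect p B = Cfsg.blockDefect p b + N.index.factorization p := by
  haveI : PMod p M := ⟨hM⟩
  have he := normEmb_subtype N
  have hi : Invt MulAut.conjNormal b := fun g θ hθ => hinv g θ hθ _ fun _ => rfl
  obtain ⟨χ, hχ, θ, hθ, h0⟩ := hcov
  obtain ⟨x, h1, h2, B', hB', h3, h4⟩ := he.exists_fong hb hi hθ
  have h5 := hmax B' hB' h3
  rw [blockDefect_of_defectClass hB' h4] at h5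
  obtain ⟨y, hy, h6⟩ := defect_le_cent hB hP hχ (he.centralChar_eq (χ := χ) h0 x ▸ h2)
  obtain ⟨g, hg⟩ := isConj_iff.mp h6
  obtain ⟨y, rfl⟩ : ∃ y' : N, (y' : G) = y := ⟨MulAut.conjNormal g x, hg⟩
  have h7 : blockCoeff b y ∉ LP M := by
    have := (mem_ZA.mp (he.fS_mem_ZA hi)).of_isConj h6
    rw [coeff_push _ he.inj, ← N.subtype_apply, coeff_push _ he.inj, coeff_fS, coeff_fS] at this
    rwa [← this]
  obtain ⟨h8, h9⟩ := he.fong_aux hb hi hθ h7 (cls_eq_of_conj h6 ▸ h2)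
  rw [card_centralizer_eq_of_isConj h6] at h5
  obtain ⟨Q, hQ⟩ := exists_isSylowOf p (Subgroup.centralizer {(y : G)})
  have hP1 := hQ.of_card_ge (defect_isPGroup hP) (le_cent_iff.mpr hy) (by
    rw [hQ.card_eq, card_defect hB hP]
    exact Nat.pow_le_pow_right (Fact.out : p.Prime).pos h5)
  have hP2 := hP1.inf_normal (N := N) (le_normalizer_inf (hP1.le.trans Subgroup.le_normalizer)
    fun z _ => mem_normalizer_of_normal _ z)
  have hP3 := hP2.subgroupOf inf_le_right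
  have e1 : (Subgroup.centralizer {(y : G)} ⊓ N).subgroupOf N = Subgroup.centralizer {y} := by
    ext z
    simp [Subgroup.mem_subgroupOf, Subgroup.mem_centralizer_singleton_iff, Subtype.ext_iff]
  rw [e1] at hP3
  have a1 := nu_card_mul p (Subgroup.centralizer {(y : G)})
  have a2 := nu_card_mul p (Subgroup.centralizer {y})
  have a3 := nu_card_mul p N
  have a4 := nu_card_mul p (P ⊔ N)
  have a5 := congrArg (fun n => n.factorization p)
    (card_sup_mul_card_inf (H := P) (N := N) fun z _ => mem_normalizer_of_normal _ z)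
  have a6 := card_defect hB hP
  simp only [Nat.factorization_mul Nat.card_pos.ne' Nat.card_pos.ne', Finsupp.add_apply] at a5
  rw [← card_subgroupOf_of_le (inf_le_right : P ⊓ N ≤ N), hP3.card_eq, hP1.card_eq,
    Nat.factorization_pow_self Fact.out, Nat.factorization_pow_self Fact.out] at a5
  rw [hP1.card_eq, Nat.pow_right_inj (Fact.out : p.Prime).one_lt] at a6
  rw [N.subtype_apply] at h9
  refine ⟨fun h => ?_, isDefectGroup_iff.mpr ⟨y, h8, hP3⟩, ?_⟩
  · have := (Fact.out : p.Prime).factorization_pos_of_dvd (index_pos' _).ne' h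
    omega
  · rw [blockDefect_of_defectClass hb h8]
    omega

end Cfsg.Agent.S0970
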