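import Cfsg.Statements.S0971
import Cfsg.Agent.Blk.Norm

set_option autoImplicit false
open Cfsg

namespace Cfsg.Agent.S0971

open Cfsg.Agent.Blk Cfsg.Agent.Char Cfsg.Agent.PLoc


theorem result {G : Type*} [Group G] [Fintype G] (p : ℕ) [Fact p.Prime] (M : Ideal Cfsg.AlgInt) (hM : Cfsg.IsPModular p M) (Q : Subgroup G) [Q.Normal] (hQ : IsPGroup p Q) [Fintype ↥(Q ⊔ Subgroup.centralizer (Q : Set G))] (b : Set (Cfsg.IrrCharacter ↥(Q ⊔ Subgroup.centralizer (Q : Set G)))) (hb : Cfsg.IsPBlock M b) : Cfsg.InducedBlockDefined M (Q ⊔ Subgroup.centralizer (Q : Set G)) b ∧ ∀ B : Set (Cfsg.IrrCharacter G), Cfsg.IsPBlock M B → (∃ χ ∈ B, ∃ θ ∈ b, Cfsg.classInner (fun n : ↥(Q ⊔ Subgroup.centralizer (Q : Set G)) => (χ : G → ℂ) n) (θ : ↥(Q ⊔ Subgroup.centralizer (Q : Set G)) → ℂ) ≠ 0) → Cfsg.IsInducedBlock M (Q ⊔ Subgroup.centralizer (Q : Set G)) b B := by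
  haveI : PMod p M := ⟨hM⟩
  have he := normEmb_subtype (Q ⊔ Subgroup.centralizer (Q : Set G))
  refine ⟨?_, fun B hB ⟨χ, hχ, θ, hθ, h⟩ => isInduced_of_ind hb hB hθ hχ (ind_of_cls fun g => ?_)⟩
  · obtain ⟨θ, hθ⟩ := blk_nonempty hb
    obtain ⟨χ, hχ⟩ := exists_ind (M := M) he.inj hQ (by simp) (by simp)
      (by rw [Subgroup.normalizer_eq_top]; exact le_top) θ
    exact ⟨_, isInduced_of_ind hb (isPBlock_blockOf χ) hθ (mem_blockOf_self χ) hχ⟩
  · by_cases hg : g ∈ Q ⊔ Subgroup.centralizer (Q : Set G)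
    · have := he.centralChar_eq (χ := χ) h ⟨g, hg⟩
      rw [Subgroup.subtype_apply] at this
      rw [this, sub_self]; exact zero_mem _
    · have h1 : pull (Q ⊔ Subgroup.centralizer (Q : Set G)).subtype (cls g) = 0 := ga_ext fun x => by
        rw [coeff_pull]
        refine coeff_cls_of_not_conj fun hc => hg ?_
        obtain ⟨c, hc⟩ := isConj_iff.mp hc.symm
        exact hc ▸ Subgroup.Normal.conj_mem inferInstance _ x.2 c
      rw [h1, om_zero, zero_sub]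
      exact neg_mem (centralChar_mem_LP hQ χ fun h => hg (Subgroup.mem_sup_right h))

end Cfsg.Agent.S0971
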