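import Cfsg.Statements.S0972
import Cfsg.Agent.Blk.More

set_option autoImplicit false
open Cfsg

namespace Cfsg.Agent.S0972

open Cfsg.Agent.Blk Cfsg.Agent.Char Cfsg.Agent.PLoc


theorem result {G : Type*} [Group G] [Finite G] (p : ℕ) [Fact p.Prime] (M : Ideal Cfsg.AlgInt) (hM : Cfsg.IsPModular p M) (B : Set (Cfsg.IrrCharacter G)) (hB : Cfsg.IsPBlock M B) (P : Subgroup G) [P.Normal] (hP : Cfsg.IsDefectGroup p M B P) : (∀ a ∈ P, ∀ c ∈ P, a * c = c * a) ↔ ∀ χ ∈ B, Cfsg.blockHeight p B (χ : G → ℂ) = 0 := by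
  haveI : PMod p M := ⟨hM⟩
  refine ⟨fun h χ hχ => (height_zero_iff hχ).mpr (le_antisymm ?_ (minNu_le hχ)), fun h a ha c hc => ?_⟩
  · rw [← nu_index_defect hB hP]
    exact (Nat.factorization_le_iff_dvd (charDegree_ne_zero χ) (index_pos' _).ne').mpr
      (χ.2.degree_dvd_index_of_comm P h (irr_one_eq χ)) p
  obtain ⟨y, hy, h1⟩ := isDefectGroup_iff.mp hP
  have h2 := Subgroup.commutator_mem_commutator ha hc
  have h3 := reg_of_mem_blockKer hB (v := a * c * a⁻¹ * c⁻¹) fun χ hχ => by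
    by_contra h'
    exact apply_defectClass_notMem hB hy hχ ((height_zero_iff hχ).mp (h χ hχ))
      (apply_mem_LP_of_commutator h1.isP ⟨_, h2, h'⟩ (le_cent_iff.mp h1.le))
  exact commutatorElement_eq_one_iff_mul_comm.mp (eq_one_of_isPGroup_of_coprime h1.isP
    (Subgroup.commutator_le_left P P h2) ((Nat.Prime.coprime_iff_not_dvd Fact.out).mpr h3).symm)

end Cfsg.Agent.S0972
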