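import Cfsg.Statements.S0973
import Cfsg.Agent.Blk.First

set_option autoImplicit false
open Cfsg

namespace Cfsg.Agent.S0973

open Cfsg.Agent.Blk Cfsg.Agent.Char Cfsg.Agent.PLoc


theorem result {G : Type*} [Group G] [Finite G] (p : ℕ) [Fact p.Prime] (M : Ideal Cfsg.AlgInt) (hM : Cfsg.IsPModular p M) (B : Set (Cfsg.IrrCharacter G)) (hB : Cfsg.IsPBlock M B) (P : Subgroup G) (hP : Cfsg.IsDefectGroup p M B P) : (∃ b : Set (Cfsg.IrrCharacter ↥(P ⊔ Subgroup.centralizer (P : Set G))), Cfsg.IsDefectGroup p M b (P.subgroupOf (P ⊔ Subgroup.centralizer (P : Set G))) ∧ Cfsg.IsInducedBlock M (P ⊔ Subgroup.centralizer (P : Set G)) b B) ∧ ∀ b b' : Set (Cfsg.IrrCharacter ↥(P ⊔ Subgroup.centralizer (P : Set G))), Cfsg.IsInducedBlock M (P ⊔ Subgroup.centralizer (P : Set G)) b B → Cfsg.IsInducedBlock M (P ⊔ Subgroup.centralizer (P : Set G)) b' B → ∃ n ∈ Subgroup.normalizer (P : Set G), ∀ θ ∈ b, ∃ θ' ∈ b', ∀ x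 : ↥(P ⊔ Subgroup.centralizer (P : Set G)), ∀ hx : n * (x : G) * n⁻¹ ∈ P ⊔ Subgroup.centralizer (P : Set G), (θ' : ↥(P ⊔ Subgroup.centralizer (P : Set G)) → ℂ) x = (θ : ↥(P ⊔ Subgroup.centralizer (P : Set G)) → ℂ) ⟨n * (x : G) * n⁻¹, hx⟩ := by
  haveI : PMod p M := ⟨hM⟩
  refine ⟨?_, fun b b' hb hb' => ?_⟩
  · obtain ⟨ξ, χ, hχ, h1, h2⟩ := exists_root_defect hB hP le_rfl (le_normalizer_sup_cent P)
    exact ⟨_, h2, isInduced_of_ind (isPBlock_blockOf ξ) hB (mem_blockOf_self ξ) hχ h1⟩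
  have := Fintype.ofFinite (P ⊔ Subgroup.centralizer (P : Set G) : Subgroup G)
  have hle := le_normalizer_sup_cent P
  have hle' : Subgroup.normalizer (P : Set G) ≤
      Subgroup.normalizer ((P ⊔ Subgroup.centralizer (P : Set G) : Subgroup G) : Set G) :=
    le_normalizer_sup le_rfl (normalizer_le_normalizer_centralizer P)
  have he : NormEmb (Subgroup.inclusion hle)
      ((P ⊔ Subgroup.centralizer (P : Set G)).normalizerMonoidHom.comp (Subgroup.inclusion hle')) :=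
    ⟨Subgroup.inclusion_injective hle, fun _ _ => rfl⟩
  have hf := (Subgroup.normalizer (P : Set G)).subtype_injective
  have hN := (Subgroup.normalizer (P : Set G)).range_subtype
  haveI := normal_comap_of_range_le hN.le
  obtain ⟨χ, hχ⟩ := blk_nonempty hB
  have key : ∀ ξ, ∃ ζ, Ind M (Subgroup.inclusion hle) ξ ζ := fun ξ =>
    exists_ind he.inj ((defect_isPGroup hP).comap_of_injective _ hf)
      (fun x hx => ⟨⟨x, Subgroup.mem_sup_left hx⟩, rfl⟩)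
      (fun x hx => ⟨⟨x, Subgroup.mem_sup_right
        ((mem_centralizer_comap hf (hN.symm ▸ Subgroup.le_normalizer)).mp hx)⟩, rfl⟩)
      (fun x _ => mem_normalizer_of_normal _ x) ξ
  obtain ⟨ξ, hξ⟩ := blk_nonempty hb.1
  obtain ⟨ξ', hξ'⟩ := blk_nonempty hb'.1
  obtain ⟨ζ, hζ⟩ := key ξ
  obtain ⟨ζ', hζ'⟩ := key ξ'
  have h1 : Ind M (Subgroup.normalizer (P : Set G)).subtype ζ χ :=
    hζ.of_trans (ind_of_isInduced hb hξ hχ)
  have h2 : Ind M (Subgroup.normalizer (P : Set G)).subtype ζ' χ :=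
    hζ'.of_trans (ind_of_isInduced hb' hξ' hχ)
  have h3 := h1.mem_of_defect hf hN h2 (isPBlock_blockOf ζ) (mem_blockOf_self ζ)
    (h1.defect_comap hf (hN.symm ▸ Subgroup.le_normalizer) hN.le (isPBlock_blockOf ζ)
      (mem_blockOf_self ζ) hB hχ hP)
  obtain ⟨n, ξ₀, h4, rfl⟩ := he.mem_orb_of_ind hb.1 hξ hζ (hζ'.right (sameBlock_symm h3))
  exact ⟨n, n.2, fun θ hθ => ⟨irrAut _ θ, blk_mem hb'.1 hξ'
    (sameBlock_infl _ _ (blk_same hb.1 h4 hθ)), fun x hx => rfl⟩⟩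

end Cfsg.Agent.S0973
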