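import Cfsg.Statements.S0985
import Cfsg.Agent.PLoc.Basic

set_option autoImplicit false
open Cfsg

namespace Cfsg.Agent.S0985
open Subgroup MulAction

/-- If the number of Sylow p-subgroups of a finite group is not congruent to 1 modulo p^k, then there are two distinct Sylow p-subgroups P and R such that the index of P ∩ R in P is at most p^(k-1). -/
theorem result {G : Type*} [Group G] [Finite G] (p k : ℕ) [Fact p.Prime] (h : ¬ Nat.card (Sylow p G) ≡ 1 [MOD p ^ k]) : ∃ P R : Sylow p G, P ≠ R ∧ ((R : Subgroup G).subgroupOf (P : Subgroup G)).index ≤ p ^ (k - 1) := by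
  classical
  by_contra hc
  push Not at hc
  apply h
  obtain ⟨P⟩ : Nonempty (Sylow p G) := inferInstance
  have := Fintype.ofFinite (orbitRel.Quotient (P : Subgroup G) (Sylow p G))
  have h1 : ∀ R : Sylow p G, Nat.card (orbit (P : Subgroup G) R) =
      ((R : Subgroup G).subgroupOf (P : Subgroup G)).index := fun R => by
    rw [Nat.card_coe_set_eq, ← index_stabilizer]
    congr 1
    ext x
    rw [mem_stabilizer_iff, mem_subgroupOf, Subgroup.smul_def, Sylow.smul_eq_iff_mem_normalizer]
    exact ⟨fun e => ((P.2.inf_normalizer_sylow R).le ⟨x.2, e⟩).2, fun e => le_normalizer e⟩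
  have h2 : ∀ q : orbitRel.Quotient (P : Subgroup G) (Sylow p G),
      q.out = P ↔ q = Quotient.mk'' P := fun q => by
    refine ⟨fun e => (Quotient.out_eq' q).symm.trans (congrArg _ e), fun e => ?_⟩
    obtain ⟨x, hx⟩ : q.out ∈ orbit (P : Subgroup G) P := by
      rw [← orbitRel_apply, ← Quotient.eq'', Quotient.out_eq', e]
    rw [← hx]
    exact Sylow.smul_eq_iff_mem_normalizer.2 (le_normalizer x.2)
  rw [Nat.card_congr (selfEquivSigmaOrbits (P : Subgroup G) (Sylow p G)), Nat.card_sigma,
    ← Finset.add_sum_erase _ _ (Finset.mem_univ (Quotient.mk'' P)), h1, (h2 _).2 rfl,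
    subgroupOf_self, index_top]
  refine ((Nat.modEq_iff_dvd' (Nat.le_add_right _ _)).2 ?_).symm
  rw [Nat.add_sub_cancel_left]
  refine Finset.dvd_sum fun q hq => ?_
  have h3 := hc P q.out fun e => (Finset.mem_erase.1 hq).1 ((h2 q).1 e.symm)
  obtain ⟨j, hj⟩ := P.2.index ((q.out : Subgroup G).subgroupOf (P : Subgroup G))
  rw [h1, hj]
  rw [hj, Nat.pow_lt_pow_iff_right (Fact.out : p.Prime).one_lt] at h3
  exact pow_dvd_pow p (by omega)

end Cfsg.Agent.S0985
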