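import Cfsg.Statements.S0986
import Cfsg.Agent.PLoc.Cores

set_option autoImplicit false
open Cfsg

namespace Cfsg.Agent.S0986
open Subgroup

/-- Let P and Q be distinct Sylow p-subgroups of a finite group G chosen so that the order of P ∩ Q is as large as possible among intersections of two distinct Sylow p-subgroups, and let N be the normalizer of P ∩ Q. Then N has more than one Sylow p-subgroup, any two distinct Sylow p-subgroups of N intersect exactly in P ∩ Q, and each Sylow p-subgroup of N lies in exactly one Sylow p-subgroup of G. -/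
theorem result {G : Type*} [Group G] [Finite G] (p : ℕ) [Fact p.Prime] (P Q : Sylow p G) (hPQ : P ≠ Q) (hmax : ∀ P' Q' : Sylow p G, P' ≠ Q' → Nat.card ↥((P' : Subgroup G) ⊓ (Q' : Subgroup G)) ≤ Nat.card ↥((P : Subgroup G) ⊓ (Q : Subgroup G))) : 1 < Nat.card (Sylow p ↥(Subgroup.normalizer (((P : Subgroup G) ⊓ (Q : Subgroup G) : Subgroup G) : Set G))) ∧ (∀ S T : Sylow p ↥(Subgroup.normalizer (((P : Subgroup G) ⊓ (Q : Subgroup G) : Subgroup G) : Set G)), S ≠ T → (S : Subgroup _) ⊓ (T : Subgroup _) = ((P : Subgroup G) ⊓ (Q : Subgroup G)).subgroupOf (Subgroup.normalizer (((P : Subgroup G) ⊓ (Q : Subgroup G) : Subgroup G) : Set G))) ∧ ∀ S : Sylow p ↥(Subgroup.normalizer (((P : Subgroup G) ⊓ (Q : Subgroup G) : Subgroup G) : Set G)), ∃! T : Sylow p G, (S : Subgroup _).map (Subgroup.normalizer (((P : Subgroup G) ⊓ (Q : Subgroup G) : Subgroup G) : Set G)).subtype ≤ (T : Subgroup G) := by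
  set D := (P : Subgroup G) ⊓ (Q : Subgroup G) with hD
  set N := normalizer (D : Set G) with hN
  have k1 : ∀ (U : Subgroup G) (S T : Sylow p G), Nat.card D < Nat.card U → U ≤ S → U ≤ T →
      S = T := fun U S T h1 h2 h3 => by
    by_contra h4
    have := (card_le_of_le (le_inf h2 h3)).trans (hmax S T h4)
    omega
  have k2 : ∀ S : Sylow p G, D ≤ S → Nat.card D < Nat.card ((S : Subgroup G) ⊓ N : Subgroup G) := by
    intro S hS
    have h1 : D < S := lt_of_le_of_ne hS fun e => hPQ (by
      have h2 : Nat.card D = Nat.card P := by rw [e]; exact Nat.card_congr (S.equiv P).toEquiv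
      have h3 : D = P := eq_of_le_of_card_ge inf_le_left h2.ge
      exact Sylow.ext (P.3 Q.2 (h3.ge.trans inf_le_right)).symm)
    exact PLoc.card_lt_of_lt (PLoc.lt_inf_normalizer S.2 h1)
  have k3 : ∀ S : Sylow p N, Nat.card D < Nat.card ((S : Subgroup N).map N.subtype) := fun S => by
    obtain ⟨T, hT⟩ := (P.2.comap_subtype (K := N)).exists_le_sylow
    have h1 := card_le_of_le hT
    rw [Nat.card_congr (T.equiv S).toEquiv, ← card_map_of_injective N.subtype_injective,
      ← card_map_of_injective (K := (S : Subgroup N)) N.subtype_injective, map_comap_eq,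
      range_subtype, inf_comm] at h1
    exact (k2 P inf_le_left).trans_le h1
  have k4 : ∀ S : Sylow p N, ∃! T : Sylow p G, (S : Subgroup N).map N.subtype ≤ T := fun S => by
    obtain ⟨T, hT⟩ := (S.2.map N.subtype).exists_le_sylow
    exact ⟨T, hT, fun T' hT' => k1 _ _ _ (k3 S) hT' hT⟩
  refine ⟨?_, fun S T hST => ?_, k4⟩
  · by_contra hc
    have : Subsingleton (Sylow p N) := Finite.card_le_one_iff_subsingleton.1 (by omega)
    obtain ⟨S, hS⟩ := (P.2.comap_subtype (K := N)).exists_le_sylow
    obtain ⟨T, hT⟩ := (Q.2.comap_subtype (K := N)).exists_le_sylow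
    obtain rfl := Subsingleton.elim S T
    obtain ⟨R, hR, -⟩ := k4 S
    have h1 : ∀ X : Sylow p G, D ≤ X → (X : Subgroup G).comap N.subtype ≤ S → X = R :=
      fun X h1 h2 => k1 _ _ _ (k2 X h1) inf_le_left fun x hx => hR ⟨⟨x, hx.2⟩, h2 hx.1, rfl⟩
    exact hPQ ((h1 P inf_le_left hS).trans (h1 Q inf_le_right hT).symm)
  · obtain ⟨S', hS, -⟩ := k4 S
    obtain ⟨T', hT, -⟩ := k4 T
    have h1 : S' ≠ T' := by
      rintro rfl
      have h2 := S'.2.comap_subtype (K := N)
      exact hST (Sylow.ext ((S.3 h2 (map_le_iff_le_comap.1 hS)).symm.trans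
        (T.3 h2 (map_le_iff_le_comap.1 hT))))
    have h2 : IsPGroup p (D.subgroupOf N) := (P.2.to_inf_left).comap_subtype
    refine (eq_of_le_of_card_ge (le_inf (h2.le_sylow_of_normal S) (h2.le_sylow_of_normal T)) ?_).symm
    rw [PLoc.card_subgroupOf_of_le le_normalizer, ← card_map_of_injective N.subtype_injective]
    exact (card_le_of_le (le_inf ((map_mono inf_le_left).trans hS)
      ((map_mono inf_le_right).trans hT))).trans (hmax S' T' h1)

end Cfsg.Agent.S0986
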