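import Cfsg.Statements.S0987
import Cfsg.Agent.Inv.Small

set_option autoImplicit false
open Cfsg

namespace Cfsg.Agent.S0987
open Subgroup

/-- If a finite group has order pqr for primes p < q < r, then its Sylow r-subgroups are normal. -/
theorem result {G : Type*} [Group G] [Finite G] (p q r : ℕ) (hp : p.Prime) (hq : q.Prime) [Fact r.Prime] (hpq : p < q) (hqr : q < r) (hG : Nat.card G = p * q * r) (R : Sylow r G) : (R : Subgroup G).Normal := by
  have hr : r.Prime := Fact.out
  have := Fact.mk hp
  obtain ⟨P⟩ : Nonempty (Sylow p G) := inferInstance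
  have h1 : ¬ p ∣ q * r := fun e => by
    rcases (Nat.Prime.dvd_mul hp).1 e with e | e
    · have := (Nat.prime_dvd_prime_iff_eq hp hq).1 e; omega
    · have := (Nat.prime_dvd_prime_iff_eq hp hr).1 e; omega
  have hP : Nat.card P = p := by
    simpa using Inv.card_sylow_of_card P (k := 1) (by rw [hG, pow_one, mul_assoc]) h1
  have h2 : (Nat.card G).minFac = p := by
    have h3 := Nat.minFac_prime (n := Nat.card G) (by
      rw [hG]; exact fun e => hr.one_lt.ne' (Nat.eq_one_of_mul_eq_one_left e))
    have h4 := Nat.minFac_le_of_dvd hp.two_le (hG ▸ Dvd.intro (q * r) (by ring) : p ∣ Nat.card G)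
    have h5 := Nat.minFac_dvd (Nat.card G)
    generalize (Nat.card G).minFac = l at *
    rw [hG] at h5
    rcases (Nat.Prime.dvd_mul h3).1 h5 with e | e
    · rcases (Nat.Prime.dvd_mul h3).1 e with e | e
      · exact (Nat.prime_dvd_prime_iff_eq h3 hp).1 e
      · have := (Nat.prime_dvd_prime_iff_eq h3 hq).1 e; omega
    · have := (Nat.prime_dvd_prime_iff_eq h3 hr).1 e; omega
  obtain ⟨K, this, h3⟩ : ∃ K : Subgroup G, K.Normal ∧ K.IsComplement' P :=
    ⟨_, inferInstance, (isCyclic_of_prime_card hP).isComplement' h2⟩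
  have h4 : Nat.card K = r ^ 1 * q := by
    have := h3.card_mul_card
    rw [hP, hG] at this
    exact Nat.eq_of_mul_eq_mul_right hp.pos (this.trans (by ring))
  have h5 : ¬ r ∣ q := fun e => by have := Nat.le_of_dvd hq.pos e; omega
  obtain ⟨S⟩ : Nonempty (Sylow r K) := inferInstance
  have h6 : Nat.card (Sylow r K) = 1 := by
    have h7 := S.card_dvd_index
    rw [Inv.index_sylow_of_card S h4 h5] at h7
    refine (hq.eq_one_or_self_of_dvd _ h7).resolve_right fun e => ?_
    have h8 := card_sylow_modEq_one r K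
    rw [e, Nat.ModEq, Nat.mod_eq_of_lt hqr, Nat.mod_eq_of_lt hr.one_lt] at h8
    exact hq.one_lt.ne' h8
  have : Subsingleton (Sylow r K) := (Nat.card_eq_one_iff_unique.1 h6).1
  have := Sylow.characteristic_of_subsingleton S
  have h7 := ConjAct.normal_of_characteristic_of_normal (H := K) (K := (S : Subgroup K))
  have h8 : (S : Subgroup K).map K.subtype = R := by
    refine eq_of_le_of_card_ge ((S.2.map K.subtype).le_sylow_of_normal R) ?_
    rw [card_map_of_injective K.subtype_injective, Inv.card_sylow_of_card S h4 h5,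
      Inv.card_sylow_of_card R (k := 1) (m := p * q) (by rw [hG]; ring) fun e => ?_]
    rcases (Nat.Prime.dvd_mul hr).1 e with e | e
    · have := Nat.le_of_dvd hp.pos e; omega
    · exact h5 e
  exact h8 ▸ h7

end Cfsg.Agent.S0987
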