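import Cfsg.Statements.S0988
import Cfsg.Agent.H9.Sm5

set_option autoImplicit false
open Cfsg

namespace Cfsg.Agent.S0988
open Cfsg.Agent.H9 Cfsg.Agent.Inv

/-- If a finite simple group has order p^2 * q * r with p, q and r prime, then its order is 60. -/
theorem result {G : Type*} [Group G] [Finite G] [IsSimpleGroup G] (p q r : ℕ) (hp : p.Prime) (hq : q.Prime) (hr : r.Prime) (hG : Nat.card G = p ^ 2 * q * r) : Nat.card G = 60 := by
  have h0 : ¬ IsMulCommutative G := not_comm_of_simple (by
    rw [hG, mul_assoc, sq, mul_assoc]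
    exact Nat.not_prime_mul hp.one_lt.ne' fun e => hp.one_lt.ne' (Nat.eq_one_of_mul_eq_one_right e))
  have key : ∀ q r : ℕ, q.Prime → r.Prime → Nat.card G = p ^ 2 * q * r → q ≠ p := by
    rintro _ r - hr h rfl
    exact not_dvd_pow_mul_pow h0 hp hr 3 1 (by rw [h]; exact dvd_of_eq (by ring))
  have h1 := key q r hq hr hG
  have h2 := key r q hr hq (by rw [hG]; ring)
  have h3 : q ≠ r := by
    rintro rfl
    exact not_dvd_pow_mul_pow h0 hp hq 2 2 (by rw [hG]; exact dvd_of_eq (by ring))
  have h4 := four_dvd_card_of_simple (even_card h0) (card_ne_two h0)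
  have odd : ∀ {l : ℕ}, l.Prime → l ≠ 2 → Nat.Coprime 4 l := fun hl l2 =>
    Nat.Coprime.pow_left 2 ((Nat.coprime_primes Nat.prime_two hl).2 l2.symm)
  obtain rfl : p = 2 := by
    by_contra p2
    rw [hG, mul_assoc] at h4
    have h5 := ((odd hp p2).pow_right 2).dvd_of_dvd_mul_left h4
    by_cases q2 : q = 2
    · have := (odd hr (q2 ▸ h3.symm)).dvd_of_dvd_mul_right h5
      omega
    · exact absurd (Nat.Prime.eq_one_or_self_of_dvd hr 4 ((odd hq q2).dvd_of_dvd_mul_left h5))
        (by rintro (e | e); omega; exact absurd (e ▸ hr) (by norm_num))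
  have key2 : ∀ q r : ℕ, q.Prime → r.Prime → Nat.card G = 2 ^ 2 * q * r → q = 3 → r ≠ 3 → r ≠ 2 →
      Nat.card G = 60 := by
    rintro _ r - hr h rfl r3 r2
    have := hr.two_le
    have r4 : r ≠ 4 := fun e => absurd (e ▸ hr) (by norm_num)
    rcases big_prime_card (not_prime_card h0) r hr (by rw [h]; exact dvd_mul_left _ _)
      (by rw [h]; nlinarith [show 5 ≤ r by omega, mul_self_nonneg r]) with e | e
    · rw [h, show 2 * (2 ^ 2 * 3 * r) = r * 24 by ring] at e
      have := Nat.eq_of_mul_eq_mul_left (by omega) e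
      have : r = 5 := by
        have : r ^ 2 = 25 := by omega
        nlinarith
      rw [h, this]; rfl
    · obtain ⟨s, rfl⟩ : ∃ s, r = s + 2 := ⟨r - 2, by omega⟩
      rw [h, show s + 2 - 1 = s + 1 by omega, show (s + 1) ^ 2 - 1 = s * (s + 2) from
        Nat.sub_eq_of_eq_add (by ring), ← mul_assoc] at e
      have := Nat.eq_of_mul_eq_mul_right (by omega) e
      have : s = 3 := by nlinarith
      rw [h, this]; rfl
  have o : ∀ {l : ℕ}, l.Prime → l ≠ 2 → l % 2 = 1 := fun hl l2 => hl.eq_two_or_odd.resolve_left l2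
  have h8 : ¬ 8 ∣ Nat.card G := fun e => by
    rw [hG, mul_assoc] at e
    have : 2 ∣ q * r := Nat.dvd_of_mul_dvd_mul_left (by norm_num : 0 < 4) e
    rcases (Nat.Prime.dvd_mul Nat.prime_two).1 this with e | e
    · have := o hq h1; omega
    · have := o hr h2; omega
  have h5 : 3 ∣ q * r := by
    rcases s0499 h0 (even_card h0) with e | e | e
    · rw [hG, mul_assoc] at e
      exact Nat.dvd_of_mul_dvd_mul_left (by norm_num : 0 < 4) e
    · omega
    · omega
  rcases (Nat.Prime.dvd_mul Nat.prime_three).1 h5 with e | e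
  · have := (Nat.prime_dvd_prime_iff_eq Nat.prime_three hq).1 e
    exact key2 q r hq hr hG this.symm (by omega) h2
  · have := (Nat.prime_dvd_prime_iff_eq Nat.prime_three hr).1 e
    exact key2 r q hr hq (by rw [hG]; ring) this.symm (by omega) h1

end Cfsg.Agent.S0988
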