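import Cfsg.Statements.S0989
import Cfsg.Agent.H9.Sm2

set_option autoImplicit false
open Cfsg

namespace Cfsg.Agent.S0989
open Subgroup Cfsg.Agent.Inv Cfsg.Agent.PLoc

/-- In the symmetric group on p or p + 1 letters, p a prime, the normalizer of a Sylow p-subgroup has order p * (p - 1). -/
theorem result {α : Type*} [Fintype α] [DecidableEq α] (p : ℕ) [Fact p.Prime] (hα : Fintype.card α = p ∨ Fintype.card α = p + 1) (P : Sylow p (Equiv.Perm α)) : Nat.card ↥(Subgroup.normalizer ((P : Subgroup (Equiv.Perm α)) : Set (Equiv.Perm α))) = p * (p - 1) := by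
  have hp : p.Prime := Fact.out
  have p2 := hp.two_le
  have h1 : ∀ x : Equiv.Perm α, orderOf x = p → x.cycleType = {p} := fun x hx => by
    have := Equiv.Perm.isCycle_of_prime_order' (hx ▸ hp) (by omega)
    rw [this.cycleType, ← this.orderOf, hx]
  have h2 : p ∣ Nat.card (Equiv.Perm α) := by
    rw [Nat.card_perm, Nat.card_eq_fintype_card]
    exact hp.dvd_factorial.2 (by omega)
  obtain ⟨z, hz, z1, hz'⟩ := H9.exists_central P h2
  obtain ⟨x, hx, ho⟩ := exists_mem_orderOf_eq_prime hp (dvd_card_of_isPGroup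
    (P.2.to_le (zpowers_le.2 hz)) (by simpa using z1))
  have h3 : Nat.card (centralizer ({x} : Set (Equiv.Perm α))) = p := by
    rw [Equiv.Perm.nat_card_centralizer, h1 x ho]
    rcases hα with e | e <;> simp [e]
  have h4 : (P : Subgroup (Equiv.Perm α)) = zpowers x := by
    refine (eq_of_le_of_card_ge (zpowers_le.2 (zpowers_le.2 hz hx)) ?_).symm
    rw [Nat.card_zpowers, ho]
    refine (card_le_of_le fun g hg => mem_centralizer_singleton_iff.2 ?_).trans h3.le
    obtain ⟨i, rfl⟩ := hx
    exact (Commute.zpow_right (hz' g hg) i)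
  have h5 : autSub ho = ⊤ := eq_top_iff.2 fun a _ =>
    Equiv.Perm.isConj_iff_cycleType_eq.2 (by rw [h1 x ho, h1 _ (orderOf_pw ho a.ne_zero)])
  have h6 := card_autSub ho
  rw [h5, card_top, Nat.card_eq_fintype_card, ZMod.card_units] at h6
  rw [h4, h6, ← card_mul_relIndex (H := centralizer {x}), h3]
  rw [← centralizer_zpowers]
  exact centralizer_le_normalizer _

end Cfsg.Agent.S0989
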