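import Cfsg.Statements.S0998
import Cfsg.Agent.H3.BTu
import Cfsg.Agent.S0997
import Cfsg.Agent.S0252
import Cfsg.Agent.S0253
import Cfsg.Agent.Class.Lin

set_option autoImplicit false
open Cfsg

namespace Cfsg.Agent.S0998

open Cfsg.Agent.Char

theorem ar {p q r b : ℕ} (hq : q.Prime) (hr : r.Prime) (hqr : q ≠ r) {n : ℕ} (h : n = r * q ^ b)
    (h4 : 4 ∣ n) : q = 2 ∧ r % 2 = 1 ∧ (3 ∣ n → r = 3) := by
  obtain rfl : q = 2 := by
    by_contra e
    have : Nat.Coprime 4 (q ^ b) := Nat.Coprime.pow 2 b ((Nat.coprime_primes Nat.prime_two hq).2 (Ne.symm e))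
    rcases (Nat.dvd_prime hr).1 (this.dvd_of_dvd_mul_right (h ▸ h4)) with e | e
    · omega
    · exact absurd (e ▸ hr) (by norm_num)
  refine ⟨rfl, hr.eq_two_or_odd.resolve_left hqr.symm, fun h3 => ?_⟩
  exact ((Nat.prime_dvd_prime_iff_eq Nat.prime_three hr).1
    ((Nat.Coprime.pow_right b (by norm_num)).dvd_of_dvd_mul_right (h ▸ h3))).symm

theorem odd_dvd {k r b : ℕ} (h : k ∣ r * 2 ^ b) (hk : k % 2 = 1) : k ∣ r :=
  (Nat.Coprime.pow_right b (by rwa [Nat.coprime_two_right, Nat.odd_iff])).dvd_of_dvd_mul_right h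

theorem aux {G : Type*} [Group G] [Finite G] [IsSimpleGroup G] (hG : ¬ IsCyclic G) (p q r b : ℕ) (hp : p.Prime) (hq : q.Prime) (hr : r.Prime) (hpq : p ≠ q) (hpr : r < p) (hqr : q ≠ r) (hG' : Nat.card G = p * r * q ^ b) : (∃ (F : Type) (_ : Field F) (_ : Fintype F), Fintype.card F = 5 ∧ Nonempty (G ≃* Matrix.ProjectiveSpecialLinearGroup (Fin 2) F)) ∨ (∃ (F : Type) (_ : Field F) (_ : Fintype F), Fintype.card F = 7 ∧ Nonempty (G ≃* Matrix.ProjectiveSpecialLinearGroup (Fin 2) F)) := by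
  have r2 := hr.two_le
  have h1 : r < p - 1 := by
    by_contra e
    obtain rfl : r = 2 := by
      rcases hp.eq_two_or_odd with e | e <;> rcases hr.eq_two_or_odd with e | e <;> omega
    obtain ⟨x, h⟩ := Inv.exists_syl1 (G := G) (p := 2) ⟨p * q ^ b, by rw [hG']; ring⟩ fun e => by
      rw [hG', show p * 2 * q ^ b = 2 * (p * q ^ b) by ring, sq, Nat.mul_dvd_mul_iff_left two_pos,
        Nat.prime_two.dvd_mul] at e
      rcases e with e | e
      · omega
      · exact hqr ((Nat.prime_dvd_prime_iff_eq Nat.prime_two hq).1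
          (Nat.prime_two.dvd_of_dvd_pow e)).symm
    have := h.two_le (Inv.not_comm_of_not_cyclic hG)
    have := Nat.le_of_dvd one_pos (Inv.card_autSub_dvd h.ord)
    omega
  rcases S0997.result hG p q b r hp hq hpq (by rw [hG']; ring) h1 with
    ⟨-, F, _, _, a, -, ⟨c⟩⟩ | ⟨m, F, _, _, a, a1, a2, ⟨c⟩⟩
  · have h2 := Class.card_PSL2 (F := F)
    obtain ⟨k, rfl⟩ : ∃ k, p = 2 * k + 1 := (hp.eq_two_or_odd'.resolve_left (by omega))
    rw [← Nat.card_congr c.toEquiv, hG', a, show 2 * k + 1 - 1 = 2 * k by omega,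
      Nat.gcd_mul_right_right, show (2 * k + 1) ^ 2 - 1 = 2 * (2 * (k * (k + 1))) by
        rw [Nat.sub_eq_iff_eq_add (Nat.one_le_pow _ _ hp.pos)]; ring, mul_assoc, mul_left_comm,
      Nat.mul_right_inj hp.ne_zero, Nat.mul_right_inj two_ne_zero] at h2
    have h3 : ¬ 3 ∣ 2 * k + 1 := fun e => by
      have := (Nat.prime_dvd_prime_iff_eq Nat.prime_three hp).1 e
      omega
    obtain ⟨rfl, -, h4⟩ := ar (p := 0) hq hr hqr h2.symm
      (Nat.mul_dvd_mul_left 2 (Nat.even_mul_succ_self k).two_dvd)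
    obtain rfl := h4 (Dvd.dvd.mul_left ((Nat.prime_three.dvd_mul).2 (by
      rcases (by omega : k % 3 = 0 ∨ k % 3 = 1 ∨ k % 3 = 2) with e | e | e <;> omega)) 2)
    rcases Nat.mod_two_eq_zero_or_one k with e | e
    · have := Nat.le_of_dvd three_pos (odd_dvd (k := k + 1) ⟨2 * k, by rw [h2]; ring⟩ (by omega))
      exact .inl ⟨F, _, _, by omega, ⟨c⟩⟩
    · have := Nat.le_of_dvd three_pos (odd_dvd (k := k) ⟨2 * (k + 1), by rw [h2]; ring⟩ e)
      exact .inr ⟨F, _, _, by omega, ⟨c⟩⟩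
  · have h2 := Class.card_PSL2 (F := F)
    obtain ⟨m, rfl⟩ : ∃ k, m = k + 2 := ⟨m - 2, by rcases m with _ | _ | m <;> omega⟩
    obtain ⟨k, hk⟩ : ∃ k, 2 ^ m = k + 1 := Nat.exists_eq_succ_of_ne_zero (by positivity)
    have h0 : 2 ^ (m + 2) = 4 * k + 4 := by rw [pow_add, hk]; ring
    rw [h0] at a a1
    rw [← Nat.card_congr c.toEquiv, hG', a, show 4 * k + 4 - 1 = 1 + 2 * (2 * k + 1) by omega,
      Nat.gcd_add_mul_left_right, Nat.gcd_one_right, one_mul,
      show (4 * k + 4) ^ 2 - 1 = p * (4 * k + 3) by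
        rw [Nat.sub_eq_iff_eq_add (Nat.one_le_pow _ _ (by omega)), a1]; ring, mul_assoc, mul_left_comm _ p,
      Nat.mul_right_inj hp.ne_zero] at h2
    obtain ⟨rfl, h3, h4⟩ := ar (p := 0) hq hr hqr h2.symm (Dvd.dvd.mul_right (by omega) _)
    have h5 : ¬ 3 ∣ p := fun e => by
      have := (Nat.prime_dvd_prime_iff_eq Nat.prime_three hp).1 e
      omega
    obtain rfl := h4 ((Nat.prime_three.dvd_mul).2 (by
      rcases (by omega : k % 3 = 0 ∨ k % 3 = 1 ∨ k % 3 = 2) with e | e | e <;> omega))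
    have := Nat.le_of_dvd three_pos (odd_dvd (k := 4 * k + 3) (Dvd.intro_left _ h2.symm) (by omega))
    have : Fact (Nat.Prime 5) := ⟨by norm_num⟩
    obtain ⟨e1⟩ := S0252.result (F := F) (by omega)
    obtain ⟨e2⟩ := S0253.result (F := ZMod 5) (by simp)
    exact .inl ⟨ZMod 5, inferInstance, inferInstance, by simp, ⟨c.trans (e1.trans e2.symm)⟩⟩

/-- A non-cyclic finite simple group whose order has the form p * r * q^b for distinct primes p, q, r is isomorphic to the projective special linear group of dimension 2 over the field with 5 or with 7 elements. -/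
theorem result {G : Type*} [Group G] [Finite G] [IsSimpleGroup G] (hG : ¬ IsCyclic G) (p q r b : ℕ) (hp : p.Prime) (hq : q.Prime) (hr : r.Prime) (hpq : p ≠ q) (hpr : p ≠ r) (hqr : q ≠ r) (hG' : Nat.card G = p * r * q ^ b) : (∃ (F : Type) (_ : Field F) (_ : Fintype F), Fintype.card F = 5 ∧ Nonempty (G ≃* Matrix.ProjectiveSpecialLinearGroup (Fin 2) F)) ∨ (∃ (F : Type) (_ : Field F) (_ : Fintype F), Fintype.card F = 7 ∧ Nonempty (G ≃* Matrix.ProjectiveSpecialLinearGroup (Fin 2) F)) := by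
  rcases hpr.lt_or_gt with h | h
  · exact aux hG r q p b hr hq hp hqr.symm h hpq.symm (by rw [hG']; ring)
  · exact aux hG p q r b hp hq hr hpq h hqr hG'

end Cfsg.Agent.S0998
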