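import Cfsg.Statements.S1003
import Cfsg.Agent.H9.Sm6

set_option autoImplicit false
open Cfsg

namespace Cfsg.Agent.S1003
open Subgroup Cfsg.Agent.H9 Cfsg.Agent.Inv Cfsg.Agent.PLoc

/-- A simple group of order 168 has exactly 21 Sylow 2-subgroups, 28 Sylow 3-subgroups and 8 Sylow 7-subgroups. -/
theorem result {G : Type*} [Group G] [Finite G] [IsSimpleGroup G] (h : Nat.card G = 168) : Nat.card (Sylow 2 G) = 21 ∧ Nat.card (Sylow 3 G) = 28 ∧ Nat.card (Sylow 7 G) = 8 := by
  have : Fact (Nat.Prime 3) := ⟨Nat.prime_three⟩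
  have : Fact (Nat.Prime 7) := ⟨by norm_num⟩
  obtain ⟨x, hx⟩ := exists_syl1 (G := G) (p := 3) (by rw [h]; norm_num) (by rw [h]; norm_num)
  obtain ⟨y, hy⟩ := exists_syl1 (G := G) (p := 7) (by rw [h]; norm_num) (by rw [h]; norm_num)
  refine ⟨?_, hx.card_sylow.trans (sc3 h hx.ord).2.2, hy.card_sylow.trans (sc7 h hy.ord).2.2⟩
  rw [(default : Sylow 2 G).card_eq_index_normalizer]
  exact (congrArg index (norm168 h _)).trans (index_sylow_of_card _ (k := 3) h (by norm_num))

end Cfsg.Agent.S1003
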