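import Cfsg.Statements.S1006
import Cfsg.Agent.H9.Sm6

set_option autoImplicit false
open Cfsg

namespace Cfsg.Agent.S1006
open Subgroup Cfsg.Agent.H9 Cfsg.Agent.Inv Cfsg.Agent.PLoc

/-- In a simple group of order 168 there are 56 elements of order 3, all conjugate; 42 elements of order 4, all conjugate; and 48 elements of order 7 falling into two conjugacy classes of size 24, an element of order 7 not being conjugate to its inverse. -/
theorem result {G : Type*} [Group G] [Finite G] [IsSimpleGroup G] (h : Nat.card G = 168) : Nat.card {g : G // orderOf g = 3} = 56 ∧ (∀ s t : G, orderOf s = 3 → orderOf t = 3 → IsConj s t) ∧ Nat.card {g : G // orderOf g = 4} = 42 ∧ (∀ s t : G, orderOf s = 4 → orderOf t = 4 → IsConj s t) ∧ Nat.card {g : G // orderOf g = 7} = 48 ∧ ∀ x : G, orderOf x = 7 → Nat.card {g : G // IsConj x g} = 24 ∧ ¬ IsConj x x⁻¹ := by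
  have k : (-1 : ZMod 7) ^ 3 ≠ 1 := by decide
  have : Fact (Nat.Prime 7) := ⟨by norm_num⟩
  refine ⟨card3_168 h, fun s t => conj3_168 h, card4_168 h, fun s t => conj4_168 h, card7_168 h,
    fun x hx => ⟨card_class (fun g => Iff.rfl) (by rw [(sc7 h hx).1.cent, Nat.card_zpowers, hx])
      (by rw [h]), fun e => ?_⟩⟩
  have h1 : (-1 : (ZMod 7)ˣ) ∈ autSub hx := by
    change IsConj x (pw x ((-1 : (ZMod 7)ˣ) : ZMod 7))
    rwa [Units.val_neg, Units.val_one, pw_neg hx, pw_one hx]
  have h2 := (autSub hx).orderOf_dvd_natCard h1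
  rw [(sc7 h hx).2.1, orderOf_dvd_iff_pow_eq_one] at h2
  have h3 : ((-1 : (ZMod 7)ˣ) : ZMod 7) ^ 3 = 1 := congrArg Units.val h2
  rw [Units.val_neg, Units.val_one] at h3
  exact k h3

end Cfsg.Agent.S1006
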