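import Cfsg.Statements.S1008
import Cfsg.Agent.H9.Sm6

set_option autoImplicit false
open Cfsg

namespace Cfsg.Agent.S1008
open Subgroup Cfsg.Agent.H9 Cfsg.Agent.Inv Cfsg.Agent.PLoc

/-- In a simple group of order 168 every maximal subgroup is either isomorphic to the symmetric group of degree 4 or non-abelian of order 21; the maximal subgroups of order 21 form one conjugacy class and those isomorphic to the symmetric group of degree 4 form exactly two conjugacy classes. -/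
theorem result {G : Type*} [Group G] [Finite G] [IsSimpleGroup G] (h : Nat.card G = 168) : (∀ M : Subgroup G, IsCoatom M → Nonempty (↥M ≃* Equiv.Perm (Fin 4)) ∨ (Nat.card ↥M = 21 ∧ ¬ IsMulCommutative ↥M)) ∧ (∀ M M' : Subgroup G, IsCoatom M → IsCoatom M' → Nat.card ↥M = 21 → Nat.card ↥M' = 21 → ∃ g : G, M' = M.map (MulAut.conj g).toMonoidHom) ∧ ∃ M₁ M₂ : Subgroup G, IsCoatom M₁ ∧ IsCoatom M₂ ∧ Nonempty (↥M₁ ≃* Equiv.Perm (Fin 4)) ∧ Nonempty (↥M₂ ≃* Equiv.Perm (Fin 4)) ∧ (∀ g : G, M₂ ≠ M₁.map (MulAut.conj g).toMonoidHom) ∧ ∀ M : Subgroup G, IsCoatom M → Nonempty (↥M ≃* Equiv.Perm (Fin 4)) → ∃ g : G, M = M₁.map (MulAut.conj g).toMonoidHom ∨ M = M₂.map (MulAut.conj g).toMonoidHom := by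
  have : Fact (Nat.Prime 7) := ⟨by norm_num⟩
  have c7 : ∀ x : G, orderOf x = 7 → Nat.card (Nx x) = 21 := fun x hx => by
    rw [(sc7 h hx).1.card_N, (sc7 h hx).2.1]
  refine ⟨fun M hM => ?_, fun M M' hM hM' e e' => ?_, ?_⟩
  · rcases coatom168 h hM with ⟨U, h1, rfl⟩ | ⟨x, hx, rfl⟩
    · exact Or.inl (normS4_168 h h1)
    · refine Or.inr ⟨c7 x hx, fun e => ?_⟩
      have h1 : Nx x ≤ zpowers x := fun g hg => (sc7 h hx).1.cent ▸
        mem_centralizer_singleton_iff.2 (comm_of_mem e hg (le_normalizer (mem_zpowers x)))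
      have := card_le_of_le h1
      rw [c7 x hx, Nat.card_zpowers] at this
      omega
  · rcases coatom168 h hM with ⟨U, h1, rfl⟩ | ⟨x, hx, rfl⟩
    · rw [card_norm_kf168 h h1] at e; omega
    rcases coatom168 h hM' with ⟨U, h1, rfl⟩ | ⟨y, hy, rfl⟩
    · rw [card_norm_kf168 h h1] at e'; omega
    obtain ⟨g, -, hg⟩ := (sc7 h hy).1.syl1.sylow.exists_cj_le (sc7 h hx).1.syl1.isP le_top
    exact ⟨g, by rw [cj_def, cj_normalizer, card_cj_eq g hg (by simp [hx, hy])]⟩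
  · obtain ⟨u, hu⟩ := d8_168 h default
    obtain ⟨U, V, h1, h2⟩ := hu.kf_two
    obtain ⟨a1, a2⟩ := (h2 U).2 (Or.inl rfl)
    obtain ⟨b1, b2⟩ := (h2 V).2 (Or.inr rfl)
    refine ⟨_, _, coatom_of_card168 h (Or.inl (card_norm_kf168 h a2)),
      coatom_of_card168 h (Or.inl (card_norm_kf168 h b2)), normS4_168 h a2, normS4_168 h b2,
      fun g e => h1 (kf_not_conj168 h _ a1 b1 a2 b2 g ?_), fun M hM ⟨e⟩ => ?_⟩
    · rw [cj_def, cj_normalizer] at e
      exact (eq_of_norm_eq168 h b2 (kf_cj a2 g) e).symm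
    rcases coatom168 h hM with ⟨W, h3, rfl⟩ | ⟨x, hx, rfl⟩
    · obtain ⟨g, -, hg⟩ := (isSylowOf_top (default : Sylow 2 G)).exists_cj_le (kf_isPGroup h3) le_top
      refine ⟨g⁻¹, ?_⟩
      rw [cj_def, cj_def, cj_normalizer, cj_normalizer]
      rcases (h2 _).1 ⟨hg, kf_cj h3 g⟩ with e | e <;> rw [← e, cj_inv_cj] <;> simp
    · have := Nat.card_congr e.toEquiv
      rw [c7 x hx, Nat.card_perm, Nat.card_fin] at this
      exact absurd this (by decide)

end Cfsg.Agent.S1008
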