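import Cfsg.Statements.S1009
import Cfsg.Agent.S0060

set_option autoImplicit false
open Cfsg

namespace Cfsg.Agent.S1009
open Pointwise

/-- Brodkey's Theorem: if a finite group has abelian Sylow p-subgroups, then there are two Sylow p-subgroups whose intersection equals the intersection of all Sylow p-subgroups. -/
theorem result {G : Type*} [Group G] [Finite G] (p : ℕ) [Fact p.Prime] (hab : ∀ P : Sylow p G, IsMulCommutative ↥(P : Subgroup G)) : ∃ P Q : Sylow p G, (P : Subgroup G) ⊓ (Q : Subgroup G) = ⨅ R : Sylow p G, (R : Subgroup G) := by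
  obtain ⟨S⟩ : Nonempty (Sylow p G) := inferInstance
  obtain ⟨⟨T, U⟩, hmin⟩ := exists_minimalFor_of_wellFoundedLT (fun _ : Sylow p G × Sylow p G => True)
    (fun x => Nat.card ↥((x.1 : Subgroup G) ⊓ (x.2 : Subgroup G))) ⟨(S, S), trivial⟩
  refine ⟨T, U, le_antisymm (le_iInf fun P => ?_) (le_inf (iInf_le _ T) (iInf_le _ U))⟩
  have hN : ∀ V : Sylow p G, (T : Subgroup G) ⊓ U ≤ V → (V : Subgroup G) ≤
      Subgroup.normalizer (((T : Subgroup G) ⊓ U : Subgroup G) : Set G) := fun V hV =>
    ((Subgroup.le_centralizer_iff_isMulCommutative.mpr (hab V)).trans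
      (Core.centralizer_anti hV)).trans (Subgroup.centralizer_le_normalizer _)
  obtain ⟨x, hx, h1⟩ := (Core.isSylowIn_of_le T (hN T inf_le_left)).exists_le_conj
    (U := (P : Subgroup G) ⊓ _) inf_le_right P.isPGroup'.to_inf_left
  have h2 : (P : Subgroup G) ⊓ (x • U : Sylow p G) ≤ (T : Subgroup G) ⊓ U := by
    rw [← Core.conj_smul_eq_of_mem_normalizer hx, Subgroup.smul_inf]
    exact le_inf ((inf_le_inf_left _ (Core.conj_smul_le_of_mem (hN U inf_le_right) hx)).trans h1)
      inf_le_right
  have h3 := hmin.2 (j := (P, x • U)) trivial (Subgroup.card_le_of_le h2)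
  rw [← Subgroup.eq_of_le_of_card_ge h2 h3]
  exact inf_le_left

end Cfsg.Agent.S1009
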