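import Cfsg.Statements.S1012
import Cfsg.Agent.Class.Grp

set_option autoImplicit false
open Cfsg

namespace Cfsg.Agent.S1012

/-- A group of order 24 containing no element of order 6 is isomorphic to the symmetric group of degree 4. -/
theorem result {G : Type*} [Group G] [Finite G] (h : Nat.card G = 24) (h6 : ∀ g : G, orderOf g ≠ 6) : Nonempty (G ≃* Equiv.Perm (Fin 4)) := by
  refine (Class.eppo_of_dvd fun g => ?_).equiv_S4 h
  have h1 : orderOf g ∣ 24 := h ▸ orderOf_dvd_natCard g
  have h2 : ¬ 6 ∣ orderOf g := fun e => h6 _ (orderOf_pow_orderOf_div (orderOf_pos g).ne' e)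
  have h3 := Nat.le_of_dvd (by norm_num) h1
  by_cases h4 : 3 ∣ orderOf g
  · refine ⟨3, 1, Nat.prime_three, ?_⟩
    generalize orderOf g = k at *
    interval_cases k <;> simp_all
  · refine ⟨2, 3, Nat.prime_two, ?_⟩
    generalize orderOf g = k at *
    interval_cases k <;> simp_all

end Cfsg.Agent.S1012
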