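import Cfsg.Statements.S1018
import Cfsg.Agent.PLoc.Cores

set_option autoImplicit false
open Cfsg

namespace Cfsg.Agent.S1018
open Subgroup MulAction

/-- Let P be a Sylow p-subgroup of order p of a finite group G, and consider the action of G on the left cosets of the normalizer N of P. Then every element of order p fixes exactly one coset, and an element of N that does not centralize P fixes at most as many cosets as there are orbits of P. -/
theorem result {G : Type*} [Group G] [Finite G] (p : ℕ) [Fact p.Prime] (P : Sylow p G) (hP : Nat.card ↥(P : Subgroup G) = p) : (∀ y : G, orderOf y = p → Nat.card (MulAction.fixedBy (G ⧸ Subgroup.normalizer ((P : Subgroup G) : Set G)) y) = 1) ∧ ∀ x : G, x ∈ Subgroup.normalizer ((P : Subgroup G) : Set G) → x ∉ Subgroup.centralizer ((P : Subgroup G) : Set G) → Nat.card (MulAction.fixedBy (G ⧸ Subgroup.normalizer ((P : Subgroup G) : Set G)) x) ≤ Nat.card (MulAction.orbitRel.Quotient ↥(P : Subgroup G) (G ⧸ Subgroup.normalizer ((P : Subgroup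 G) : Set G))) := by
  have hp : p.Prime := Fact.out
  set N := normalizer ((P : Subgroup G) : Set G) with hN
  have gen : ∀ a ∈ (P : Subgroup G), a ≠ 1 → zpowers a = P := fun a ha a1 => by
    refine eq_of_le_of_card_ge (zpowers_le.2 ha) ?_
    rw [Nat.card_zpowers, hP, (hp.eq_one_or_self_of_dvd (orderOf a)
      (hP ▸ (P : Subgroup G).orderOf_dvd_natCard ha)).resolve_left (by simpa using a1)]
  have fix : ∀ y g : G, y • (g : G ⧸ N) = g ↔ g⁻¹ * y * g ∈ N := fun y g => by
    rw [MulAction.Quotient.smul_mk, eq_comm, QuotientGroup.eq, smul_eq_mul, mul_assoc]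
  refine ⟨fun y hy => ?_, fun x hx hx' => ?_⟩
  · have y1 : y ≠ 1 := fun e => hp.one_lt.ne (by simpa [e] using hy)
    have hyp : IsPGroup p (zpowers y) := IsPGroup.of_card (n := 1) (by simp [hy])
    have key : ∀ g : G, y • (g : G ⧸ N) = g → PLoc.cj g⁻¹ (zpowers y) = P := fun g hg => by
      have h1 : PLoc.cj g⁻¹ (zpowers y) = zpowers (g⁻¹ * y * g) := by
        rw [← PLoc.cj_def, MonoidHom.map_zpowers]; simp
      have h2 := ((PLoc.isPGroup_cj g⁻¹ hyp).inf_normalizer_sylow P).le
      rw [h1] at h2 ⊢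
      exact gen _ (h2 ⟨mem_zpowers _, (fix y g).1 hg⟩).2 fun e => y1 (by
        rw [show y = g * (g⁻¹ * y * g) * g⁻¹ by group, e]; simp)
    obtain ⟨g, -, hg⟩ := (PLoc.isSylowOf_top P).exists_cj_le hyp le_top
    refine Nat.card_eq_one_iff_exists.2 ⟨⟨(g⁻¹ : G), (fix y g⁻¹).2 (le_normalizer
      (hg (by simp [mul_assoc])))⟩, fun ⟨q, hq⟩ => Subtype.ext ?_⟩
    obtain ⟨k, rfl⟩ := QuotientGroup.mk_surjective q
    have h1 := key k hq
    have h2 := key g⁻¹ ((fix y g⁻¹).2 (le_normalizer (hg (by simp [mul_assoc]))))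
    refine QuotientGroup.eq.2 (PLoc.cj_eq_self_iff.1 ?_)
    rw [PLoc.cj_mul, ← h2, PLoc.cj_cj_inv, h1, h2]
  · refine Nat.card_le_card_of_injective (fun q => Quotient.mk'' q.1) fun ⟨q, hq⟩ ⟨r, hr⟩ e => ?_
    obtain ⟨⟨a, ha⟩, rfl⟩ : q ∈ orbit (P : Subgroup G) r := Quotient.eq''.1 e
    refine Subtype.ext ?_
    change a • r = r
    change x • a • r = a • r at hq
    have h1 : (a⁻¹ * (x * a * x⁻¹)) • r = r := by
      rw [mul_smul, mul_smul, mul_smul, inv_smul_eq_iff.2 hr.symm, hq, inv_smul_smul]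
    by_cases h2 : a⁻¹ * (x * a * x⁻¹) = 1
    · by_cases a1 : a = 1
      · rw [a1, one_smul]
      refine absurd ?_ hx'
      rw [← gen a ha a1, PLoc.centralizer_zpowers, mem_centralizer_singleton_iff,
        ← mul_inv_eq_iff_eq_mul, ← inv_mul_eq_one.1 h2]
    · rw [← gen _ (mul_mem (inv_mem ha) ((mem_normalizer_iff.1 hx a).1 ha)) h2] at ha
      exact (zpowers_le (H := stabilizer G r)).2 h1 ha

end Cfsg.Agent.S1018
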