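import Cfsg.Statements.S1019
import Cfsg.Agent.Char.Column
import Cfsg.Agent.PLoc.MaxCl

set_option autoImplicit false
open Cfsg

namespace Cfsg.Agent.S1019
open Subgroup MulAction

/-- Let H be a subgroup of a finite group G and x an element of H. In the action of G on the left cosets of H, the number of cosets fixed by x, multiplied by the size of the conjugacy class of x, equals the index of H multiplied by the number of conjugates of x that lie in H. -/
theorem result {G : Type*} [Group G] [Finite G] (H : Subgroup G) (x : G) (hx : x ∈ H) : Nat.card (MulAction.fixedBy (G ⧸ H) x) * Nat.card {g : G // IsConj x g} = H.index * Nat.card {g : G // IsConj x g ∧ g ∈ H} := by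
  have h1 := PLoc.MC.ncard_fibers (fun g : G => (g : G ⧸ H)) {g | g⁻¹ * x * g ∈ H}
    (fixedBy (G ⧸ H) x) (Nat.card H) (fun g hg => by
      rw [mem_fixedBy, MulAction.Quotient.smul_mk, eq_comm, QuotientGroup.eq, smul_eq_mul,
        ← mul_assoc]
      exact hg) fun q hq => by
    obtain ⟨k, rfl⟩ := QuotientGroup.mk_surjective q
    rw [mem_fixedBy, MulAction.Quotient.smul_mk, eq_comm, QuotientGroup.eq, smul_eq_mul] at hq
    rw [← Nat.card_coe_set_eq]
    refine Nat.card_congr ⟨fun g => ⟨g.1⁻¹ * k, QuotientGroup.eq.1 g.2.2⟩,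
      fun h => ⟨k * h.1⁻¹, ?_, QuotientGroup.eq.2 (by simp)⟩, fun g => by simp, fun h => by simp⟩
    simpa [mul_assoc] using mul_mem (mul_mem h.2 hq) (inv_mem h.2)
  have h2 := PLoc.MC.ncard_fibers (fun g : G => g⁻¹ * x * g) {g | g⁻¹ * x * g ∈ H}
    {g | IsConj x g ∧ g ∈ H} (Nat.card (centralizer ({x} : Set G)))
    (fun g hg => ⟨isConj_iff.2 ⟨g⁻¹, by simp⟩, hg⟩) fun y hy => by
    obtain ⟨k, rfl⟩ := isConj_iff.1 hy.1
    rw [← Nat.card_coe_set_eq]
    refine Nat.card_congr ⟨fun g => ⟨g.1 * k, mem_centralizer_singleton_iff.2 ?_⟩,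
      fun c => ⟨c.1 * k⁻¹, ?_⟩, fun g => by simp, fun h => by simp⟩
    · have : g.1⁻¹ * x * g.1 = k * x * k⁻¹ := g.2.2
      generalize g.1 = a at this
      rw [show a * k * x = a * (k * x * k⁻¹) * k by group, ← this]; group
    · have : (c.1 * k⁻¹)⁻¹ * x * (c.1 * k⁻¹) = k * x * k⁻¹ := by
        rw [mul_assoc, ← mul_assoc x, ← mem_centralizer_singleton_iff.1 c.2]; group
      exact ⟨by rw [Set.mem_setOf_eq, this]; exact hy.2, this⟩
  have h3 := Char.card_isConj_mul_card_centralizer x
  have h4 := H.index_mul_card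
  have h5 : 0 < Nat.card H * Nat.card (centralizer ({x} : Set G)) :=
    Nat.mul_pos Nat.card_pos Nat.card_pos
  rw [← Nat.card_coe_set_eq (fixedBy (G ⧸ H) x)] at h1
  rw [h1, ← Nat.card_coe_set_eq] at h2
  refine Nat.eq_of_mul_eq_mul_right h5 ?_
  change _ = Nat.card {g // IsConj x g ∧ g ∈ H} * _ at h2
  calc _ = (Nat.card (fixedBy (G ⧸ H) x) * Nat.card H) * (Nat.card {g // IsConj x g} *
      Nat.card (centralizer ({x} : Set G))) := by ring
    _ = _ := by rw [h2, h3, ← h4]; ring

end Cfsg.Agent.S1019
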