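import Cfsg.Statements.S1026
import Cfsg.Agent.Lie.All
import Cfsg.Agent.Lie.MatGrp

set_option autoImplicit false
open Cfsg

namespace Cfsg.Agent.S1026

open Cfsg.Agent.Lie
open scoped Matrix


/-- Every element of `U` has a unique expression `∏_{r ∈ Φ⁺} x_r(t_r)`, the product over the positive roots in increasing index order (the coefficient family `t`, supported on the positive roots, exists and is unique); and conversely every such ordered product is the matrix of an element of `U`. -/
theorem result {F : Type*} [Field F] (D : Cfsg.Lie.ChevalleyDatum) (hD : D ∈ [Cfsg.Lie.chevG2, Cfsg.Lie.chevB2, Cfsg.Lie.chevD4, Cfsg.Lie.chevF4, Cfsg.Lie.chevE6, Cfsg.Lie.chevE7, Cfsg.Lie.chevE8]) :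
    (∀ g : GL D.Idx F, g ∈ D.posUnipotent F →
      ∃! t : ℕ → F, (∀ r, ¬ D.IsPosRoot r → t r = 0) ∧
        (g : Matrix D.Idx D.Idx F) = D.wordMat F (D.posRoots.map fun r => (r, t r))) ∧
    (∀ t : ℕ → F, ∃ g : GL D.Idx F, g ∈ D.posUnipotent F ∧
      (g : Matrix D.Idx D.Idx F) = D.wordMat F (D.posRoots.map fun r => (r, t r))) := by
  obtain ⟨G⟩ := good_of_mem hD
  have hc : Closed {r | r ∈ posL D} := by simpa only [mem_posL] using closed_pos
  have hp : PosOn (fF D) {r | r ∈ posL D} := by simpa only [mem_posL] using posOn_pos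
  have hU : D.posUnipotent F = XS xG {r | r ∈ posL D} := by simp only [posU_eq, mem_posL, UX]
  rw [posRoots_eq, hU]
  simp only [wordMat_map]
  refine ⟨fun g hg => ?_, fun t => ⟨_, prod_mem_XS (fun _ h => h) _, rfl⟩⟩
  obtain ⟨t, rfl⟩ := sys_xG.exists_prod _ posL_pairwise hc hp hg
  classical
  refine ⟨fun r => if h : D.IsPosRoot r then t ⟨r, h.1⟩ else 0, ⟨fun r hr => dif_neg hr, ?_⟩, ?_⟩
  · congr 2
    exact List.map_congr_left fun r hr => by
      simp only [dif_pos ((isPosRoot_iff r).2 (mem_posL.1 hr))]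
  · rintro t' ⟨h1, h2⟩
    funext r
    split_ifs with h
    · exact (sys_xG.prod_inj _ posL_pairwise hp (Units.ext h2) ⟨r, h.1⟩
        (mem_posL.2 ((isPosRoot_iff ⟨r, h.1⟩).1 h))).symm
    · exact h1 r h

end Cfsg.Agent.S1026
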