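import Cfsg.Statements.S1037
import Cfsg.Agent.Lie.All
import Cfsg.Agent.Lie.MatGrp

set_option autoImplicit false
open Cfsg

namespace Cfsg.Agent.S1037

open Cfsg.Agent.Lie
open scoped Matrix


/-- `UH ∩ V = 1` and `UH ∩ VH = H`. -/
theorem result {F : Type*} [Field F] (D : Cfsg.Lie.ChevalleyDatum) (hD : D ∈ [Cfsg.Lie.chevG2, Cfsg.Lie.chevB2, Cfsg.Lie.chevD4, Cfsg.Lie.chevF4, Cfsg.Lie.chevE6, Cfsg.Lie.chevE7, Cfsg.Lie.chevE8]) :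
    D.borelSubgroup F ⊓ D.negUnipotent F = ⊥ ∧
      D.borelSubgroup F ⊓ (D.negUnipotent F ⊔ D.diagonalSubgroup F) = D.diagonalSubgroup F := by
  obtain ⟨G⟩ := good_of_mem hD
  rw [diag_eq, negU_eq, borel_eq]
  exact ⟨eq_bot_iff.2 fun g hg => sys_xG.eq_one_of_B_V hg.1 hg.2,
    le_antisymm (fun g hg => sys_xG.mem_H_of_B_VH hg.1 hg.2) (le_inf HX_le_BX le_sup_right)⟩

end Cfsg.Agent.S1037
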