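import Cfsg.Statements.S1042
import Cfsg.Agent.Lie.All
import Cfsg.Agent.Lie.MatGrp

set_option autoImplicit false
open Cfsg

namespace Cfsg.Agent.S1042

open Cfsg.Agent.Lie
open scoped Matrix


/-- The Chevalley group has a (B,N)-pair with `B = UH`, `N` the monomial subgroup and the `n_p`, `p` fundamental, as representatives of the distinguished involutions of `W = N/H`. -/
theorem result {F : Type*} [Field F] (D : Cfsg.Lie.ChevalleyDatum) (hD : D ∈ [Cfsg.Lie.chevG2, Cfsg.Lie.chevB2, Cfsg.Lie.chevD4, Cfsg.Lie.chevF4, Cfsg.Lie.chevE6, Cfsg.Lie.chevE7, Cfsg.Lie.chevE8]) :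
    ∃ P : Cfsg.BNPair ↥(D.group F),
      P.B = (D.borelSubgroup F).subgroupOf (D.group F) ∧ P.N = (D.monomialSubgroup F).subgroupOf (D.group F) ∧
      P.S = {n : ↥(D.group F) | ∃ i < D.rank, ((n : GL D.Idx F) : Matrix D.Idx D.Idx F) = D.nMat F (D.simple i) 1} := by
  obtain ⟨G⟩ := good_of_mem hD
  rw [borel_eq, mono_eq, group_eq_G1]
  have h : ∀ i, nS xG i ∈ G1 (xG : Rt D → F → GL D.Idx F) (MonoidHom.id _) 1 := fun i => by
    rw [sys_xG.G1_id]; exact NX_le_XS (nS_mem i)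
  refine ⟨sys_xG.fold_id.bn sys_xG (fun i => ⟨_, h i⟩) (fun i => by rw [gO_one]; exact sys_xG.lift_nS i)
    (fun i j hj => by rw [orb_one] at hj; rw [hj]), rfl, rfl, ?_⟩
  ext n
  constructor
  · rintro ⟨i, rfl⟩
    exact ⟨i, i.2, (nMat_one (sim i)).symm⟩
  · rintro ⟨i, hi, e⟩
    exact ⟨⟨i, hi⟩, Subtype.ext (Units.ext (e.trans (nMat_one (sim ⟨i, hi⟩))).symm)⟩

end Cfsg.Agent.S1042
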