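import Cfsg.Statements.S1044
import Cfsg.Agent.Lie.All
import Cfsg.Agent.Lie.MatGrp

set_option autoImplicit false
open Cfsg

namespace Cfsg.Agent.S1044

open Cfsg.Agent.Lie
open scoped Matrix


/-- For a fundamental root `p` the set `B ∪ B n_p B` is (the carrier of) a subgroup of the general linear group. -/
theorem result {F : Type*} [Field F] (D : Cfsg.Lie.ChevalleyDatum) (hD : D ∈ [Cfsg.Lie.chevG2, Cfsg.Lie.chevB2, Cfsg.Lie.chevD4, Cfsg.Lie.chevF4, Cfsg.Lie.chevE6, Cfsg.Lie.chevE7, Cfsg.Lie.chevE8]) (i : ℕ) (hi : i < D.rank) (n : GL D.Idx F)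
    (hn : (n : Matrix D.Idx D.Idx F) = D.nMat F (D.simple i) 1) :
    ∃ P : Subgroup (GL D.Idx F), (P : Set (GL D.Idx F)) =
      (D.borelSubgroup F : Set (GL D.Idx F)) ∪ DoubleCoset.doubleCoset n (D.borelSubgroup F : Set (GL D.Idx F)) (D.borelSubgroup F) := by
  obtain ⟨G⟩ := good_of_mem hD
  lift i to Ix D using hi
  obtain rfl : n = nS xG i := Units.ext (hn.trans (nMat_one (sim i)))
  rw [borel_eq]
  refine ⟨PX xG {i}, ?_⟩
  ext g
  rw [SetLike.mem_coe, sys_xG.mem_P, Set.mem_union, SetLike.mem_coe, DoubleCoset.mem_doubleCoset]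
  constructor
  · rintro ⟨v, hv, hg⟩
    rcases sym_one.eq_one_or (i := i) (mem_Wf_one v) (by rwa [orb_one]) with rfl | rfl
    · exact Or.inl (sys_xG.mem_Cell_one.1 hg)
    · obtain ⟨b, hb, u, hu, e⟩ := sys_xG.sharp hg (by rw [gO_one]; exact sys_xG.lift_nS i)
      exact Or.inr ⟨b, hb, u, UX_le_BX (UW_le_UX _ _ hu), e⟩
  · rintro (hg | ⟨b, hb, b', hb', e⟩)
    · exact ⟨1, one_mem _, sys_xG.mem_Cell_one.2 hg⟩
    · exact ⟨sw i, sw_mem_WJ rfl, b, hb, _, sys_xG.lift_nS i, b', hb', e⟩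

end Cfsg.Agent.S1044
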