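import Cfsg.Statements.S1045
import Cfsg.Agent.Lie.All
import Cfsg.Agent.Lie.MatGrp

set_option autoImplicit false
open Cfsg

namespace Cfsg.Agent.S1045

open Cfsg.Agent.Lie
open scoped Matrix


/-- For a fundamental root `p`, the subgroup `U_p` generated by the `X_s`, `s` positive and `s ≠ p`, is normalised by `X_p` and `X_{-p}`, and `U = U_p ⊔ X_p`. -/
theorem result {F : Type*} [Field F] (D : Cfsg.Lie.ChevalleyDatum) (hD : D ∈ [Cfsg.Lie.chevG2, Cfsg.Lie.chevB2, Cfsg.Lie.chevD4, Cfsg.Lie.chevF4, Cfsg.Lie.chevE6, Cfsg.Lie.chevE7, Cfsg.Lie.chevE8]) (i : ℕ) (hi : i < D.rank) :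
    D.rootSubgroup F (D.simple i) ⊔ D.rootSubgroup F (D.neg (D.simple i)) ≤
        Subgroup.normalizer (Subgroup.closure {g : GL D.Idx F | ∃ (s : ℕ) (t : F), D.IsPosRoot s ∧ s ≠ D.simple i ∧
          (g : Matrix D.Idx D.Idx F) = D.x F s t} : Set (GL D.Idx F)) ∧
      Subgroup.closure {g : GL D.Idx F | ∃ (s : ℕ) (t : F), D.IsPosRoot s ∧ s ≠ D.simple i ∧
          (g : Matrix D.Idx D.Idx F) = D.x F s t} ⊔ D.rootSubgroup F (D.simple i) = D.posUnipotent F := by
  obtain ⟨G⟩ := good_of_mem hD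
  lift i to Ix D using hi
  have h := closure_x_eq F (fun s => D.IsPosRoot s ∧ s ≠ D.simple i) fun _ h => h.1.1
  simp only [and_assoc] at h
  have e : {r : Rt D | D.IsPosRoot r ∧ (r : ℕ) ≠ D.simple i} = {r | Pos r ∧ ¬ InJ {i} r} := by
    ext r
    simp only [Set.mem_ofPred_eq, pos_not_InJ_single, isPosRoot_iff, ← sim_val, Ne, Fin.val_inj]
  rw [h, e, ← sim_val, neg_val, rootSubgroup_eq, rootSubgroup_eq, posU_eq, ← XS_union, ← XS_union]
  refine ⟨le_trans (XS_mono ?_) (sys_xG.XS_le_normalizer_UJ {i}), ?_⟩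
  · rintro r (h | h)
    exacts [Or.inr (InJ_single.2 (Or.inl h)), Or.inr (InJ_single.2 (Or.inr h))]
  · rw [UX]
    congr 1
    ext r
    simp only [Set.mem_union, Set.mem_ofPred_eq, pos_not_InJ_single, Set.mem_singleton_iff]
    constructor
    · rintro (h | rfl)
      exacts [h.1, pos_sim i]
    · tauto

end Cfsg.Agent.S1045
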