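import Cfsg.Statements.S1046
import Cfsg.Agent.Lie.All
import Cfsg.Agent.Lie.MatGrp

set_option autoImplicit false
open Cfsg

namespace Cfsg.Agent.S1046

open Cfsg.Agent.Lie
open scoped Matrix


/-- Two elements of `H` conjugate in the Chevalley group are conjugate by an element of `N`. -/
theorem result {F : Type*} [Field F] (D : Cfsg.Lie.ChevalleyDatum) (hD : D ∈ [Cfsg.Lie.chevG2, Cfsg.Lie.chevB2, Cfsg.Lie.chevD4, Cfsg.Lie.chevF4, Cfsg.Lie.chevE6, Cfsg.Lie.chevE7, Cfsg.Lie.chevE8]) (h₁ h₂ g : GL D.Idx F) (h1 : h₁ ∈ D.diagonalSubgroup F) (h2 : h₂ ∈ D.diagonalSubgroup F)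
    (hg : g ∈ D.group F) (hc : g * h₁ * g⁻¹ = h₂) :
    ∃ n ∈ D.monomialSubgroup F, n * h₁ * n⁻¹ = h₂ := by
  obtain ⟨G⟩ := good_of_mem hD
  rw [diag_eq] at h1 h2
  rw [mono_eq]
  rw [group_eq] at hg
  obtain ⟨w, hw⟩ := sys_xG.exists_cell hg
  obtain ⟨a, ha, n, hn, u, hu, rfl⟩ := sys_xG.sharp' hw
  refine ⟨n, hn.1, ?_⟩
  have h3 := sys_xG.conj_mem_H hn.1 h1
  have e : a * (n * h₁) * (h₁⁻¹ * u * h₁) = (h₂ * a * h₂⁻¹) * (h₂ * n) * u := by rw [← hc]; group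
  have h4 := (sys_xG.sharp_unique' (by simpa using hn.mul (sys_xG.lift_of_mem_H h1))
    (by simpa using (sys_xG.lift_of_mem_H h2).mul hn) ha (sys_xG.H_conj_XS h2 ha) (sys_xG.H_conj_XS' h1 hu)
    hu e).2.1
  rw [h4, mul_inv_cancel_right]

end Cfsg.Agent.S1046
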