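import Cfsg.Statements.S1049
import Cfsg.Agent.Lie.All
import Cfsg.Agent.Lie.MatGrp

set_option autoImplicit false
open Cfsg

namespace Cfsg.Agent.S1049

open Cfsg.Agent.Lie
open scoped Matrix


/-- `N_G(U_J) = P_J`: the normaliser of `U_J` inside the Chevalley group is the standard parabolic subgroup. -/
theorem result {F : Type*} [Field F] (D : Cfsg.Lie.ChevalleyDatum) (hD : D ∈ [Cfsg.Lie.chevG2, Cfsg.Lie.chevB2, Cfsg.Lie.chevD4, Cfsg.Lie.chevF4, Cfsg.Lie.chevE6, Cfsg.Lie.chevE7, Cfsg.Lie.chevE8]) (J : Set ℕ) (hJ : ∀ j ∈ J, j < D.rank) :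
    Subgroup.normalizer (D.unipotentRadical F J : Set (GL D.Idx F)) ⊓ D.group F = D.parabolicSubgroup F J := by
  obtain ⟨G⟩ := good_of_mem hD
  rw [parabolic_eq, radical_eq, group_eq]
  refine le_antisymm (fun g hg => sys_xG.mem_P_of_normalizer hg.2 hg.1) (le_inf (sys_xG.P_le_normalizer _) ?_)
  rw [sys_xG.P_eq]
  exact sup_le (HX_le_NX.trans NX_le_XS) (XS_mono (Set.subset_univ _))

end Cfsg.Agent.S1049
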