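import Cfsg.Statements.S1053
import Cfsg.Agent.Lie.All
import Cfsg.Agent.Lie.MatGrp

set_option autoImplicit false
open Cfsg

namespace Cfsg.Agent.S1053

open Cfsg.Agent.Lie
open scoped Matrix


/-- There is `n₀ ∈ N` with `n₀ U n₀⁻¹ = V` (a representative of the longest element of the Weyl group). -/
theorem result {F : Type*} [Field F] (D : Cfsg.Lie.ChevalleyDatum) (hD : D ∈ [Cfsg.Lie.chevG2, Cfsg.Lie.chevB2, Cfsg.Lie.chevD4, Cfsg.Lie.chevF4, Cfsg.Lie.chevE6, Cfsg.Lie.chevE7, Cfsg.Lie.chevE8]) :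
    ∃ n ∈ D.monomialSubgroup F, (D.posUnipotent F).map (MulAut.conj n).toMonoidHom = D.negUnipotent F := by
  obtain ⟨G⟩ := good_of_mem hD
  obtain ⟨n, w, hn, h1, h2⟩ := (sys_xG (D := D) (F := F)).exists_w0
  rw [mono_eq, posU_eq, negU_eq]
  refine ⟨n, hn.1, le_antisymm ?_ fun g hg => ⟨n⁻¹ * g * n, ?_, by simp [mul_assoc]⟩⟩
  · rintro _ ⟨g, hg, rfl⟩
    exact hn.conj_mem (T := {r | ¬ Pos r}) (fun s hs => by simpa [h1] using hs) hg
  · exact hn.conj_mem' (T := {r | Pos r}) (fun s hs => (h2 s).2 hs) hg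

end Cfsg.Agent.S1053
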