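import Cfsg.Statements.S1058
import Cfsg.Agent.Class.Rep2
import Cfsg.Agent.Class.Exc4

set_option autoImplicit false
open Cfsg

namespace Cfsg.Agent.S1058

/-- B₂(2) ≅ S₆. -/
theorem result {F : Type*} [Field F] [Fintype F] (hF : Fintype.card F = 2) :
    Nonempty (↥(Cfsg.Lie.chevB2.group F) ≃* Equiv.Perm (Fin 6)) := by
  obtain ⟨α, hα, -⟩ := Class.exists_hom_PQ (Class.sy_rel (F := F)) Class.sy_top
  obtain ⟨e⟩ := Class.sp4_two_equiv hF
  have e1 : Class.PQ (Class.spFS 2 F).EO ≃* Class.PQ (Equiv.Perm (Fin 6)) :=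
    (Class.pspEquiv 2 F).symm.trans (Class.quotCenterCongr e)
  have hz : Subgroup.center (Equiv.Perm (Fin 6)) = ⊥ := eq_bot_iff.2 fun g hg => by
    ext i
    by_contra h
    obtain ⟨j, h1, h2⟩ : ∃ j, j ≠ i ∧ j ≠ g i := by
      by_contra! H
      have := Finset.card_le_card (show (Finset.univ : Finset (Fin 6)) ⊆ {i, g i} from fun j _ => by
        simpa [or_iff_not_imp_left] using H j)
      exact absurd (this.trans Finset.card_le_two) (by simp)
    have := Equiv.congr_fun (Subgroup.mem_center_iff.1 hg (Equiv.swap (g i) j)) i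
    have h3 : i ≠ g i := fun e => h (congrArg Fin.val e.symm)
    simp [Equiv.swap_apply_of_ne_of_ne h3 h1.symm, h2] at this
  have e2 : Class.PQ (Equiv.Perm (Fin 6)) ≃* Equiv.Perm (Fin 6) :=
    (QuotientGroup.quotientMulEquivOfEq hz).trans QuotientGroup.quotientBot
  have h1 := Lie.orderB2 hF
  have : Finite (Cfsg.Lie.chevB2.group F) := Nat.finite_of_card_ne_zero (by
    intro h; rw [h] at h1; norm_num at h1)
  refine ⟨MulEquiv.ofBijective ((e1.trans e2).toMonoidHom.comp α)
    ((Nat.bijective_iff_surjective_and_card _).2 ⟨(e1.trans e2).surjective.comp hα, ?_⟩)⟩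
  norm_num at h1
  simp [h1, Fintype.card_perm, Nat.factorial]

end Cfsg.Agent.S1058
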