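import Cfsg.Statements.S1066
import Cfsg.Agent.Lie.Tw2E6

set_option autoImplicit false
open Cfsg

namespace Cfsg.Agent.S1066

open Cfsg.Agent.Lie Cfsg.Agent.Lie.E6T Cfsg.Lie


/-- `gcd(3, q+1) · |²E₆(q)| = q³⁶ (q² - 1)(q⁵ + 1)(q⁶ - 1)(q⁸ - 1)(q⁹ + 1)(q¹² - 1)`, the group being realised inside E₆ over the field with `q²` elements. -/
theorem result {K : Type*} [Field K] [Fintype K] {q : ℕ} (hq : IsPrimePow q) (hK : Fintype.card K = q ^ 2) :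
    Nat.gcd 3 (q + 1) * Nat.card ↥(Cfsg.Lie.twistedE6 K q) =
      q ^ 36 * (q ^ 2 - 1) * (q ^ 5 + 1) * (q ^ 6 - 1) * (q ^ 8 - 1) * (q ^ 9 + 1) * (q ^ 12 - 1) := by
  obtain ⟨φ, σ, hφ, hT, hσ⟩ := exists_setup hK hq
  have hU : Nat.card ↥(chevE6.posUnipotent K ⊓ twistedE6 K q) = q ^ 36 := by
    rw [(isTw hK hφ hT hσ).card_U, ← pow_one (Nat.card _)]
    exact (isTw hK hφ hT hσ).fold.card_U sys_xA fun i => by
      rw [pow_one, (card_PO hK hφ hT hq.one_lt i).1, (card_PO hK hφ hT hq.one_lt i).2]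
  have h := isTw hK hφ hT hσ
  rw [h.card, hU, h.card_H, ← mul_assoc, mul_left_comm, card_H hK hφ hT hq.one_lt, tpsE6 (h.fold.sym sys_xA) (h.fold.hc_card sys_xA fun i => (card_PO hK hφ hT hq.one_lt i).1),
    inv_one, UW_one, bot_inf_eq, Subgroup.card_bot]
  have h1 := hq.one_lt.le
  zify [h1, Nat.one_le_pow 2 q h1, Nat.one_le_pow 6 q h1, Nat.one_le_pow 8 q h1, Nat.one_le_pow 12 q h1]
  ring

end Cfsg.Agent.S1066
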