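import Cfsg.Statements.S1069
import Cfsg.Agent.Lie.Tw2G2

set_option autoImplicit false
open Cfsg

namespace Cfsg.Agent.S1069

open Cfsg.Agent.Lie Cfsg.Agent.Lie.G2T Cfsg.Lie


/-- `|²G₂(q)| = q³ (q - 1)(q³ + 1)` for `q = 3^(2m+1)` (θ = 3^m-th power map), every `m ≥ 0`. -/
theorem result {K : Type*} [Field K] [Fintype K] {m : ℕ} (hK : Fintype.card K = 3 ^ (2 * m + 1)) :
    Nat.card ↥(Cfsg.Lie.twistedG2 K (3 ^ m)) = (3 ^ (2 * m + 1)) ^ 3 * (3 ^ (2 * m + 1) - 1) * ((3 ^ (2 * m + 1)) ^ 3 + 1) := by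
  have := charP_of_card Nat.prime_three hK
  obtain ⟨φ, σ, hφ, hT, hσ⟩ := exists_setup (K := K) (m := m)
  have h := isTw hK hφ hT hσ
  rw [h.card, h.card_U, card_U hK hφ hT, h.card_H, card_H hK hφ hT hσ, tpsG2 (h.fold.sym sys_xA)
    (h.fold.hc_card sys_xA (card_PO hK hφ hT)), inv_one, UW_one, bot_inf_eq, Subgroup.card_bot]
  ring

end Cfsg.Agent.S1069
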