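import Cfsg.Statements.S1072
import Cfsg.Agent.Lie.Tw2F4

set_option autoImplicit false
open Cfsg

namespace Cfsg.Agent.S1072

open Cfsg.Agent.Lie Cfsg.Agent.Lie.F4T Cfsg.Lie


/-- ²F₄(2^(2m+1)) is simple for `m ≥ 1`. -/
theorem result {K : Type*} [Field K] [Fintype K] {m : ℕ} (hm : 1 ≤ m) (hK : Fintype.card K = 2 ^ (2 * m + 1)) :
    IsSimpleGroup ↥(Cfsg.Lie.twistedF4 K (2 ^ m)) ∧ ¬ IsMulCommutative ↥(Cfsg.Lie.twistedF4 K (2 ^ m)) := by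
  have := charP_of_card Nat.prime_two hK
  obtain ⟨φ, σ, hφ, hT, hσ⟩ := exists_setup (K := K) (m := m)
  have h := isTw hK hφ hT hσ
  exact h.simple (core hK hφ hT hσ) (perfect hK hφ hT hm hσ)

end Cfsg.Agent.S1072
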