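import Cfsg.Statements.S1075
import Cfsg.Agent.Lie.Ree4
import Cfsg.Agent.S1011
import Cfsg.Agent.S1117

set_option autoImplicit false
open Cfsg

namespace Cfsg.Agent.S1075

/-- The derived subgroup of ²G₂(3) (θ = identity over the field with three elements) has order 504 = 1512/3 and is isomorphic to PSL₂ over the field with eight elements. -/
theorem result {L : Type*} [Field L] [Fintype L] (hL : Fintype.card L = 8) :
    Nat.card ↥(commutator ↥(Cfsg.Lie.twistedG2 (ZMod 3) 1)) = 504 ∧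
      Nonempty (↥(commutator ↥(Cfsg.Lie.twistedG2 (ZMod 3) 1)) ≃* Matrix.ProjectiveSpecialLinearGroup (Fin 2) L) := by
  obtain ⟨φ, σ, hφ, hT, hσ⟩ := Lie.G2T.exists_setup (K := ZMod 3) (m := 0)
  obtain ⟨X, -, -, hB⟩ := Lie.G2T.exists_ree Lie.Ree.hK3 hφ hT hσ
  obtain ⟨h1, h2⟩ := X.derived (hB ▸ S1117.result Lie.Ree.hK3)
  exact ⟨h1, @S1011.result _ _ _ h2 h1 _ _ _ hL⟩

end Cfsg.Agent.S1075
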