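import Cfsg.Statements.S1086
import Cfsg.Agent.Lie.Tw2E6

set_option autoImplicit false
open Cfsg

namespace Cfsg.Agent.S1086

open Cfsg.Agent.Lie Cfsg.Agent.Lie.E6T Cfsg.Lie


/-- |U¹| = |G¹ ∩ U| = q ^ 36 for ²E₆(q). -/
theorem result {K : Type*} [Field K] [Fintype K] {q : ℕ} (hq : IsPrimePow q) (hK : Fintype.card K = q ^ 2) :
    Nat.card ↥(Cfsg.Lie.chevE6.posUnipotent K ⊓ Cfsg.Lie.twistedE6 K q) = q ^ 36 := by
  obtain ⟨φ, σ, hφ, hT, hσ⟩ := exists_setup hK hq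
  have hU : Nat.card ↥(chevE6.posUnipotent K ⊓ twistedE6 K q) = q ^ 36 := by
    rw [(isTw hK hφ hT hσ).card_U, ← pow_one (Nat.card _)]
    exact (isTw hK hφ hT hσ).fold.card_U sys_xA fun i => by
      rw [pow_one, (card_PO hK hφ hT hq.one_lt i).1, (card_PO hK hφ hT hq.one_lt i).2]
  exact hU

end Cfsg.Agent.S1086
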