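import Cfsg.Statements.S1090
import Cfsg.Agent.Lie.Tw2F4

set_option autoImplicit false
open Cfsg

namespace Cfsg.Agent.S1090

open Cfsg.Agent.Lie Cfsg.Agent.Lie.F4T Cfsg.Lie


/-- |U¹| = |G¹ ∩ U| = (2 ^ (2 * m + 1)) ^ 12 for ²F₄(2^(2m+1)). -/
theorem result {K : Type*} [Field K] [Fintype K] {m : ℕ} (hK : Fintype.card K = 2 ^ (2 * m + 1)) :
    Nat.card ↥(Cfsg.Lie.chevF4.posUnipotent K ⊓ Cfsg.Lie.twistedF4 K (2 ^ m)) = (2 ^ (2 * m + 1)) ^ 12 := by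
  have := charP_of_card Nat.prime_two hK
  obtain ⟨φ, σ, hφ, hT, hσ⟩ := exists_setup (K := K) (m := m)
  have h := isTw hK hφ hT hσ
  have hU : Nat.card ↥(chevF4.posUnipotent K ⊓ twistedF4 K (2 ^ m)) = (2 ^ (2 * m + 1)) ^ 12 := by
    rw [h.card_U]
    refine Nat.pow_left_injective two_ne_zero ?_
    simp only [← pow_mul (2 ^ (2 * m + 1))]
    exact h.fold.card_U sys_xA fun i => by
      rw [(card_PO hK hφ hT i).1, (card_PO hK hφ hT i).2, ← pow_mul]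
  exact hU

end Cfsg.Agent.S1090
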