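import Cfsg.Statements.S1099
import Cfsg.Agent.Lie.EmbG2

set_option autoImplicit false
open Cfsg

namespace Cfsg.Agent.S1099

open Cfsg.Agent.Lie Cfsg.Lie
open scoped Matrix

theorem aux {D : ChevalleyDatum} [Good D] {F : Type*} [Field F] {E : Emb D D} (h : E.OK) (hf : E.Fits F)
    (hs : ∀ r, Function.Surjective fun t : F => t ^ E.lam r) (hpos : ∀ r, Pos (E.ρ r) ↔ Pos r)
    {ρ0 : Equiv.Perm (Ix D)} (hsim : ∀ i, E.ρ (sim i) = sim (ρ0 i) ∧ E.γ (sim i) = 1) :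
    ∃ α : D.group F ≃* D.group F, ∀ (i : Ix D) (t : F),
      α (xA (sim i) t) = xA (sim (ρ0 i)) (t ^ E.lam (sim i)) ∧
      α (xA (ng (sim i)) t) = xA (ng (sim (ρ0 i))) (t ^ E.lam (sim i)) := by
  obtain ⟨α, hα⟩ := Emb.exists_aut h hf (RingHom.id F) hs fun r => (hpos r).2
  refine ⟨α, fun i t => ?_⟩
  obtain ⟨h1, h2, h3, -⟩ := h.one (sim i)
  simp [hα, Emb.f, h1, h2, h3, hsim]

theorem aux2 {D : ChevalleyDatum} [Good D] {F : Type*} [Field F] {α : D.group F ≃* D.group F}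
    {g : D.group F} {r s : Rt D} {t u : F} (h : α (xA r t) = xA s u)
    (hg : ((g : GL D.Idx F) : Matrix D.Idx D.Idx F) = D.x F r t) :
    ((α g : GL D.Idx F) : Matrix D.Idx D.Idx F) = D.x F s u := by
  obtain rfl : g = xA r t := Subtype.ext (Units.ext (hg.trans (x_eq _ r t)))
  rw [h, x_eq]; rfl


/-- Graph automorphism of G₂ in characteristic 3 (K perfect): `x_a(t) ↦ x_b(t³)`, `x_b(t) ↦ x_a(t)`, `x_{-a}(t) ↦ x_{-b}(t³)`, `x_{-b}(t) ↦ x_{-a}(t)` extend to an automorphism of the group. -/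
theorem result {K : Type*} [Field K] [CharP K 3] (hperf : ∀ x : K, ∃ y : K, y ^ 3 = x) :
    ∃ α : ↥(Cfsg.Lie.chevG2.group K) ≃* ↥(Cfsg.Lie.chevG2.group K), ∀ (g : ↥(Cfsg.Lie.chevG2.group K)) (t : K),
      (((g : GL Cfsg.Lie.chevG2.Idx K) : Matrix _ _ K) = Cfsg.Lie.chevG2.x K Cfsg.Lie.g2a t →
        ((α g : GL Cfsg.Lie.chevG2.Idx K) : Matrix _ _ K) = Cfsg.Lie.chevG2.x K Cfsg.Lie.g2b (t ^ 3)) ∧
      (((g : GL Cfsg.Lie.chevG2.Idx K) : Matrix _ _ K) = Cfsg.Lie.chevG2.x K Cfsg.Lie.g2b t →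
        ((α g : GL Cfsg.Lie.chevG2.Idx K) : Matrix _ _ K) = Cfsg.Lie.chevG2.x K Cfsg.Lie.g2a t) ∧
      (((g : GL Cfsg.Lie.chevG2.Idx K) : Matrix _ _ K) = Cfsg.Lie.chevG2.x K Cfsg.Lie.g2ma t →
        ((α g : GL Cfsg.Lie.chevG2.Idx K) : Matrix _ _ K) = Cfsg.Lie.chevG2.x K Cfsg.Lie.g2mb (t ^ 3)) ∧
      (((g : GL Cfsg.Lie.chevG2.Idx K) : Matrix _ _ K) = Cfsg.Lie.chevG2.x K Cfsg.Lie.g2mb t →
        ((α g : GL Cfsg.Lie.chevG2.Idx K) : Matrix _ _ K) = Cfsg.Lie.chevG2.x K Cfsg.Lie.g2ma t) := by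
  obtain ⟨α, hα⟩ := aux (F := K) embG2_ok embG2_fits (fun r t => by
    rcases (show ∀ r, embG2.lam r = 1 ∨ embG2.lam r = 3 by decide +kernel) r with h | h <;> rw [h]
    exacts [⟨t, pow_one t⟩, hperf t]) embG2_pos embG2_sim
  refine ⟨α, fun g t => ?_⟩
  have h := hα ⟨0, by decide⟩ t
  have h' := hα ⟨1, by decide⟩ t
  rw [show embG2.lam (sim ⟨1, by decide⟩) = 1 from rfl, pow_one] at h'
  exact ⟨aux2 h.1, aux2 h'.1, aux2 h.2, aux2 h'.2⟩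

end Cfsg.Agent.S1099
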