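import Cfsg.Statements.S1100
import Cfsg.Agent.Lie.All
import Cfsg.Agent.Lie.MatGrp

set_option autoImplicit false
open Cfsg

namespace Cfsg.Agent.S1100

open Cfsg.Agent.Lie
open scoped Matrix


/-- Canonical form `g = b n_w u` (`b ∈ B`, `u ∈ U_w⁻ = ⟨X_r : r > 0, n_w X_r n_w⁻¹ ≤ V⟩`): such a decomposition exists for every element of the group; the coset `n_w H` is determined by `g`; and for a fixed representative `n_w` the factors `b`, `u` are unique. -/
theorem result {F : Type*} [Field F] (D : Cfsg.Lie.ChevalleyDatum) (hD : D ∈ [Cfsg.Lie.chevG2, Cfsg.Lie.chevB2, Cfsg.Lie.chevD4, Cfsg.Lie.chevF4, Cfsg.Lie.chevE6, Cfsg.Lie.chevE7, Cfsg.Lie.chevE8]) :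
    (∀ g ∈ D.group F, ∃ b ∈ D.borelSubgroup F, ∃ n ∈ D.monomialSubgroup F,
      ∃ u ∈ Subgroup.closure {x : GL D.Idx F | ∃ (r : ℕ) (t : F), D.IsPosRoot r ∧
            (D.rootSubgroup F r).map (MulAut.conj n).toMonoidHom ≤ D.negUnipotent F ∧ (x : Matrix D.Idx D.Idx F) = D.x F r t},
        g = b * n * u) ∧
    (∀ (b b' n n' u u' : GL D.Idx F), b ∈ D.borelSubgroup F → b' ∈ D.borelSubgroup F →
      n ∈ D.monomialSubgroup F → n' ∈ D.monomialSubgroup F →
      u ∈ Subgroup.closure {x : GL D.Idx F | ∃ (r : ℕ) (t : F), D.IsPosRoot r ∧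
            (D.rootSubgroup F r).map (MulAut.conj n).toMonoidHom ≤ D.negUnipotent F ∧ (x : Matrix D.Idx D.Idx F) = D.x F r t} →
      u' ∈ Subgroup.closure {x : GL D.Idx F | ∃ (r : ℕ) (t : F), D.IsPosRoot r ∧
            (D.rootSubgroup F r).map (MulAut.conj n').toMonoidHom ≤ D.negUnipotent F ∧ (x : Matrix D.Idx D.Idx F) = D.x F r t} →
      b * n * u = b' * n' * u' → n⁻¹ * n' ∈ D.diagonalSubgroup F ∧ (n = n' → b = b' ∧ u = u')) := by
  obtain ⟨G⟩ := good_of_mem hD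
  have key : ∀ {n : GL D.Idx F} {w : W D}, Lift xG n w →
      Subgroup.closure {x : GL D.Idx F | ∃ (r : ℕ) (t : F), D.IsPosRoot r ∧
        (D.rootSubgroup F r).map (MulAut.conj n).toMonoidHom ≤ D.negUnipotent F ∧
          (x : Matrix D.Idx D.Idx F) = D.x F r t} = UW xG w := by
    intro n w hn
    have h := closure_x_eq F (fun r => D.IsPosRoot r ∧
      (D.rootSubgroup F r).map (MulAut.conj n).toMonoidHom ≤ D.negUnipotent F) fun _ h => h.1.1
    simp only [and_assoc] at h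
    rw [h, UW]
    congr 1
    ext r
    simp only [Set.mem_ofPred_eq, isPosRoot_iff, rootSubgroup_eq, negU_eq, Finset.mem_coe, mem_inv]
    refine and_congr_right fun _ => ⟨fun h1 => ?_, fun h1 => ?_⟩
    · obtain ⟨c, hc⟩ := hn.2 r
      refine sys_xG.not_pos_of_x_mem_V (t := (c : F) * 1) (by simp) ?_
      rw [← hc]
      exact h1 ⟨_, mem_XS (S := {r}) rfl 1, rfl⟩
    · rintro _ ⟨g, hg, rfl⟩
      exact hn.conj_mem (T := {r | ¬ Pos r}) (by rintro _ rfl; exact h1) hg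
  rw [group_eq, borel_eq, mono_eq, diag_eq]
  refine ⟨fun g hg => ?_, fun b b' n n' u u' hb hb' hn hn' hu hu' e => ?_⟩
  · obtain ⟨w, hw⟩ := sys_xG.exists_cell hg
    obtain ⟨n, hn⟩ := (sys_xG (D := D) (F := F)).exists_lift w
    obtain ⟨b, hb, u, hu, e⟩ := sys_xG.sharp hw hn
    exact ⟨b, hb, n, hn.1, u, by rwa [key hn], e⟩
  · obtain ⟨w, hw⟩ := sys_xG.exists_lift_of_mem hn
    obtain ⟨w', hw'⟩ := sys_xG.exists_lift_of_mem hn'
    rw [key hw] at hu
    rw [key hw'] at hu'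
    obtain rfl : w = w' := sys_xG.cell_unique (g := b * n * u) ⟨b, hb, n, hw, u, UX_le_BX (UW_le_UX _ _ hu), rfl⟩
      ⟨b', hb', n', hw', u', UX_le_BX (UW_le_UX _ _ hu'), e⟩
    refine ⟨sys_xG.lift_inv_mul hw hw', ?_⟩
    rintro rfl
    exact sys_xG.sharp_unique hw hb hb' hu hu' e

end Cfsg.Agent.S1100
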