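import Cfsg.Statements.S1151
import Cfsg.Agent.Lie.Ree1

set_option autoImplicit false
open Cfsg

namespace Cfsg.Agent.S1151

open Cfsg.Agent.Lie Cfsg.Lie


/-- In the small Ree group ²G₂(q), q = 3^(2m+1), realised as G¹ inside the Chevalley group G₂ over the field with q elements (θ the 3^m-th power map), with H¹ = G¹ ∩ H and U¹ = G¹ ∩ U the intersections with the ambient diagonal and positive unipotent subgroups: `H¹` has exactly `(q - 1)/2` elements of odd order, and each non-identity one centralises no non-identity element of `U¹`. -/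
theorem result {K : Type*} [Field K] [Fintype K] {m : ℕ} (hK : Fintype.card K = 3 ^ (2 * m + 1)) :
    2 * Nat.card {h : ↥(Cfsg.Lie.chevG2.diagonalSubgroup K ⊓ Cfsg.Lie.twistedG2 K (3 ^ m)) // Odd (orderOf h)} = 3 ^ (2 * m + 1) - 1 ∧
      ∀ h ∈ (Cfsg.Lie.chevG2.diagonalSubgroup K ⊓ Cfsg.Lie.twistedG2 K (3 ^ m)), h ≠ 1 → Odd (orderOf h) →
        (Cfsg.Lie.chevG2.posUnipotent K ⊓ Cfsg.Lie.twistedG2 K (3 ^ m)) ⊓ Subgroup.centralizer {h} = ⊥ := by
  have := charP_of_card Nat.prime_three hK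
  obtain ⟨φ, σ, hφ, hT, hσ⟩ := G2T.exists_setup (K := K) (m := m)
  obtain ⟨X, hU, hH, hB⟩ := G2T.exists_ree hK hφ hT hσ
  refine ⟨?_, fun h hh h1 h2 => eq_bot_iff.2 fun u ⟨hu, e⟩ => ?_⟩
  · have h4 := q_mod hK
    have h1 : ∀ k : Kˣ, Odd (orderOf k) ↔ ∃ s, s ^ 2 = k := fun k => ⟨fun h => ⟨k ^ ((orderOf k + 1) / 2), by
      rw [← pow_mul, Nat.div_mul_cancel h.add_one.two_dvd, pow_succ, pow_orderOf_eq_one, one_mul]⟩, by
      rintro ⟨s, rfl⟩
      refine Odd.of_dvd_nat (n := (Fintype.card K - 1) / 2) (by rw [Nat.odd_iff]; omega) (orderOf_dvd_of_pow_eq_one ?_)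
      rw [← pow_mul, Nat.mul_div_cancel' (by omega), ← Nat.card_eq_fintype_card, ← Nat.card_units, pow_card_eq_one']⟩
    have h2 : ∀ k, (X.h k).1 ∈ chevG2.diagonalSubgroup K ⊓ twistedG2 K (3 ^ m) := fun k =>
      hH.le (x := X.h k) ⟨k, rfl⟩
    have h3 : ∀ k, orderOf (⟨_, h2 k⟩ : ↥(chevG2.diagonalSubgroup K ⊓ twistedG2 K (3 ^ m))) = orderOf k := fun k => by
      rw [← Subgroup.orderOf_coe, ← orderOf_injective _ X.h_inj, ← Subgroup.orderOf_coe (X.h k)]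
    rw [← Nat.card_eq_of_bijective (fun k : (powMonoidHom 2 : Kˣ →* Kˣ).range => ⟨⟨_, h2 k⟩, h3 k ▸ (h1 k).2 k.2⟩)
      ⟨fun a b e => Subtype.ext (X.h_inj (Subtype.ext (congrArg (·.1.1) e))), ?_⟩, IsCyclic.card_powMonoidHom_range,
      Nat.card_units, Nat.card_eq_fintype_card, ← hK, Nat.gcd_eq_right (by omega), Nat.mul_div_cancel' (by omega)]
    rintro ⟨⟨x, hx⟩, h⟩
    obtain ⟨k, hk⟩ : ⟨x, hx.2⟩ ∈ X.h.range := hH ▸ hx
    obtain rfl : (X.h k).1 = x := congrArg Subtype.val hk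
    exact ⟨⟨k, (h1 k).1 (h3 k ▸ h)⟩, rfl⟩
  · obtain ⟨k, hk⟩ : ⟨h, hh.2⟩ ∈ X.h.range := hH ▸ hh
    obtain rfl : (X.h k).1 = h := congrArg Subtype.val hk
    rcases X.fpf k ⟨u, hu.2⟩ (hU ▸ hu) (Subtype.ext (mul_inv_eq_iff_eq_mul.2 (mem_cent.1 e).symm)) with e | e
    · refine absurd (orderOf_eq_one_iff.1 (Nat.eq_one_of_dvd_coprimes h2.coprime_two_right dvd_rfl
        (orderOf_dvd_of_pow_eq_one ?_))) h1
      rw [← Subgroup.coe_pow, ← map_pow, e, map_one]; rfl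
    · exact congrArg Subtype.val e

end Cfsg.Agent.S1151
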