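import Cfsg.Statements.S1154
import Cfsg.Agent.Lie.Ree1

set_option autoImplicit false
open Cfsg

namespace Cfsg.Agent.S1154

open Cfsg.Agent.Lie Cfsg.Lie


/-- In the small Ree group ²G₂(q), q = 3^(2m+1) with m ≥ 1, realised as G¹ inside the Chevalley group G₂ over the field with q elements (θ the 3^m-th power map), with `U¹ = G¹ ∩ U` (U the positive unipotent subgroup of the ambient G₂): `U¹` has exactly `q² - 1` elements of order 3. -/
theorem result {K : Type*} [Field K] [Fintype K] {m : ℕ} (hm : 1 ≤ m) (hK : Fintype.card K = 3 ^ (2 * m + 1)) :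
    Nat.card {u : ↥(Cfsg.Lie.chevG2.posUnipotent K ⊓ Cfsg.Lie.twistedG2 K (3 ^ m)) // orderOf u = 3} = (3 ^ (2 * m + 1)) ^ 2 - 1 := by
  have := charP_of_card Nat.prime_three hK
  obtain ⟨φ, σ, hφ, hT, hσ⟩ := G2T.exists_setup (K := K) (m := m)
  obtain ⟨X, hU, hH, hB⟩ := G2T.exists_ree hK hφ hT hσ
  have : Fact (Nat.Prime 3) := ⟨Nat.prime_three⟩
  rw [← hK, ← Nat.card_eq_fintype_card, ← X.card_U3, ← Set.ncard_diff_singleton_of_mem (a := 1) (by simp),
    ← Nat.card_coe_set_eq]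
  refine Nat.card_eq_of_bijective (fun u => ⟨⟨u.1, u.1.2.2⟩, ⟨hU ▸ u.1.2, Subtype.ext ?_⟩, fun e => ?_⟩) ⟨fun a b e => ?_, ?_⟩
  · exact (congrArg Subtype.val (orderOf_eq_prime_iff.1 u.2).1 :)
  · exact (orderOf_eq_prime_iff.1 u.2).2 (Subtype.ext (congrArg Subtype.val (Set.mem_singleton_iff.1 e) :))
  · exact Subtype.ext (Subtype.ext (congrArg (·.1.1) e))
  · rintro ⟨x, ⟨h1, h2⟩, h3⟩
    rw [hU] at h1
    exact ⟨⟨⟨x, h1⟩, orderOf_eq_prime (Subtype.ext (congrArg Subtype.val h2 :)) fun e =>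
      h3 (Subtype.ext (congrArg Subtype.val e :))⟩, rfl⟩

end Cfsg.Agent.S1154
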