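import Cfsg.Statements.S1157
import Cfsg.Agent.Lie.Ree3

set_option autoImplicit false
open Cfsg

namespace Cfsg.Agent.S1157

open Cfsg.Agent.Lie Cfsg.Lie


/-- In the small Ree group ²G₂(q), q = 3^(2m+1) with m ≥ 1, realised as G¹ inside the Chevalley group G₂ over the field with q elements (θ the 3^m-th power map): a Sylow 2-subgroup `S` of `G¹` satisfies `C(S) = S` and `|N(S)| = 168`. -/
theorem result {K : Type*} [Field K] [Fintype K] {m : ℕ} (hm : 1 ≤ m) (hK : Fintype.card K = 3 ^ (2 * m + 1))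
    (S : Sylow 2 ↥(Cfsg.Lie.twistedG2 K (3 ^ m))) :
    Subgroup.centralizer ((S : Subgroup ↥(Cfsg.Lie.twistedG2 K (3 ^ m))) : Set ↥(Cfsg.Lie.twistedG2 K (3 ^ m))) = S ∧
      Nat.card (Subgroup.normalizer ((S : Subgroup ↥(Cfsg.Lie.twistedG2 K (3 ^ m))) : Set ↥(Cfsg.Lie.twistedG2 K (3 ^ m)))) = 168 := by
  have := charP_of_card Nat.prime_three hK
  obtain ⟨φ, σ, hφ, hT, hσ⟩ := G2T.exists_setup (K := K) (m := m)
  obtain ⟨X, -⟩ := G2T.exists_ree hK hφ hT hσ
  obtain ⟨P, hP⟩ := X.S_sylow hK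
  obtain ⟨g, rfl⟩ := MulAction.exists_smul_eq (twistedG2 K (3 ^ m)) P S
  have e : ((g • P : Sylow 2 _) : Subgroup _) = X.S.map (MulAut.conj g).toMonoidHom := hP ▸ rfl
  rw [e]
  refine ⟨?_, ?_⟩
  · rw [Subgroup.coe_map]
    conv_rhs => rw [← X.cent_S hK]
    ext x
    simp only [Subgroup.mem_centralizer_iff, Set.forall_mem_image, Subgroup.mem_map_equiv]
    exact forall₂_congr fun y _ => by
      rw [← (MulAut.conj g).symm.injective.eq_iff]; simp [mul_assoc]
  · rw [← X.card_NS hK, ← Subgroup.map_equiv_normalizer_eq, Subgroup.card_map_of_injective (MulAut.conj g).injective]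

end Cfsg.Agent.S1157
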