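import Cfsg.Statements.S1158
import Cfsg.Agent.Lie.Ree3

set_option autoImplicit false
open Cfsg

namespace Cfsg.Agent.S1158

open Cfsg.Agent.Lie Cfsg.Lie


/-- In the small Ree group ²G₂(q), q = 3^(2m+1) with m ≥ 1, realised as G¹ inside the Chevalley group G₂ over the field with q elements (θ the 3^m-th power map), with `r = 3^(m+1)` (so `r² = 3q`): for each `k ∈ {(q-1)/2, (q+1)/4, q - r + 1, q + r + 1}` there is a cyclic subgroup `A` of order `k` whose normaliser has order `2(q-1)`, `6(q+1)`, `6(q-r+1)`, `6(q+r+1)` respectively, and `N(A₀) = N(A)` for every non-trivial `A₀ ≤ A`. -/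
theorem result {K : Type*} [Field K] [Fintype K] {m : ℕ} (hm : 1 ≤ m) (hK : Fintype.card K = 3 ^ (2 * m + 1)) :
    ∀ kn ∈ ({((3 ^ (2 * m + 1) - 1) / 2, 2 * (3 ^ (2 * m + 1) - 1)), ((3 ^ (2 * m + 1) + 1) / 4, 6 * (3 ^ (2 * m + 1) + 1)),
        (3 ^ (2 * m + 1) - 3 ^ (m + 1) + 1, 6 * (3 ^ (2 * m + 1) - 3 ^ (m + 1) + 1)),
        (3 ^ (2 * m + 1) + 3 ^ (m + 1) + 1, 6 * (3 ^ (2 * m + 1) + 3 ^ (m + 1) + 1))} : Set (ℕ × ℕ)),
      ∃ A : Subgroup ↥(Cfsg.Lie.twistedG2 K (3 ^ m)), IsCyclic A ∧ Nat.card A = kn.1 ∧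
        Nat.card (Subgroup.normalizer (A : Set ↥(Cfsg.Lie.twistedG2 K (3 ^ m)))) = kn.2 ∧
        ∀ A₀ : Subgroup ↥(Cfsg.Lie.twistedG2 K (3 ^ m)), A₀ ≤ A → A₀ ≠ ⊥ →
          Subgroup.normalizer (A₀ : Set ↥(Cfsg.Lie.twistedG2 K (3 ^ m))) = Subgroup.normalizer (A : Set ↥(Cfsg.Lie.twistedG2 K (3 ^ m))) := by
  have := charP_of_card Nat.prime_three hK
  obtain ⟨φ, σ, hφ, hT, hσ⟩ := G2T.exists_setup (K := K) (m := m)
  obtain ⟨X, -⟩ := G2T.exists_ree hK hφ hT hσ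
  rw [← hK]
  obtain ⟨C, C', t, t', c, c', -⟩ := X.tori hK hm
  rintro _ (rfl | rfl | rfl | rfl)
  · exact X.exists_AH hK hm
  · obtain ⟨A, h1, h2, h3, -, h4⟩ := X.exists_A hK
    have h5 := h4 A le_rfl (by
      have := (Ree.exists_k hK hm).1
      rw [← Subgroup.one_lt_card_iff_ne_bot]; omega)
    exact ⟨A, h1, h2, h5 ▸ X.card_NT hK, h5 ▸ h4⟩
  · exact ⟨C, t.cyc, c, c ▸ t.norm, fun _ => t.normalizer_eq⟩
  · exact ⟨C', t'.cyc, c', c' ▸ t'.norm, fun _ => t'.normalizer_eq⟩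

end Cfsg.Agent.S1158
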