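import Cfsg.Statements.S1188
import Cfsg.Agent.Blk.ZStar

set_option autoImplicit false
open Cfsg

namespace Cfsg.Agent.S1188

open Cfsg.Agent.Blk Cfsg.Agent.Char Cfsg.Agent.PLoc


theorem result {G : Type*} [Group G] [Finite G] (z : G) (hz : Cfsg.IsIsolatedInvolution z) (hsol : Group.IsSolvable ↥(Subgroup.centralizer ({z} : Set G))) : ∀ g : G, z * g * z⁻¹ * g⁻¹ ∈ Cfsg.oddCore G := by
  exact zstar hz

end Cfsg.Agent.S1188
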