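import Cfsg.Statements.S1228
import Cfsg.Agent.H9.EI

set_option autoImplicit false
open Cfsg

namespace Cfsg.Agent.S1228
open Subgroup Cfsg.Agent.PLoc Cfsg.Agent.Inv Cfsg.Agent.H9

/-- Let G be a finite group with a Sylow 2-subgroup T that is neither cyclic nor normal, such that the centralizer of every involution is an elementary abelian 2-group; put H = N_G(T), let u be an involution outside H and D = H ∩ uHu⁻¹. Then N_G(D) = D ⊔ ⟨u⟩, and a coset gH is fixed by every element of D exactly when gH = H or gH = uH. -/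
theorem result {G : Type*} [Group G] [Finite G] (T : Sylow 2 G) (hnc : ¬ IsCyclic (T : Subgroup G)) (hnn : ¬ (T : Subgroup G).Normal) (hC : ∀ t : G, orderOf t = 2 → IsMulCommutative (Subgroup.centralizer ({t} : Set G)) ∧ ∀ c ∈ Subgroup.centralizer ({t} : Set G), c ^ 2 = 1) (u : G) (hu : orderOf u = 2) (huH : u ∉ Subgroup.normalizer ((T : Subgroup G) : Set G)) : Subgroup.normalizer ((Subgroup.normalizer ((T : Subgroup G) : Set G) ⊓ (Subgroup.normalizer ((T : Subgroup G) : Set G)).map (MulAut.conj u).toMonoidHom : Subgroup G) : Set G) = (Subgroup.normalizer ((T : Subgroup G) : Set G) ⊓ (Subgroup.normalizer ((T : Subgroup G) : Set G)).map (MulAut.conj u).toMonoidHom) ⊔ Subgroup.zpowers u ∧ ∀ g : G, ((∀ d ∈ Subgroup.normalizer ((T : Subgroup G) : Set G) ⊓ (Subgroup.normalizer ((T : Subgroup G) : Set G)).map (MulAut.conj u).toMonoidHom, d • (QuotientGroup.mk g : G ⧸ Subgroup.normalizer ((T : Subgroup G) : Set G)) = QuotientGroup.mk g) ↔ (QuotientGroup.mk g : G ⧸ Subgroup.normalizer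 ((T : Subgroup G) : Set G)) = QuotientGroup.mk 1 ∨ (QuotientGroup.mk g : G ⧸ Subgroup.normalizer ((T : Subgroup G) : Set G)) = QuotientGroup.mk u) := by
  have h : EI T := ⟨hnc, hnn, hC⟩
  rw [cj_def]
  obtain ⟨h1, h2⟩ := h.D_main hu huH
  have h4 := h.four_le
  obtain ⟨d, hd, d1⟩ := (NT T ⊓ cj u (NT T)).bot_or_exists_ne_one.resolve_left fun e => by
    rw [e, card_bot] at h2; omega
  have un : u ∈ normalizer ((NT T ⊓ cj u (NT T) : Subgroup G) : Set G) :=
    mem_normalizer_fintype fun x hx => (h1 x hx).symm ▸ inv_mem hx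
  refine ⟨le_antisymm (fun g hg => ?_) (sup_le le_normalizer (zpowers_le_of_mem un)), fun g =>
    ⟨fun e => ?_, fun e d hd => ?_⟩⟩
  · have key : ∀ g ∈ normalizer ((NT T ⊓ cj u (NT T) : Subgroup G) : Set G), g ∈ NT T →
        g ∈ NT T ⊓ cj u (NT T) := fun g hg g1 => by
      have := (conj_mem_of_mem_normalizer (inv_mem (mul_mem hg un)) hd).1
      rw [inv_inv] at this
      refine ⟨g1, mem_cj.2 (mul_assoc u⁻¹ g u ▸ (h.fix hu huH hd d1 this).resolve_left fun e =>
        huH ?_)⟩
      exact inv_mul_cancel_left g u ▸ mul_mem (inv_mem g1) e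
    have := (conj_mem_of_mem_normalizer (inv_mem hg) hd).1
    rw [inv_inv] at this
    rcases h.fix hu huH hd d1 this with e | e
    · exact mem_sup_left (key g hg e)
    · exact mul_inv_cancel_left u g ▸ mul_mem (mem_sup_right (mem_zpowers u))
        (mem_sup_left (T := zpowers u) (key _ (mul_mem (inv_mem un) hg) e))
  · exact (h.fix hu huH hd d1 (smul_mk_eq_iff.1 (e d hd))).imp
      (fun e => QuotientGroup.eq.2 ((mul_one g⁻¹).symm ▸ inv_mem e)) fun e => (QuotientGroup.eq.2 e).symm
  · rcases e with e | e <;> rw [e]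
    · exact h.smul_one.2 hd.1
    · exact smul_mk_eq_iff.2 (mem_cj.1 hd.2)

end Cfsg.Agent.S1228
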