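import Cfsg.Statements.S1258
import Cfsg.Agent.Comp.Layer

set_option autoImplicit false
open Cfsg

namespace Cfsg.Agent.S1258

open Cfsg.Agent.Comp Subgroup
open scoped commutatorElement


/-- If the central quotient of a finite group X is non-abelian simple, then X = X' Z(X) and the commutator subgroup X' is quasisimple. -/
theorem result {X : Type*} [Group X] [Finite X] (hs : IsSimpleGroup (X ⧸ Subgroup.center X)) (hna : ¬ IsMulCommutative (X ⧸ Subgroup.center X)) : commutator X ⊔ Subgroup.center X = ⊤ ∧ Cfsg.IsQuasisimple ↥(commutator X) := by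
  have hq := qs_top_of_simple hs hna
  have hsurj := QuotientGroup.mk'_surjective (center X)
  have h1 : (_root_.commutator X).map (QuotientGroup.mk' (center X)) = ⊤ := by
    rw [_root_.commutator_def, map_commutator, map_top_of_surjective _ hsurj, hq.perfect]
  have h2 : _root_.commutator X ⊔ center X = ⊤ := by
    have := congrArg (comap (QuotientGroup.mk' (center X))) h1
    rwa [comap_map_eq, QuotientGroup.ker_mk', comap_top] at this
  refine ⟨h2, qs_iff.1 (QS.of_map (QuotientGroup.mk' (center X)) ?_ ?_ (h1 ▸ hq))⟩
  · have h3 : ⁅_root_.commutator X ⊔ center X, _root_.commutator X ⊔ center X⁆ =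
        ⁅_root_.commutator X, _root_.commutator X⁆ :=
      comm_sup_central (by simp) (by simp) (by simp) (by simp) (by simp)
    rw [← h3, h2]; rfl
  · rw [QuotientGroup.ker_mk']
    exact comm_bot_mono (commutator_center_left (H := _root_.commutator X)) inf_le_left le_rfl

end Cfsg.Agent.S1258
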