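import Cfsg.Statements.S1263
import Cfsg.Agent.Comp.Layer

set_option autoImplicit false
open Cfsg

namespace Cfsg.Agent.S1263

open Cfsg.Agent.Comp Subgroup
open scoped commutatorElement

theorem aux {G : Type*} [Group G] [Finite G] (s : Set (Subgroup G)) (hs : ∀ K ∈ s, CompIn K ⊤) :
    ∀ z ∈ sSup s, (∀ K ∈ s, z ∈ centralizer (K : Set G)) →
      z ∈ ⨆ K ∈ s, K ⊓ centralizer (K : Set G) := by
  induction s, Set.toFinite s using Set.Finite.induction_on with
  | empty => intro z hz _; simpa using hz
  | @insert L s hL _ ih =>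
    intro z hz hc
    have hLs : ⁅sSup s, L⁆ = ⊥ := comm_sSup_left_bot fun K hK => by
      rcases (hs K (Set.mem_insert_of_mem _ hK)).eq_or_comm (hs L (Set.mem_insert _ _)) with rfl | h
      · exact absurd hK hL
      · exact h
    rw [sSup_insert] at hz
    obtain ⟨l, hl, y, hy, rfl⟩ :=
      (mem_sup_of_normalizes (normalizes_of_comm_bot (comm_bot_symm hLs))).1 hz
    rw [iSup_insert]
    have hyL : y ∈ centralizer (L : Set G) := commutator_eq_bot_iff_le_centralizer.1 hLs hy
    refine mul_mem_sup ⟨hl, ?_⟩ (ih (fun K hK => hs K (Set.mem_insert_of_mem _ hK)) y hy ?_)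
    · have := mul_mem (hc L (Set.mem_insert _ _)) (inv_mem hyL)
      simpa using this
    · intro K hK
      have h1 : l ∈ centralizer (K : Set G) := commutator_eq_bot_iff_le_centralizer.1
        (comm_bot_symm (comm_bot_mono hLs (le_sSup hK) le_rfl)) hl
      have := mul_mem (inv_mem h1) (hc K (Set.mem_insert_of_mem _ hK))
      simpa using this


/-- For a finite group G, Z(E(G)) is the subgroup generated by the centres Z(L) of the components L of G (all viewed as subgroups of G). -/
theorem result {G : Type*} [Group G] [Finite G] : (Subgroup.center ↥(Cfsg.layer G)).map (Cfsg.layer G).subtype = ⨆ L : {K : Subgroup G // Cfsg.IsComponent K}, (Subgroup.center ↥(L : Subgroup G)).map (L : Subgroup G).subtype := by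
  rw [center_map_subtype, ← Lay_top]
  simp only [center_map_subtype]
  apply le_antisymm
  · intro z hz
    have := aux {K | CompIn K ⊤} (fun K h => h) z hz.1 fun K hK =>
      centralizer_le (SetLike.coe_subset_coe.2 (CompIn.le_Lay hK)) hz.2
    refine (show (⨆ K ∈ {K : Subgroup G | CompIn K ⊤}, K ⊓ centralizer (K : Set G)) ≤ _ from ?_) this
    exact iSup₂_le fun K hK => le_iSup_of_le ⟨K, compIn_top.1 hK⟩ le_rfl
  · refine iSup_le fun ⟨K, hK⟩ => ?_
    have hK' := compIn_top.2 hK
    refine le_inf (inf_le_left.trans hK'.le_Lay) ?_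
    rw [le_centralizer_iff, Lay_le_iff]
    intro L hL
    rw [le_centralizer_iff]
    rcases hK'.eq_or_comm hL with rfl | h
    · exact inf_le_right
    · exact inf_le_left.trans (commutator_eq_bot_iff_le_centralizer.1 h)

end Cfsg.Agent.S1263
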