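import Cfsg.Statements.S1264
import Cfsg.Agent.Comp.Layer

set_option autoImplicit false
open Cfsg

namespace Cfsg.Agent.S1264

open Cfsg.Agent.Comp Subgroup
open scoped commutatorElement


/-- Let G be finite, C = C_G(F(G)) the centralizer of the Fitting subgroup, and N a solvable subgroup of C normalized by C. Then N ≤ Z(F(G)). -/
theorem result {G : Type*} [Group G] [Finite G] (N : Subgroup G) (hN : N ≤ Subgroup.centralizer (Cfsg.fittingSubgroup G : Set G)) (hnorm : Subgroup.centralizer (Cfsg.fittingSubgroup G : Set G) ≤ Subgroup.normalizer (N : Set G)) (hsolv : Group.IsSolvable ↥N) : N ≤ (Subgroup.center ↥(Cfsg.fittingSubgroup G)).map (Cfsg.fittingSubgroup G).subtype := by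
  rw [center_map_subtype, ← Fit_top] at *
  set C := centralizer ((Fit (⊤ : Subgroup G) : Subgroup G) : Set G) with hC
  have hCn : SubIn C ⊤ := SubIn.of_normal le_top ((Fit_normal ⊤).trans (centralizer_normalizer _))
  by_contra hn
  have hZ : ⁅Fit ⊤ ⊓ C, C⁆ = ⊥ := comm_bot_symm (comm_bot_mono
    (commutator_eq_bot_iff_le_centralizer.2 le_rfl) le_rfl inf_le_left)
  have hX : N ⊔ (Fit ⊤ ⊓ C) ≤ C := sup_le hN inf_le_right
  have hXn : SubIn (N ⊔ (Fit ⊤ ⊓ C)) ⊤ := SubIn.step hX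
    (sup_normalizer' hnorm (normalizes_of_comm_bot (comm_bot_symm hZ))) hCn
  have hlt : Fit ⊤ ⊓ C < N ⊔ (Fit ⊤ ⊓ C) :=
    lt_of_le_of_ne le_sup_right fun e => hn (e ▸ le_sup_left)
  rcases exists_nilp_or_comp hlt (comm_bot_mono hZ le_rfl hX) with ⟨M, h1, h2, h3⟩ | ⟨K, hK⟩
  · exact h1.not_ge (le_inf ((h2.trans hXn).le_Fit h3) (h2.le.trans hX))
  · refine hK.2.not_le_solvable (solvable_sup ?_ hsolv ?_) hK.le
    · exact normalizes_of_comm_bot (comm_bot_symm (comm_bot_mono hZ le_rfl hN))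
    · exact solvable_of_le inf_le_left (Fit_solvable ⊤)

end Cfsg.Agent.S1264
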