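import Cfsg.Statements.S1267
import Cfsg.Agent.Comp.PLocal

set_option autoImplicit false
open Cfsg

namespace Cfsg.Agent.S1267

open Cfsg.Agent.Comp Subgroup
open scoped commutatorElement


/-- Let G be finite and P ≤ O_p(G). Then E(N_G(P)) = E(G). -/
theorem result {G : Type*} [Group G] [Finite G] (p : ℕ) [Fact p.Prime] (P : Subgroup G) (hP : P ≤ Cfsg.pCore p G) : (Cfsg.layer ↥(Subgroup.normalizer ((P : Subgroup G) : Set G))).map (Subgroup.normalizer ((P : Subgroup G) : Set G)).subtype = Cfsg.layer G := by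
  rw [Lay_eq, ← Lay_top]
  rw [← Op_top] at hP
  have hp : IsPGroup p P := (Op_isPGroup ⊤).to_le hP
  have hC : centralizer (Op p (⊤ : Subgroup G) : Set G) ≤ normalizer (P : Set G) :=
    (centralizer_le (SetLike.coe_subset_coe.2 hP)).trans (centralizer_le_normalizer _)
  apply le_antisymm
  · have h := OE_centralizer_comm_Op (H := ⊤) hp (le_top.trans le_normalizer)
    have h1 := PLay_normalizer_eq (H := ⊤) hp le_top
    have h2 := Opp_normalizer_eq (H := ⊤) hp le_top
    simp only [top_inf_eq] at h h1 h2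
    have h3 : Lay (normalizer (P : Set G)) ≤ centralizer (Op p (⊤ : Subgroup G) : Set G) := by
      refine (Lay_le_PLay_sup p _).trans ?_
      rw [h1, h2]; exact commutator_eq_bot_iff_le_centralizer.1 h
    exact (Lay_le_Lay_of_le hC h3).trans (SubIn.of_normal le_top
      ((Op_normal ⊤).trans (centralizer_normalizer _))).Lay_mono
  · refine Lay_le_Lay_of_le le_top (le_trans ?_ hC)
    exact commutator_eq_bot_iff_le_centralizer.1
      (comm_bot_mono (Lay_comm_Fit ⊤) le_rfl (Op_le_Fit ⊤))

end Cfsg.Agent.S1267
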