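import Cfsg.Statements.S1271
import Cfsg.Agent.Comp.Bal

set_option autoImplicit false
open Cfsg

namespace Cfsg.Agent.S1271

open Cfsg.Agent.Comp Subgroup
open scoped commutatorElement


/-- Let G be finite with O_{p'}(G) = 1. Suppose that for every component L of G and every subgroup H ≥ L in which L is normal, the quotient H / C_H(L) is balanced for the prime p. Then G is balanced for p. -/
theorem result {G : Type*} [Group G] [Finite G] (p : ℕ) [Fact p.Prime] (hO : Cfsg.pPrimeCore p G = ⊥) (h : ∀ L : Subgroup G, Cfsg.IsComponent L → ∀ H : Subgroup G, L ≤ H → (L.subgroupOf H).Normal → ∀ [((Subgroup.centralizer (L : Set G)).subgroupOf H).Normal], Cfsg.IsBalancedFor p (↥H ⧸ (Subgroup.centralizer (L : Set G)).subgroupOf H)) : Cfsg.IsBalancedFor p G := by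
  intro x hx
  rw [hO, cppc_eq, le_bot_iff]
  rw [← Opp_top] at hO
  set Y := Opp p (centralizer ({x} : Set G)) with hY
  have hp0 := isPGroup_zpowers_of_orderOf hx
  have hY0 : Y ≤ OE p (⊤ ⊓ centralizer ((zpowers x : Subgroup G) : Set G)) := by
    rw [centralizer_zpowers, top_inf_eq]; exact le_sup_right
  refine eq_bot_of_comm_components hO le_top (Opp_coprime _)
    (comm_bot_mono (OE_centralizer_comm_Op hp0 (le_normalizer_top _)) hY0 le_rfl) fun L hL => ?_
  by_contra hne
  have h1 : ⁅L, zpowers x⁆ = L :=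
    (hL.comm_Opp_centralizer hO hx (le_normalizer (mem_top x))).resolve_left
      fun e => hne (by rwa [top_inf_eq] at e)
  have hxL : zpowers x ≤ normalizer (L : Set G) := le_normalizer_iff_commutator_le_left.2 h1.le
  have hYL : Y ≤ normalizer (L : Set G) :=
    hY0.trans (hL.OE_centralizer_normalizes hO hp0 (le_normalizer_top _))
  set H := (Y ⊔ zpowers x) ⊔ L with hH
  have hHL : H ≤ normalizer (L : Set G) := sup_le (sup_le hYL hxL) le_normalizer
  have : ((centralizer (L : Set G)).subgroupOf H).Normal :=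
    normal_subgroupOf_of_le_normalizer (hHL.trans (centralizer_normalizer L))
  have hb := h L (compIn_top.1 hL) H le_sup_right (normal_subgroupOf_of_le_normalizer hHL)
  set f := QuotientGroup.mk' ((centralizer (L : Set G)).subgroupOf H) with hf
  have hker : ∀ g : H, f g = 1 ↔ (g : G) ∈ centralizer (L : Set G) := fun g =>
    QuotientGroup.eq_one_iff g
  have hxH : x ∈ H := mem_sup_left (mem_sup_right (mem_zpowers x))
  have hfx : orderOf (f ⟨x, hxH⟩) = p := by
    refine orderOf_eq_prime ?_ fun e => ?_
    · rw [← map_pow, show (⟨x, hxH⟩ : H) ^ p = 1 from Subtype.ext (hx ▸ pow_orderOf_eq_one x),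
        map_one]
    · rw [comm_bot_symm (commutator_eq_bot_iff_le_centralizer.2 (zpowers_le.2 ((hker _).1 e)))]
        at h1
      exact hL.2.ne_bot h1.symm
  have h2 := hb _ hfx
  rw [cppc_eq, ← Opp_top, Opp_eq_bot_of_faithful hL.2 (hL.not_coprime hO) le_sup_right hHL f
    (QuotientGroup.mk'_surjective _) hker] at h2
  have h3 := (hL.Opp_le_of_faithful hO hx hH (mem_sup_right (mem_zpowers x))
    (sup_le Opp_le (zpowers_le.2 (mem_centralizer_singleton_iff.2 rfl))) (sup_le hYL hxL) le_rfl
    le_sup_left f (QuotientGroup.mk'_surjective _) (fun g hg => (hker g).1 hg) hxH).trans h2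
  refine hne (comm_bot_symm (commutator_eq_bot_iff_le_centralizer.2 fun y hy => ?_))
  exact (hker ⟨y, mem_sup_left (mem_sup_left hy)⟩).1 (h3 ⟨_, hy, rfl⟩)

end Cfsg.Agent.S1271
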