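import Cfsg.Statements.S1272
import Cfsg.Agent.Comp.PComp

set_option autoImplicit false
open Cfsg

namespace Cfsg.Agent.S1272

open Cfsg.Agent.Comp Subgroup
open scoped commutatorElement


/-- Let X be finite and Q = X / O_{p'}(X). For every component Kbar of Q there is a unique p-component K of X whose image in Q is Kbar; and the image of the p-layer L_{p'}(X) in Q is E(Q). -/
theorem result {X : Type*} [Group X] [Finite X] (p : ℕ) [Fact p.Prime] : (∀ Kbar : Subgroup (X ⧸ Cfsg.pPrimeCore p X), Cfsg.IsComponent Kbar → ∃! K : Subgroup X, Cfsg.IsPComponent p K ∧ K.map (QuotientGroup.mk' (Cfsg.pPrimeCore p X)) = Kbar) ∧ (Cfsg.pLayer p X).map (QuotientGroup.mk' (Cfsg.pPrimeCore p X)) = Cfsg.layer (X ⧸ Cfsg.pPrimeCore p X) := by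
  refine ⟨fun Kbar hK => ?_, by rw [← PLay_top, PLay_map_quot]⟩
  have h1 : PCompIn p Kbar ((⊤ : Subgroup X).map (QuotientGroup.mk' (pPrimeCore p X))) := by
    rw [map_top_mk']; exact (compIn_top.2 hK).pcompIn Opp_quot
  obtain ⟨K, hK1, hK2⟩ := h1.exists_lift _ (ker_coprime ⊤)
  refine ⟨K, ⟨pcompIn_top.1 hK1, hK2⟩, fun L hL => ?_⟩
  refine (pcompIn_top.2 hL.1).eq_of_le_sup hK1 ?_
  have : L.map (QuotientGroup.mk' (pPrimeCore p X)) ≤ K.map (QuotientGroup.mk' (pPrimeCore p X)) := by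
    rw [hL.2, hK2]
  rw [map_le_iff_le_comap, comap_map_eq, QuotientGroup.ker_mk'] at this
  rwa [Opp_top]

end Cfsg.Agent.S1272
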