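import Cfsg.Statements.S1273
import Cfsg.Agent.Comp.PComp

set_option autoImplicit false
open Cfsg

namespace Cfsg.Agent.S1273

open Cfsg.Agent.Comp Subgroup
open scoped commutatorElement


/-- Let K be a p-component of the finite group X and N a normal subgroup of K whose index in K is prime to p. Then N = K. -/
theorem result {X : Type*} [Group X] [Finite X] (p : ℕ) [Fact p.Prime] (K : Subgroup X) (hK : Cfsg.IsPComponent p K) (N : Subgroup ↥K) [N.Normal] (hidx : (N.index).Coprime p) : N = ⊤ := by
  have h := (pcompIn_top.2 hK).2.eq_of_index (N := N.map K.subtype) (map_subtype_le _)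
    (by
      have := (inferInstance : N.Normal)
      rw [← normalizer_eq_top_iff] at this
      calc K = (⊤ : Subgroup K).map K.subtype := (map_top_subtype K).symm
        _ ≤ _ := by rw [← this]; exact le_normalizer_map _)
    (by
      rw [relIndex, subgroupOf, comap_map_eq_self_of_injective (subtype_injective _)]
      exact coprime_iff_not_dvd'.1 hidx)
  apply Subgroup.map_injective (subtype_injective K)
  rw [h, map_top_subtype]

end Cfsg.Agent.S1273
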