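import Cfsg.Statements.S1276
import Cfsg.Agent.Comp.PComp

set_option autoImplicit false
open Cfsg

namespace Cfsg.Agent.S1276

open Cfsg.Agent.Comp Subgroup
open scoped commutatorElement


/-- Let K be a 2-component of the finite group X. Then K is quasisimple if and only if ⁅K, O(K)⁆ = 1. -/
theorem result {X : Type*} [Group X] [Finite X] (K : Subgroup X) (hK : Cfsg.IsPComponent 2 K) : Cfsg.IsQuasisimple ↥K ↔ ⁅K, ((Cfsg.oddCore ↥K).map K.subtype)⁆ = ⊥ := by
  have h := (pcompIn_top.2 hK).2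
  rw [Opp_eq, ← qs_iff]
  exact ⟨fun hq => comm_bot_symm (hq.Opp_comm h.dvd), fun hc => h.qs (comm_bot_symm hc)⟩

end Cfsg.Agent.S1276
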