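import Cfsg.Statements.S1277
import Cfsg.Agent.Comp.PComp

set_option autoImplicit false
open Cfsg

namespace Cfsg.Agent.S1277

open Cfsg.Agent.Comp Subgroup
open scoped commutatorElement


/-- For a finite group X with core O(X): the image of E(X) in X / O(X) is all of E(X / O(X)) if and only if every 2-component of X is a component, i.e. L_{2'}(X) ≤ E(X). -/
theorem result {X : Type*} [Group X] [Finite X] : (Cfsg.layer X).map (QuotientGroup.mk' (Cfsg.oddCore X)) = Cfsg.layer (X ⧸ Cfsg.oddCore X) ↔ Cfsg.pLayer 2 X ≤ Cfsg.layer X := by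
  haveI : Fact (Nat.Prime 2) := ⟨Nat.prime_two⟩
  rw [← PLay_map_quot, ← PLay_top, ← Lay_top]
  constructor
  · intro h
    refine PLay_le_iff.2 fun K hK => hK.le_of_le_sup (Lay_subIn ⊤) (O := Opp 2 ⊤) le_top
      (le_top.trans (Opp_normal ⊤)) (Opp_coprime ⊤) ?_
    have : K.map (QuotientGroup.mk' (pPrimeCore 2 X)) ≤
        (Lay ⊤).map (QuotientGroup.mk' (pPrimeCore 2 X)) := by
      rw [h]; exact map_mono hK.le_PLay
    rw [map_le_iff_le_comap, comap_map_eq, QuotientGroup.ker_mk'] at this
    rwa [Opp_top]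
  · intro h
    refine le_antisymm ?_ (map_mono h)
    refine (map_mono (Lay_le_PLay_sup 2 ⊤)).trans ?_
    rw [Subgroup.map_sup, Opp_top]
    refine sup_le le_rfl ?_
    rw [map_le_iff_le_comap]
    intro x hx
    rw [mem_comap, QuotientGroup.mk'_apply, (QuotientGroup.eq_one_iff x).2 hx]
    exact one_mem _

end Cfsg.Agent.S1277
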