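import Cfsg.Statements.S1278
import Cfsg.Agent.Comp.PComp

set_option autoImplicit false
open Cfsg

namespace Cfsg.Agent.S1278

open Cfsg.Agent.Comp Subgroup
open scoped commutatorElement


/-- Let K ≠ L be 2-components of the finite group X. Then ⁅K, L⁆ ≤ O(K) ⊓ O(L), and if K is quasisimple then ⁅K, L⁆ = 1. -/
theorem result {X : Type*} [Group X] [Finite X] (K L : Subgroup X) (hK : Cfsg.IsPComponent 2 K) (hL : Cfsg.IsPComponent 2 L) (hne : K ≠ L) : ⁅K, L⁆ ≤ ((Cfsg.oddCore ↥K).map K.subtype) ⊓ ((Cfsg.oddCore ↥L).map L.subtype) ∧ (Cfsg.IsQuasisimple ↥K → ⁅K, L⁆ = ⊥) := by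
  haveI : Fact (Nat.Prime 2) := ⟨Nat.prime_two⟩
  have hK' := pcompIn_top.2 hK
  have hL' := pcompIn_top.2 hL
  have h0 := (hK'.eq_or_comm hL').resolve_left hne
  refine ⟨?_, fun hq => ?_⟩
  · rw [Opp_eq, Opp_eq, hK'.1.Opp_eq, hL'.1.Opp_eq]
    refine le_inf (le_inf h0 ?_) (le_inf h0 ?_)
    · exact le_normalizer_iff_commutator_le_left.1 (hL'.le_PLay.trans hK'.PLay_normalizes)
    · exact le_normalizer_iff_commutator_le_right.1 (hK'.le_PLay.trans hL'.PLay_normalizes)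
  · have hc : CompIn K ⊤ := ⟨hK'.1, qs_iff.2 hq⟩
    rcases hc.le_or_comm hL'.1 with h | h
    · exact absurd (hK'.eq_of_le hL' h) hne
    · exact comm_bot_symm h

end Cfsg.Agent.S1278
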