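import Cfsg.Statements.S1286
import Mathlib

set_option autoImplicit false
open Cfsg

namespace Cfsg.Agent.S1286

open Equiv Subgroup

/-- subgroup given by a list -/
def sg (L : List (Perm (Fin 5))) (h : 1 ∈ L ∧ (∀ x ∈ L, ∀ y ∈ L, x * y ∈ L) ∧ ∀ x ∈ L, x⁻¹ ∈ L) :
    Subgroup (Perm (Fin 5)) where
  carrier := {x | x ∈ L}
  one_mem' := h.1
  mul_mem' := fun a b => h.2.1 _ a _ b
  inv_mem' := fun a => h.2.2 _ a

theorem card_sg (L h) (h1 : L.Nodup) : Nat.card (sg L h) = L.length :=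
  (Nat.card_congr (h1.getEquiv L).symm).trans (by simp)

/-- the four-group -/
def A : List (Perm (Fin 5)) := [1, swap 0 1, swap 2 3, swap 0 1 * swap 2 3]
/-- the functor -/
def θ (x : Perm (Fin 5)) : List (Perm (Fin 5)) :=
  if x = swap 0 1 then [1, swap 2 3 * swap 3 4, swap 3 4 * swap 2 3]
  else if x = swap 2 3 then [1, swap 0 1 * swap 1 4, swap 1 4 * swap 0 1] else [1]


/-- There exist a finite group X, an elementary abelian subgroup A of order 4 and a solvable A-signalizer functor θ on X for the prime 2 which is not complete. -/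
theorem result : ∃ (X : Type) (_ : Group X) (_ : Finite X) (A : Subgroup X) (θ : X → Subgroup X), Cfsg.IsElementaryAbelian 2 A ∧ Nat.card ↥A = 4 ∧ Cfsg.IsSolvableSignalizerFunctor 2 A θ ∧ ¬ Cfsg.IsCompleteSignalizerFunctor 2 A θ := by
  refine ⟨Perm (Fin 5), inferInstance, inferInstance, sg A (by decide +kernel),
    fun x => sg (θ x) (by unfold θ; split_ifs <;> decide +kernel), ⟨⟨⟨fun a b => Subtype.ext
    ((by decide +kernel : ∀ x ∈ A, ∀ y ∈ A, x * y = y * x) a.1 a.2 b.1 b.2)⟩⟩,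
    (by decide +kernel : ∀ x ∈ A, x ^ 2 = 1)⟩, card_sg _ _ (by decide +kernel),
    ⟨⟨fun a ha _ x hx => mem_centralizer_singleton_iff.2
      ((by decide +kernel : ∀ a ∈ A, ∀ x ∈ θ a, x * a = a * x) a ha x hx), fun a ha _ => ?_,
      (by decide +kernel : ∀ a ∈ A, a ≠ 1 → ∀ b ∈ A, ∀ x ∈ θ a, b * x * b⁻¹ ∈ θ a),
      fun a ha h1 b hb h2 x hx => (by decide +kernel : ∀ a ∈ A, ∀ b ∈ A, b ≠ 1 → ∀ x ∈ θ a,
        x * b = b * x → x ∈ θ b) a ha b hb h2 x hx.1 (mem_centralizer_singleton_iff.1 hx.2)⟩,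
      fun a ha _ => Group.isSolvable_of_comm fun x y => Subtype.ext
        ((by decide +kernel : ∀ a ∈ A, ∀ x ∈ θ a, ∀ y ∈ θ a, x * y = y * x) a ha _ x.2 _ y.2)⟩,
    fun ⟨_, X, _, h1, h2⟩ => h1 ?_⟩
  · rw [card_sg _ _ ((by decide +kernel : ∀ a ∈ A, (θ a).Nodup) a ha)]
    exact (by decide +kernel : ∀ a ∈ A, ¬ 2 ∣ (θ a).length) a ha
  · have a1 : swap 2 3 * swap 3 4 ∈ X := ((h2 (swap 0 1) (by decide +kernel : _ ∈ A) (by decide +kernel)).ge
      (by decide +kernel : _ ∈ θ _)).1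
    have a2 : swap 0 1 * swap 1 4 ∈ X := ((h2 (swap 2 3) (by decide +kernel : _ ∈ A) (by decide +kernel)).ge
      (by decide +kernel : _ ∈ θ _)).1
    have := X.orderOf_dvd_natCard (mul_mem (mul_mem (mul_mem (mul_mem a1 a1) a2) a1) a2)
    rwa [orderOf_eq_prime (p := 2) (by decide +kernel) (by decide +kernel)] at this

end Cfsg.Agent.S1286
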