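import Cfsg.Statements.S1293
import Cfsg.Agent.Comp.PLocal

set_option autoImplicit false
open Cfsg

namespace Cfsg.Agent.S1293

open Cfsg.Agent.Comp Subgroup
open scoped commutatorElement


/-- Let G be finite with L_{p'}(G) = 1, and H = N_G(P) for a nontrivial p-subgroup P. Then L_{p'}(H) = 1 and O_{p'}(H) ≤ O_{p'}(G). -/
theorem result {G : Type*} [Group G] [Finite G] (p : ℕ) [Fact p.Prime] (hL : Cfsg.pLayer p G = ⊥) (P : Subgroup G) (hP : IsPGroup p ↥P) (hP1 : P ≠ ⊥) : Cfsg.pLayer p ↥(Subgroup.normalizer (P : Set G)) = ⊥ ∧ (Cfsg.pPrimeCore p ↥(Subgroup.normalizer (P : Set G))).map (Subgroup.normalizer (P : Set G)).subtype ≤ Cfsg.pPrimeCore p G := by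
  set f := QuotientGroup.mk' (pPrimeCore p G) with hf
  have hk : (Nat.card f.ker).Coprime p := by
    have := ker_coprime (p := p) (⊤ : Subgroup G); rwa [top_inf_eq] at this
  have h0 : FStar (⊤ : Subgroup (G ⧸ pPrimeCore p G)) = Op p ⊤ := by
    refine FStar_eq_Op_iff.2 ⟨?_, Opp_quot⟩
    rw [Lay_top, ← PLay_map_quot, PLay_top, hL, Subgroup.map_bot]
  have h1 := FStar_normalizer_eq_Op (hP.map f) le_top h0
  rw [top_inf_eq, FStar_eq_Op_iff_PLay,
    ← map_normalizer_eq f (QuotientGroup.mk'_surjective _) hk hP,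
    ← PLay_map_of_coprime f (ker_coprime _), ← Opp_map_eq f (ker_coprime _),
    Subgroup.map_eq_bot_iff, Subgroup.map_eq_bot_iff] at h1
  refine ⟨?_, ?_⟩
  · apply Subgroup.map_injective (subtype_injective _)
    rw [PLay_eq, Subgroup.map_bot]
    exact PLay_eq_bot_of_le_coprime h1.1 hk
  · rw [Opp_eq]; refine h1.2.trans ?_
    rw [hf, QuotientGroup.ker_mk']

end Cfsg.Agent.S1293
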