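import Cfsg.Statements.S1298
import Cfsg.Agent.Comp.Bal

set_option autoImplicit false
open Cfsg

namespace Cfsg.Agent.S1298

open Cfsg.Agent.Comp Subgroup
open scoped commutatorElement


/-- Let G be finite and k ≥ 1. Suppose that for every x of order p, writing C = C_G(x), every component K of C / O_{p'}(C) has K / Z(K) locally k-balanced for p. Then G is k-balanced for p. -/
theorem result {G : Type*} [Group G] [Finite G] (p k : ℕ) [Fact p.Prime] (hk : 1 ≤ k) (h : ∀ x : G, orderOf x = p → ∀ K : Subgroup (↥(Subgroup.centralizer ({x} : Set G)) ⧸ Cfsg.pPrimeCore p ↥(Subgroup.centralizer ({x} : Set G))), Cfsg.IsComponent K → Cfsg.IsLocallyKBalanced p k (↥K ⧸ Subgroup.center ↥K)) : Cfsg.IsKBalanced p k G := by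
  intro A hA hc b hb hab
  set C := centralizer ({b} : Set G) with hC
  have hAC : A ≤ C := fun a ha => mem_centralizer_singleton_iff.2 (hab a ha)
  set f := QuotientGroup.mk' (pPrimeCore p C) with hf
  have hA' := elemAb_subgroupOf hA C
  have h1 := delta_eq_bot_of_locally hk Opp_quot (h b hb) (elemAb_map f hA') (by
    rw [card_map_of_inf_ker, ← hc]
    · exact Nat.card_congr (subgroupOfEquivOfLe hAC).toEquiv
    · exact eq_bot_of_pgroup_coprime ((elemAb_isPGroup hA').to_le inf_le_left) (ker_coprime _))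
  have h2 : ((signalizerDelta p A).subgroupOf C).map f ≤ ⊥ := by
    rw [← h1]
    refine le_delta ?_
    rintro _ ⟨a, ha, rfl⟩ hne1
    have e' : (a : G) ≠ 1 := fun e' => hne1 (by rw [show a = 1 from Subtype.ext e', map_one])
    replace ha : (a : G) ∈ A := ha
    exact map_le_Opp_centralizer_quot a.2
      (isPGroup_zpowers_of_orderOf (orderOf_eq_of_elemAb hA ha e')) (delta_le ha e')
  rw [le_bot_iff, Subgroup.map_eq_bot_iff, hf, QuotientGroup.ker_mk'] at h2
  intro y hy
  exact ⟨⟨y, hy.2⟩, h2 hy.1, rfl⟩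

end Cfsg.Agent.S1298
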