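import Cfsg.Statements.S1300
import Cfsg.Agent.Comp.Bal

set_option autoImplicit false
open Cfsg

namespace Cfsg.Agent.S1300

open Cfsg.Agent.Comp Subgroup
open scoped commutatorElement


/-- For a finite group G, balance in the sense of commuting involutions is the same as 1-balance for the prime 2. -/
theorem result {G : Type*} [Group G] [Finite G] : Cfsg.IsBalanced G ↔ Cfsg.IsKBalanced 2 1 G := by
  classical
  have : Fact (Nat.Prime 2) := ⟨Nat.prime_two⟩
  constructor
  · intro h A hA hc b hb hab
    obtain ⟨a, ha, h1⟩ := exists_ne_one_of_card le_rfl hc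
    have := h a b (orderOf_eq_of_elemAb hA ha h1) hb (hab a ha)
    refine le_trans ?_ (this.le.trans inf_le_left)
    rw [cppc_eq]
    exact inf_le_inf_right _ (delta_le ha h1)
  · intro h
    have key : ∀ x y : G, orderOf x = 2 → orderOf y = 2 → x * y = y * x →
        centralizerPPrimeCore 2 x ⊓ centralizer {y} ≤
          centralizerPPrimeCore 2 y ⊓ centralizer {x} := by
      intro x y hx hy hxy
      refine le_inf (le_trans (inf_le_inf_right _ (le_delta fun a ha h1 => ?_))
        (h (zpowers x) ⟨inferInstance, fun a ha => ?_⟩ (by rw [Nat.card_zpowers, hx, pow_one])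
          y hy fun a ha => ?_)) ?_
      · have : a = x := by
          rw [mem_zpowers_iff_mem_range_orderOf, hx] at ha
          simp only [Finset.mem_image, Finset.mem_range] at ha
          obtain ⟨n, hn, rfl⟩ := ha
          interval_cases n <;> simp_all
        rw [this, cppc_eq]
      · obtain ⟨n, rfl⟩ := mem_zpowers_iff.1 ha
        rw [← zpow_natCast, ← zpow_mul, mul_comm, zpow_mul, zpow_natCast, ← hx,
          pow_orderOf_eq_one, one_zpow]
      · obtain ⟨n, rfl⟩ := mem_zpowers_iff.1 ha
        exact (Commute.zpow_left hxy n)
      · rw [cppc_eq]; exact inf_le_left.trans Opp_le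
    intro x y hx hy hxy
    exact le_antisymm (key x y hx hy hxy) (key y x hy hx hxy.symm)

end Cfsg.Agent.S1300
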