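import Cfsg.Statements.S1297
import Cfsg.Agent.Comp.Bal
import Cfsg.Agent.S1298
import Cfsg.Agent.S1300

set_option autoImplicit false
open Cfsg

namespace Cfsg.Agent.S1297

open Cfsg.Agent.Comp Subgroup
open scoped commutatorElement


/-- Let G be finite. Suppose that for every involution x, writing C = C_G(x), every component K of C / O(C) has K / Z(K) locally balanced. Then G is balanced. -/
theorem result {G : Type*} [Group G] [Finite G] (h : ∀ x : G, orderOf x = 2 → ∀ K : Subgroup (↥(Subgroup.centralizer ({x} : Set G)) ⧸ Cfsg.oddCore ↥(Subgroup.centralizer ({x} : Set G))), Cfsg.IsComponent K → Cfsg.IsLocallyBalanced (↥K ⧸ Subgroup.center ↥K)) : Cfsg.IsBalanced G := by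
  have : Fact (Nat.Prime 2) := ⟨Nat.prime_two⟩
  refine S1300.result.2 (S1298.result 2 1 le_rfl fun x hx K hK H hH A hA hc => ?_)
  obtain ⟨a, ha, h1⟩ := exists_ne_one_of_card le_rfl hc
  have := h x hx K hK H hH a (orderOf_eq_of_elemAb hA ha h1)
  rw [cppc_eq] at this
  exact le_bot_iff.1 (this ▸ delta_le ha h1)

end Cfsg.Agent.S1297
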