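import Cfsg.Statements.S1299
import Cfsg.Agent.Comp.Fact

set_option autoImplicit false
open Cfsg

namespace Cfsg.Agent.S1299

open Cfsg.Agent.Comp Subgroup
open scoped commutatorElement


/-- Let G be finite and k-balanced for the prime p (k ≥ 1), A an elementary abelian p-subgroup of order at least p^(k+2) such that O_{p'}(C_G(a)) is solvable for every non-identity a ∈ A. For a ∈ A put θ a = the subgroup generated by the Δ_G(D) ∩ C_G(a) over the subgroups D ≤ A of order p^k. Then θ is an A-signalizer functor. -/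
theorem result {G : Type*} [Group G] [Finite G] (p k : ℕ) [Fact p.Prime] (hk : 1 ≤ k) (hbal : Cfsg.IsKBalanced p k G) (A : Subgroup G) (hA : Cfsg.IsElementaryAbelian p A) (hAk : p ^ (k + 2) ≤ Nat.card ↥A) (hsolv : ∀ a ∈ A, a ≠ 1 → Group.IsSolvable ↥(Cfsg.centralizerPPrimeCore p a)) : Cfsg.IsSignalizerFunctor p A (fun a => ⨆ D : {D : Subgroup G // D ≤ A ∧ Nat.card ↥D = p ^ k}, Cfsg.signalizerDelta p (D : Subgroup G) ⊓ Subgroup.centralizer {a}) := by
  have hA1 : A ≠ ⊥ := ne_bot_of_pow_le (by omega) hAk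
  have hb : ∀ D ≤ A, Nat.card D = p ^ k → ∀ b ∈ A, b ≠ 1 →
      signalizerDelta p D ⊓ centralizer {b} ≤ Opp p (centralizer {b}) := fun D h1 h2 b hb b1 => by
    rw [← cppc_eq]
    exact hbal D (elemAb_le hA h1) h2 b (orderOf_eq_of_elemAb hA hb b1)
      fun d hd => elemAb_comm hA (h1 hd) hb
  have hB : ∀ D ≤ A, Nat.card D = p ^ k → ∀ B ≤ A,
      signalizerDelta p D ⊓ centralizer (B : Set G) ≤ signalizerDelta p B :=
    fun D h1 h2 B h3 => le_delta fun b hb' b1 => (inf_le_inf_left _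
      (centralizer_le (Set.singleton_subset_iff.2 hb'))).trans (hb D h1 h2 b (h3 hb') b1)
  have hn : ∀ D ≤ A, A ≤ normalizer (signalizerDelta p D : Set G) := fun D h =>
    delta_normalizer (elemAb_le_centralizer hA le_rfl h)
  have hmono : ∀ D B : Subgroup G, D ≤ B → signalizerDelta p B ≤ signalizerDelta p D :=
    fun D B h => le_delta fun a ha a1 => delta_le (h ha) a1
  set θ : G → Subgroup G := fun a => ⨆ D : {D : Subgroup G // D ≤ A ∧ Nat.card ↥D = p ^ k},
    Cfsg.signalizerDelta p (D : Subgroup G) ⊓ Subgroup.centralizer {a} with hθ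
  have h1 : ∀ a ∈ A, a ≠ 1 → θ a ≤ Opp p (centralizer {a}) := fun a ha a1 =>
    iSup_le fun D => hb D D.2.1 D.2.2 a ha a1
  have h2 : ∀ a ∈ A, a ≠ 1 → (Nat.card (θ a)).Coprime p := fun a ha a1 =>
    coprime_card_of_le (h1 a ha a1) (Opp_coprime _)
  have h3 : ∀ a ∈ A, A ≤ normalizer (θ a : Set G) := fun a ha =>
    iSup_normalizer' fun D => inf_normalizer' (hn D D.2.1)
      (elemAb_normalizes_centralizer_singleton hA ha)
  refine ⟨fun a ha a1 => (h1 a ha a1).trans Opp_le,
    fun a ha a1 => coprime_iff_not_dvd'.1 (h2 a ha a1),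
    fun a ha _ => le_normalizer_iff_mem.1 (h3 a ha), fun a ha a1 b hb' b1 => ?_⟩
  rw [← centralizer_zpowers]
  refine inf_centralizer_le_of_generated (A := A) (elemAb_zpowers_isPGroup hA hb')
    (fun B : {B : Subgroup G // B ≤ A ∧ B.relIndex A = p} => signalizerDelta p B)
    (zpowers_le.2 hb') (fun B => hn B B.2.1) (fun B => ?_) (fun V W c1 c2 c3 B C => ?_)
    (solvable_of_le (h1 a ha a1) (cppc_eq p a ▸ hsolv a ha a1)) (h2 a ha a1) (h3 a ha)
    (iSup_le fun D => ?_)
  · obtain ⟨D, d1, d2⟩ := exists_le_card_eq_pow ((elemAb_isPGroup hA).to_le B.2.1)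
      ((Nat.pow_le_pow_right (Fact.out : p.Prime).pos (Nat.le_succ k)).trans
        (card_hyperplane hAk B.2.1 B.2.2))
    rw [centralizer_zpowers]
    exact (inf_le_inf_right _ (hmono _ _ d1)).trans (le_iSup (fun D : {D : Subgroup G //
      D ≤ A ∧ Nat.card ↥D = p ^ k} => Cfsg.signalizerDelta p (D : Subgroup G) ⊓
        Subgroup.centralizer {b}) ⟨D, d1.trans B.2.1, d2⟩)
  · obtain ⟨D, d1, d2⟩ := exists_le_card_eq_pow
      ((elemAb_isPGroup hA).to_le (inf_le_left.trans B.2.1))
      (card_inf_hyperplane (card_hyperplane hAk C.2.1 C.2.2) C.2.1 B.2.2)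
    have d3 : D ≤ A := d1.trans (inf_le_left.trans B.2.1)
    refine (inf_le_inf_right V ((commutator_mono (hmono _ _ (d1.trans inf_le_left))
      (hmono _ _ (d1.trans inf_le_right))).trans (commutator_le_self _))).trans ?_
    refine le_of_hyperplanes hA hA1 (coprime_card_of_le inf_le_right c1)
      (inf_normalizer' (hn D d3) c2) fun E e1 e2 => le_trans ?_ (c3 ⟨E, e1, e2⟩)
    exact le_inf (inf_le_left.trans inf_le_right)
      ((inf_le_inf_right _ inf_le_left).trans (hB D d3 d2 E e1))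
  · have d1 : signalizerDelta p D ⊓ centralizer {a} ≤ θ a := le_iSup (fun D : {D : Subgroup G //
      D ≤ A ∧ Nat.card ↥D = p ^ k} => Cfsg.signalizerDelta p (D : Subgroup G) ⊓
        Subgroup.centralizer {a}) D
    refine le_of_hyperplanes hA hA1 (coprime_card_of_le d1 (h2 a ha a1))
      (inf_normalizer' (hn D D.2.1) (elemAb_normalizes_centralizer_singleton hA ha))
      fun E e1 e2 => le_trans ?_ (le_iSup (fun B : {B : Subgroup G // B ≤ A ∧ B.relIndex A = p} =>
        θ a ⊓ signalizerDelta p B) ⟨E, e1, e2⟩)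
    exact le_inf (inf_le_left.trans d1)
      ((inf_le_inf_right _ inf_le_left).trans (hB D D.2.1 D.2.2 E e1))

end Cfsg.Agent.S1299
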