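import Cfsg.Statements.S1327
import Cfsg.Agent.Comp.Bal

set_option autoImplicit false
open Cfsg

namespace Cfsg.Agent.S1327

open Cfsg.Agent.Comp Subgroup
open scoped commutatorElement


/-- A finite group X is p-constrained if and only if its p-layer L_{p'}(X) is trivial (equivalently X / O_{p'}(X) has trivial layer). -/
theorem result {X : Type*} [Group X] [Finite X] (p : ℕ) [Fact p.Prime] : Cfsg.IsPConstrained p X ↔ Cfsg.pLayer p X = ⊥ := by
  set f := QuotientGroup.mk' (pPrimeCore p X) with hf
  have hk : (Nat.card f.ker).Coprime p := by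
    have := ker_coprime (p := p) (⊤ : Subgroup X); rwa [top_inf_eq] at this
  have hs := QuotientGroup.mk'_surjective (pPrimeCore p X)
  have key : ∀ P : Subgroup X, SylIn p P (pPrimePCore p X) →
      (centralizer (P : Set X) ≤ pPrimePCore p X ↔ pLayer p X = ⊥) := by
    intro P hP
    have h1 := hP.map f
    rw [pPrimePCore, map_comap_eq_self_of_surjective hs, ← Op_top] at h1
    have h2 := h1.eq_of_le h1.le le_rfl (Op_isPGroup _)
    rw [pPrimePCore, ← map_le_iff_le_comap, map_centralizer_eq f hs hk hP.pg, ← h2, ← Op_top,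
      ← top_inf_eq (centralizer _), ← FStar_eq_Op_iff', FStar_eq_Op_iff, Lay_top, ← PLay_map_quot,
      Subgroup.map_eq_bot_iff, ← PLay_top]
    exact ⟨fun h => PLay_eq_bot_of_le_coprime h.1 hk, fun h => ⟨h ▸ bot_le, Opp_quot⟩⟩
  constructor
  · intro h
    obtain ⟨P⟩ : Nonempty (Sylow p (pPrimePCore p X)) := inferInstance
    exact (key _ (sylIn_sylow P)).1 (h P)
  · intro h P
    exact (key _ (sylIn_sylow P)).2 h

end Cfsg.Agent.S1327
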