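import Cfsg.Statements.S1303
import Cfsg.Agent.PLoc.PStable

set_option autoImplicit false
open Cfsg

namespace Cfsg.Agent.S1303

open Subgroup
open scoped MatrixGroups

/-- the quaternion subgroup -/
def Q : Subgroup SL(2, ZMod 3) where
  carrier := {x | x ^ 4 = 1}
  one_mem' := one_pow 4
  mul_mem' := fun {a b} => (by decide +kernel : ∀ a b : SL(2, ZMod 3), a ^ 4 = 1 → b ^ 4 = 1 → (a * b) ^ 4 = 1) a b
  inv_mem' := fun {a} (h : a ^ 4 = 1) => show a⁻¹ ^ 4 = 1 by rw [inv_pow, h, inv_one]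


/-- The group X = SL(2, 3): it is 2-constrained, O_{2'}(X) = 1, its centre A = Z(X) contains every involution of X = C_X(A), and X has a subgroup of order 3 (normalized by A) not contained in O_{2'}(X). -/
theorem result : Cfsg.IsPConstrained 2 (Matrix.SpecialLinearGroup (Fin 2) (ZMod 3)) ∧ Cfsg.pPrimeCore 2 (Matrix.SpecialLinearGroup (Fin 2) (ZMod 3)) = ⊥ ∧ (∀ t : Matrix.SpecialLinearGroup (Fin 2) (ZMod 3), orderOf t = 2 → t ∈ Subgroup.center (Matrix.SpecialLinearGroup (Fin 2) (ZMod 3))) ∧ ∃ Q : Subgroup (Matrix.SpecialLinearGroup (Fin 2) (ZMod 3)), Nat.card ↥Q = 3 ∧ ¬ (Q ≤ Cfsg.pPrimeCore 2 (Matrix.SpecialLinearGroup (Fin 2) (ZMod 3))) := by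
  have h1 : pPrimeCore 2 SL(2, ZMod 3) = ⊥ := sSup_eq_bot.2 fun N ⟨hN, hc⟩ =>
    (eq_bot_iff_forall _).2 fun x hx => by_contra fun e => by
      obtain ⟨g, i, j, h⟩ := (by decide +kernel : ∀ x : SL(2, ZMod 3), x ≠ 1 →
        ∃ (g : SL(2, ZMod 3)) (i j : Fin 3), (x ^ i.1 * (g * x * g⁻¹)) ^ j.1 = -1) x e
      have := N.orderOf_dvd_natCard (h ▸ pow_mem (mul_mem (pow_mem hx i.1) (hN.conj_mem x hx g)) j.1)
      rw [orderOf_eq_prime (p := 2) (by decide +kernel) (by decide +kernel)] at this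
      exact absurd (hc.symm.eq_one_of_dvd this) (by decide)
  have h2 : Q ≤ pCore 2 SL(2, ZMod 3) := le_sSup ⟨⟨fun n (h : n ^ 4 = 1) g => show _ ^ 4 = 1 by
    rw [conj_pow, h, mul_one, mul_inv_cancel]⟩, fun x => ⟨2, Subtype.ext x.2⟩⟩
  refine ⟨(PLoc.isPConstrained_iff_of_eq_bot h1).2 fun x hx => h2 ((by decide +kernel :
    ∀ x : SL(2, ZMod 3), (∀ y, y ^ 4 = 1 → y * x = x * y) → x ^ 4 = 1) x fun y hy => hx y (h2 hy)), h1,
    fun t ht => mem_center_iff.2 ((by decide +kernel : ∀ t : SL(2, ZMod 3), t ^ 2 = 1 → ∀ g, g * t = t * g) t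
      (by simpa only [ht] using pow_orderOf_eq_one t)), ?_⟩
  obtain ⟨u, u1, u2⟩ := (by decide +kernel : ∃ u : SL(2, ZMod 3), u ^ 3 = 1 ∧ u ≠ 1)
  have := Fact.mk Nat.prime_three
  exact ⟨zpowers u, (Nat.card_zpowers u).trans (orderOf_eq_prime u1 u2), fun h =>
    u2 (mem_bot.1 (h1 ▸ h (mem_zpowers u)))⟩

end Cfsg.Agent.S1303
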