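import Cfsg.Statements.S1304
import Cfsg.Agent.Comp.Basic

set_option autoImplicit false
open Cfsg

namespace Cfsg.Agent.S1304

open Cfsg.Agent.Comp Subgroup
open scoped commutatorElement


/-- Let X be a perfect group and α an automorphism of X with α(x) x⁻¹ central for every x. Then α is the identity. -/
theorem result {X : Type*} [Group X] (hperf : commutator X = ⊤) (α : X ≃* X) (h : ∀ x : X, α x * x⁻¹ ∈ Subgroup.center X) : ∀ x : X, α x = x := by
  let f : X →* X := MonoidHom.mk' (fun x => α x * x⁻¹) (by
    intro a b
    have := mem_center_iff.1 (h b) a⁻¹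
    simp only [map_mul, mul_inv_rev]
    calc α a * α b * (b⁻¹ * a⁻¹) = α a * (α b * b⁻¹ * a⁻¹) := by group
      _ = _ := by rw [← this]; group)
  have h1 : (⊤ : Subgroup X).map f ≤ center X := by
    rintro _ ⟨x, -, rfl⟩; exact h x
  have h2 : (_root_.commutator X).map f = ⊥ := by
    rw [_root_.commutator_def, map_commutator]
    exact comm_bot_mono (commutator_center_left (H := ⊤)) h1 le_top
  intro x
  rw [Subgroup.map_eq_bot_iff, hperf] at h2
  have := MonoidHom.mem_ker.1 (h2 (mem_top x))
  simpa [f, mul_inv_eq_one] using this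

end Cfsg.Agent.S1304
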