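import Cfsg.Statements.S1306
import Cfsg.Agent.Comp.Bal

set_option autoImplicit false
open Cfsg

namespace Cfsg.Agent.S1306

open Cfsg.Agent.Comp Subgroup
open scoped commutatorElement


/-- Let G be finite, x an involution and L ≤ C_G(x) a component of C_G(x). Suppose L is a component of C_G(y) for every involution y ∈ C_G(L), and ⁅L, g L g⁻¹⁆ ≠ 1 whenever g L g⁻¹ ≠ L. Then L is a standard subgroup of G. -/
theorem result {G : Type*} [Group G] [Finite G] (x : G) (hx : orderOf x = 2) (L : Subgroup G) (hLx : L ≤ Subgroup.centralizer ({x} : Set G)) (hL : Cfsg.IsComponent (L.subgroupOf (Subgroup.centralizer ({x} : Set G)))) (hne : ∀ y : G, orderOf y = 2 → y ∈ Subgroup.centralizer (L : Set G) → L ≤ Subgroup.centralizer ({y} : Set G) ∧ Cfsg.IsComponent (L.subgroupOf (Subgroup.centralizer ({y} : Set G)))) (hnc : ∀ g : G, L.map (MulAut.conj g).toMonoidHom ≠ L → ⁅L, L.map (MulAut.conj g).toMonoidHom⁆ ≠ ⊥) : Cfsg.IsStandardSubgroup L := by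
  have hL' := compIn_iff.2 ⟨hLx, hL⟩
  have key : ∀ g y : G, orderOf y = 2 → y ∈ centralizer (L : Set G) →
      y ∈ (centralizer (L : Set G)).map (MulAut.conj g).toMonoidHom → g ∈ normalizer (L : Set G) := by
    rintro g _ ho h1 ⟨y, h2, rfl⟩
    have ho' : orderOf y = 2 := by
      rwa [orderOf_injective _ map_conj_inj] at ho
    have c1 := compIn_iff.2 (hne _ ho h1)
    have c2 := (compIn_iff.2 (hne _ ho' h2)).map_inj (map_conj_inj (g := g))
    rw [centralizer_singleton_map_conj] at c2
    apply mem_normalizer_of_map_conj_eq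
    by_contra e
    rcases c1.eq_or_comm c2 with h | h
    · exact e h.symm
    · exact hnc g e h
  have hxL : x ∈ centralizer (L : Set G) := fun l hl => mem_centralizer_singleton_iff.1 (hLx hl)
  refine ⟨qs_iff.1 hL'.2, ⟨?_, fun g hg => ?_⟩, hnc, le_antisymm (centralizer_normalizer L)
    fun g hg => key g x hx hxL (by rwa [map_conj_eq_of_mem_normalizer hg])⟩
  · exact even_iff_two_dvd.2 (hx ▸ orderOf_dvd_natCard _ hxL)
  · by_contra e
    have : Fact (Nat.Prime 2) := ⟨Nat.prime_two⟩
    obtain ⟨y, hy⟩ := exists_prime_orderOf_dvd_card' 2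
      (even_iff_two_dvd.1 (Nat.not_odd_iff_even.1 e))
    exact hg (centralizer_normalizer L (key g y (by rw [orderOf_coe, hy]) y.2.1 y.2.2))

end Cfsg.Agent.S1306
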