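import Cfsg.Statements.S1307
import Cfsg.Agent.H8.Pump
import Cfsg.Agent.Blk.ZStar
import Cfsg.Agent.Inv.Small
import Cfsg.Agent.Core.Quaternion

set_option autoImplicit false
open Cfsg

namespace Cfsg.Agent.S1307

open Cfsg.Agent.Comp Cfsg.Agent.H8 Subgroup
open scoped commutatorElement


/-- Let G be finite, x an involution and L ≤ C_G(x) a component of C_G(x) of even order and 2-rank 1, such that L is a component of C_G(y) for every involution y ∈ C_G(L). Then some involution of L is a classical involution of G. -/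
theorem result {G : Type*} [Group G] [Finite G] (x : G) (hx : orderOf x = 2) (L : Subgroup G) (hLx : L ≤ Subgroup.centralizer ({x} : Set G)) (hL : Cfsg.IsComponent (L.subgroupOf (Subgroup.centralizer ({x} : Set G)))) (heven : Even (Nat.card ↥L)) (hrk : Cfsg.PRankLE 2 1 ↥L) (hne : ∀ y : G, orderOf y = 2 → y ∈ Subgroup.centralizer (L : Set G) → L ≤ Subgroup.centralizer ({y} : Set G) ∧ Cfsg.IsComponent (L.subgroupOf (Subgroup.centralizer ({y} : Set G)))) : ∃ t ∈ L, Cfsg.IsClassicalInvolution t := by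
  classical
  haveI : Fact (Nat.Prime 2) := ⟨Nat.prime_two⟩
  have hL' := compIn_iff.2 ⟨hLx, hL⟩
  have hu : ∀ x y : L, x ^ 2 = 1 → y ^ 2 = 1 → y ≠ 1 → Commute x y → x ∈ zpowers y := by
    intro x y hx hy h1 hc
    by_contra hn
    have hcc : x ∈ centralizer ((zpowers y : Subgroup L) : Set L) := by
      rw [centralizer_zpowers]; exact mem_centralizer_singleton_iff.2 hc
    have h2 := card_sup_zpowers_elemAb (elemAb_zpowers hy) hx hcc hn
    have h3 := elemAb_sup_zpowers (elemAb_zpowers hy) hx hcc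
    have := hrk _ h3.1 h3.2
    rw [h2, Nat.card_zpowers, orderOf_eq_prime hy h1] at this
    omega
  obtain ⟨t, ht⟩ := exists_prime_orderOf_dvd_card' (G := L) 2 (even_iff_two_dvd.1 heven)
  have ht2 : t ^ 2 = 1 := ht ▸ pow_orderOf_eq_one t
  have ht1 : t ≠ 1 := by rintro rfl; simp at ht
  have hiso : IsIsolatedInvolution t := ⟨ht, fun g hg => by
    have h1 := hu _ t (by rw [conj_pow, ht2]; simp) ht2 ht1 hg.symm
    obtain ⟨k, hk, e⟩ : ∃ k < 2, t ^ k = g * t * g⁻¹ := by
      rw [mem_zpowers_iff_mem_range_orderOf, ht] at h1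
      simpa using h1
    interval_cases k
    · exact absurd (by simpa using e.symm) ht1
    · rw [← e, pow_one]⟩
  have hz : ⁅zpowers (t : G), L⁆ = ⊥ := by
    refine comm_bot_of_perfect hL'.2.perfect (comm_bot_mono (hL'.2.Opp_comm (QS.even hL'.2))
      ?_ le_rfl)
    have : ⁅zpowers t, (⊤ : Subgroup L)⁆ ≤ pPrimeCore 2 L := by
      haveI : (pPrimeCore 2 L).Normal := inferInstance
      rw [← QuotientGroup.ker_mk' (pPrimeCore 2 L), ← Subgroup.map_eq_bot_iff, map_commutator,
        MonoidHom.map_zpowers, commutator_eq_bot_iff_le_centralizer, zpowers_le]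
      rintro _ ⟨g, -, rfl⟩
      have := (QuotientGroup.eq_one_iff _).2 (Blk.zstar hiso g)
      simp only [QuotientGroup.mk_mul, QuotientGroup.mk_inv] at this
      exact (commutatorElement_eq_one_iff_mul_comm.1 this).symm
    have := map_mono (f := L.subtype) this
    rwa [map_commutator, MonoidHom.map_zpowers, map_top_subtype, Opp_eq] at this
  have hto : orderOf (t : G) = 2 := by rw [orderOf_coe, ht]
  have htc : (t : G) ∈ centralizer (L : Set G) :=
    commutator_eq_bot_iff_le_centralizer.1 hz (mem_zpowers _)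
  obtain ⟨h1, h2⟩ := hne t hto htc
  obtain ⟨S⟩ : Nonempty (Sylow 2 L) := inferInstance
  refine ⟨t, t.2, hto, L, h1, t.2, (subIn_iff.1 (compIn_iff.2 ⟨h1, h2⟩).1).2, S, ?_⟩
  have htt : ∀ y : L, y ^ 2 = 1 → y ≠ 1 → zpowers y = zpowers t := fun y hy hy1 =>
    le_antisymm (zpowers_le.2 (hu y t hy ht2 ht1 (Subtype.ext (htc y y.2))))
      (zpowers_le.2 (hu t y ht2 hy hy1 (Subtype.ext (htc y y.2).symm)))
  rcases Core.isCyclic_or_quaternion_of_unique S.isPGroup' (fun a b ha hb h1 => by
    have h3 : (a : L) ∈ zpowers (b : L) := by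
      rw [htt b (congrArg Subtype.val hb) fun e => h1 (Subtype.ext e)]
      exact hu a t (congrArg Subtype.val ha) ht2 ht1 (Subtype.ext (htc _ (a : L).2))
    obtain ⟨k, hk⟩ := h3
    exact ⟨k, Subtype.ext hk⟩) with h | h
  · exfalso
    obtain ⟨H, hH⟩ := Inv.s0219 heven S h
    haveI := normal_of_index_eq_two hH
    have h3 := (isQuasisimple_iff_top.1 (qs_iff.1 hL'.2)).perfect
    have h4 : ⁅(⊤ : Subgroup L), (⊤ : Subgroup L)⁆ ≤ H := by
      haveI : IsCyclic (L ⧸ H) := isCyclic_of_prime_card (p := 2) hH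
      exact Normal.quotient_commutative_iff_commutator_le.1 IsCyclic.isMulCommutative
    rw [h3, top_le_iff] at h4
    rw [h4, index_top] at hH
    omega
  · exact h.2

end Cfsg.Agent.S1307
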