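import Cfsg.Statements.S1313
import Cfsg.Agent.Comp.Layer

set_option autoImplicit false
open Cfsg

namespace Cfsg.Agent.S1313

open Cfsg.Agent.Comp Subgroup
open scoped commutatorElement


/-- For a finite group H, |H| ≤ |F*(H)|!. -/
theorem result {H : Type*} [Group H] [Finite H] : Nat.card H ≤ Nat.factorial (Nat.card ↥(Cfsg.generalizedFittingSubgroup H)) := by
  classical
  set F := generalizedFittingSubgroup H with hF
  have hn : F.Normal := by
    rw [hF, ← FStar_top, ← normalizer_eq_top_iff, eq_top_iff]; exact FStar_normal ⊤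
  let φ : H →* Equiv.Perm F := (MulAut.toPerm F).comp MulAut.conjNormal
  have hker : φ.ker ≤ F := by
    intro x hx
    have := centralizer_FStar_le (⊤ : Subgroup H)
    rw [FStar_top, top_inf_eq] at this
    apply this
    intro y hy
    have h1 := congrArg (fun σ : Equiv.Perm F => (σ ⟨y, hy⟩ : H)) (MonoidHom.mem_ker.1 hx)
    simp only [φ, MonoidHom.comp_apply, Equiv.Perm.coe_one, id] at h1
    change x * y * x⁻¹ = y at h1
    rw [mul_inv_eq_iff_eq_mul] at h1
    exact h1.symm
  have hr : φ.range ≤ MulAction.stabilizer (Equiv.Perm F) (1 : F) := by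
    rintro _ ⟨x, rfl⟩
    rw [MulAction.mem_stabilizer_iff]
    exact map_one (MulAut.conjNormal x : MulAut F)
  have h1 := φ.ker.card_mul_index
  rw [index_ker] at h1
  have h2 := (MulAction.stabilizer (Equiv.Perm F) (1 : F)).card_mul_index
  rw [MulAction.index_stabilizer_of_transitive, Nat.card_perm] at h2
  rw [← h1, ← h2, mul_comm]
  exact Nat.mul_le_mul (card_le_of_le hr) (card_le_of_le hker)

end Cfsg.Agent.S1313
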