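import Cfsg.Statements.S1314
import Cfsg.Agent.Comp.Bal

set_option autoImplicit false
open Cfsg

namespace Cfsg.Agent.S1314

open Cfsg.Agent.Comp Subgroup
open scoped commutatorElement


/-- Let x be an involution of a group G and L a perfect subgroup with ⁅L, x L x⁻¹⁆ = 1. Then l ↦ l (x l x⁻¹) is a group homomorphism π from L to G whose kernel is central in L and whose image lies in C_G(x); and the commutator subgroup of C_{L ⊔ xLx⁻¹}(x) equals the image of π. -/
theorem result {G : Type*} [Group G] [Finite G] (x : G) (hx : orderOf x = 2) (L : Subgroup G) (hperf : ⁅L, L⁆ = L) (hcomm : ⁅L, L.map (MulAut.conj x).toMonoidHom⁆ = ⊥) : ∃ π : ↥L →* G, (∀ l : ↥L, π l = (l : G) * (x * (l : G) * x⁻¹)) ∧ π.ker ≤ Subgroup.center ↥L ∧ π.range ≤ Subgroup.centralizer ({x} : Set G) ∧ ⁅(L ⊔ L.map (MulAut.conj x).toMonoidHom) ⊓ Subgroup.centralizer ({x} : Set G), (L ⊔ L.map (MulAut.conj x).toMonoidHom) ⊓ Subgroup.centralizer ({x} : Set G)⁆ = π.range := by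
  have hx2 : x * x = 1 := by rw [← sq, ← hx, pow_orderOf_eq_one]
  have hxi : x⁻¹ = x := inv_eq_of_mul_eq_one_right hx2
  have hc : ∀ a ∈ L, ∀ b ∈ L, a * (x * b * x⁻¹) = (x * b * x⁻¹) * a := fun a ha b hb =>
    comm_bot_iff.1 hcomm a ha _ ⟨b, hb, rfl⟩
  let π : L →* G := MonoidHom.mk' (fun l => (l : G) * (x * l * x⁻¹)) fun a b => by
    have := hc b b.2 a a.2
    simp only [coe_mul]
    calc (a : G) * b * (x * (a * b) * x⁻¹) = a * (b * (x * a * x⁻¹)) * (x * b * x⁻¹) := by group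
      _ = _ := by rw [this]; group
  have hπ : ∀ l : L, π l = (l : G) * (x * l * x⁻¹) := fun _ => rfl
  have h3 : π.range ≤ centralizer ({x} : Set G) := by
    rintro _ ⟨l, rfl⟩
    rw [mem_centralizer_singleton_iff, hπ]
    calc (l : G) * (x * l * x⁻¹) * x = (x * x) * l * x * l := by rw [hx2]; group
      _ = x * ((x * l * x⁻¹) * l) := by rw [hxi]; group
      _ = _ := by rw [hc l l.2 l l.2]
  have h4 : ⁅π.range, π.range⁆ = π.range := by
    rw [MonoidHom.range_eq_map, ← map_commutator]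
    congr 1
    apply Subgroup.map_injective (subtype_injective L)
    rw [map_commutator, map_top_subtype, hperf]
  have h5 : π.range ≤ L ⊔ L.map (MulAut.conj x).toMonoidHom := by
    rintro _ ⟨l, rfl⟩
    exact mul_mem (mem_sup_left l.2) (mem_sup_right ⟨l, l.2, rfl⟩)
  refine ⟨π, hπ, fun l hl => ?_, h3, le_antisymm ?_ (h4.ge.trans
    (commutator_mono (le_inf h5 h3) (le_inf h5 h3)))⟩
  · rw [mem_center_iff]
    intro a
    have e : (l : G) = x * (l : G)⁻¹ * x⁻¹ := by
      have : (l : G) * (x * l * x⁻¹) = 1 := hl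
      exact (eq_inv_of_mul_eq_one_left this).trans (by simp [mul_assoc])
    apply Subtype.ext
    simp only [coe_mul]
    rw [e]; exact hc a a.2 _ (inv_mem l.2)
  · set Z := L ⊓ L.map (MulAut.conj x).toMonoidHom with hZ
    have hZc : ⁅Z, L ⊔ L.map (MulAut.conj x).toMonoidHom⁆ = ⊥ :=
      comm_sup_right_bot (comm_bot_mono (comm_bot_symm hcomm) inf_le_right le_rfl)
        (comm_bot_mono hcomm inf_le_left le_rfl)
    have hle : (L ⊔ L.map (MulAut.conj x).toMonoidHom) ⊓ centralizer ({x} : Set G) ≤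
        π.range ⊔ Z := by
      rintro y ⟨hy1, hy2⟩
      obtain ⟨a, ha, _, ⟨b, hb, rfl⟩, rfl⟩ :=
        (mem_sup_of_normalizes (normalizes_of_comm_bot hcomm)).1 hy1
      have e1 : a * (x * b * x⁻¹) * x = x * (a * (x * b * x⁻¹)) :=
        mem_centralizer_singleton_iff.1 hy2
      have e2 : x * (a⁻¹ * b) * x⁻¹ = b * a⁻¹ := by
        have e3 := hc a ha b hb
        have e4 := hc b hb a ha
        have e5 : a * (x * b * x⁻¹) = (x * a * x⁻¹) * b := by
          calc a * (x * b * x⁻¹) = a * (x * b * x⁻¹) * x * x⁻¹ := by group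
            _ = x * a * x * b * (x * x)⁻¹ := by rw [e1]; group
            _ = _ := by rw [hx2, hxi]; group
        calc x * (a⁻¹ * b) * x⁻¹ = (x * a * x⁻¹)⁻¹ * ((x * b * x⁻¹) * a) * a⁻¹ := by group
          _ = _ := by rw [← e3, e5]; group
      have : a * (MulAut.conj x).toMonoidHom b = π ⟨a, ha⟩ * (x * (a⁻¹ * b) * x⁻¹) := by
        rw [hπ]; simp [mul_assoc]
      rw [this]
      refine mul_mem (mem_sup_left ⟨_, rfl⟩) (mem_sup_right ⟨?_, a⁻¹ * b, mul_mem (inv_mem ha) hb, rfl⟩)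
      rw [e2]; exact L.mul_mem hb (L.inv_mem ha)
    refine (commutator_mono hle hle).trans ?_
    have z1 := comm_bot_mono hZc le_rfl h5
    have z2 := comm_bot_mono hZc le_rfl (inf_le_left.trans le_sup_left : Z ≤ _)
    rw [comm_sup_central z1 z2 (comm_bot_symm z1) (comm_bot_symm z1) (comm_bot_symm z1), h4]

end Cfsg.Agent.S1314
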