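import Cfsg.Statements.S1316
import Cfsg.Agent.Comp.Layer

set_option autoImplicit false
open Cfsg

namespace Cfsg.Agent.S1316

open Cfsg.Agent.Comp Subgroup
open scoped commutatorElement

theorem succ {G : Type*} [Group G] (H : Subgroup G) (n : ℕ) :
    (derivedSeries H (n + 1)).map H.subtype =
      ⁅(derivedSeries H n).map H.subtype, (derivedSeries H n).map H.subtype⁆ := by
  rw [derivedSeries_succ, map_commutator]


/-- For a finite group X, E(X) equals the intersection of the derived series of F*(X) (its last term). -/
theorem result {X : Type*} [Group X] [Finite X] : (⨅ n : ℕ, (derivedSeries ↥(Cfsg.generalizedFittingSubgroup X) n).map (Cfsg.generalizedFittingSubgroup X).subtype) = Cfsg.layer X := by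
  rw [← FStar_top, ← Lay_top]
  apply le_antisymm
  · obtain ⟨n, hn⟩ := (Fit_solvable (⊤ : Subgroup X)).solvable
    refine iInf_le_of_le n ?_
    have key : ∀ n, (derivedSeries (FStar (⊤ : Subgroup X)) n).map (FStar (⊤ : Subgroup X)).subtype ≤
        (derivedSeries (Fit (⊤ : Subgroup X)) n).map (Fit (⊤ : Subgroup X)).subtype ⊔ Lay ⊤ := by
      intro n
      induction n with
      | zero => simp only [derivedSeries_zero, map_top_subtype]; rw [sup_comm]; exact le_rfl
      | succ n ih =>
        rw [succ, succ]
        exact (commutator_mono ih ih).trans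
          (comm_sup_le_sup_comm (le_top.trans (Lay_normal ⊤)) (le_top.trans (Lay_normal ⊤)))
    have := key n
    rwa [hn, Subgroup.map_bot, bot_sup_eq] at this
  · refine le_iInf fun n => ?_
    induction n with
    | zero => simp only [derivedSeries_zero, map_top_subtype]; exact Lay_le_FStar
    | succ n ih => rw [succ, ← Lay_perfect ⊤]; exact commutator_mono ih ih

end Cfsg.Agent.S1316
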