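import Cfsg.Statements.S1319
import Cfsg.Agent.Comp.Layer

set_option autoImplicit false
open Cfsg

namespace Cfsg.Agent.S1319

open Cfsg.Agent.Comp Subgroup
open scoped commutatorElement


/-- Let A be a subnormal subgroup of the finite group X with E(A) = A. Then A ≤ E(X) and A is normal in E(X). -/
theorem result {X : Type*} [Group X] [Finite X] (A : Subgroup X) (hsn : A.IsSubnormal) (hA : Cfsg.layer ↥A = ⊤) : A ≤ Cfsg.layer X ∧ (A.subgroupOf (Cfsg.layer X)).Normal := by
  have h1 : Lay A = A := by rw [← Lay_eq, hA, map_top_subtype]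
  have h2 := subIn_top.2 hsn
  rw [← Lay_top]
  have h3 : A ≤ Lay ⊤ := h1 ▸ h2.Lay_mono
  refine ⟨h3, (normal_subgroupOf_iff_le_normalizer h3).2 ?_⟩
  rw [h2.Lay_split, h1]
  exact sup_le le_normalizer (normalizes_of_comm_bot h2.LayOut_comm)

end Cfsg.Agent.S1319
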