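import Cfsg.Statements.S1321
import Cfsg.Agent.Comp.Layer

set_option autoImplicit false
open Cfsg

namespace Cfsg.Agent.S1321

open Cfsg.Agent.Comp Subgroup
open scoped commutatorElement


/-- Let X be finite and U ≤ X. Then E(X) is generated by C_{E(X)}(U) together with ⁅E(X), U⁆ (indeed it is their product, ⁅E(X), U⁆ being normal in E(X)). -/
theorem result {X : Type*} [Group X] [Finite X] (U : Subgroup X) : Cfsg.layer X = (Cfsg.layer X ⊓ Subgroup.centralizer (U : Set X)) ⊔ ⁅Cfsg.layer X, U⁆ ∧ ⁅Cfsg.layer X, U⁆ ≤ Cfsg.layer X := by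
  rw [← Lay_top]
  have h1 : ⁅Lay (⊤ : Subgroup X), U⁆ ≤ Lay ⊤ :=
    le_normalizer_iff_commutator_le_left.1 (le_top.trans (Lay_normal ⊤))
  refine ⟨le_antisymm (Lay_le_iff.2 fun K hK => ?_) (sup_le inf_le_left h1), h1⟩
  rcases hK.le_or_comm (SubIn.step h1 (normalizer_commutator_ge_left _ _) (Lay_subIn ⊤)) with h | h
  · exact h.trans le_sup_right
  · refine le_trans (le_inf hK.le_Lay ?_) le_sup_left
    rw [← commutator_eq_bot_iff_le_centralizer]
    refine comm_bot_symm (comm_bot_of_perfect hK.2.perfect (comm_bot_mono h ?_ le_rfl))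
    rw [Subgroup.commutator_comm]
    exact commutator_mono hK.le_Lay le_rfl

end Cfsg.Agent.S1321
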