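import Cfsg.Statements.S1322
import Cfsg.Agent.H8.Pump

set_option autoImplicit false
open Cfsg

namespace Cfsg.Agent.S1322

open Cfsg.Agent.Comp Cfsg.Agent.H8 Subgroup


/-- Let G be finite with L_{2'}(G) = E(G), t an involution and L ≤ C_G(t) a component of C_G(t). Then there is a component D of G with: L = D; or L < D and D = ⁅D, ⟨t⟩⁆; or tDt⁻¹ ≠ D and L is the layer of C_{D ⊔ tDt⁻¹}(t). -/
theorem result {G : Type*} [Group G] [Finite G] (hL2 : Cfsg.pLayer 2 G = Cfsg.layer G) (t : G) (ht : orderOf t = 2) (L : Subgroup G) (hLt : L ≤ Subgroup.centralizer ({t} : Set G)) (hL : Cfsg.IsComponent (L.subgroupOf (Subgroup.centralizer ({t} : Set G)))) : ∃ D : Subgroup G, Cfsg.IsComponent D ∧ (L = D ∨ (L < D ∧ D = ⁅D, Subgroup.zpowers t⁆) ∨ (D.map (MulAut.conj t).toMonoidHom ≠ D ∧ L = (Cfsg.layer ↥((D ⊔ D.map (MulAut.conj t).toMonoidHom) ⊓ Subgroup.centralizer ({t} : Set G))).map ((D ⊔ D.map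 (MulAut.conj t).toMonoidHom) ⊓ Subgroup.centralizer ({t} : Set G)).subtype)) := by
  have hL' := compIn_iff.2 ⟨hLt, hL⟩
  have hE := comp_le_PLay ht hL'
  rw [PLay_top, hL2, ← Lay_top] at hE
  obtain ⟨D, hD, h | ⟨h, h'⟩ | ⟨hne, h, e⟩⟩ := pumpup (H := ⊤) (mul_self_of_order ht)
    (le_normalizer (mem_top t)) (by rwa [top_inf_eq]) hE
  · exact ⟨D, compIn_top.1 hD, Or.inl h⟩
  · exact ⟨D, compIn_top.1 hD, Or.inr (Or.inl ⟨h, h'.symm⟩)⟩
  · refine ⟨D, compIn_top.1 hD, Or.inr (Or.inr ⟨hne, ?_⟩)⟩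
    rw [Lay_eq, Lay_diag (mul_self_of_order ht) hD.2 h, e]

end Cfsg.Agent.S1322
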