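import Cfsg.Statements.S1323
import Cfsg.Agent.Comp.Layer

set_option autoImplicit false
open Cfsg

namespace Cfsg.Agent.S1323

open Equiv Equiv.Perm Subgroup MulAction
open scoped commutatorElement

variable {α : Type*} [Fintype α] [DecidableEq α]

/-- even permutations supported in `s` -/
abbrev A (s : Finset α) : Subgroup (alternatingGroup α) := (alternatingGroup.ofSubtype s).range

theorem mem_A {s : Finset α} {g : alternatingGroup α} : g ∈ A s ↔ ∀ x ∉ s, (g : Perm α) x = x := by
  rw [A, alternatingGroup.range_ofSubtype, mem_subgroupOf, mem_range_ofSubtype_iff]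
  exact ⟨fun h x hx => by_contra fun e => hx (h (mem_support.2 e)), fun h x hx => by_contra fun e =>
    mem_support.1 hx (h x e)⟩

theorem cyc {s : Finset α} {x y z : α} (hx : x ∈ s) (hy : y ∈ s) (hz : z ∈ s) (h1 : x ≠ y) (h2 : x ≠ z)
    (h3 : y ≠ z) : ∃ c ∈ A s, (c : Perm α) x = y ∧ ∀ w, w ≠ x → w ≠ y → w ≠ z → (c : Perm α) w = w := by
  have k : ∀ w, w ≠ x → w ≠ y → w ≠ z → (swap x z * swap x y) w = w := fun w a b c => by
    simp [swap_apply_of_ne_of_ne, *]
  exact ⟨⟨swap x z * swap x y, by simp [mem_alternatingGroup, h1, h2]⟩, mem_A.2 fun w hw => k w (by grind)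
    (by grind) (by grind), by simp [swap_apply_of_ne_of_ne, h1.symm, h3], k⟩

theorem sub_of_le {s t : Finset α} (h : 3 ≤ s.card) (h1 : A s ≤ A t) : s ⊆ t := fun x hx => by
  obtain ⟨y, z, hy, hz, e⟩ := Finset.one_lt_card_iff.1 (show 1 < (s.erase x).card by
    rw [Finset.card_erase_of_mem hx]; omega)
  obtain ⟨c, c1, c2, -⟩ := cyc (x := x) (y := y) (z := z) hx (by grind) (by grind) (by grind) (by grind) e
  by_contra a
  have := mem_A.1 (h1 c1) x a
  grind

theorem cent {s : Finset α} (h : 4 ≤ s.card) : centralizer (A s : Set (alternatingGroup α)) = A sᶜ := by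
  refine le_antisymm (fun g hg => mem_A.2 fun x hx => by_contra fun a => ?_) fun g hg u hu => ?_
  · rw [Finset.mem_compl, not_not] at hx
    obtain ⟨y, z, hy, hz, e⟩ := Finset.one_lt_card_iff.1 (show 1 < ((s.erase x).erase (g.1 x)).card by
      have := Finset.pred_card_le_card_erase (s := s.erase x) (a := g.1 x)
      rw [Finset.card_erase_of_mem hx] at this; omega)
    obtain ⟨c, c1, c2, c3⟩ := cyc (x := x) (y := y) (z := z) hx (by grind) (by grind) (by grind) (by grind) e
    have : c.1 (g.1 x) = g.1 (c.1 x) := congrArg (fun u : alternatingGroup α => u.1 x) (hg c c1)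
    rw [c2, c3 _ a (by grind) (by grind)] at this
    have := g.1.injective this
    grind
  · exact Subtype.ext (Disjoint.commute fun x => (em (x ∈ s)).symm.imp (mem_A.1 hu x)
      fun e => mem_A.1 hg x (by simpa))

theorem conj (s : Finset α) (g : alternatingGroup α) :
    (A s).map (MulAut.conj g).toMonoidHom = A (s.map g.1.toEmbedding) := by
  ext u
  rw [mem_map_equiv, mem_A, mem_A, g.1.forall_congr_left]
  simp [inv_eq_iff_eq]

theorem norm {s : Finset α} (h : 3 ≤ s.card) {g : alternatingGroup α} :
    g ∈ normalizer (A s : Set (alternatingGroup α)) ↔ s.map g.1.toEmbedding = s := by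
  rw [mem_normalizer_iff_map_conj_eq]
  change (A s).map (MulAut.conj g).toMonoidHom = _ ↔ _
  rw [conj]
  exact ⟨fun e => (Finset.eq_of_subset_of_card_le (sub_of_le h e.ge) (by simp)).symm, fun e => by rw [e]⟩

theorem std {s : Finset α} (h1 : 5 ≤ s.card) (h2 : sᶜ.card = 4) : IsStandardSubgroup (A s) := by
  have hs : IsSimpleGroup (alternatingGroup s) := alternatingGroup.isSimpleGroup (by simpa)
  have k : ∀ g : alternatingGroup α, ¬ A (s.map g.1.toEmbedding) ≤ centralizer (A s : Set _) := fun g e => by
    have := Finset.card_le_card (sub_of_le (by simp; omega) (cent (by omega : 4 ≤ s.card) ▸ e))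
    simp only [Finset.card_map] at this; omega
  refine ⟨Comp.qs_iff.1 (Comp.qs_of_simple
    (MonoidHom.ofInjective alternatingGroup.ofSubtype_injective).symm.isSimpleGroup fun e => k 1 ?_), ?_,
    fun g _ e => k g ?_, ?_⟩
  · rw [show s.map (1 : alternatingGroup α).1.toEmbedding = s from Finset.map_refl]
    exact le_centralizer (A s)
  · rw [cent (by omega)]
    refine ⟨?_, fun g hg => ?_⟩
    · obtain ⟨a, b, c, d, ha, hb, hc, hd, ab, ac, ad, bc, bd, cd⟩ := Finset.three_lt_card_iff.1 h2.ge
      have := (A sᶜ).orderOf_dvd_natCard (x := ⟨swap a b * swap c d, by simp [mem_alternatingGroup, *]⟩)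
        (mem_A.2 fun w hw => by simp only [mul_apply, swap_apply_def]; grind)
      rw [orderOf_eq_prime (p := 2) (Subtype.ext (Equiv.ext fun w => by
        simp [sq, swap_apply_def]; grind)) fun e => by
          have := congrArg (fun u : alternatingGroup α => u.1 a) e
          simp [swap_apply_def] at this; grind] at this
      exact even_iff_two_dvd.2 this
    · rw [norm (by omega)] at hg
      rw [conj, ← Nat.not_even_iff_odd, even_iff_two_dvd]
      intro e
      obtain ⟨u, hu⟩ := exists_prime_orderOf_dvd_card' 2 e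
      rw [← orderOf_coe, ← orderOf_coe] at hu
      have a1 : u.1.1.support ⊆ sᶜ ∩ sᶜ.map g.1.toEmbedding := fun x hx => Finset.mem_inter.2
        ⟨by_contra fun e => mem_support.1 hx (mem_A.1 u.2.1 x e),
          by_contra fun e => mem_support.1 hx (mem_A.1 u.2.2 x e)⟩
      have a2 := Finset.card_lt_card (Finset.ssubset_iff_subset_ne.2 ⟨Finset.inter_subset_left, fun e =>
        hg (Finset.eq_of_subset_of_card_le (Finset.inter_eq_left.1 e) (by simp)).symm⟩)
      have a3 := Finset.card_le_card a1
      rcases (show u.1.1.support.card ≤ 1 ∨ u.1.1.support.card = 2 ∨ u.1.1.support.card = 3 by omega)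
        with c | c | c
      · simp [card_support_le_one.1 c] at hu
      · simpa [(card_support_eq_two.1 c).sign_eq] using mem_alternatingGroup.1 u.1.2
      · simp [(card_support_eq_three_iff.1 c).orderOf] at hu
  · rwa [Subgroup.commutator_comm, commutator_eq_bot_iff_le_centralizer, conj] at e
  · ext g
    rw [cent (by omega), norm (by omega), norm (by omega)]
    simp only [Finset.ext_iff, Finset.mem_map_equiv, Finset.mem_compl, not_iff_not]


/-- For n ≥ 9, the subgroup of the alternating group on Fin n fixing each of the points 0, 1, 2, 3 is a standard subgroup. -/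
theorem result (n : ℕ) (h4 : 4 ≤ n) (hn : 9 ≤ n) : Cfsg.IsStandardSubgroup (⨅ i : Fin 4, MulAction.stabilizer ↥(alternatingGroup (Fin n)) (Fin.castLE h4 i : Fin n)) := by
  have e : (Finset.univ.map (Fin.castLEEmb h4)).card = 4 := by simp
  convert std (s := (Finset.univ.map (Fin.castLEEmb h4))ᶜ) (by rw [Finset.card_compl, e]; simp; omega)
    (by rw [compl_compl, e])
  ext g
  rw [mem_A]
  simp [mem_iInf, Subgroup.smul_def]

end Cfsg.Agent.S1323
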