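import Cfsg.Statements.S1326
import Cfsg.Agent.Comp.Layer

set_option autoImplicit false
open Cfsg

namespace Cfsg.Agent.S1326

open Cfsg.Agent.Comp Subgroup
open scoped commutatorElement


/-- For a finite group X: the Fitting subgroup contains its centralizer if and only if the layer of X is trivial. -/
theorem result {X : Type*} [Group X] [Finite X] : Subgroup.centralizer (Cfsg.fittingSubgroup X : Set X) ≤ Cfsg.fittingSubgroup X ↔ Cfsg.layer X = ⊥ := by
  rw [← Lay_top, ← Fit_top]
  constructor
  · intro h
    exact perfect_solvable_eq_bot (Lay_perfect ⊤) (solvable_of_le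
      ((commutator_eq_bot_iff_le_centralizer.1 (Lay_comm_Fit ⊤)).trans h) (Fit_solvable ⊤))
  · intro h
    have := centralizer_FStar_le (⊤ : Subgroup X)
    rwa [FStar, h, bot_sup_eq, top_inf_eq] at this

end Cfsg.Agent.S1326
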