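import Cfsg.Statements.S1328
import Cfsg.Agent.Comp.Bal

set_option autoImplicit false
open Cfsg

namespace Cfsg.Agent.S1328

open Cfsg.Agent.Comp Subgroup
open scoped commutatorElement


/-- Let G be finite, H ≤ G with O(H) = 1, t an involution of G normalizing H, and Y a nontrivial subgroup of O(C_H(t)). Then some component E of H is normalized by t and by Y and centralized by neither t nor Y. -/
theorem result {G : Type*} [Group G] [Finite G] (H : Subgroup G) (hO : Cfsg.oddCore ↥H = ⊥) (t : G) (ht : orderOf t = 2) (htH : t ∈ Subgroup.normalizer (H : Set G)) (Y : Subgroup G) (hY1 : Y ≠ ⊥) (hY : Y ≤ (Cfsg.oddCore ↥(H ⊓ Subgroup.centralizer ({t} : Set G))).map (H ⊓ Subgroup.centralizer ({t} : Set G)).subtype) : ∃ E : Subgroup ↥H, Cfsg.IsComponent E ∧ (E.map H.subtype).map (MulAut.conj t).toMonoidHom = E.map H.subtype ∧ Y ≤ Subgroup.normalizer ((E.map H.subtype : Subgroup G) : Set G) ∧ ¬ (t ∈ Subgroup.centralizer ((E.map H.subtype : Subgroup G) : Set G)) ∧ ¬ (Y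 ≤ Subgroup.centralizer ((E.map H.subtype : Subgroup G) : Set G)) := by
  have : Fact (Nat.Prime 2) := ⟨Nat.prime_two⟩
  rw [Opp_eq] at hY
  have hO' : Opp 2 H = ⊥ := by rw [← Opp_eq, oddCore] at *; rw [hO, Subgroup.map_bot]
  have hp0 := isPGroup_zpowers_of_orderOf ht
  have hY0 : Y ≤ OE 2 (H ⊓ centralizer ((zpowers t : Subgroup G) : Set G)) := by
    rw [centralizer_zpowers]; exact hY.trans le_sup_right
  have : ¬ ∀ L, CompIn L H → ⁅L, Y⁆ = ⊥ := fun h => hY1 (eq_bot_of_comm_components hO'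
    (hY.trans (Opp_le.trans inf_le_left)) (coprime_card_of_le hY (Opp_coprime _))
    (comm_bot_mono (OE_centralizer_comm_Op hp0 (zpowers_le.2 htH)) hY0 le_rfl) h)
  push Not at this
  obtain ⟨L, hL, hne⟩ := this
  have h1 : ⁅L, zpowers t⁆ = L := (hL.comm_Opp_centralizer hO' ht htH).resolve_left
    fun e => hne (comm_bot_mono e le_rfl hY)
  refine ⟨L.subgroupOf H, (compIn_iff.1 hL).2, ?_⟩
  rw [map_subgroupOf_eq_of_le hL.le]
  refine ⟨map_conj_eq_of_mem_normalizer (zpowers_le.1 (le_normalizer_iff_commutator_le_left.2 h1.le)),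
    hY0.trans (hL.OE_centralizer_normalizes hO' hp0 (zpowers_le.2 htH)), fun e => ?_,
    fun e => hne (comm_bot_symm (commutator_eq_bot_iff_le_centralizer.2 e))⟩
  rw [comm_bot_symm (commutator_eq_bot_iff_le_centralizer.2 (zpowers_le.2 e))] at h1
  exact hL.2.ne_bot h1.symm

end Cfsg.Agent.S1328
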