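import Cfsg.Statements.S1329
import Cfsg.Agent.H8.Gold

set_option autoImplicit false
open Cfsg

namespace Cfsg.Agent.S1329

open Cfsg.Agent.BG Cfsg.Agent.H8 Subgroup


/-- Let A be an abelian 2-subgroup of the finite group G, B ≤ A, and Y a subgroup of odd order normalized by A with ⁅Y, A⁆ = Y. Then Y ∩ C_G(B) is generated by the subgroups Y ∩ C_G(B) ∩ ⁅Y ∩ C_G(B₀), A⁆, B₀ ranging over the subgroups of B with B / B₀ cyclic. -/
theorem result {G : Type*} [Group G] [Finite G] (A B Y : Subgroup G) (hA2 : IsPGroup 2 ↥A) (hAc : IsMulCommutative ↥A) (hB : B ≤ A) (hYodd : Odd (Nat.card ↥Y)) (hAY : A ≤ Subgroup.normalizer (Y : Set G)) (hYA : ⁅Y, A⁆ = Y) : Y ⊓ Subgroup.centralizer (B : Set G) = ⨆ B₀ : {B₀ : Subgroup G // B₀ ≤ B ∧ ∀ [(B₀.subgroupOf B).Normal], IsCyclic (↥B ⧸ B₀.subgroupOf B)}, Y ⊓ Subgroup.centralizer (B : Set G) ⊓ ⁅Y ⊓ Subgroup.centralizer ((B₀ : Subgroup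 G) : Set G), A⁆ := by
  refine le_antisymm (s1329 (abel_of hAc) hB hAY ((pig_of_pg Nat.prime_two hA2).coprime
    (pig_odd.2 hYodd)) (sol_of_odd (pig_odd.2 hYodd)) hYA fun B0 a b => ?_)
    (iSup_le fun _ => inf_le_left)
  refine le_iSup_of_le ⟨B0, a, ?_⟩ le_rfl
  intro _
  obtain ⟨x, hx, e⟩ := (cyc_quo_iff a (abel_norm ((abel_of hAc).of_le hB) a)).1 b
  refine ⟨⟨((⟨x, hx⟩ : B) : B ⧸ B0.subgroupOf B), fun y => ?_⟩⟩
  obtain ⟨⟨y, hy⟩, rfl⟩ := QuotientGroup.mk_surjective y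
  obtain ⟨c, hc, _, ⟨k, rfl⟩, rfl⟩ := (mem_sup_l ((zpowers_le.2 hx).trans
    (abel_norm ((abel_of hAc).of_le hB) a))).1 (e.ge hy)
  refine ⟨k, ?_⟩
  show ((⟨x, hx⟩ : B) : B ⧸ B0.subgroupOf B) ^ k = _
  rw [← QuotientGroup.mk_zpow, eq_comm, QuotientGroup.eq, mem_subgroupOf]
  have := conj_mem' (abel_norm ((abel_of hAc).of_le hB) a (zpow_mem hx k)) (inv_mem hc)
  simpa [mul_assoc] using this

end Cfsg.Agent.S1329
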