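import Cfsg.Statements.S1330
import Cfsg.Agent.H8.Bar

set_option autoImplicit false
open Cfsg

namespace Cfsg.Agent.S1330

open Cfsg.Agent.BG Cfsg.Agent.H8 Subgroup


/-- Let A₁, A₂ be core-separated four-subgroups of the finite group G and A = A₁A₂. For a ∈ G put O_a = O(C_G(a)) and θ a = ⋂_{i=1,2} ( ⁅O_a, A_i⁆ · (O_a ∩ O(C_G(A_i))) ). Then θ is an A-signalizer functor for the prime 2. -/
theorem result {G : Type*} [Group G] [Finite G] (A₁ A₂ : Subgroup G) (hcs : Cfsg.IsCoreSeparated A₁ A₂) : Cfsg.IsSignalizerFunctor 2 (A₁ ⊔ A₂) (fun a => (⁅Cfsg.centralizerPPrimeCore 2 a, A₁⁆ ⊔ (Cfsg.centralizerPPrimeCore 2 a ⊓ ((Cfsg.oddCore ↥(Subgroup.centralizer ((A₁ : Subgroup G) : Set G))).map (Subgroup.centralizer ((A₁ : Subgroup G) : Set G)).subtype))) ⊓ (⁅Cfsg.centralizerPPrimeCore 2 a, A₂⁆ ⊔ (Cfsg.centralizerPPrimeCore 2 a ⊓ ((Cfsg.oddCore ↥(Subgroup.centralizer ((A₂ : Subgroup G) : Set G))).map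 (Subgroup.centralizer ((A₂ : Subgroup G) : Set G)).subtype)))) := by
  obtain ⟨e1, e2, c1, c2, -, -, hc, hs⟩ := hcs
  have h : CSep A₁ A₂ := ⟨(abelem_iff.2 e1).sup (abelem_iff.2 e2) (le_C_iff.2 hc), c1, c2,
    fun a ha a1 K hK => by
      have := hs a ha a1 _ (Comp.pcompIn_iff.1 hK).2
      rwa [map_subgroupOf_eq_of_le hK.le, Comp.cppc_eq] at this⟩
  have e : ∀ (A : Subgroup G) (a : G), ⁅Cfsg.centralizerPPrimeCore 2 a, A⁆ ⊔
      (Cfsg.centralizerPPrimeCore 2 a ⊓ ((Cfsg.oddCore ↥(Subgroup.centralizer (A : Set G))).map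
        (Subgroup.centralizer (A : Set G)).subtype)) = gth A a := fun A a => by
    rw [gth, Comp.cppc_eq, ← Comp.Opp_eq C[A]]
  simp only [e]
  refine ⟨fun a ha _ => inf_le_left.trans ((h.gth_le ha).trans Comp.Opp_le), fun a ha _ => ?_,
    fun a ha _ b hb x hx => ?_, fun a ha a1 b hb b1 => h.bal ha a1 hb b1⟩
  · have := pig_odd.1 ((CSep.pigO _).of_le
      ((inf_le_left (b := gth A₂ a)).trans (h.gth_le ha)))
    exact this.not_two_dvd_nat
  · exact le_N_iff.1 (normI (h.gth_norm ha)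
      (sup_comm A₂ A₁ ▸ h.symm.gth_norm (sup_comm A₁ A₂ ▸ ha))) b hb x hx

end Cfsg.Agent.S1330
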