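import Cfsg.Statements.S1336
import Cfsg.Agent.Comp.Conn

set_option autoImplicit false
open Cfsg

namespace Cfsg.Agent.S1336

open Cfsg.Agent.Comp Subgroup PLoc


/-- Let G be finite and p prime. Then G has a proper subgroup H with p ∣ |H| and p ∤ |H ∩ gHg⁻¹| for every g ∉ H (a strongly p-embedded subgroup) if and only if G is not 1-connected for p. -/
theorem result {G : Type*} [Group G] [Finite G] (p : ℕ) [Fact p.Prime] : (∃ H : Subgroup G, H ≠ ⊤ ∧ p ∣ Nat.card ↥H ∧ ∀ g : G, g ∉ H → ¬ p ∣ Nat.card ↥(H ⊓ H.map (MulAut.conj g).toMonoidHom)) ↔ ¬ Cfsg.IsKConnected p 1 G := by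
  have hp : p.Prime := Fact.out
  have ex : ∀ K : Subgroup G, p ∣ Nat.card K → ∃ E ≤ K, IsElementaryAbelian p E ∧
      p ^ 1 ≤ Nat.card E := fun K h => by
    obtain ⟨x, hx⟩ := exists_prime_orderOf_dvd_card' p h
    refine ⟨zpowers (x : G), zpowers_le.2 x.2, elemAb_zpowers ?_, ?_⟩
    · rw [← hx, ← orderOf_coe, pow_orderOf_eq_one]
    · rw [Nat.card_zpowers, orderOf_coe, hx, pow_one]
  have dv : ∀ {E K : Subgroup G}, IsElementaryAbelian p E → p ^ 1 ≤ Nat.card E → E ≤ K →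
      p ∣ Nat.card K := fun h1 h2 h3 =>
    (((elemAb_isPGroup h1).card_eq_or_dvd.resolve_left fun e =>
      ne_bot_of_pow_le le_rfl h2 (card_eq_one.1 e))).trans (card_dvd_of_le h3)
  constructor
  · rintro ⟨H, h1, h2, h3⟩ hc
    obtain ⟨E, e1, e2, e3⟩ := ex H h2
    obtain ⟨g, hg⟩ : ∃ g, g ∉ H := by
      by_contra h; push Not at h; exact h1 (eq_top_iff.2 fun g _ => h g)
    have e4 := elemAb_cj e2 g
    have e5 : p ^ 1 ≤ Nat.card (cj g E) := by rwa [card_cj]
    refine h3 g hg (dv e4 e5 (le_inf ?_ (cj_mono g e1)))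
    have := hc E _ e2 e3 e4 e5
    clear e4 e5
    generalize cj g E = F at this
    induction this with
    | refl => exact e1
    | tail _ h ih =>
      intro b hb
      by_contra hn
      refine h3 b hn (dv h.1 h.2.1 (le_inf ih fun a ha => mem_cj.2 ?_))
      rw [mul_assoc, h.2.2.2.2 a ha b hb, inv_mul_cancel_left]
      exact ih ha
  · intro h
    unfold IsKConnected at h
    push Not at h
    obtain ⟨E, F, e1, e2, f1, f2, h⟩ := h
    set R := fun A B : Subgroup G => IsElementaryAbelian p A ∧ p ^ 1 ≤ Nat.card A ∧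
      IsElementaryAbelian p B ∧ p ^ 1 ≤ Nat.card B ∧ ∀ a ∈ A, ∀ b ∈ B, a * b = b * a
    have hs : ∀ A B, R A B → R B A := fun A B h =>
      ⟨h.2.2.1, h.2.2.2.1, h.1, h.2.1, fun b hb a ha => (h.2.2.2.2 a ha b hb).symm⟩
    have hc : ∀ g A B, R A B → R (cj g A) (cj g B) := fun g A B h =>
      ⟨elemAb_cj h.1 g, by rw [card_cj]; exact h.2.1, elemAb_cj h.2.2.1 g,
        by rw [card_cj]; exact h.2.2.2.1, comm_cj h.2.2.2.2 g⟩
    obtain ⟨P, hP⟩ := (elemAb_isPGroup e1).exists_le_sylow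
    obtain ⟨Z, z1, z2, z3⟩ := ex ((P : Subgroup G) ⊓ centralizer (P : Set G))
      ((P.2.to_le inf_le_left).card_eq_or_dvd.resolve_left fun e =>
        Core.inf_centralizer_ne_bot P.2.isNilpotent le_rfl le_normalizer
          (fun e' => ne_bot_of_pow_le le_rfl e2 (eq_bot_iff.2 (hP.trans e'.le)))
          (card_eq_one.1 e))
    have k1 : ∀ A ≤ (P : Subgroup G), IsElementaryAbelian p A → p ^ 1 ≤ Nat.card A →
        Relation.ReflTransGen R A E := fun A a1 a2 a3 =>
      (Relation.ReflTransGen.single ⟨a2, a3, z2, z3, fun a ha b hb => (z1 hb).2 a (a1 ha)⟩).tail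
        ⟨z2, z3, e1, e2, fun b hb a ha => ((z1 hb).2 a (hP ha)).symm⟩
    have k2 : (P : Subgroup G) ≤ compStab hs hc E := fun g hg =>
      k1 _ (cj_le_of_mem hP hg) (elemAb_cj e1 g) (by rwa [card_cj])
    have k3 : ∀ A ≤ compStab hs hc E, IsElementaryAbelian p A → p ^ 1 ≤ Nat.card A →
        Relation.ReflTransGen R A E := fun A a1 a2 a3 => by
      obtain ⟨g, g1, g2⟩ := (isSylowOf_sylow P k2).exists_cj_le (elemAb_isPGroup a2) a1
      have := rtg_cj hc g⁻¹ (k1 _ g2 (elemAb_cj a2 g) (by rwa [card_cj]))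
      rw [cj_inv_cj] at this
      exact this.trans (inv_mem g1)
    refine ⟨compStab hs hc E, fun e => h (rtg_symm hs (k3 F (e ▸ le_top) f1 f2)),
      dv e1 e2 (hP.trans k2), fun g hg hd => hg ?_⟩
    obtain ⟨A, a1, a2, a3⟩ := ex _ hd
    have := rtg_cj hc g (k3 _ (le_cj_iff.1 (a1.trans inf_le_right)) (elemAb_cj a2 _)
      (by rwa [card_cj]))
    rw [cj_cj_inv] at this
    exact (rtg_symm hs this).trans (k3 A (a1.trans inf_le_left) a2 a3)

end Cfsg.Agent.S1336
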