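import Cfsg.Statements.S1337
import Cfsg.Agent.Comp.Conn

set_option autoImplicit false
open Cfsg

namespace Cfsg.Agent.S1337

open Cfsg.Agent.Comp Subgroup


/-- Let P be a finite p-group of p-rank greater than 2. Then P has a normal elementary abelian subgroup U of order p², and for every elementary abelian X ≤ P with |X| ≥ p²: X is joined to U by a chain of pairwise commuting elementary abelian subgroups of order ≥ p² if and only if C_P(X) has p-rank greater than 2. -/
theorem result {P : Type*} [Group P] [Finite P] (p : ℕ) [Fact p.Prime] (hP : IsPGroup p P) (hrk : ¬ Cfsg.PRankLE p 2 P) : ∃ U : Subgroup P, U.Normal ∧ Cfsg.IsElementaryAbelian p U ∧ Nat.card ↥U = p ^ 2 ∧ ∀ X : Subgroup P, Cfsg.IsElementaryAbelian p X → p ^ 2 ≤ Nat.card ↥X → (Relation.ReflTransGen (fun A B : Subgroup P => Cfsg.IsElementaryAbelian p A ∧ p ^ 2 ≤ Nat.card ↥A ∧ Cfsg.IsElementaryAbelian p B ∧ p ^ 2 ≤ Nat.card ↥B ∧ ∀ a ∈ A, ∀ b ∈ B, a * b = b * a) X U ↔ ¬ Cfsg.PRankLE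 p 2 ↥(Subgroup.centralizer (X : Set P))) := by
  obtain ⟨E, hE, h3⟩ := exists_elemAb_of_not_rank hrk
  obtain ⟨U, hn, hU, hc⟩ := exists_normal_sq_of_rank hP hE h3
  have br : ∀ X : Subgroup P, ¬ PRankLE p 2 (centralizer (X : Set P)) → ∃ F : Subgroup P,
      IsElementaryAbelian p F ∧ Nat.card F = p ^ 2 ∧ F ≤ centralizer (U : Set P) ∧
        F ≤ centralizer (X : Set P) := fun X h => by
    obtain ⟨F, f1, f2, f3⟩ := not_rank_iff.1 h
    obtain ⟨D, d1, d2, d3, d4⟩ := exists_bridge hP hU hc f2 f3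
    exact ⟨D, d2, d3, d4, d1.trans f1⟩
  refine ⟨U, hn, hU, hc, fun X hX h2 => ⟨fun h => ?_, fun h => ?_⟩⟩
  swap
  · obtain ⟨F, f1, f2, f3, f4⟩ := br X h
    exact (Relation.ReflTransGen.single ⟨hX, h2, f1, f2.ge, fun a ha b hb => f4 hb a ha⟩).tail
      ⟨f1, f2.ge, hU, hc.ge, fun a ha b hb => (f3 ha b hb).symm⟩
  intro hr
  -- if the rank of the centralizer is two, the component is a single vertex
  have key : ∀ Y : Subgroup P, IsElementaryAbelian p Y → p ^ 2 ≤ Nat.card Y →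
      Y ≤ centralizer (X : Set P) → Y = X := fun Y y1 y2 y3 => by
    have a1 := elemAb_sup y1 hX y3
    have a2 := Inv.pRankLE_iff.1 hr (Y ⊔ X) (sup_le y3 (elemAb_le_centralizer hX le_rfl le_rfl))
      a1.1 a1.2
    exact (eq_of_le_of_card_ge le_sup_left (a2.trans y2)).trans
      (eq_of_le_of_card_ge le_sup_right (a2.trans h2)).symm
  have e : U = X := by
    clear hn hU hc br
    induction h with
    | refl => rfl
    | tail _ h1 ih =>
      subst ih
      exact key _ h1.2.2.1 h1.2.2.2.1 fun b hb a ha => h1.2.2.2.2 a ha b hb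
  subst e
  obtain ⟨D, d1, d2, d3, d4⟩ := exists_bridge hP hU hc hE h3
  obtain rfl := key D d2 d3.ge d4
  exact not_rank_iff.2 ⟨E, elemAb_le_centralizer hE le_rfl d1, hE, h3⟩ hr

end Cfsg.Agent.S1337
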