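import Cfsg.Statements.S1338
import Cfsg.Agent.H8.Rk4
import Cfsg.Agent.S1337

set_option autoImplicit false
open Cfsg

namespace Cfsg.Agent.S1338

open Cfsg.Agent.BG Subgroup


/-- A finite 3-group of 3-rank at least 4 is 2-connected for the prime 3: its commuting graph on elementary abelian subgroups of order ≥ 9 is connected. -/
theorem result {P : Type*} [Group P] [Finite P] (hP : IsPGroup 3 P) (hrk : ¬ Cfsg.PRankLE 3 3 P) : Cfsg.IsKConnected 3 2 P := by
  have hp := Nat.prime_three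
  have := Fact.mk hp
  have h1 := pig_top hp hP
  rw [prankle_top hp, not_le] at hrk
  obtain ⟨E, hE⟩ := exists_pnElem hp hrk
  obtain ⟨A, a1, a2⟩ := rank4_normal_abelem hp h1 (h1.odd_card hp (by decide)) hE
  obtain ⟨U, -, -, -, hU⟩ := S1337.result 3 hP (by rw [prankle_top hp]; omega)
  have k : ∀ X : Subgroup P, IsElementaryAbelian 3 X → 3 ^ 2 ≤ #X → ¬ PRankLE 3 2 C[X] := fun X h2 h3 h4 => by
    rw [prankle_iff hp] at h4
    replace h2 := abelem_iff.2 h2
    have b1 : #X = 3 ^ 2 := le_antisymm ((h2.card_le hp h2.abel).trans (Nat.pow_le_pow_right hp.pos h4)) h3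
    have b2 := pmax_of_pRank_C (H := ⊤) ⟨le_top, h2, b1⟩ hp (by rwa [top_inf_eq])
    obtain ⟨Z, z1, z2⟩ := exists_prime_sub hp
      (((OmZ_abelem 3 ⊤).pig hp).dvd (h1.OmZ_ne_bot (ne_bot_of_pRank hp hrk)))
    have z3 := z1.trans b2.OmZ_le
    obtain ⟨x, hx, x1⟩ := SetLike.exists_of_lt (z3.lt_of_ne fun e => by rw [e, b1] at z2; omega)
    have b3 : A ⊓ C1[x] ≤ X := b2.le_of le_top ((centY (cent_symm ((z1.trans (OmZ_cent 3 ⊤)).trans (centS le_top)))
      (C_zpowers x ▸ inf_le_right)).trans (centS (le_sup_zpowers_of_card (n := 1) hp z3 z2 b1 hx x1)))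
      (a1.ab.of_le inf_le_left)
    have b4 := Comp.card_le_cube_centralizer (abelem_iff.1 a1.ab) (a2 (mem_top x)) (h2.pow x hx)
    rcases b3.eq_or_lt with e | e
    · have := card_le (b2.le_of le_top (centSS a1.abel le_rfl (e ▸ inf_le_left)) a1.ab)
      rw [a1.card, b1] at this; omega
    · have := Nat.pow_le_pow_left (Nat.le_of_dvd (by norm_num) (card_dvd_of_lt_pow hp e b1.dvd)) 3
      rw [a1.card] at b4; omega
  intro X Y x1 x2 y1 y2
  exact ((hU X x1 x2).2 (k X x1 x2)).trans (Relation.ReflTransGen.mono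
    (fun A B ⟨a, b, c, d, e⟩ => ⟨c, d, a, b, fun x hx y hy => (e y hy x hx).symm⟩) _ _
    ((hU Y y1 y2).2 (k Y y1 y2)).swap)

end Cfsg.Agent.S1338
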