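import Cfsg.Statements.S1342
import Cfsg.Agent.Comp.ExtL

set_option autoImplicit false
open Cfsg

namespace Cfsg.Agent.S1342

open Cfsg.Agent.Comp Subgroup
open scoped commutatorElement


/-- For a finite group X, L*_{2'}(X) is normal in X. -/
theorem result {X : Type*} [Group X] [Finite X] : (Cfsg.extendedTwoLayer X).Normal := by
  obtain ⟨T, hT⟩ := exists_sylIn 2 (extR X)
  rw [← normalizer_eq_top_iff, eq_top_iff]
  intro g _
  apply mem_normalizer_of_map_conj_eq
  have h2 := hT.conj_self (extR_normalizer ⊤ (mem_top g))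
  conv_lhs => rw [extL_eq hT]
  rw [extL_eq h2, Subgroup.map_sup, Opp_map map_conj_inj, centralizer_map_conj,
    map_conj_eq_of_mem_normalizer (sup_normalizer' (PLay_normal ⊤) (Opp_normal ⊤) (mem_top g))]

end Cfsg.Agent.S1342
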