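import Cfsg.Statements.S1343
import Cfsg.Agent.Comp.ExtL

set_option autoImplicit false
open Cfsg

namespace Cfsg.Agent.S1343

open Cfsg.Agent.Comp Subgroup
open scoped commutatorElement


/-- Let X be finite. Then L*_{2'}(X) = L_{2'}(X) ⊔ F for some subgroup F of odd order normalized by a Sylow 2-subgroup of X. -/
theorem result {X : Type*} [Group X] [Finite X] : ∃ F : Subgroup X, Odd (Nat.card ↥F) ∧ (∃ S : Sylow 2 X, (S : Subgroup X) ≤ Subgroup.normalizer (F : Set X)) ∧ Cfsg.extendedTwoLayer X = Cfsg.pLayer 2 X ⊔ F := by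
  obtain ⟨S⟩ : Nonempty (Sylow 2 X) := inferInstance
  have hT := (sylIn_top S).inf_normal le_top (extR_normalizer _)
  refine ⟨Opp 2 ⊤ ⊔ Opp 2 (centralizer (((S : Subgroup X) ⊓ extR X : Subgroup X) : Set X)), ?_,
    ⟨S, ?_⟩, ?_⟩
  · rw [sup_comm]
    exact Nat.coprime_two_right.1 (coprime_card_sup (le_top.trans (Opp_normal ⊤)) (Opp_coprime _)
      (Opp_coprime _))
  · exact sup_normalizer' (le_top.trans (Opp_normal ⊤)) ((inf_normalizer' le_normalizer
      (extR_normalizer _)).trans ((centralizer_normalizer _).trans (Opp_normalizer _)))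
  · rw [extL_eq hT, ← PLay_top, sup_assoc]

end Cfsg.Agent.S1343
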