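import Cfsg.Statements.S1344
import Cfsg.Agent.Comp.ExtL

set_option autoImplicit false
open Cfsg

namespace Cfsg.Agent.S1344

open Cfsg.Agent.Comp Subgroup
open scoped commutatorElement


/-- Let K be a 2-component of the finite group X. Then K ≤ L*_{2'}(X) and K is normal in L*_{2'}(X). -/
theorem result {X : Type*} [Group X] [Finite X] (K : Subgroup X) (hK : Cfsg.IsPComponent 2 K) : K ≤ Cfsg.extendedTwoLayer X ∧ (K.subgroupOf (Cfsg.extendedTwoLayer X)).Normal := by
  obtain ⟨T, hT⟩ := exists_sylIn 2 (extR X)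
  have hK' := pcompIn_top.2 hK
  have h1 : K ≤ extendedTwoLayer X := by
    rw [extL_eq hT]; exact hK'.le_PLay.trans (le_sup_left.trans le_sup_left)
  refine ⟨h1, normal_subgroupOf_of_le_normalizer ?_⟩
  rw [extL_eq hT]
  refine sup_le (sup_le hK'.PLay_normalizes hK'.Opp_normalizes) (Opp_le.trans fun y hy => ?_)
  have h2 := hT.inf_normal (hK'.le_PLay.trans le_sup_left)
    (hT.le.trans (sup_le hK'.PLay_normalizes hK'.pPrimePCore_normalizes))
  have h3 := hK'.conj (le_normalizer (mem_top y))
  have h4 := hK'.2.le_of_sylIn h2 ((h3.1.inf' hK'.1).restrict inf_le_right le_top)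
    (le_inf (fun t ht => mem_map_conj.2 (by
      rw [mul_assoc, hy t ht.1]; simpa using ht.2)) inf_le_right)
  exact mem_normalizer_of_map_conj_eq (hK'.eq_of_le h3 (inf_eq_right.1 h4)).symm

end Cfsg.Agent.S1344
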