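import Cfsg.Statements.S1754
import Cfsg.Agent.Comp.Syl

set_option autoImplicit false
open Cfsg

namespace Cfsg.Agent.S1754

open Cfsg.Agent.Comp Subgroup
open scoped commutatorElement


/-- Let A be a standard subgroup of the finite group G (A quasisimple, C_G(A) tightly embedded of even order, A commuting elementwise with no other conjugate of itself, and N_G(A) = N_G(C_G(A))), and let t be an involution of G centralizing A. Then the centralizer of t lies in the normalizer of A; in particular A, viewed inside C_G(t), is a component of C_G(t). -/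
theorem result {G : Type*} [Group G] [Finite G]
    (A : Subgroup G) (hA : Cfsg.IsStandardSubgroup A) (t : G) (ht : orderOf t = 2) (htA : t ∈ Subgroup.centralizer (A : Set G)) :
    Subgroup.centralizer ({t} : Set G) ≤ Subgroup.normalizer (A : Set G) ∧
      Cfsg.IsComponent (A.subgroupOf (Subgroup.centralizer ({t} : Set G))) := by
  obtain ⟨h1, ⟨-, h2⟩, -, h4⟩ := hA
  have h5 : centralizer ({t} : Set G) ≤ normalizer (A : Set G) := by
    intro g hg
    rw [h4]
    by_contra hn
    have := h2 g hn
    have h6 : t ∈ centralizer (A : Set G) ⊓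
        (centralizer (A : Set G)).map (MulAut.conj g).toMonoidHom := ⟨htA, mem_map_conj.2 (by
      rwa [mul_assoc, ← mem_centralizer_singleton_iff.1 hg, inv_mul_cancel_left])⟩
    have h7 := orderOf_dvd_natCard _ h6
    rw [ht] at h7
    exact (Nat.not_even_iff_odd.2 this) (even_iff_two_dvd.2 h7)
  have h6 : A ≤ centralizer ({t} : Set G) := fun a ha =>
    mem_centralizer_singleton_iff.2 (htA a ha)
  exact ⟨h5, (compIn_iff.1 ⟨SubIn.of_normal h6 h5, qs_iff.2 h1⟩).2⟩

end Cfsg.Agent.S1754
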