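import Cfsg.Statements.S1349
import Cfsg.Agent.H8.Gold
import Cfsg.Agent.Inv.Basic

set_option autoImplicit false
open Cfsg

namespace Cfsg.Agent.S1349

open Cfsg.Agent.BG Cfsg.Agent.H8 Subgroup


/-- Let G be finite, L ≤ G solvable of odd order, and A an elementary abelian 2-subgroup of order 2^d (d ≥ 1) normalizing L with C_A(L) = 1. Then there are subgroups A_1, …, A_d of A of order 2 generating A and subgroups L_1, …, L_d of L such that each A_i ⊔ L_i is dihedral of order 2 n_i with n_i odd and at least 3, and A_i ⊔ L_i commutes elementwise with A_j ⊔ L_j for i ≠ j. -/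
theorem result {G : Type*} [Group G] [Finite G] (L A : Subgroup G) (hLs : Group.IsSolvable ↥L) (hLodd : Odd (Nat.card ↥L)) (hA : Cfsg.IsElementaryAbelian 2 A) (d : ℕ) (hd : 1 ≤ d) (hAd : Nat.card ↥A = 2 ^ d) (hAL : A ≤ Subgroup.normalizer (L : Set G)) (hfaith : A ⊓ Subgroup.centralizer (L : Set G) = ⊥) : ∃ (Ai : Fin d → Subgroup G) (Li : Fin d → Subgroup G) (n : Fin d → ℕ), (∀ i, Ai i ≤ A ∧ Nat.card ↥(Ai i) = 2 ∧ Li i ≤ L ∧ Odd (n i) ∧ 3 ≤ n i ∧ Nonempty (↥(Ai i ⊔ Li i) ≃* DihedralGroup (n i))) ∧ (⨆ i, Ai i) = A ∧ ∀ i j, i ≠ j → ∀ x ∈ Ai i ⊔ Li i, ∀ y ∈ Ai j ⊔ Li j, x * y = y * x := by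
  have hA' : Abelem 2 A := abelem_iff.2 hA
  have ho := pig_odd.2 hLodd
  obtain ⟨V, h1, h2, h3, h4⟩ := exists_faithful_abel hA' ho hLs hAL
  obtain ⟨b, y, h5, h6⟩ := dihedral_basis hA' h2 (ho.of_le h1) h3
    (le_bot_iff.1 (hfaith ▸ le_inf inf_le_left h4)) d A le_rfl hAd
  have hodd : ∀ i, Odd (orderOf (y i)) := fun i =>
    hLodd.of_dvd_nat (orderOf_dvd (h1 (h5 i).2.1))
  have hb2 : ∀ i, b i ^ 2 = 1 := fun i => hA.2 _ (h5 i).1
  have hne : ∀ i, b i * y i ≠ y i * b i := fun i e => (h5 i).2.2.1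
    ((pie_of_pow Nat.prime_two (by
      rw [sq, mul_eq_one_iff_eq_inv, ← (h5 i).2.2.2.1, e, mul_inv_cancel_right])).eq_one
      (ho.elt (h1 (h5 i).2.1)))
  have hb1 : ∀ i, b i ≠ 1 := fun i e => hne i (by rw [e, one_mul, mul_one])
  refine ⟨fun i => zpowers (b i), fun i => zpowers (y i), fun i => orderOf (y i), fun i =>
    ⟨zpowers_le.2 (h5 i).1, card_zpowers_of_pow Nat.prime_two (hb2 i) (hb1 i),
      zpowers_le.2 (h1 (h5 i).2.1), hodd i, ?_, ?_⟩,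
    le_antisymm (iSup_le fun i => zpowers_le.2 (h5 i).1) h6, fun i j hij x hx z hz => ?_⟩
  · have h7 := hodd i
    have h8 : orderOf (y i) ≠ 1 := fun e => (h5 i).2.2.1 (orderOf_eq_one_iff.1 e)
    obtain ⟨m, hm⟩ := h7
    show 3 ≤ orderOf (y i)
    omega
  · have := Inv.dihedral_equiv (a := y i) rfl (sq (b i) ▸ hb2 i) (h5 i).2.2.2.1
      fun h => hne i (zpowers_comm h (mem_zpowers _))
    rwa [Set.insert_eq, Subgroup.closure_union, ← zpowers_eq_closure, ← zpowers_eq_closure, sup_comm] at this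
  · refine mem_C_comm (A := zpowers (b i) ⊔ zpowers (y i)) (B := zpowers (b j) ⊔ zpowers (y j))
      (sup_le (centY ?_ ?_) (centY ?_ ?_)) hx hz <;> rw [C_zpowers, zpowers_le, mem_C1]
    · exact mem_C_comm hA'.abel (h5 i).1 (h5 j).1
    · exact mul_inv_eq_iff_eq_mul.1 ((h5 j).2.2.2.2.2 i hij)
    · exact (mul_inv_eq_iff_eq_mul.1 ((h5 i).2.2.2.2.2 j hij.symm)).symm
    · exact mem_C_comm h2 (h5 i).2.1 (h5 j).2.1

end Cfsg.Agent.S1349
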