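import Cfsg.Statements.S1397
import Cfsg.Agent.BG.S09

set_option autoImplicit false
open Cfsg

namespace Cfsg.Agent.S1397
open Subgroup Cfsg.Agent.BG

/-- Let G be a minimal simple group of odd order, M a maximal subgroup, p a prime and A₀ an elementary abelian p-subgroup of F(M) of order at least p ^ 3 that is maximal among elementary abelian p-subgroups of F(M). (a) If F(M) is not a p-group, then F(M) ∩ C_G(A₀) lies in exactly one maximal subgroup of G. (b) If F(M) is a p-group and P is a Sylow p-subgroup of M, then p does not divide the index of P in G, and every normal self-centralizing subgroup A of P containing an elementary abelian subgroup of order p ^ 3 is contained in F(M) and lies in exactly one maximal subgroup of G. -/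
theorem result {G : Type*} [Group G] [Finite G] (hG : Cfsg.IsMinSimpleOddOrder G)
    (M : Subgroup G) (hM : IsCoatom M) (p : ℕ) [Fact p.Prime] (A₀ : Subgroup G)
    (hA₀ : A₀ ≤ Cfsg.fittingOf M) (hA₀e : Cfsg.IsElementaryAbelian p A₀) (hA₀3 : p ^ 3 ≤ Nat.card A₀)
    (hA₀max : ∀ B : Subgroup G, B ≤ Cfsg.fittingOf M → Cfsg.IsElementaryAbelian p B → A₀ ≤ B → B = A₀) :
    (¬ IsPGroup p ↥(Cfsg.fittingOf M) → Cfsg.InUniqueMaximal (Cfsg.fittingOf M ⊓ Subgroup.centralizer (A₀ : Set G))) ∧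
      (IsPGroup p ↥(Cfsg.fittingOf M) → ∀ P : Sylow p M,
        ¬ p ∣ ((P : Subgroup M).map M.subtype).index ∧
        ∀ A : Subgroup G, Cfsg.IsSCN ((P : Subgroup M).map M.subtype) A → ¬ Cfsg.PRankLE p 2 ↥A →
          A ≤ Cfsg.fittingOf M ∧ Cfsg.InUniqueMaximal A) := by
  haveI : MSO G := ⟨hG⟩
  have hp : p.Prime := Fact.out
  have e := abelem_iff.2 hA₀e
  have hA : PMax p A₀ F[M] := ⟨hA₀, e, fun B a b c => hA₀max B a (abelem_iff.1 b) c⟩
  have h3 : 3 ≤ r[p](A₀) := by
    rw [e.card_eq hp] at hA₀3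
    exact (Nat.pow_le_pow_iff_right hp.one_lt).1 hA₀3
  refine ⟨fun h => inU_iff.1 (non_pcore_F_uniqueness hM hp (mt (pig_iff hp).1 h) hA h3), fun h P => ?_⟩
  obtain ⟨a, b⟩ := scn_F_uniqueness hM hp (pig_of_pg hp h) (syl_map hp P) (h3.trans (pRank_mono hp hA₀))
  refine ⟨by simpa using a.not_dvd hp, fun A i j => ?_⟩
  obtain ⟨c, d⟩ := b A (scn_iff.2 i) (not_le.1 (mt (prankle_iff hp).2 j))
  exact ⟨c, inU_iff.1 d⟩

end Cfsg.Agent.S1397
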