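import Cfsg.Statements.S1405
import Cfsg.Agent.BG.S10a

set_option autoImplicit false
open Cfsg

namespace Cfsg.Agent.S1405

open Subgroup Cfsg.Agent.BG Cfsg.Agent.BG.PHom

/-- Let G be a minimal simple group of odd order and M a maximal subgroup, α(M) the set of primes p with M of p-rank at least 3, and M_α = O_{α(M)}(M). Then M_α is a Hall α(M)-subgroup of M and of G, M_α ≤ M_σ, the quotient M/M_α has no elementary abelian subgroup of order p ^ 3 for any prime p, and the image of M' in M/M_α is nilpotent. -/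
theorem result {G : Type*} [Group G] [Finite G] (hG : Cfsg.IsMinSimpleOddOrder G)
    (M : Subgroup G) (hM : IsCoatom M) :
    Cfsg.IsPiHallOf (Cfsg.alpha M) (Cfsg.alphaCore M) M ∧ Cfsg.IsPiHall (Cfsg.alpha M) (Cfsg.alphaCore M) ∧
      Cfsg.alphaCore M ≤ Cfsg.sigmaCore M ∧ Cfsg.RankLE 2 (↥M ⧸ Cfsg.piCore (Cfsg.alpha M) ↥M) ∧
      Group.IsNilpotent ↥((commutator ↥M).map (QuotientGroup.mk' (Cfsg.piCore (Cfsg.alpha M) ↥M))) := by
  haveI : MSO G := ⟨hG⟩
  have hN : M ≤ N[Mα[M]] := O_norm _ _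
  have hk : ∀ A : Subgroup G, A ⊓ (quo Mα[M]).ker = A ⊓ (mquo M (piCore α[M] M)).ker := fun A => by
    rw [quo_ker, mquo_ker]; rfl
  refine ⟨(Malpha_hall hM).of, hall_top_iff.1 (Malpha_hall_top hM), Malpha_le_Msigma hM, ?_, ?_⟩
  · obtain ⟨e⟩ := exists_equiv_im (φ := quo Mα[M]) (ψ := mquo M (piCore α[M] M)) hN le_rfl (hk M)
    rw [rankle_top, ← mquo_top, ← rank_equiv e]
    exact Malpha_quo_rank2 hM
  · obtain ⟨e⟩ := exists_equiv_im (φ := quo Mα[M]) (ψ := mquo M (piCore α[M] M)) ((der_le M).trans hN) (der_le M) (hk _)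
    have h := (Malpha_quo_nil hM).equiv e
    rw [← map_subtype_commutator] at h
    exact (im_map (φ := mquo M (piCore α[M] M)) (commutator M)) ▸ h

end Cfsg.Agent.S1405
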