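import Cfsg.Statements.S1414
import Cfsg.Agent.BG.S10b

set_option autoImplicit false
open Cfsg

namespace Cfsg.Agent.S1414

open Subgroup Cfsg.Agent.BG

/-- Let G be a minimal simple group of odd order, M a maximal subgroup, β(M) the set of ideal primes in α(M), and M_β = O_{β(M)}(M). Then M_β is a Hall β(M)-subgroup of M and of G; M' and M_σ each have a nilpotent Hall β(M)'-subgroup; and for each prime p dividing the order of M with p ∉ β(M), both M' and M_σ have normal p-complements and every prime dividing the index of O_{p'}(M) in M is at most p. -/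
theorem result {G : Type*} [Group G] [Finite G] (hG : Cfsg.IsMinSimpleOddOrder G)
    (M : Subgroup G) (hM : IsCoatom M) :
    Cfsg.IsPiHallOf (Cfsg.beta M) (Cfsg.piCoreOf (Cfsg.beta M) M) M ∧ Cfsg.IsPiHall (Cfsg.beta M) (Cfsg.piCoreOf (Cfsg.beta M) M) ∧
      (∃ H : Subgroup G, Cfsg.IsPiHallOf {q | q.Prime ∧ q ∉ Cfsg.beta M} H ⁅M, M⁆ ∧ Group.IsNilpotent H) ∧
      (∃ H : Subgroup G, Cfsg.IsPiHallOf {q | q.Prime ∧ q ∉ Cfsg.beta M} H (Cfsg.sigmaCore M) ∧ Group.IsNilpotent H) ∧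
      ∀ p : ℕ, p.Prime → p ∣ Nat.card M → p ∉ Cfsg.beta M →
        Cfsg.HasNormalPComplement p ↥⁅M, M⁆ ∧ Cfsg.HasNormalPComplement p ↥(Cfsg.sigmaCore M) ∧
        ∀ q : ℕ, q.Prime → q ∣ (Cfsg.pPrimeCore p ↥M).index → q ≤ p := by
  have : MSO G := ⟨hG⟩
  have key : ∀ K ≤ ⁅M, M⁆, ∃ H : Subgroup G, IsPiHallOf {q | q.Prime ∧ q ∉ β[M]} H K ∧ Group.IsNilpotent H :=
    fun K hK => by
      obtain ⟨H, hH⟩ := hall_exists {q | q.Prime ∧ q ∉ β[M]} (sol_of_le hM (hK.trans (der_le M)))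
      exact ⟨H, hH.of, beta'_der_nil hM (hH.pi.mono fun _ h => h.2) (hH.le.trans hK)⟩
  refine ⟨(Mbeta_hall hM).of, hall_top_iff.1 (Mbeta_hall_top hM), key _ le_rfl, key _ (Msigma_le_der hM),
    fun p hp _ h => ?_⟩
  obtain ⟨a, b, c⟩ := beta_max_pdiv hM hp h
  refine ⟨(pnil_iff hp).2 a, (pnil_iff hp).2 b, fun q hq hd => c q hq ?_⟩
  rwa [← pPrimeCore_map hp, relIndex, ← comap_subtype, comap_map_eq_self_of_injective M.subtype_injective]

end Cfsg.Agent.S1414
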