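import Cfsg.Statements.S1448
import Cfsg.Agent.BG.XTop2

set_option autoImplicit false
open Cfsg

namespace Cfsg.Agent.S1448

/-- Let G be a finite group, p an odd prime, R a nontrivial p-subgroup with no elementary abelian subgroup of order p ^ 3, and A a subgroup of odd order coprime to p normalizing R with [R, A] = R. Then 3 < p, and either R is abelian or R is generated by two elementwise-commuting subgroups R₁, R₂ with R₁ non-abelian of order p ^ 3 and exponent p, R₂ cyclic, and the elements of R₂ of order dividing p generating exactly [R₁, R₁]. -/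
theorem result {G : Type*} [Group G] [Finite G] (p : ℕ) [Fact p.Prime] (hp : p ≠ 2) (R A : Subgroup G) (hR : IsPGroup p R) (hR1 : R ≠ ⊥) (hr : Cfsg.PRankLE p 2 R)
    (hA : (A ≤ Subgroup.normalizer (R : Set G))) (hcop : (Nat.card A).Coprime p) (hAodd : Odd (Nat.card A)) (hRA : ⁅R, A⁆ = R) :
    3 < p ∧ (IsMulCommutative R ∨ ∃ R₁ R₂ : Subgroup G, R₁ ⊔ R₂ = R ∧ (∀ a ∈ R₁, ∀ b ∈ R₂, a * b = b * a) ∧
        ¬ IsMulCommutative R₁ ∧ Nat.card R₁ = p ^ 3 ∧ Monoid.exponent R₁ = p ∧ IsCyclic R₂ ∧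
        Subgroup.closure {x : G | x ∈ R₂ ∧ x ^ p = 1} = ⁅R₁, R₁⁆) := by
  open Cfsg.Agent.BG Cfsg.Agent.BG.PHom Subgroup in
  open scoped commutatorElement in
  focus
    have hp' : p.Prime := Fact.out
    have h1 := pig_of_pg hp' hR
    refine (rank2_cop_comm_cprod h1 (h1.odd_card hp' hp) hR1 ((prankle_iff hp').1 hr) hRA
      (pin_compl_of_cop hp' hcop) hAodd).imp_right (Or.imp (·.comm) ?_)
    rintro ⟨S, D, a1, a2, a3, a4, a5, a6, a7⟩
    refine ⟨S, D, a1, le_C_iff.1 (cent_symm a2), fun e => a3 (abel_of e), a4, ?_, a6, a7⟩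
    refine ((Nat.dvd_prime hp').1 (exp_dvd_iff.2 a5)).resolve_left fun e => a3 (le_C_iff.2 fun x hx y _ => ?_)
    have := exp_dvd_iff.1 e.dvd x hx
    rw [pow_one] at this
    rw [this, one_mul, mul_one]

end Cfsg.Agent.S1448
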