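import Cfsg.Statements.S1449
import Cfsg.Agent.BG.XTop2

set_option autoImplicit false
open Cfsg

namespace Cfsg.Agent.S1449

/-- Let G be a finite group, p an odd prime, R a p-subgroup with no elementary abelian subgroup of order p ^ 3, and A a solvable subgroup of odd order normalizing R with A ∩ C_G(R) = 1. Then the derived subgroup [A, A] is a p-group. -/
theorem result {G : Type*} [Group G] [Finite G] (p : ℕ) [Fact p.Prime] (hp : p ≠ 2) (R A : Subgroup G) (hR : IsPGroup p R) (hr : Cfsg.PRankLE p 2 R)
    (hA : (A ≤ Subgroup.normalizer (R : Set G))) (hAs : Group.IsSolvable A) (hAodd : Odd (Nat.card A)) (hfaith : A ⊓ Subgroup.centralizer (R : Set G) = ⊥) :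
    IsPGroup p ↥⁅A, A⁆ := by
  open Cfsg.Agent.BG Cfsg.Agent.BG.PHom Subgroup in
  open scoped commutatorElement in
  focus
    have hp' : p.Prime := Fact.out
    have h1 := pig_of_pg hp' hR
    have := der_aut_rank2' hp' h1 (h1.odd_card hp' hp) ((prankle_iff hp').1 hr) hA hAodd
    rw [← inf_relIndex_right, eq_bot_iff.2 (hfaith ▸ le_inf (inf_le_right.trans (der_le A)) inf_le_left :
      C[R] ⊓ ⁅A, A⁆ ≤ ⊥), relIndex_bot_left] at this
    exact PiG.pg this hp'

end Cfsg.Agent.S1449
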