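import Cfsg.Statements.S1450
import Cfsg.Agent.BG.XTop2

set_option autoImplicit false
open Cfsg

namespace Cfsg.Agent.S1450

/-- Let G be a solvable group of odd order, p a prime dividing its order with G having no elementary abelian subgroup of order p ^ 3. Then every prime dividing the index of O_{p'}(G) is at most p; if p = 3 or p is the smallest prime divisor of #G then G has a normal p-complement; the derived subgroup G' has a normal p-complement; every subgroup of G' of order coprime to p lies in O_{p'}(G'); and G/O_{p',p}(G) is abelian of order coprime to p. -/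
theorem result {G : Type*} [Group G] [Finite G] [Group.IsSolvable G] (hodd : Odd (Nat.card G)) (p : ℕ) [Fact p.Prime] (hpG : p ∣ Nat.card G) (hr : Cfsg.PRankLE p 2 G) :
    (∀ q : ℕ, q.Prime → q ∣ (Cfsg.pPrimeCore p G).index → q ≤ p) ∧
      ((p = 3 ∨ ∀ q : ℕ, q.Prime → q ∣ Nat.card G → p ≤ q) → Cfsg.HasNormalPComplement p G) ∧
      Cfsg.HasNormalPComplement p ↥(commutator G) ∧
      (∀ L : Subgroup ↥(commutator G), (Nat.card L).Coprime p → L ≤ Cfsg.pPrimeCore p ↥(commutator G)) ∧
      commutator G ≤ Cfsg.pPrimePCore p G ∧ ((Cfsg.pPrimePCore p G).index).Coprime p := by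
  open Cfsg.Agent.BG Cfsg.Agent.BG.PHom Subgroup in
  open scoped commutatorElement in
  focus
    have hp' : p.Prime := Fact.out
    have hs : Sol (⊤ : Subgroup G) := sol_top.2 inferInstance
    have ho : Odd #(⊤ : Subgroup G) := by rwa [card_top]
    have h := (prankle_top hp').1 hr
    obtain ⟨a1, a2, a3⟩ := rank2_der_compl hp' hs ho h
    refine ⟨fun q hq e => rank2_max_pdiv hp' hs ho h hq (by rwa [relIndex_top_right, ← pPrimeCore_eq hp']),
      fun e => (pnil_top hp').2 (rank2_min_pnil hp' hs ho h (by rwa [card_top])), (pnil_iff hp').2 a1,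
      le_pPrimeCore_of_pnil hp' a1, O2_top (G := G) hp' ▸ a2, ?_⟩
    rw [PL1, relIndex_top_right, O2_top hp'] at a3
    exact (pin_compl_cop hp').1 a3

end Cfsg.Agent.S1450
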