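import Cfsg.Statements.S1451
import Cfsg.Agent.BG.XTop2

set_option autoImplicit false
open Cfsg

namespace Cfsg.Agent.S1451

/-- Let G be a solvable group of odd order such that G, or its Fitting subgroup, has no elementary abelian subgroup of order q ^ 3 for any prime q. Then G' is nilpotent; for every Sylow subgroup S of G, every characteristic subgroup T of S with T ≤ [S, S] is normal in G; and for every prime p, G has a characteristic subgroup that is a Hall subgroup for the set of primes greater than p. -/
theorem result {G : Type*} [Group G] [Finite G] [Group.IsSolvable G] (hodd : Odd (Nat.card G)) (hr : Cfsg.RankLE 2 G ∨ Cfsg.RankLE 2 (Cfsg.fittingSubgroup G)) :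
    Group.IsNilpotent ↥(commutator G) ∧
      (∀ (q : ℕ) [Fact q.Prime] (S : Sylow q G) (T : Subgroup ↥(S : Subgroup G)), T.Characteristic → T.map (S : Subgroup G).subtype ≤ ⁅(S : Subgroup G), (S : Subgroup G)⁆ →
        (T.map (S : Subgroup G).subtype).Normal) ∧
      ∀ p : ℕ, ∃ N : Subgroup G, N.Characteristic ∧ Cfsg.IsPiHall {q | q.Prime ∧ p < q} N := by
  open Cfsg.Agent.BG Cfsg.Agent.BG.PHom Subgroup in
  open scoped commutatorElement in
  focus
    have hs : Sol (⊤ : Subgroup G) := sol_top.2 inferInstance
    have ho : Odd #(⊤ : Subgroup G) := by rwa [card_top]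
    have h : r(F[(⊤ : Subgroup G)]) ≤ 2 := hr.elim (fun e => (rank_mono le_top).trans (rankle_top.1 e))
      fun e => F_top (G := G) ▸ rankle_iff.1 e
    refine ⟨(F_nil ⊤).of_le (rank2_der_le_F ho hs h), fun q hq S T a b => normal_iff.2
      (rank2_char_syl_normal hq.out ho hs h (syl_top hq.out S) (inf_le_right.trans (norm_of_char T a)) b),
      fun p => ⟨_, char_O_top _, hall_top_iff.1 ((rank2_ge_hall ho hs h (p + 1)).congr fun q hq _ => ?_)⟩⟩
    exact ⟨fun e => ⟨hq, e⟩, fun e => e.2⟩

end Cfsg.Agent.S1451
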