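import Cfsg.Statements.S1452
import Cfsg.Agent.BG.XTop2

set_option autoImplicit false
open Cfsg

namespace Cfsg.Agent.S1452

/-- Let p be an odd prime and R a finite p-group containing an elementary abelian subgroup of order p ^ 3. If E is a normal elementary abelian subgroup of R of order p ^ 2, then E ≤ A for some normal subgroup A of R with C_R(A) = A that contains an elementary abelian subgroup of order p ^ 3. -/
theorem result {R : Type*} [Group R] [Finite R] (p : ℕ) [Fact p.Prime] (hp : p ≠ 2) (hR : IsPGroup p R) (hr : ¬ Cfsg.PRankLE p 2 R)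
    (E : Subgroup R) [E.Normal] (hE : Cfsg.IsElementaryAbelian p E) (hE2 : Nat.card E = p ^ 2) :
    ∃ A : Subgroup R, E ≤ A ∧ A.Normal ∧ Subgroup.centralizer (A : Set R) = A ∧ ¬ Cfsg.PRankLE p 2 A := by
  open Cfsg.Agent.BG Cfsg.Agent.BG.PHom Subgroup in
  open scoped commutatorElement in
  focus
    have hp' : p.Prime := Fact.out
    have h1 := pig_top hp' hR
    obtain ⟨B, a1, a2, a3⟩ := normal_p2Elem_scn3 h1 (h1.odd_card hp' hp) (not_le.1 (mt (prankle_top hp').2 hr))
      ⟨le_top, abelem_iff.2 hE, hE2⟩ (norm_of_normal _)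
    exact ⟨B, a3, normal_iff.2 a1.norm, by simpa using a1.cent, by rw [prankle_iff hp']; omega⟩

end Cfsg.Agent.S1452
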