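import Cfsg.Statements.S1458
import Cfsg.Agent.BG.AppA
import Cfsg.Agent.PLoc.Hol

set_option autoImplicit false
open Cfsg

namespace Cfsg.Agent.S1458
open Subgroup Cfsg.Agent.BG

/-- Let G be a solvable group of odd order, p a prime and S a Sylow p-subgroup of G. Then the subgroup generated by the centre of the Thompson subgroup of S and O_{p'}(G) is normal in G. -/
theorem result {G : Type*} [Group G] [Finite G] [Group.IsSolvable G] (hodd : Odd (Nat.card G)) (p : ℕ) [Fact p.Prime] (S : Sylow p G) :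
    (Cfsg.centerThompsonOf p (S : Subgroup G) ⊔ Cfsg.pPrimeCore p G).Normal := by
  have hp' : p.Prime := Fact.out
  by_cases h2 : p = 2
  · subst h2
    have : (S : Subgroup G) = ⊥ := (syl_top hp' S).pi.eq_bot_of_odd (H := ⊤) (by rwa [card_top]) le_top
    rw [PLoc.centerThompsonOf_eq, eq_bot_iff.2 ((PLoc.ZcOf_le (e := 2) (S : Subgroup G)).trans this.le), bot_sup_eq]
    infer_instance
  have ho : Odd (Nat.card (G ⧸ pPrimeCore p G)) := hodd.of_dvd_nat (card_quotient_dvd_card _)
  have hS := ((syl_top hp' S).map (QuotientGroup.mk' (pPrimeCore p G)))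
  rw [map_top_of_surjective _ (QuotientGroup.mk'_surjective _)] at hS
  have hc := PLoc.isPConstrained_iff.1 (PLoc.isPConstrained_of_isPSolvable
    (PLoc.isPSolvable_of_isSolvable (p := p) (inferInstance : Group.IsSolvable G)))
  have a := PLoc.ZcOf_normal h2 (PLoc.stabN_of_abSyl2 h2 (abSyl2_of_odd ho)) hc ((syl_iff' hp').1 hS)
  rw [← PLoc.map_ZcOf (PLoc.inj_on_mk_of_coprime (p := p) (by
    rw [pPrimeCore_eq hp']; exact (pin_compl_cop hp').1 (O_pig _ _)) S.isPGroup')] at a
  have b := a.comap (QuotientGroup.mk' (pPrimeCore p G))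
  rwa [comap_map_eq, QuotientGroup.ker_mk', ← PLoc.centerThompsonOf_eq] at b

end Cfsg.Agent.S1458
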