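import Cfsg.Statements.S1463
import Cfsg.Agent.BG.S02

set_option autoImplicit false
open scoped MatrixGroups
open Cfsg

namespace Cfsg.Agent.S1463
open Subgroup Cfsg.Agent.BG Cfsg.Agent.Class Matrix

/-- Let F be a field of odd characteristic p and H a finite subgroup of odd order of GL(2, F) that leaves no 1-dimensional subspace of F² invariant. Then p does not divide the order of H. -/
theorem result {F : Type*} [Field F] (p : ℕ) [Fact p.Prime] [CharP F p] (hp : p ≠ 2)
    (H : Subgroup (GL (Fin 2) F)) [Finite H] (hodd : Odd (Nat.card H))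
    (hirr : ∀ v : Fin 2 → F, v ≠ 0 → ∃ g ∈ H, (g : Matrix (Fin 2) (Fin 2) F).mulVec v ∉ Submodule.span F {v}) :
    ¬ p ∣ Nat.card H := by
  intro hd
  have hp' : p.Prime := Fact.out
  obtain ⟨g, hg⟩ := exists_prime_orderOf_dvd_card' p hd
  obtain ⟨x, hx⟩ := odd_gl2_fix p H.subtype hodd
  have g1 : (g : GL (Fin 2) F) ^ p = 1 := by rw [← H.coe_pow, ← hg, pow_orderOf_eq_one]; rfl
  have g2 : ((g : GL (Fin 2) F).1 - 1) ^ p = 0 := by
    rw [sub_pow_char_of_commute _ (Commute.one_right _), ← Units.val_pow_eq_pow_val, g1]; simp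
  obtain ⟨v, v0, hv⟩ := (Matrix.exists_mulVec_eq_zero_iff (M := (g : GL (Fin 2) F).1 - 1)).2 (by
    have := congrArg det g2
    rw [det_pow, det_zero] at this
    exact pow_eq_zero_iff hp'.ne_zero |>.1 this)
  rw [sub_mulVec, one_mulVec, sub_eq_zero] at hv
  have a : (g : GL (Fin 2) F) • Projectivization.mk F v v0 = Projectivization.mk F v v0 := by
    rw [gl_smul_pmk_iff]
    have h0 := congrFun hv 0
    have h1 := congrFun hv 1
    simp only [mulVec, dotProduct, Fin.sum_univ_two] at h0 h1
    rw [h0, h1, mul_comm]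
  have e : pmap (algebraMap F (AlgebraicClosure F)) (Projectivization.mk F v v0) = x := by
    by_contra hn
    have := uni_gl_free p ((mem_uni_gl p).2 ⟨hx g, by rw [← map_pow]; exact (congrArg _ g1).trans (map_one _)⟩) hn
      (by rw [show H.subtype g = g from rfl, ← pmap_smul, a])
    have b : (g : GL (Fin 2) F) = 1 := by
      ext i j
      apply (algebraMap F (AlgebraicClosure F)).injective
      have e := congrArg (fun A : GL (Fin 2) (AlgebraicClosure F) => A i j) this
      simp only [GeneralLinearGroup.map_apply] at e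
      refine e.trans ?_
      by_cases h : i = j <;> simp [h, Matrix.one_apply]
    rw [show g = 1 from Subtype.ext b, orderOf_one] at hg
    exact hp'.one_lt.ne hg
  obtain ⟨h, h1, h2⟩ := hirr v v0
  have c : h • Projectivization.mk F v v0 = Projectivization.mk F v v0 := by
    apply pmap_injective (algebraMap F (AlgebraicClosure F))
    rw [pmap_smul, e]; exact hx ⟨h, h1⟩
  rw [Projectivization.smul_mk, Projectivization.mk_eq_mk_iff] at c
  obtain ⟨u, hu⟩ := c
  exact h2 (Submodule.mem_span_singleton.2 ⟨u, hu⟩)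

end Cfsg.Agent.S1463
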