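import Cfsg.Statements.S1464
import Cfsg.Agent.BG.AppA

set_option autoImplicit false
open Cfsg

namespace Cfsg.Agent.S1464
open Subgroup Cfsg.Agent.BG

/-- Let p be an odd prime and G a solvable group of odd order, P a p-subgroup with O_{p'}(G)P normal in G, and A a p-subgroup of N_G(P) with [[P, A], A] = 1. Then the image of A in the quotient N_G(P)/C_G(P) is contained in the p-core of that quotient. -/
theorem result {G : Type*} [Group G] [Finite G] [Group.IsSolvable G] (hodd : Odd (Nat.card G)) (p : ℕ) [Fact p.Prime] (hp : p ≠ 2) (P A : Subgroup G) (hP : IsPGroup p P) (hPn : (Cfsg.pPrimeCore p G ⊔ P).Normal)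
    (hA : IsPGroup p A) (hAN : A ≤ Subgroup.normalizer (P : Set G)) (hquad : ⁅⁅P, A⁆, A⁆ = ⊥) :
    (A.subgroupOf (Subgroup.normalizer (P : Set G))).map
        (QuotientGroup.mk' ((Subgroup.centralizer (P : Set G)).subgroupOf (Subgroup.normalizer (P : Set G))))
      ≤ Cfsg.pCore p _ := by
  have hp' : p.Prime := Fact.out
  refine (PLoc.inOp_iff_subgroupOf hAN).2 ((inOp_of_le_OM hp' inf_le_left (normI (normG _) (normC le_rfl))
    (odd_stable hp' (hodd.of_dvd_nat (card_subgroup_dvd_card _)) (pig_of_pg hp' hP) (normG P) le_rfl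
      (pig_of_pg hp' hA) hAN hquad)).mono le_rfl inf_le_right)

end Cfsg.Agent.S1464
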