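import Cfsg.Statements.S1465
import Cfsg.Agent.BG.AppA

set_option autoImplicit false
open Cfsg

namespace Cfsg.Agent.S1465
open Subgroup Cfsg.Agent.BG

/-- Let p be an odd prime, G a solvable group of odd order, P a normal p-subgroup of G, and X the subgroup generated by a family of abelian p-subgroups of G each normalized by P. Then the image of X in G/C_G(P) lies in O_p(G/C_G(P)); and if O_{p'}(G) = 1 and O_p(G) ∩ C_G(P) ≤ P then X ≤ O_p(G). -/
theorem result {G : Type*} [Group G] [Finite G] [Group.IsSolvable G] (hodd : Odd (Nat.card G)) (p : ℕ) [Fact p.Prime] (hp : p ≠ 2) (P : Subgroup G) [P.Normal] (hP : IsPGroup p P)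
    (S : Set (Subgroup G)) (hS : ∀ B ∈ S, IsMulCommutative B ∧ IsPGroup p B ∧ P ≤ Subgroup.normalizer (B : Set G)) :
    (sSup S).map (QuotientGroup.mk' (Subgroup.centralizer (P : Set G))) ≤ Cfsg.pCore p (G ⧸ Subgroup.centralizer (P : Set G)) ∧
      (Cfsg.pPrimeCore p G = ⊥ → Cfsg.pCore p G ⊓ Subgroup.centralizer (P : Set G) ≤ P → sSup S ≤ Cfsg.pCore p G) := by
  have hp' : p.Prime := Fact.out
  have ho : Odd #(⊤ : Subgroup G) := by rwa [card_top]
  refine ⟨map_le_iff_le_comap.2 (sSup_le fun B hB => PLoc.inOp_top_iff.1 ?_), fun h1 h2 => sSup_le fun B hB => ?_⟩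
  · exact (inOp_of_le_OM hp' inf_le_left (normI (normG _) (normC (norm_of_normal _)))
      (odd_abel_gen_stable hp' ho (pig_of_pg hp' hP) le_top (norm_of_normal _) (pig_of_pg hp' (hS B hB).2.1) le_top
        (abel_of (hS B hB).1) (hS B hB).2.2)).mono le_rfl inf_le_right
  · rw [pCore_eq hp'] at h2 ⊢
    rw [pPrimeCore_eq hp'] at h1
    exact odd_abel_gen_constrained hp' ho (sol_top.2 inferInstance) (pig_of_pg hp' hP) le_top (norm_of_normal _) h1 h2
      (pig_of_pg hp' (hS B hB).2.1) le_top (abel_of (hS B hB).1) (hS B hB).2.2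

end Cfsg.Agent.S1465
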