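import Cfsg.Statements.S1466
import Cfsg.Agent.BG.AppB

set_option autoImplicit false
open Cfsg

namespace Cfsg.Agent.S1466
open Subgroup Cfsg.Agent.BG

/-- Let p be a prime and R a nontrivial finite p-group. Then for every i > 0, Z(R) ≤ C_R(L_i(R)) ≤ L_i(R); likewise Z(R) ≤ C_R(L_*(R)) ≤ L_*(R) and Z(R) ≤ C_R(L(R)) ≤ L(R); and L(R) ≠ 1, L_*(R) ≠ 1. -/
theorem result {R : Type*} [Group R] [Finite R] (p : ℕ) [Fact p.Prime] (hR : IsPGroup p R) [Nontrivial R] :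
    (∀ i : ℕ, 0 < i → Subgroup.center R ≤ Subgroup.centralizer ((Cfsg.puigSeq R i : Subgroup R) : Set R) ∧
        Subgroup.centralizer ((Cfsg.puigSeq R i : Subgroup R) : Set R) ≤ Cfsg.puigSeq R i) ∧
      (Subgroup.center R ≤ Subgroup.centralizer ((Cfsg.puigLower R : Subgroup R) : Set R) ∧ Subgroup.centralizer ((Cfsg.puigLower R : Subgroup R) : Set R) ≤ Cfsg.puigLower R) ∧
      (Subgroup.center R ≤ Subgroup.centralizer ((Cfsg.puigSubgroup R : Subgroup R) : Set R) ∧ Subgroup.centralizer ((Cfsg.puigSubgroup R : Subgroup R) : Set R) ≤ Cfsg.puigSubgroup R) ∧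
      Cfsg.puigSubgroup R ≠ ⊥ ∧ Cfsg.puigLower R ≠ ⊥ := by
  have hp' : p.Prime := Fact.out
  have hN : Nil (⊤ : Subgroup R) := nil_top.2 hR.isNilpotent
  have key : ∀ K : Subgroup R, (∀ A, A ≤ ⊤ → ⊤ ≤ N[A] → Abel A → A ≤ K) → center R ≤ C[K] ∧ C[K] ≤ K :=
    fun K h => ⟨center_le_centralizer _, by simpa using hN.C_le_of h⟩
  have ne : ∀ K : Subgroup R, C[K] ≤ K → K ≠ ⊥ := fun K h e => by
    rw [e, C_bot] at h; exact absurd (top_le_iff.1 h) bot_ne_top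
  rw [puigLower_eq, puigSubgroup_eq]
  have a := key _ fun _ => le_PuigL_of_abel
  have b := key _ fun _ => le_Puig_of_abel
  refine ⟨fun i hi => ?_, a, b, ne _ b.2, ne _ a.2⟩
  obtain ⟨j, rfl⟩ : ∃ j, i = j + 1 := ⟨i - 1, by omega⟩
  rw [puigSeq_eq]
  exact key _ fun A a b c => le_LSeq_of_abel a b c j

end Cfsg.Agent.S1466
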