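import Cfsg.Statements.S1469
import Cfsg.Agent.BG.AppB

set_option autoImplicit false
open Cfsg

namespace Cfsg.Agent.S1469
open Subgroup Cfsg.Agent.BG

/-- Let p be an odd prime, G a solvable group of odd order and S a Sylow p-subgroup, and let Z be the centre of the Puig subgroup L(S), viewed inside G. Then G is generated by O_{p'}(G) and N_G(Z); and if O_{p'}(G) = 1 then Z is normal in G. -/
theorem result {G : Type*} [Group G] [Finite G] [Group.IsSolvable G] (hodd : Odd (Nat.card G)) (p : ℕ) [Fact p.Prime] (hp : p ≠ 2) (S : Sylow p G) :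
    Cfsg.pPrimeCore p G ⊔ Subgroup.normalizer ((((Subgroup.center ↥(Cfsg.puigSubgroup ↥(S : Subgroup G))).map (Cfsg.puigSubgroup ↥(S : Subgroup G)).subtype).map (S : Subgroup G).subtype : Subgroup G) : Set G) = ⊤ ∧
      (Cfsg.pPrimeCore p G = ⊥ → (((Subgroup.center ↥(Cfsg.puigSubgroup ↥(S : Subgroup G))).map (Cfsg.puigSubgroup ↥(S : Subgroup G)).subtype).map (S : Subgroup G).subtype).Normal) := by
  have hp' : p.Prime := Fact.out
  have e : ((center ↥(puigSubgroup ↥(S : Subgroup G))).map (puigSubgroup ↥(S : Subgroup G)).subtype).map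
      (S : Subgroup G).subtype = Z[Puig (S : Subgroup G)] := by
    rw [← puigSubgroup_map]
    refine le_antisymm ?_ ?_
    · rintro _ ⟨_, ⟨x, hx, rfl⟩, rfl⟩
      refine ⟨mem_map_of_mem _ x.2, mem_C.2 ?_⟩
      rintro _ ⟨y, hy, rfl⟩
      exact congrArg (fun z => ((z : puigSubgroup ↥(S : Subgroup G)) : G)) (mem_center_iff.1 hx ⟨y, hy⟩)
    · rintro _ ⟨⟨x, hx, rfl⟩, h⟩
      refine ⟨x, ⟨⟨x, hx⟩, mem_center_iff.2 fun y => Subtype.ext (Subtype.ext ?_), rfl⟩, rfl⟩
      exact mem_C.1 h _ (mem_map_of_mem _ y.2)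
  have ho : Odd #(⊤ : Subgroup G) := by rwa [card_top]
  rw [e, pPrimeCore_eq hp']
  refine ⟨?_, fun h => normal_iff.2 (ZPuig_normal hp' ho (sol_top.2 inferInstance) (syl_top hp' S) h)⟩
  simpa using (Puig_factor hp' ho (sol_top.2 inferInstance) (syl_top hp' S)).sup

end Cfsg.Agent.S1469
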