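import Cfsg.Statements.S1476
import Cfsg.Agent.BG.CN

set_option autoImplicit false
open Cfsg

namespace Cfsg.Agent.S1476



/-- Let G be a finite solvable group in which every non-identity element has nilpotent centralizer. Then either G is nilpotent; or G has a normal subgroup K with a Frobenius complement E (K E = G, K ∩ E = 1, E meets its conjugates by outside elements trivially) such that E is cyclic or E is generated by two elementwise-commuting subgroups, one cyclic of odd order and one isomorphic to a generalized quaternion group; or G is a three-step group with respect to some prime p. -/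
theorem result {G : Type*} [Group G] [Finite G] [Group.IsSolvable G] (hCN : Cfsg.IsCNGroup G) :
    Group.IsNilpotent G ∨
      (∃ K E : Subgroup G, K.Normal ∧ Subgroup.IsComplement' K E ∧ Cfsg.IsFrobeniusComplement E ∧
        (IsCyclic E ∨ ∃ C Q : Subgroup G, C ⊔ Q = E ∧ (∀ a ∈ C, ∀ b ∈ Q, a * b = b * a) ∧ IsCyclic C ∧ Odd (Nat.card C) ∧
          ∃ n : ℕ, Nonempty (↥Q ≃* QuaternionGroup (2 ^ n)))) ∨
      ∃ p : ℕ, p.Prime ∧ Cfsg.IsThreeStepGroup p G := by
  by_cases hn : BG.Nil (⊤ : Subgroup G)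
  · exact Or.inl (BG.nil_top.1 hn)
  by_cases h0 : ∀ p, p.Prime → ∀ P : Subgroup G, BG.Syl p P ⊤ → ⊤ ≤ Subgroup.normalizer (P : Set G) → P = ⊥
  · exact Or.inr (Or.inr (CN.three_step hCN (BG.sol_top.2 inferInstance) hn h0))
  push Not at h0
  obtain ⟨p, hp, P, a, b, c⟩ := h0
  obtain ⟨E, hE, nE⟩ := CN.frob_of_normal_syl hCN hn a c b
  have d := CN.compl'_of_sdprod hE.sd
  refine Or.inr (Or.inl ⟨_, E, inferInstance, d, Core.frob_of_fpf d hE.ne_l hE.ne_r hE.reg, ?_⟩)
  obtain ⟨e, f | f⟩ := CN.reg_struct hE.sd.norm hE.ne_l hE.reg nE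
  · exact Or.inl f
  · exact Or.inr ⟨_, _, (nE.dprod_O {2}).symm.sup, BG.le_C_iff.1 (BG.O_cent_O' _ _), e,
      Nat.coprime_two_right.1 ((BG.pin_compl_cop Nat.prime_two).1 (BG.O_pig _ _)), f⟩

end Cfsg.Agent.S1476
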