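import Cfsg.Statements.S1480
import Cfsg.Agent.Comp.TB
import Cfsg.Agent.S1327

set_option autoImplicit false
open Cfsg

namespace Cfsg.Agent.S1480

open Cfsg.Agent.Comp Subgroup
open scoped commutatorElement


/-- Let G be a finite group and p a prime such that the normalizer of every nontrivial p-subgroup of G is p-constrained; if p = 2 assume also that the Sylow 2-subgroups of G have nilpotency class at most 2. Let E be an abelian p-subgroup containing an elementary abelian subgroup of order p ^ 3 and containing every element of p-power order of C_G(E). Then for every prime q ≠ p, any two maximal E-invariant q-subgroups of G are conjugate by an element of O_{p'}(C_G(E)). -/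
theorem result {G : Type*} [Group G] [Finite G] (p : ℕ) [Fact p.Prime]
    (hloc : ∀ T : Subgroup G, IsPGroup p T → T ≠ ⊥ → Cfsg.IsPConstrained p ↥(Subgroup.normalizer (T : Set G)))
    (h2 : p = 2 → ∀ S : Sylow p G, Group.IsNilpotent (S : Subgroup G) ∧ Group.nilpotencyClass (S : Subgroup G) ≤ 2)
    (E : Subgroup G) (hEp : IsPGroup p E) (hEc : IsMulCommutative E) (hE3 : ¬ Cfsg.PRankLE p 2 E)
    (hEfull : ∀ x ∈ Subgroup.centralizer (E : Set G), IsPGroup p (Subgroup.zpowers x) → x ∈ E)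
    (q : ℕ) [Fact q.Prime] (hqp : q ≠ p) :
    ∀ Q₁ ∈ Cfsg.maxInvSubgroups ⊤ E {q}, ∀ Q₂ ∈ Cfsg.maxInvSubgroups ⊤ E {q},
        ∃ k ∈ Cfsg.piCoreOf (Cfsg.primesNotDvd p) (Subgroup.centralizer (E : Set G)), Q₂ = Q₁.map (MulAut.conj k).toMonoidHom := by
  intro Q₁ h₁ Q₂ h₂
  unfold PRankLE at hE3
  push Not at hE3
  obtain ⟨A, a1, a2, a3⟩ := hE3
  have hA : IsElementaryAbelian p (A.map E.subtype) := elemAb_map _ ⟨a1, a2⟩
  have hA3 : p ^ 3 ≤ Nat.card (A.map E.subtype) := by
    rw [card_map_of_injective E.subtype_injective]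
    obtain ⟨n, hn⟩ := (elemAb_isPGroup ⟨a1, a2⟩).exists_card_eq
    rw [hn] at a3 ⊢
    exact Nat.pow_le_pow_right (Fact.out : p.Prime).pos
      ((Nat.pow_lt_pow_iff_right (Fact.out : p.Prime).one_lt).1 a3)
  have hEc' : E ≤ centralizer (E : Set G) := fun a ha b hb =>
    congrArg Subtype.val (hEc.is_comm.comm ⟨b, hb⟩ ⟨a, ha⟩)
  have hfull : ∀ x ∈ centralizer (E : Set G), ∀ k, x ^ p ^ k = 1 → x ∈ E :=
    fun x hx k hk => hEfull x hx (isPGroup_zpowers hk)
  have key : ∀ Q ∈ maxInvSubgroups ⊤ E {q},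
      MaxQ (fun U => (Nat.card U).Coprime p ∧ E ≤ normalizer (U : Set G)) q Q := fun Q h => by
    have h1 : IsPGroup q Q := Core.isPiNum_singleton_card_iff.1 h.1.2.1
    exact ⟨⟨pgroup_coprime_prime hqp h1, h.1.2.2⟩, h1, fun R a b c =>
      h.2 R ⟨le_top, Core.isPiNum_singleton_card_iff.2 b, a.2⟩ c⟩
  suffices hTB : ∀ a ∈ A.map E.subtype, a ≠ 1 → ∀ K ≤ centralizer {a}, (Nat.card K).Coprime p →
      E ≤ normalizer (K : Set G) → K ≤ Opp p (centralizer {a}) by
    obtain ⟨c, hc, e⟩ := transitivity_local hA hA3 (map_subtype_le _) hEp hEc' hfull hTB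
      (key _ h₁) (key _ h₂)
    refine ⟨c, ?_, e.symm⟩
    rw [← Opp_eq] at hc
    refine (map_mono (Core.le_piCore (π := primesNotDvd p) inferInstance
      fun r hr hd => ⟨hr, fun hd' => ?_⟩) : _ ≤ piCoreOf (primesNotDvd p) _) hc
    obtain rfl := (Nat.prime_dvd_prime_iff_eq hr Fact.out).1 hd'
    rw [← Opp_top] at hd
    exact coprime_iff_not_dvd'.1 (Opp_coprime _) hd
  intro a ha h1 K k1 k2 k3
  have hz := elemAb_zpowers_isPGroup hA ha
  have hL : PLay p (centralizer {a}) = ⊥ := by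
    have h3 := (S1327.result p).1 (hloc _ hz (zpowers_ne_bot.2 h1))
    have h4 := PLay_normalizer_eq hz le_top
    rwa [top_inf_eq, top_inf_eq, centralizer_zpowers, ← PLay_eq, h3, Subgroup.map_bot,
      eq_comm] at h4
  have hEa : E ≤ centralizer {a} :=
    hEc'.trans (centralizer_le (Set.singleton_subset_iff.2 (map_subtype_le _ ha)))
  by_cases hp2 : p = 2
  · refine thompson_bender_class_two hL hEa k1 hEp k2 k3 (fun x _ => hfull x) fun S hS => ?_
    obtain ⟨T, hT⟩ := hS.exists_le_sylow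
    obtain ⟨t1, t2⟩ := h2 hp2 T
    exact comm_bot_mono (lowerCentralSeries_eq_bot_of_nilpotencyClass_le t2)
      (commutator_mono hT hT) hT
  · exact thompson_bender hp2 hL hEa k1 hEp k2 k3 fun x _ h2 h3 => hfull x h2 1 (by rwa [pow_one])

end Cfsg.Agent.S1480
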