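import Cfsg.Statements.S1497
import Cfsg.Agent.Char.Dade

set_option autoImplicit false
open Cfsg

namespace Cfsg.Agent.S1497

open Cfsg.Agent.Char

/-- Let A be a nonempty subset of the finite group G not containing 1 and L a subgroup. Then A is a TI-subset whose normaliser is L if and only if the Dade hypothesis holds for A, L and the constant choice H(a) = ⊥. -/
theorem result {G : Type*} [Group G] [Finite G] (A : Set G) (hA : A.Nonempty) (h1 : (1 : G) ∉ A) (L : Subgroup G) : (Cfsg.IsTISubset A ∧ Subgroup.normalizer A = L) ↔ Cfsg.DadeHypothesis A L (fun _ => ⊥) := by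
  constructor
  · rintro ⟨h, rfl⟩
    exact dadeHypothesis_of_TI h1 (fun g a ha hg => by_contra fun h2 => h1 (h g h2 a ha hg ▸ ha))
      fun x hx a ha => (hx a).1 ha
  · intro hD
    have h2 : L ≤ Subgroup.normalizer A := fun x hx =>
      mem_normalizer_of_conj_mem_set (hD.conj_mem x hx)
    obtain ⟨a, ha⟩ := hA
    exact ⟨fun g hg x hx h => absurd (h2 (hD.mem_of_conj_mem hx rfl h)) hg,
      le_antisymm (fun g hg => hD.mem_of_conj_mem ha rfl ((hg a).1 ha)) h2⟩

end Cfsg.Agent.S1497
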