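import Cfsg.Statements.S1499
import Cfsg.Agent.Char.Dade

set_option autoImplicit false
open Cfsg

namespace Cfsg.Agent.S1499

open Cfsg.Agent.Char

/-- Under the Dade hypothesis for (A, L, H), let a, b ∈ A. If an element of the coset a·H(a) is conjugate in G to an element of b·H(b), then a and b are conjugate by an element of L. Moreover the set normaliser of the coset a·H(a) is the centraliser of a. -/
theorem result {G : Type*} [Group G] [Finite G] (A : Set G) (L : Subgroup G) (H : G → Subgroup G) (hD : Cfsg.DadeHypothesis A L H) (a b : G) (ha : a ∈ A) (hb : b ∈ A) : ((∃ u ∈ H a, ∃ v ∈ H b, ∃ g : G, g * (a * u) * g⁻¹ = b * v) → ∃ x ∈ L, x * a * x⁻¹ = b) ∧ Subgroup.normalizer ((fun u : G => a * u) '' (H a : Set G)) = Subgroup.centralizer ({a} : Set G) := by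
  constructor
  · rintro ⟨u, hu, v, hv, g, e⟩
    have h := (hD.conj_eq_of_conj_mul ha hb hu hv e).1
    exact h ▸ hD.fusion a ha g (h ▸ hb)
  · refine le_antisymm (fun g hg => ?_) fun c hc => mem_normalizer_of_conj_mem_set ?_
    · obtain ⟨u, hu, e⟩ := (hg (a * 1)).1 ⟨1, (H a).one_mem, rfl⟩
      exact mem_cent1.2 (mul_inv_eq_iff_eq_mul.1
        (hD.conj_eq_of_conj_mul ha ha (H a).one_mem hu e.symm).1)
    · rintro _ ⟨u, hu, rfl⟩
      refine ⟨_, hD.conj_mem_H a ha c hc u hu, ?_⟩
      simp only [← mul_assoc, mem_cent1.1 hc]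

end Cfsg.Agent.S1499
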