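import Cfsg.Statements.S1504
import Cfsg.Agent.Char.CycTI3

set_option autoImplicit false
open Cfsg

namespace Cfsg.Agent.S1504

open Cfsg.Agent.Char

/-- Let W₁, W₂ be subgroups of a finite group with W₁ ⊓ W₂ = ⊥ whose elements commute, and W = W₁ ⊔ W₂. For linear characters φ, ψ of W with φ trivial on W₂ and ψ trivial on W₁, the function (1 − φ)(1 − ψ) vanishes on W₁ ∪ W₂; and the family of these functions, indexed by pairs (φ, ψ) with φ ≠ 1 ≠ ψ, is linearly independent over ℂ. -/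
theorem result {G : Type*} [Group G] [Finite G] (W₁ W₂ : Subgroup G) (hdisj : W₁ ⊓ W₂ = ⊥) (hcomm : ∀ a ∈ W₁, ∀ b ∈ W₂, a * b = b * a) : (∀ φ ψ : ↥(W₁ ⊔ W₂) →* ℂˣ, (∀ w : ↥(W₁ ⊔ W₂), (w : G) ∈ W₂ → φ w = 1) → (∀ w : ↥(W₁ ⊔ W₂), (w : G) ∈ W₁ → ψ w = 1) → ∀ w : ↥(W₁ ⊔ W₂), ((w : G) ∈ W₁ ∨ (w : G) ∈ W₂) → (1 - (φ w : ℂ) - (ψ w : ℂ) + (φ w : ℂ) * (ψ w : ℂ)) = 0) ∧ LinearIndependent ℂ (fun p : {p : (↥(W₁ ⊔ W₂) →* ℂˣ) × (↥(W₁ ⊔ W₂) →* ℂˣ) // p.1 ≠ 1 ∧ p.2 ≠ 1 ∧ (∀ w : ↥(W₁ ⊔ W₂), (w : G) ∈ W₂ → p.1 w = 1) ∧ (∀ w : ↥(W₁ ⊔ W₂), (w : G) ∈ W₁ → p.2 w = 1)} => fun w : ↥(W₁ ⊔ W₂) => 1 - (p.1.1 w : ℂ) - (p.1.2 w : ℂ) + (p.1.1 w : ℂ) * (p.1.2 w : ℂ)) := by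
  refine ⟨fun φ ψ h1 h2 w hw => ?_, ?_⟩
  · rcases hw with hw | hw
    · simp [h2 w hw]
    · simp [h1 w hw]
  classical
  have := Fintype.ofFinite G
  have := Fintype.ofFinite W₁
  have := Fintype.ofFinite W₂
  rw [Fintype.linearIndependent_iff]
  intro c hc p
  have h1 := congrArg (fun f : ↥(W₁ ⊔ W₂) → ℂ => classInner (fun w => f (cycE hcomm hdisj w))
    (om (homE hcomm hdisj p.1.1).1 (homE hcomm hdisj p.1.2).2)) hc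
  have h2 : ∀ q : {p : (↥(W₁ ⊔ W₂) →* ℂˣ) × (↥(W₁ ⊔ W₂) →* ℂˣ) // p.1 ≠ 1 ∧ p.2 ≠ 1 ∧
      (∀ w : ↥(W₁ ⊔ W₂), (w : G) ∈ W₂ → p.1 w = 1) ∧ (∀ w : ↥(W₁ ⊔ W₂), (w : G) ∈ W₁ → p.2 w = 1)},
      (homE hcomm hdisj q.1.1).2 = 1 ∧ (homE hcomm hdisj q.1.2).1 = 1 ∧
      1 ≠ (homE hcomm hdisj q.1.1).1 ∧ 1 ≠ (homE hcomm hdisj q.1.2).2 := fun q => by
    have a := (homE_snd_eq_one (h := hcomm) (hd := hdisj)).2 q.2.2.2.1
    have b := (homE_fst_eq_one (h := hcomm) (hd := hdisj)).2 q.2.2.2.2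
    exact ⟨a, b, fun e => q.2.1 ((map_eq_one_iff _ (homE hcomm hdisj).injective).1
      (Prod.ext e.symm a)), fun e => q.2.2.1 ((map_eq_one_iff _ (homE hcomm hdisj).injective).1
      (Prod.ext b e.symm))⟩
  simp only [← alph_homE (h2 _).1 (h2 _).2.1] at h1
  simp only [Finset.sum_apply, Pi.smul_apply, MulEquiv.symm_apply_apply, Pi.zero_apply] at h1
  rw [show ∀ f : _ → W₁ × W₂ → ℂ, (fun w => ∑ x, c x • f x w) = ∑ x, c x • f x from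
    fun f => by ext; simp, classInner_sum_left, Finset.sum_eq_single p] at h1
  · simpa [classInner_smul_left, classInner_alph_om, (h2 p).2.2.1, (h2 p).2.2.2,
      classInner_def (fun _ => 0)] using h1
  · intro q _ hq
    rw [classInner_smul_left, classInner_alph_om, if_neg (h2 p).2.2.1, if_neg (h2 p).2.2.2]
    split_ifs with a b
    · exact (hq (Subtype.ext (Prod.ext ((homE hcomm hdisj).injective (Prod.ext a
        ((h2 q).1.trans (h2 p).1.symm))) ((homE hcomm hdisj).injective (Prod.ext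
        ((h2 q).2.1.trans (h2 p).2.1.symm) b))))).elim
    all_goals simp
  · simp

end Cfsg.Agent.S1504
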