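import Cfsg.Statements.S1505
import Cfsg.Agent.Char.CycTI3

set_option autoImplicit false
open Cfsg

namespace Cfsg.Agent.S1505

open Cfsg.Agent.Char

attribute [-instance] homDecEq homFintype

open Classical in
/-- Let W₁, W₂ ≤ G form a self-normalising cyclic subgroup W = W₁ ⊔ W₂. For nontrivial linear characters φ, φ' of W trivial on W₂ and ψ, ψ' trivial on W₁, put α = (1 − φ)(1 − ψ) and α' = (1 − φ')(1 − ψ'). Then the function induced from α to G has inner product 1 with the principal character, and the inner product of the functions induced from α and α' is 1 + a + b + ab where a = 1 if φ = φ' (else 0) and b = 1 if ψ = ψ' (else 0). -/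
theorem result {G : Type*} [Group G] [Fintype G] (W₁ W₂ : Subgroup G) (hW : Cfsg.IsSelfNormalizingCyclic W₁ W₂) (φ φ' ψ ψ' : ↥(W₁ ⊔ W₂) →* ℂˣ) (hφ : φ ≠ 1) (hφ' : φ' ≠ 1) (hψ : ψ ≠ 1) (hψ' : ψ' ≠ 1) (hφ₂ : ∀ w : ↥(W₁ ⊔ W₂), (w : G) ∈ W₂ → φ w = 1 ∧ φ' w = 1) (hψ₁ : ∀ w : ↥(W₁ ⊔ W₂), (w : G) ∈ W₁ → ψ w = 1 ∧ ψ' w = 1) : Cfsg.classInner (Cfsg.indFun (W₁ ⊔ W₂) (fun w => 1 - (φ w : ℂ) - (ψ w : ℂ) + (φ w : ℂ) * (ψ w : ℂ))) (fun _ => 1) = 1 ∧ Cfsg.classInner (Cfsg.indFun (W₁ ⊔ W₂) (fun w => 1 - (φ w : ℂ) - (ψ w : ℂ) + (φ w : ℂ) * (ψ w : ℂ))) (Cfsg.indFun (W₁ ⊔ W₂) (fun w => 1 - (φ' w : ℂ) - (ψ' w : ℂ) + (φ' w : ℂ) * (ψ' w : ℂ))) = 1 + (if φ = φ' then 1 else 0) + (if ψ = ψ' then 1 else 0) + (if φ = φ' then 1 else 0) * (if ψ = ψ' then 1 else 0) := by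
  have hd := hW.2.2.1
  have h := hW.2.2.2.1
  have := Fintype.ofFinite W₁
  have := Fintype.ofFinite W₂
  have a := (homE_snd_eq_one (h := h) (hd := hd)).2 fun w hw => (hφ₂ w hw).1
  have a' := (homE_snd_eq_one (h := h) (hd := hd)).2 fun w hw => (hφ₂ w hw).2
  have b := (homE_fst_eq_one (h := h) (hd := hd)).2 fun w hw => (hψ₁ w hw).1
  have b' := (homE_fst_eq_one (h := h) (hd := hd)).2 fun w hw => (hψ₁ w hw).2
  have c : ∀ {φ}, φ ≠ 1 → (homE h hd φ).2 = 1 → (homE h hd φ).1 ≠ 1 := fun h1 h2 e =>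
    h1 ((map_eq_one_iff _ (homE h hd).injective).1 (Prod.ext e h2))
  have d : ∀ {φ}, φ ≠ 1 → (homE h hd φ).1 = 1 → (homE h hd φ).2 ≠ 1 := fun h1 h2 e =>
    h1 ((map_eq_one_iff _ (homE h hd).injective).1 (Prod.ext h2 e))
  rw [← alph_homE a b, ← alph_homE a' b', indFun_eq_indH, indFun_eq_indH]
  constructor
  · rw [classInner_indH_left _ (isClassFunction_const 1), ← om_one_one, classInner_alph_om]
    simp [c hφ a, d hψ b]
  · refine (hW.cycTI.classInner_indH (alph_eq_zero _ _) (alph_eq_zero _ _)).trans ?_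
    rw [classInner_alph (c hφ a) (c hφ' a') (d hψ b) (d hψ' b')]
    simp only [← (homE h hd).injective.eq_iff, Prod.ext_iff, a, a', b, b', and_true, true_and]
    split_ifs <;> norm_num

end Cfsg.Agent.S1505
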