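import Cfsg.Statements.S1507
import Cfsg.Agent.Char.CycTI3

set_option autoImplicit false
open Cfsg

namespace Cfsg.Agent.S1507

open Cfsg.Agent.Char

open Classical in
/-- Let W₁, W₂ ≤ G form a self-normalising cyclic subgroup W = W₁ ⊔ W₂ of odd order with Nat.card W₁ < Nat.card W₂, and χ an orthonormal family of irreducible characters of G up to sign, indexed by the linear characters ω of W, with χ_1 = 1, χ_ω = ω on W outside W₁ ∪ W₂, and the induction identity for (1 − φ)(1 − ψ). Let θ be a class function of G vanishing on W outside W₁ ∪ W₂, and suppose fewer than 2 · Nat.card W₁ linear characters ω of W have ⟨θ, χ ω⟩ ≠ 0. Then one of: all ⟨θ, χ ω⟩ vanish; or there are ψ₀ and a with ⟨θ, χ ω⟩ = a when ω ψ₀⁻¹ is trivial on W₂ and 0 otherwise; or there are φ₀ and a with ⟨θ, χ ω⟩ = a when ω φ₀⁻¹ is trivial on W₁ and 0 otherwise. -/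
theorem result {G : Type*} [Group G] [Fintype G] (W₁ W₂ : Subgroup G) (hW : Cfsg.IsSelfNormalizingCyclic W₁ W₂) (hodd : Odd (Nat.card ↥(W₁ ⊔ W₂))) (χ : (↥(W₁ ⊔ W₂) →* ℂˣ) → (G → ℂ)) (hχ : Cfsg.IsCyclicTIFamily W₁ W₂ χ) (hlt : Nat.card W₁ < Nat.card W₂) (θ : G → ℂ) (hθ : Cfsg.IsClassFunction G θ) (hθV : ∀ w : ↥(W₁ ⊔ W₂), (w : G) ∉ W₁ → (w : G) ∉ W₂ → θ w = 0) (hfew : Nat.card {ω : ↥(W₁ ⊔ W₂) →* ℂˣ // Cfsg.classInner θ (χ ω) ≠ 0} < 2 * Nat.card W₁) : (∀ ω, Cfsg.classInner θ (χ ω) = 0) ∨ (∃ (ψ₀ : ↥(W₁ ⊔ W₂) →* ℂˣ) (a : ℂ), ∀ ω, Cfsg.classInner θ (χ ω) = if (∀ w : ↥(W₁ ⊔ W₂), (w : G) ∈ W₂ → (ω * ψ₀⁻¹) w = 1) then a else 0) ∨ (∃ (φ₀ : ↥(W₁ ⊔ W₂) →* ℂˣ) (a : ℂ), ∀ ω, Cfsg.classInner θ (χ ω) = if (∀ w : ↥(W₁ ⊔ W₂), (w : G) ∈ W₁ → (ω * φ₀⁻¹) w = 1) then a else 0) := by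
  have := Fintype.ofFinite W₁
  have := Fintype.ofFinite W₂
  have hd := hW.2.2.1
  have h := hW.2.2.2.1
  by_cases h0 : ∀ ω, Cfsg.classInner θ (χ ω) = 0
  · exact Or.inl h0
  push Not at h0
  obtain ⟨ω₀, h0⟩ := h0
  have hη := hχ.cycFam hW hodd
  have h1 := hη.small hθ (fun w c d => hθV ⟨_, cycι_mem w⟩
    (fun e => d ((cycι_mem_left hd).1 e)) fun e => c ((cycι_mem_right hd).1 e)) hlt
    (i₀ := (homE h hd ω₀).1) (j₀ := (homE h hd ω₀).2) ?_ (by simpa using h0)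
  · refine Or.inr (h1.imp (fun h2 => ⟨ω₀, classInner θ (χ ω₀), fun ω => ?_⟩)
      fun h2 => ⟨ω₀, classInner θ (χ ω₀), fun ω => ?_⟩)
    · simp only [← homE_snd_eq_one (h := h) (hd := hd)]
      have e : (homE h hd ω₀⁻¹).2 = (homE h hd ω₀).2⁻¹ := rfl
      simpa [e] using h2 (homE h hd ω).1 (homE h hd ω).2
    · simp only [← homE_fst_eq_one (h := h) (hd := hd)]
      have e : (homE h hd ω₀⁻¹).1 = (homE h hd ω₀).1⁻¹ := rfl
      simpa [e] using h2 (homE h hd ω).1 (homE h hd ω).2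
  · refine lt_of_eq_of_lt ?_ hfew
    rw [NC, ← Nat.card_coe_set_eq]
    exact Nat.card_congr ((homE h hd).symm.toEquiv.subtypeEquiv fun p => Iff.rfl)

end Cfsg.Agent.S1507
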