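import Cfsg.Statements.S1511
import Cfsg.Agent.Char.PrimeTI

set_option autoImplicit false
open Cfsg

namespace Cfsg.Agent.S1511

open Cfsg.Agent.Char

/-- Let L be a finite group with K normal with complement W₁ ≠ 1 a cyclic Hall subgroup, and W₂ ≠ 1 a cyclic subgroup of K equal to C_K(x) for every non-identity x ∈ W₁, with W₁W₂ of odd order. Then there are a map μ from the linear characters of W = W₁ ⊔ W₂ to irreducible characters of L, injective, and a sign δ(ω) ∈ {1, −1} depending only on the values of ω on W₂, such that: for ω, ω' agreeing on W₂, the function induced to L from ω − ω' equals δ(ω) • (μ ω − μ ω'); μ ω x = δ(ω) ω x for x ∈ W outside W₂; every irreducible character of L not of the form μ ω vanishes on W outside W₂; and μ ω 1 − δ(ω) is an integer multiple of Nat.card W₁. -/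
theorem result {L : Type*} [Group L] [Fintype L] (K W₁ W₂ : Subgroup L) [hK : K.Normal] (hKW₁ : K ⊓ W₁ = ⊥) (hKW₁' : K ⊔ W₁ = ⊤) (hW₁ : W₁ ≠ ⊥) (hW₁c : IsCyclic W₁) (hHall : Nat.Coprime (Nat.card W₁) W₁.index) (hW₂ : W₂ ≠ ⊥) (hW₂c : IsCyclic W₂) (hW₂K : W₂ ≤ K) (hC : ∀ x ∈ W₁, x ≠ 1 → K ⊓ Subgroup.centralizer ({x} : Set L) = W₂) (hodd : Odd (Nat.card ↥(W₁ ⊔ W₂))) : ∃ (μ : (↥(W₁ ⊔ W₂) →* ℂˣ) → (L → ℂ)) (δ : (↥(W₁ ⊔ W₂) →* ℂˣ) → ℂ), Function.Injective μ ∧ (∀ ω, Cfsg.IsIrrCharacter L (μ ω)) ∧ (∀ ω, δ ω = 1 ∨ δ ω = -1) ∧ (∀ ω ω' : ↥(W₁ ⊔ W₂) →* ℂˣ, (∀ w : ↥(W₁ ⊔ W₂), (w : L) ∈ W₂ → ω w = ω' w) → δ ω = δ ω' ∧ Cfsg.indFun (W₁ ⊔ W₂) (fun w => (ω w : ℂ) - (ω' w : ℂ)) = δ ω • (μ ω - μ ω')) ∧ (∀ ω, ∀ w : ↥(W₁ ⊔ W₂), (w : L) ∉ W₂ → μ ω w = δ ω * (ω w : ℂ)) ∧ (∀ θ : L → ℂ, Cfsg.IsIrrCharacter L θ → (∀ ω, θ ≠ μ ω) → ∀ w : ↥(W₁ ⊔ W₂), (w : L) ∉ W₂ → θ w = 0)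 ∧ (∀ ω, ∃ n : ℤ, μ ω 1 - δ ω = n * (Nat.card W₁ : ℂ)) := by
  have := Fintype.ofFinite W₁
  have := Fintype.ofFinite W₂
  obtain ⟨μ, δ, h⟩ := (primeTI_of_subgroups hKW₁ hKW₁' hW₁ hW₁c hHall hW₂ hW₂c hW₂K hC
    (hodd.of_dvd_nat (Subgroup.card_dvd_of_le le_sup_left))
    (hodd.of_dvd_nat (Subgroup.card_dvd_of_le le_sup_right))).exists_fam
  have hd : W₁ ⊓ W₂ = ⊥ := eq_bot_iff.2 fun x hx => hKW₁ ▸ ⟨hW₂K hx.2, hx.1⟩
  have hc := comm_of_inf_centralizer hC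
  refine ⟨fun ω => μ (homE hc hd ω).1 (homE hc hd ω).2, fun ω => δ (homE hc hd ω).2,
    fun ω ω' e => (homE hc hd).injective (Prod.ext (h.eq_iff.1 e).1 (h.eq_iff.1 e).2),
    fun ω => h.irr _ _, fun ω => h.sign' _, fun ω ω' e => ?_, fun ω w hw => ?_,
    fun θ hθ h1 w hw => ?_, fun ω => ?_⟩
  · rw [← homE_snd_eq (h := hc) (hd := hd)] at e
    simp only [← e, true_and]
    rw [← h.indH_om_sub', ← indFun_eq_indH (hd := hd)]
    congr 1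
    ext w
    rw [Pi.sub_apply, om_homE, e, om_homE, MulEquiv.apply_symm_apply]
  · obtain ⟨w, rfl⟩ := (cycE hc hd).surjective w
    rw [← om_homE]
    exact h.apply_ι _ _ fun e => hw ((cycι_mem_right (h := hc) hd).2 e)
  · obtain ⟨w, rfl⟩ := (cycE hc hd).surjective w
    refine h.vanish_irr hθ (fun i j => by simpa using h1 ((homE hc hd).symm (i, j))) fun e => ?_
    exact hw ((cycι_mem_right (h := hc) hd).2 ((h.mem_iff w).1 e))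
  · obtain ⟨n, hn⟩ := h.degree_mod (homE hc hd ω).1 (homE hc hd ω).2
    exact ⟨n, by simp only [hn]; ring⟩

end Cfsg.Agent.S1511
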