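import Cfsg.Statements.S1513
import Cfsg.Agent.Char.PrimeTI

set_option autoImplicit false
open Cfsg

namespace Cfsg.Agent.S1513

open Cfsg.Agent.Char

/-- Let L be a finite group with K normal with complement W₁ ≠ 1 a cyclic Hall subgroup, and W₂ ≠ 1 a cyclic subgroup of K equal to C_K(x) for every non-identity x ∈ W₁, with W₁W₂ of odd order. For an irreducible character θ of K: if θ is not fixed under conjugation by some element of W₁, then the function induced from θ to L is an irreducible character of L; and the irreducible characters of K fixed by all of W₁ are exactly Nat.card W₂ in number, each inducing to the sum of Nat.card W₁ pairwise distinct irreducible characters of L. -/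
theorem result {L : Type*} [Group L] [Fintype L] (K W₁ W₂ : Subgroup L) [hK : K.Normal] (hKW₁ : K ⊓ W₁ = ⊥) (hKW₁' : K ⊔ W₁ = ⊤) (hW₁ : W₁ ≠ ⊥) (hW₁c : IsCyclic W₁) (hHall : Nat.Coprime (Nat.card W₁) W₁.index) (hW₂ : W₂ ≠ ⊥) (hW₂c : IsCyclic W₂) (hW₂K : W₂ ≤ K) (hC : ∀ x ∈ W₁, x ≠ 1 → K ⊓ Subgroup.centralizer ({x} : Set L) = W₂) (hodd : Odd (Nat.card ↥(W₁ ⊔ W₂))) : (∀ θ : K → ℂ, Cfsg.IsIrrCharacter K θ → (∃ x ∈ W₁, (fun k : K => θ ⟨x * k * x⁻¹, hK.conj_mem (k : L) k.2 x⟩) ≠ θ) → Cfsg.IsIrrCharacter L (Cfsg.indFun K θ)) ∧ Nat.card {θ : Cfsg.IrrCharacter K // ∀ x ∈ W₁, (fun k : K => (θ : K → ℂ) ⟨x * k * x⁻¹, hK.conj_mem (k : L) k.2 x⟩) = θ} = Nat.card W₂ ∧ (∀ θ : K → ℂ, Cfsg.IsIrrCharacter K θ → (∀ x ∈ W₁, (fun k : K => θ ⟨x * k * x⁻¹, hK.conj_mem (k : L) k.2 x⟩) = θ) → ∃ C : Finset (L → ℂ), C.card = Nat.card W₁ ∧ (∀ μ ∈ C, Cfsg.IsIrrCharacter L μ) ∧ Cfsg.indFun K θ = ∑ μ ∈ C, μ) := by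
  classical
  have := Fintype.ofFinite W₁
  have := Fintype.ofFinite W₂
  obtain ⟨μ, δ, h⟩ := (primeTI_of_subgroups hKW₁ hKW₁' hW₁ hW₁c hHall hW₂ hW₂c hW₂K hC
    (hodd.of_dvd_nat (Subgroup.card_dvd_of_le le_sup_left))
    (hodd.of_dvd_nat (Subgroup.card_dvd_of_le le_sup_right))).exists_fam
  have key : ∀ θ : K → ℂ, IsIrrCharacter K θ → (∀ x ∈ W₁, conjBy θ x = θ) →
      ∃ j, θ = chiR K μ j := fun θ hθ h1 => by
    have := h.nt₁
    obtain ⟨a, ha⟩ := exists_ne (1 : W₁)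
    exact h.exists_chiR hθ ha (h1 _ (by simp [cycι_apply]))
  refine ⟨fun θ hθ ⟨x, _, hx⟩ => ?_, ?_, fun θ hθ h1 => ?_⟩
  · rcases h.irr_cases hθ with ⟨j, rfl⟩ | h1
    · exact (hx (h.conjBy_chiR j x)).elim
    · exact h1.1
  · rw [← card_hom_of_isCyclic hW₂c, ← Nat.card_eq_fintype_card]
    refine (Nat.card_eq_of_bijective (fun j => ⟨⟨chiR K μ j, h.isIrr_chiR j⟩,
      fun x _ => h.conjBy_chiR j x⟩) ⟨fun j l e => h.chiR_injective (congrArg (·.1.1) e),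
      fun θ => ?_⟩).symm
    obtain ⟨j, hj⟩ := key _ θ.1.2 θ.2
    exact ⟨j, Subtype.ext (Subtype.ext hj.symm)⟩
  · obtain ⟨j, rfl⟩ := key θ hθ h1
    have hi : Function.Injective (μ · j) := fun i k e => (h.eq_iff.1 e).1
    refine ⟨Finset.univ.image (μ · j), ?_, by simp [h.irr], ?_⟩
    · rw [Finset.card_image_of_injective _ hi, Finset.card_univ, card_hom_of_isCyclic hW₁c]
    · rw [Finset.sum_image hi.injOn, h.indFun_chiR, muR]

end Cfsg.Agent.S1513
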