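import Cfsg.Statements.S1521
import Cfsg.Agent.Char.Coh2

set_option autoImplicit false
open Cfsg

namespace Cfsg.Agent.S1521

open Cfsg.Agent.Char

/-- Let K be a solvable normal subgroup of the finite group L of odd order and (S, τ, R) a coherence system from L to G with S the functions induced from non-principal irreducible characters of K; S(A) as before. Let M ≤ K be normal in L with K/M nilpotent, H₁ = [K, K] ⊔ M, H₁ < K < L, and suppose every element of K outside H₁ is centralised modulo H₁ only from inside K (L/H₁ is a Frobenius group with kernel K/H₁). Suppose one of the following: some normal subgroup of L lies strictly between H₁ and K; or [K:H₁] > 4[L:K]^2 + 1; or [K:M] is not a prime power; or [K,K] ≤ M; or [K:M] is a power of a prime p with [L:K] dividing p − 1. Then S(M) is coherent. -/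
theorem result {L : Type*} [Group L] [Fintype L] {G : Type*} [Group G] [Fintype G] (K : Subgroup L) [hK : K.Normal] (hsolv : Group.IsSolvable K) (τ : (L → ℂ) → (G → ℂ)) (R : (L → ℂ) → Finset (G → ℂ)) (hS : Cfsg.IsCoherenceSystem (Cfsg.inducedIrrAbove K ⊥) τ R) (hodd : Odd (Nat.card L)) (M : Subgroup L) [M.Normal] (hMK : M ≤ K) [(M.subgroupOf K).Normal] (hnil : Group.IsNilpotent (↥K ⧸ M.subgroupOf K)) (H₁ : Subgroup L) (hH₁ : H₁ = ⁅K, K⁆ ⊔ M) (hH₁K : H₁ < K) (hKL : K < ⊤) (hfrob : ∀ k ∈ K, k ∉ H₁ → ∀ x : L, x * k * x⁻¹ * k⁻¹ ∈ H₁ → x ∈ K) (hgood : (∃ N : Subgroup L, N.Normal ∧ H₁ < N ∧ N < K) ∨ 4 * K.index ^ 2 + 1 < H₁.relIndex K ∨ (¬ ∃ p m : ℕ, p.Prime ∧ M.relIndex K = p ^ m) ∨ ⁅K, K⁆ ≤ M ∨ (∃ p m : ℕ, p.Prime ∧ M.relIndex K = p ^ m ∧ K.index ∣ p - 1)) : Cfsg.IsCoherent (Cfsg.inducedIrrAbove K M) {1}ᶜ τ := by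
  subst hH₁
  obtain ⟨τ', h1, h2⟩ := hS.exists_subCoh
  have h3 := fun A : Subgroup L => inducedIrrAbove_anti (K := K) (bot_le (a := A))
  obtain ⟨φ, h4, -⟩ := exists_mem_inducedIrrAbove_of_not_le hH₁K.not_ge
  refine Coh.isCoherent ?_
    (fun α hα => h1 α (span1_mono (h3 M) hα)) ((h2.toDegIso.mono (h3 M)).exists_ne_zero
      (conjFun_mem_inducedIrrAbove h4) h4 (h2.conj_ne φ (h3 M h4)))
  by_contra hnc
  obtain ⟨h5, h6, h7, p, m, hp, h8, h9⟩ := h2.preCoh.non_coherent_chief hodd hMK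
    (isNilpotent_map_mk'_of_quotient hnil) hH₁K.not_ge hfrob hnc
  rcases hgood with ⟨N, h10, h11, h12⟩ | h10 | h10 | h10 | ⟨q, n, hq, h10, h11⟩
  · exact h11.ne' (h5 N h10 h11.le h12)
  · exact h10.not_ge h6
  · exact h10 ⟨p, m, hp, h8⟩
  · exact h7 h10
  · have h12 : m ≠ 0 := by
      rintro rfl
      exact h7 ((Subgroup.commutator_le_left K K).trans (Subgroup.relIndex_eq_one.1 h8))
    have h13 : p ∣ q ^ n := h10 ▸ h8 ▸ dvd_pow_self p h12
    obtain rfl := (Nat.prime_dvd_prime_iff_eq hp hq).1 (hp.dvd_of_dvd_pow h13)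
    exact h9 h11

end Cfsg.Agent.S1521
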