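import Cfsg.Statements.S1522
import Cfsg.Agent.Char.Coh2

set_option autoImplicit false
open Cfsg

namespace Cfsg.Agent.S1522

open Cfsg.Agent.Char

/-- Let K be a nilpotent normal subgroup of the finite group L of odd order with [K,K] < K < L and L/[K,K] a Frobenius group with kernel K/[K,K] (elements of K outside [K,K] are centralised modulo [K,K] only from inside K); let (S, τ, R) be a coherence system from L to G with S the functions induced from non-principal irreducible characters of K. Let Z be a nontrivial normal subgroup of L contained in the centre of K, and suppose every member of S outside S(Z) is an irreducible character of L. Then S minus S(Z) is the set of irreducible characters χ of L with χ z ≠ χ 1 for some z ∈ Z, and it is coherent. -/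
theorem result {L : Type*} [Group L] [Fintype L] {G : Type*} [Group G] [Fintype G] (K : Subgroup L) [hK : K.Normal] (hsolv : Group.IsSolvable K) (τ : (L → ℂ) → (G → ℂ)) (R : (L → ℂ) → Finset (G → ℂ)) (hS : Cfsg.IsCoherenceSystem (Cfsg.inducedIrrAbove K ⊥) τ R) (hodd : Odd (Nat.card L)) (hnil : Group.IsNilpotent K) (hH₁K : ⁅K, K⁆ < K) (hKL : K < ⊤) (hfrob : ∀ k ∈ K, k ∉ ⁅K, K⁆ → ∀ x : L, x * k * x⁻¹ * k⁻¹ ∈ ⁅K, K⁆ → x ∈ K) (Z : Subgroup L) [Z.Normal] (hZ1 : Z ≠ ⊥) (hZK : Z ≤ K) (hZc : ∀ z ∈ Z, ∀ k ∈ K, z * k = k * z) (hirr : ∀ χ ∈ Cfsg.inducedIrrAbove K ⊥ \ Cfsg.inducedIrrAbove K Z, Cfsg.IsIrrCharacter L χ) : Cfsg.inducedIrrAbove K ⊥ \ Cfsg.inducedIrrAbove K Z = {χ | Cfsg.IsIrrCharacter L χ ∧ ∃ z ∈ Z, χ z ≠ χ 1} ∧ Cfsg.IsCoherent (Cfsg.inducedIrrAbove K ⊥ \ Cfsg.inducedIrrAbove K Z) {1}ᶜ τ := by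
  refine ⟨inducedIrrAbove_sdiff_eq hZK hirr, ?_⟩
  obtain ⟨τ', h1, h2⟩ := hS.exists_subCoh
  obtain ⟨⟨z, hz⟩, hz1⟩ := Subgroup.ne_bot_iff_exists_ne_one.1 hZ1
  obtain ⟨χ, h3, h4⟩ : ∃ χ, IsIrrCharacter L χ ∧ χ z ≠ χ 1 := by
    by_contra h0
    push Not at h0
    exact hz1 (Subtype.ext (eq_one_of_forall_irr h0))
  have h5 : χ ∈ inducedIrrAbove K ⊥ \ inducedIrrAbove K Z := by
    rw [inducedIrrAbove_sdiff_eq hZK hirr]; exact ⟨h3, z, hz, h4⟩
  exact (h2.preCoh.coh_sdiff hodd hnil hH₁K.not_ge hfrob hZK hZc hirr).isCoherent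
    (fun α hα => h1 α (span1_mono Set.sdiff_subset hα))
    ((h2.toDegIso.mono Set.sdiff_subset).exists_ne_zero
      ⟨conjFun_mem_inducedIrrAbove h5.1, fun h => h5.2 (by
        simpa using conjFun_mem_inducedIrrAbove h)⟩ h5 (h2.conj_ne χ h5.1))

end Cfsg.Agent.S1522
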