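import Cfsg.Statements.S1523
import Cfsg.Agent.Char.Sibley

set_option autoImplicit false
open Cfsg

namespace Cfsg.Agent.S1523

open Cfsg.Agent.Char

/-- Let G be a finite group, p a prime, P a Sylow p-subgroup whose underlying set is a TI-subset of G, with L the set normaliser of P of odd order. Let Z ≠ ⊥ be a subgroup of P, normal in L and central in P, such that the centralisers in L of any two non-identity elements of Z have the same order. If ψ is an irreducible character of G taking the same value at all non-identity elements of Z, then for z ∈ Z, z ≠ 1, the value ψ z is an integer n with Nat.card P dividing ψ(1) − n (as integers, ψ 1 being the degree). -/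
theorem result {G : Type*} [Group G] [Finite G] (p : ℕ) [Fact p.Prime] (P : Sylow p G) (hTI : Cfsg.IsTISubset ((P : Subgroup G) : Set G)) (hodd : Odd (Nat.card (Subgroup.normalizer ((P : Subgroup G) : Set G)))) (Z : Subgroup G) (hZ1 : Z ≠ ⊥) (hZP : Z ≤ P) (hZn : ∀ x ∈ Subgroup.normalizer ((P : Subgroup G) : Set G), ∀ z ∈ Z, x * z * x⁻¹ ∈ Z) (hZc : ∀ z ∈ Z, ∀ y ∈ (P : Subgroup G), z * y = y * z) (hCL : ∀ z ∈ Z, ∀ z' ∈ Z, z ≠ 1 → z' ≠ 1 → Nat.card ↥(Subgroup.normalizer ((P : Subgroup G) : Set G) ⊓ Subgroup.centralizer ({z} : Set G)) = Nat.card ↥(Subgroup.normalizer ((P : Subgroup G) : Set G) ⊓ Subgroup.centralizer ({z'} : Set G))) (ψ : G → ℂ) (hψ : Cfsg.IsIrrCharacter G ψ) (hconst : ∀ z ∈ Z, ∀ z' ∈ Z, z ≠ 1 → z' ≠ 1 → ψ z = ψ z') (z : G) (hz : z ∈ Z) (hz1 : z ≠ 1) : ∃ n d : ℤ, ψ z = n ∧ ψ 1 = d ∧ (Nat.card (P : Subgroup G) : ℤ) ∣ d - n := by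
  have := Fintype.ofFinite G
  have h1 := dvdA_sub_of_const (P := P) (Z := Z) hodd (fun g hg => hTI g hg) Subgroup.le_normalizer (fun x hx e => ?_)
    hZP hZn hZc hψ hconst hz hz1
  · have : Nontrivial Z := Z.nontrivial_iff_ne_bot.2 hZ1
    obtain ⟨n, m, h2, -⟩ := exists_int_of_const (hψ.isGen.restrict Z) (c := ψ z)
      fun k hk => hconst k k.2 z hz (by simpa using hk) hz1
    obtain ⟨d, hd⟩ := hψ.isGen.exists_int
    refine ⟨n, d, h2, hd, DvdA.int_dvd ?_⟩
    rw [hd, h2] at h1
    exact_mod_cast h1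
  · have : ((P : Subgroup G).subgroupOf (Subgroup.normalizer ((P : Subgroup G) : Set G))).Normal :=
      Subgroup.normal_subgroupOf_of_le_normalizer le_rfl
    refine mem_of_orderOf_coprime_index (H := (P : Subgroup G).subgroupOf _) (x := ⟨x, hx⟩) ?_
    rw [← Subgroup.orderOf_coe]
    exact (P.card_coprime_index.coprime_dvd_left e).coprime_dvd_right
      (Subgroup.relIndex_dvd_index_of_le Subgroup.le_normalizer)

end Cfsg.Agent.S1523
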