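import Cfsg.Statements.S1524
import Cfsg.Agent.Char.Sibley

set_option autoImplicit false
open Cfsg

namespace Cfsg.Agent.S1524

open Cfsg.Agent.Char

/-- Let G be a finite group and H ≤ L subgroups with L of odd order, H ≠ ⊥ nilpotent and normal in L with a nontrivial complement W₁ in L (H ⊓ W₁ = ⊥, H ⊔ W₁ = L) acting on H without non-identity fixed points (L is a Frobenius group with kernel H), and suppose the underlying set of H is a TI-subset of G whose normaliser is L. Let S be the set of functions on L induced from the non-principal irreducible characters of H. Then (S, L minus 1, induction to G) is coherent. -/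
theorem result {G : Type*} [Group G] [Fintype G] (H L W₁ : Subgroup G) [Fintype L] (hodd : Odd (Nat.card L)) (hHL : H ≤ L) (hW₁L : W₁ ≤ L) (hH1 : H ≠ ⊥) (hW1 : W₁ ≠ ⊥) (hnil : Group.IsNilpotent H) (hHn : ∀ x ∈ L, ∀ h ∈ H, x * h * x⁻¹ ∈ H) (hinf : H ⊓ W₁ = ⊥) (hsup : H ⊔ W₁ = L) (hfpf : ∀ w ∈ W₁, w ≠ 1 → ∀ h ∈ H, w * h = h * w → h = 1) (hTI : Cfsg.IsTISubset (H : Set G)) (hN : Subgroup.normalizer (H : Set G) = L) : Cfsg.IsCoherent (Cfsg.inducedIrrAbove (H.subgroupOf L) ⊥) {1}ᶜ (fun α : L → ℂ => Cfsg.indFun L α) := by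
  have : (H.subgroupOf L).Normal := ⟨fun h hh x => hHn x x.2 h hh⟩
  have hC := centralizer_le_of_fpf (K := H.subgroupOf L) (W := W₁.subgroupOf L)
    (by rw [← Subgroup.subgroupOf_sup hHL hW₁L, hsup, Subgroup.subgroupOf_self])
    fun w hw h1 k hk e => Subtype.ext (hfpf w hw (by simpa using h1) k hk (congrArg Subtype.val e))
  have h1 := sibley_frobenius (H := H.subgroupOf L) (τ := indLin L) (fun _ _ _ _ => rfl) hodd
    (fun g hg x hx y hy e => Subtype.ext (hTI g (hN ▸ hg) x hx (e ▸ hy)))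
    (Core.isNilpotent_subgroupOf hnil L) hC
  obtain ⟨φ, hφ, -⟩ := exists_mem_inducedIrrAbove_of_not_le (K := H.subgroupOf L) (A := ⊥)
    (by simpa using Core.not_le_commutator_of_isNilpotent (Core.isNilpotent_subgroupOf hnil L)
          le_rfl le_rfl fun e => hH1 ((Subgroup.subgroupOf_eq_bot.1 e).eq_bot_of_le hHL))
  exact h1.isCoherent (fun _ _ => rfl) ((degIso_indLin_seqInd (hN ▸ hTI) ⊥).exists_ne_zero
    (conjFun_mem_inducedIrrAbove hφ) hφ (conjFun_ne_of_mem_inducedIrrAbove hodd hφ))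

end Cfsg.Agent.S1524
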