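import Cfsg.Statements.S1527
import Cfsg.Agent.Char.Dade

set_option autoImplicit false
open Cfsg

namespace Cfsg.Agent.S1527

open Cfsg.Agent.Char

/-- Let G be a finite group and H i (i in a finite index type) subgroups of pairwise coprime orders, each of whose underlying sets is a TI-subset of G, such that every non-identity element of G is conjugate to an element of some H i. Then Nat.card G − 1 = Σ_i [G : N_G(H i)] · (Nat.card (H i) − 1). -/
theorem result {G : Type*} [Group G] [Finite G] {ι : Type*} [Fintype ι] (H : ι → Subgroup G) (hcop : ∀ i j, i ≠ j → Nat.Coprime (Nat.card (H i)) (Nat.card (H j))) (hTI : ∀ i, Cfsg.IsTISubset (H i : Set G)) (hcover : ∀ g : G, g ≠ 1 → ∃ i, ∃ x : G, x * g * x⁻¹ ∈ H i) : Nat.card G - 1 = ∑ i, (Subgroup.normalizer (H i : Set G)).index * (Nat.card (H i) - 1) := by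
  classical
  have := Fintype.ofFinite G
  have hD : ∀ i, DadeHypothesis ((H i : Set G) \ {1}) (Subgroup.normalizer (H i : Set G))
      fun _ => ⊥ := fun i => dadeHypothesis_of_TI (by simp)
    (fun g a ha hg => by_contra fun h => ha.2 (hTI i g h a ha.1 hg.1))
    fun x hx a ha => ⟨(hx a).1 ha.1, by simpa using ha.2⟩
  have h1 : ∀ i, (dadeSupp ((H i : Set G) \ {1}) fun _ => ⊥).ncard =
      (Subgroup.normalizer (H i : Set G)).index * (Nat.card (H i) - 1) := fun i => by
    have := Fintype.ofFinite (Subgroup.normalizer (H i : Set G))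
    have h := (hD i).ncard_supp
    rw [Set.ncard_sdiff_singleton_of_mem (H i).one_mem,
      ← (Subgroup.normalizer (H i : Set G)).index_mul_card, ← mul_assoc] at h
    rw [Nat.eq_of_mul_eq_mul_right Nat.card_pos h, mul_comm]
    rfl
  have h2 : ({1}ᶜ : Set G) = ⋃ i, dadeSupp ((H i : Set G) \ {1}) fun _ => ⊥ := by
    ext g
    simp only [Set.mem_iUnion]
    refine ⟨fun hg => ?_, fun ⟨i, hi⟩ e => (hD i).one_notMem_supp (e ▸ hi)⟩
    obtain ⟨i, x, hx⟩ := hcover g hg
    exact ⟨i, _, ⟨hx, by simpa using hg⟩, 1, Subgroup.one_mem _, x, by simp⟩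
  rw [← Finset.sum_congr rfl fun i _ => h1 i, ← finsum_eq_sum_of_fintype,
    ← Set.ncard_iUnion_of_finite (fun _ => Set.toFinite _), ← h2, Set.ncard_compl,
    Set.ncard_singleton]
  intro i j hij
  refine Set.disjoint_left.2 ?_
  rintro g ⟨a, ha, u, hu, x, e⟩ ⟨b, hb, v, hv, y, e'⟩
  rw [Subgroup.mem_bot.1 hu, mul_one] at e
  rw [Subgroup.mem_bot.1 hv, mul_one] at e'
  have h3 : orderOf a = orderOf g := e ▸ (MulAut.conj x).orderOf_eq g
  have h4 : orderOf b = orderOf g := e' ▸ (MulAut.conj y).orderOf_eq g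
  exact ha.2 (orderOf_eq_one_iff.1 (Nat.eq_one_of_dvd_coprimes (hcop i j hij)
    ((H i).orderOf_dvd_natCard ha.1) (h3 ▸ h4 ▸ (H j).orderOf_dvd_natCard hb.1)))

end Cfsg.Agent.S1527
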