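import Cfsg.Statements.S1529
import Cfsg.Agent.Char.Coh

set_option autoImplicit false
open Cfsg

namespace Cfsg.Agent.S1529

open Cfsg.Agent.Char

/-- Let N be a subgroup of the finite group G, S a set of irreducible characters of N with at least two members, and τ₁ a linear isometry on the integer combinations of S with virtual-character values such that τ₁ α vanishes at 1 whenever α ∈ ℤ[S] does. Then there is ε ∈ {1, −1} such that ε • τ₁ χ is an irreducible character of G for every χ ∈ S, and distinct members of S give distinct characters. -/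
theorem result {G : Type*} [Group G] [Fintype G] (N : Subgroup G) [Fintype N] (S : Set (N → ℂ)) (hirr : ∀ χ ∈ S, Cfsg.IsIrrCharacter N χ) (htwo : ∃ χ ∈ S, ∃ ψ ∈ S, χ ≠ ψ) (τ₁ : (N → ℂ) → (G → ℂ)) (hτ₁ : Cfsg.IsLinearIsometryOn (Cfsg.zspan S) τ₁) (h0 : ∀ α ∈ Cfsg.zspan S, α 1 = 0 → τ₁ α 1 = 0) : ∃ ε : ℂ, (ε = 1 ∨ ε = -1) ∧ (∀ χ ∈ S, Cfsg.IsIrrCharacter G (ε • τ₁ χ)) ∧ (∀ χ ∈ S, ∀ ψ ∈ S, τ₁ χ = τ₁ ψ → χ = ψ) := by
  obtain ⟨T, h1, h2⟩ := hτ₁.exists_cmap
  have h3 : DegIso S T := degIso_of_irr hirr (h2.mono fun α hα => hα.1)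
    fun α hα => by rw [h1 α hα.1, h0 α hα.1 hα.2]
  obtain ⟨ε, h4, h5⟩ := h3.exists_sign ⟨h2.mono Submodule.subset_span, Agree.refl T⟩ hirr
  refine ⟨ε, h4, fun χ hχ => h1 χ (Submodule.subset_span hχ) ▸ h5 χ hχ, fun χ hχ ψ hψ e => ?_⟩
  refine (hirr χ hχ).eq_of_classInner_ne_zero (hirr ψ hψ) ?_
  rw [← hτ₁.2.2.1 χ (Submodule.subset_span hχ) ψ (Submodule.subset_span hψ), ← e,
    hτ₁.2.2.1 χ (Submodule.subset_span hχ) χ (Submodule.subset_span hχ),
    (hirr χ hχ).classInner_self]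
  exact one_ne_zero

end Cfsg.Agent.S1529
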