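import Cfsg.Statements.S1530
import Cfsg.Agent.Char.Coh

set_option autoImplicit false
open Cfsg

namespace Cfsg.Agent.S1530

open Cfsg.Agent.Char

/-- Let N be a subgroup of the finite group G and S₀ a finite set of irreducible characters of N, χ an irreducible character of N not in S₀, with degrees ξ 1 = d ξ. Let τ be a linear isometry on the integer combinations of S₀ ∪ {χ} vanishing at 1, with values virtual characters of G vanishing at 1, such that (S₀, N minus 1, τ) is coherent. If some ψ ∈ S₀ has d ψ dividing d χ and 2 · d ψ · d χ < Σ_{ξ ∈ S₀} (d ξ)², then (S₀ ∪ {χ}, N minus 1, τ) is coherent. -/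
theorem result {G : Type*} [Group G] [Fintype G] (N : Subgroup G) [Fintype N] (S₀ : Finset (N → ℂ)) (χ : N → ℂ) (hirr : ∀ ξ ∈ S₀, Cfsg.IsIrrCharacter N ξ) (hχ : Cfsg.IsIrrCharacter N χ) (hχS : χ ∉ S₀) (d : (N → ℂ) → ℕ) (hd : ∀ ξ ∈ insert χ S₀, ξ 1 = (d ξ : ℂ)) (τ : (N → ℂ) → (G → ℂ)) (hτ : Cfsg.IsLinearIsometryOn (Cfsg.zspanOn (↑(insert χ S₀) : Set (N → ℂ)) {1}ᶜ) τ) (hτ1 : ∀ α ∈ Cfsg.zspanOn (↑(insert χ S₀) : Set (N → ℂ)) {1}ᶜ, τ α 1 = 0) (hcoh : Cfsg.IsCoherent (↑S₀ : Set (N → ℂ)) {1}ᶜ τ) (ψ : N → ℂ) (hψ : ψ ∈ S₀) (hdvd : d ψ ∣ d χ) (hlt : 2 * d ψ * d χ < ∑ ξ ∈ S₀, d ξ ^ 2) : Cfsg.IsCoherent (↑(insert χ S₀) : Set (N → ℂ)) {1}ᶜ τ := by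
  have hirr' : ∀ ξ ∈ (↑(insert χ S₀) : Set (N → ℂ)), IsIrrCharacter N ξ := by
    intro ξ hξ
    rcases Finset.mem_insert.1 hξ with rfl | h
    · exact hχ
    · exact hirr ξ h
  obtain ⟨τ', h1, h2⟩ := exists_degIso_of_irr hirr' hτ hτ1
  have h3 : (↑S₀ : Set (N → ℂ)) ⊆ ↑(insert χ S₀) := by simp
  obtain ⟨ν, hν⟩ := hcoh.coh (τ := τ') (fun φ hφ => (hirr φ hφ).isCharacter)
    (fun φ hφ => (hirr φ hφ).ne_zero) fun α hα => h1 α (span1_mono h3 hα)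
  obtain ⟨a, ha⟩ := hdvd
  have h4 : χ 1 = a * ψ 1 := by
    rw [hd χ (by simp), hd ψ (by simp [hψ]), ha, Nat.cast_mul, mul_comm]
  have h5 := h2.orth_of_irr h3 hirr hν (by simp) hχ hχS hψ h4 (by
    rw [hd χ (by simp), hd ψ (by simp [hψ]), Finset.sum_congr rfl
      (g := fun ξ => ((d ξ ^ 2 : ℕ) : ℝ)) fun ξ hξ => by
        rw [hd ξ (by simp [hξ]), (hirr ξ hξ).nrm_eq]; simp]
    rw [mul_right_comm] at hlt
    exact_mod_cast hlt)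
  have h6 := h2.cohWith_union (T := {χ}) h3 (by simp) hν hψ
    (by simpa using fun _ => h2.gen_of_dvd hν.agree (by simp) (h3 hψ) h4 (hν.gen ψ hψ))
    (by simpa using fun _ => h5)
  refine Coh.isCoherent ⟨ν, h6.mono (by simp)⟩ h1
    (h2.exists_ne_zero (φ := χ) (ψ := ψ) (by simp) (h3 hψ) fun e => hχS (e ▸ hψ))

end Cfsg.Agent.S1530
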