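import Cfsg.Statements.S1531
import Cfsg.Agent.Char.Coh2

set_option autoImplicit false
open Cfsg

namespace Cfsg.Agent.S1531

open Cfsg.Agent.Char

/-- Let N be a subgroup of the finite group G, S a set of irreducible characters of N, and α a linear isometry on the integer combinations of S vanishing at 1 with values virtual characters of G vanishing at 1. Let X, Y ⊆ S be disjoint, each with at least two members, and σ, τ linear isometries on ℤ[X], ℤ[Y] into virtual characters agreeing with α on the members vanishing at 1. Then ⟨σ χ, τ η⟩ = 0 for χ ∈ X, η ∈ Y; and if for some χ₀ ∈ X, η₀ ∈ Y with degrees c = χ₀ 1, e = η₀ 1 one has α (c • η₀ − e • χ₀) = c • τ η₀ − e • σ χ₀, then (X ∪ Y, N minus 1, α) is coherent. -/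
theorem result {G : Type*} [Group G] [Fintype G] (N : Subgroup G) [Fintype N] (S X Y : Set (N → ℂ)) (hirr : ∀ ξ ∈ S, Cfsg.IsIrrCharacter N ξ) (hXS : X ⊆ S) (hYS : Y ⊆ S) (hXY : Disjoint X Y) (hX2 : ∃ a ∈ X, ∃ b ∈ X, a ≠ b) (hY2 : ∃ a ∈ Y, ∃ b ∈ Y, a ≠ b) (α : (N → ℂ) → (G → ℂ)) (hα : Cfsg.IsLinearIsometryOn (Cfsg.zspanOn S {1}ᶜ) α) (hα1 : ∀ θ ∈ Cfsg.zspanOn S {1}ᶜ, α θ 1 = 0) (σ τ : (N → ℂ) → (G → ℂ)) (hσ : Cfsg.IsLinearIsometryOn (Cfsg.zspan X) σ) (hσα : ∀ θ ∈ Cfsg.zspanOn X {1}ᶜ, σ θ = α θ) (hτ : Cfsg.IsLinearIsometryOn (Cfsg.zspan Y) τ) (hτα : ∀ θ ∈ Cfsg.zspanOn Y {1}ᶜ, τ θ = α θ) : (∀ χ ∈ X, ∀ η ∈ Y, Cfsg.classInner (σ χ) (τ η) = 0) ∧ ((∃ χ₀ ∈ X, ∃ η₀ ∈ Y, α (χ₀ 1 • η₀ - η₀ 1 • χ₀) = χ₀ 1 • τ η₀ - η₀ 1 • σ χ₀) → Cfsg.IsCoherent (X ∪ Y) {1}ᶜ α) := by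
  obtain ⟨α', h1, h2⟩ := exists_degIso_of_irr hirr hα hα1
  rw [zspanOn_eq_span1] at hσα hτα
  obtain ⟨ν₁, h3, h4⟩ := exists_cohWith_of_isometry (τ := α') (fun φ hφ => h2.char φ (hXS hφ))
    (fun φ hφ => h2.ne_zero φ (hXS hφ)) hσ
    fun θ hθ => (hσα θ hθ).trans (h1 θ (span1_mono hXS hθ)).symm
  obtain ⟨ν₂, h5, h6⟩ := exists_cohWith_of_isometry (τ := α') (fun φ hφ => h2.char φ (hYS hφ))
    (fun φ hφ => h2.ne_zero φ (hYS hφ)) hτ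
    fun θ hθ => (hτα θ hθ).trans (h1 θ (span1_mono hYS hθ)).symm
  have other : ∀ Z : Set (N → ℂ), (∃ a ∈ Z, ∃ b ∈ Z, a ≠ b) → ∀ c, ∃ b ∈ Z, c ≠ b := by
    rintro Z ⟨a, ha, b, hb, hab⟩ c
    by_cases h : c = a
    · exact ⟨b, hb, h ▸ hab⟩
    · exact ⟨a, ha, h⟩
  have h7 : ∀ χ ∈ X, ∀ η ∈ Y, classInner (ν₁ χ) (ν₂ η) = 0 := by
    intro χ hχ η hη
    obtain ⟨χ', h7, h8⟩ := other X hX2 χ
    obtain ⟨η', h9, h10⟩ := other Y hY2 η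
    exact h2.orth_of_irr_disjoint hirr hXS hYS hXY h3 h5 hχ h7 h8 hη h9 h10
  refine ⟨fun χ hχ η hη => ?_, ?_⟩
  · rw [← h4 χ (Submodule.subset_span hχ), ← h6 η (Submodule.subset_span hη), h7 χ hχ η hη]
  rintro ⟨χ, hχ, η, hη, e⟩
  have hne : η ≠ χ := fun e => Set.disjoint_left.1 hXY hχ (e ▸ hη)
  have m := smul_sub_smul_mem_span1 (hYS hη) (hXS hχ) (h2.char _ (hYS hη)) (h2.char _ (hXS hχ))
  rw [← h1 _ m, ← h3.agree _ m.2, map_sub, map_smul, map_smul, ← h4 χ (Submodule.subset_span hχ),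
    ← h6 η (Submodule.subset_span hη), sub_left_inj] at e
  obtain rfl := h3.agree.ext h5.agree (h2.one_ne_zero (hYS hη))
    (smul_right_injective _ (h2.one_ne_zero (hXS hχ)) e)
  have h8 := Set.union_subset hXS hYS
  refine Coh.isCoherent ⟨ν₁, h2.cohWith_union' hXS hYS h3 h5 (Submodule.subset_span hχ)
    (Submodule.subset_span hη) (h2.one_ne_zero (hXS hχ)) (h2.one_ne_zero (hYS hη)) ?_⟩
    (fun θ hθ => h1 θ (span1_mono h8 hθ))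
    ((h2.mono h8).exists_ne_zero (Or.inr hη) (Or.inl hχ) hne)
  rw [classInner_eq_zero_comm.1 (h7 χ hχ η hη), h2.orth _ (hYS hη) _ (hXS hχ) hne]

end Cfsg.Agent.S1531
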