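import Cfsg.Statements.S1532
import Cfsg.Agent.Char.Coh3
import Cfsg.Agent.Core.Frobenius

set_option autoImplicit false
open Cfsg

namespace Cfsg.Agent.S1532

open Cfsg.Agent.Char

open Cfsg in
theorem aux {L G : Type*} [Group L] [Fintype L] [Group G] [Fintype G] {p : ℕ} (hp : p.Prime)
    (hp2 : p ≠ 2) {K Z : Subgroup L} [K.Normal] [Z.Normal] (hK : IsPGroup p K)
    (hna : ¬ IsMulCommutative K) (hC : ∀ k ∈ K, k ≠ 1 → Subgroup.centralizer {k} ≤ K)
    (hZ : Z ≠ ⊥) (hZK : Z ≤ K) (hZc : ∀ z ∈ Z, ∀ k ∈ K, z * k = k * z) {τ : CMap L G}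
    (hD : DegIso (inducedIrrAbove K ⊥) τ) :
    IsCoherent {χ | IsIrrCharacter L χ ∧ ∃ z ∈ Z, χ z ≠ χ 1} {1}ᶜ τ := by
  have := Fact.mk hp
  have hirr := fun φ => isIrr_of_mem_inducedIrrAbove hC (A := ⊥) (φ := φ)
  have hp3 : 3 ≤ p := by have := hp.two_le; omega
  obtain ⟨m, hm⟩ := IsPGroup.iff_card.1 hK
  have hm0 : m ≠ 0 := by
    rintro rfl
    exact hZ (le_bot_iff.1 (Subgroup.card_eq_one.1 hm ▸ hZK))
  have hcop := coprime_of_modEq_one (card_modEq_one_of_centralizer_le hC)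
  have h1 := (hD.preCoh hirr).coh_sdiff_of_isPGroup hp hp3 ⟨m, hm⟩
    (hcop.coprime_dvd_left (hm ▸ dvd_pow_self p hm0)).symm hZK hZc fun χ hχ => hirr χ hχ.1
  have h2 := inducedIrrAbove_sdiff_eq hZK fun χ hχ => hirr χ hχ.1
  have hKo : Odd (Nat.card K) := hm ▸ (hp.odd_of_ne_two hp2).pow
  have hodd : Odd (Nat.card L) := by
    by_contra h
    have := Fact.mk Nat.prime_two
    obtain ⟨t, ht⟩ := exists_prime_orderOf_dvd_card' (G := L) 2
      (even_iff_two_dvd.1 (Nat.not_odd_iff_even.1 h))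
    refine hna (Core.inv_of_fpf_involution (s := t)
      (Subgroup.le_normalizer_of_normal (K := ⊤) trivial)
      (by rw [← sq, ← ht, pow_orderOf_eq_one]) (eq_bot_iff.2 fun x hx => ?_)).2
    by_contra h1
    have h2 : t ∈ K := hC x hx.1 h1 (Subgroup.mem_centralizer_singleton_iff.2
      (Subgroup.mem_centralizer_singleton_iff.1 hx.2).symm)
    have h3 : 2 ∣ Nat.card K := ht ▸ K.orderOf_dvd_natCard h2
    exact Nat.not_even_iff_odd.2 hKo (even_iff_two_dvd.2 h3)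
  obtain ⟨⟨z, hz⟩, hz1⟩ := Subgroup.ne_bot_iff_exists_ne_one.1 hZ
  obtain ⟨χ, hχ, hχz⟩ : ∃ χ, IsIrrCharacter L χ ∧ χ z ≠ χ 1 := by
    by_contra h
    push Not at h
    exact hz1 (Subtype.ext (eq_one_of_forall_irr h))
  have h3 : χ ∈ inducedIrrAbove K ⊥ \ inducedIrrAbove K Z := h2 ▸ ⟨hχ, z, hz, hχz⟩
  have h4 : conjFun χ ∈ inducedIrrAbove K ⊥ \ inducedIrrAbove K Z :=
    ⟨conjFun_mem_inducedIrrAbove h3.1, fun h => h3.2 (by simpa using conjFun_mem_inducedIrrAbove h)⟩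
  rw [← h2]
  exact h1.isCoherent (fun _ _ => rfl) ((hD.mono Set.sdiff_subset).exists_ne_zero h4 h3
    (hχ.conj_ne_of_odd hodd fun e => hχz (by rw [e])))

/-- Let G be a finite group, p an odd prime and P a Sylow p-subgroup that is non-abelian, whose underlying set is a TI-subset of G, with P properly contained in its set normaliser N and C_G(x) ≤ P for every non-identity x ∈ P. Let Z be a nontrivial subgroup of the centre of P normalised by N. Then the set of irreducible characters χ of N with χ z ≠ χ 1 for some z ∈ Z is coherent for the map induced by induction from N to G. -/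
theorem result {G : Type*} [Group G] [Fintype G] (p : ℕ) [Fact p.Prime] (hp : p ≠ 2) (P : Sylow p G) (hna : ¬ IsMulCommutative (P : Subgroup G)) (hTI : Cfsg.IsTISubset ((P : Subgroup G) : Set G)) (hlt : (P : Subgroup G) < Subgroup.normalizer ((P : Subgroup G) : Set G)) (hC : ∀ k ∈ (P : Subgroup G), k ≠ 1 → Subgroup.centralizer ({k} : Set G) ≤ (P : Subgroup G)) [Fintype ↥(Subgroup.normalizer ((P : Subgroup G) : Set G))] (Z : Subgroup G) (hZ1 : Z ≠ ⊥) (hZP : ∀ z ∈ Z, z ∈ (P : Subgroup G) ∧ ∀ y ∈ (P : Subgroup G), z * y = y * z) (hZn : ∀ x ∈ Subgroup.normalizer ((P : Subgroup G) : Set G), ∀ z ∈ Z, x * z * x⁻¹ ∈ Z) : Cfsg.IsCoherent {χ : ↥(Subgroup.normalizer ((P : Subgroup G) : Set G)) → ℂ | Cfsg.IsIrrCharacter ↥(Subgroup.normalizer ((P : Subgroup G) : Set G)) χ ∧ ∃ z : ↥(Subgroup.normalizer ((P : Subgroup G) : Set G)), (z : G) ∈ Z ∧ χ z ≠ χ 1} {1}ᶜ (fun α => Cfsg.indFun (Subgroup.normalizer ((P : Subgroup G) : Set G))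 α) := by
  have : ((P : Subgroup G).subgroupOf (Subgroup.normalizer ((P : Subgroup G) : Set G))).Normal :=
    Subgroup.normal_subgroupOf_of_le_normalizer le_rfl
  have : (Z.subgroupOf (Subgroup.normalizer ((P : Subgroup G) : Set G))).Normal :=
    ⟨fun z hz x => hZn x x.2 z hz⟩
  refine aux (K := (P : Subgroup G).subgroupOf _) (Z := Z.subgroupOf _) Fact.out hp
    (P.isPGroup'.comap_subtype) (fun h => hna ⟨⟨fun a b => ?_⟩⟩)
    (centralizer_le_subgroupOf fun k hk h => inf_le_right.trans (hC k hk h)) (fun h => hZ1 ?_)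
    (fun z hz => (hZP z hz).1) (fun z hz k hk => Subtype.ext ((hZP z hz).2 k hk))
    (degIso_indLin_seqInd hTI ⊥)
  · exact Subtype.ext (congrArg (fun x => x.1.1)
      (h.is_comm.comm ⟨⟨a, hlt.le a.2⟩, a.2⟩ ⟨⟨b, hlt.le b.2⟩, b.2⟩))
  · rw [Subgroup.subgroupOf_eq_bot] at h
    exact h.eq_bot_of_le fun z hz => hlt.le (hZP z hz).1

end Cfsg.Agent.S1532
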