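import Cfsg.Statements.S1534
import Cfsg.Agent.Char.Sibley
import Cfsg.Agent.Core.Frobenius

set_option autoImplicit false
open Cfsg

namespace Cfsg.Agent.S1534

open Cfsg.Agent.Char

theorem aux {G : Type*} [Group G] [Fintype G] {L : Subgroup G} [Fintype L] {K : Subgroup L}
    [K.Normal] (hK1 : K ≠ ⊥) (hK2 : K ≠ ⊤) (hn : Group.IsNilpotent K)
    (hTI : ∀ g, g ∉ L → ∀ x ∈ K, ∀ y ∈ K, g * x * g⁻¹ = y → x = 1)
    (hC : ∀ k ∈ K, k ≠ 1 → Subgroup.centralizer {k} ≤ K)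
    (hD : DegIso (inducedIrrAbove K ⊥) (indLin L)) :
    (Nat.card {χ : L → ℂ // IsIrrCharacter L χ ∧ ∃ k ∈ K, χ k ≠ χ 1} = 1 ∧
      Nat.card K = K.index + 1 ∧ ∃ p : ℕ, p.Prime ∧ IsElementaryAbelian p K) ∨
    ((∃ m, Nat.card K = 2 ^ m) ∧ ⁅K, K⁆.relIndex K < 4 * K.index ^ 2) ∨
    IsCoherent {χ : L → ℂ | IsIrrCharacter L χ ∧ ∃ k ∈ K, χ k ≠ χ 1} {1}ᶜ (indLin L) := by
  have hirr := fun φ => isIrr_of_mem_inducedIrrAbove hC (A := ⊥) (φ := φ)
  by_cases he : Nat.card K = K.index + 1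
  · refine Or.inl ⟨?_, he, isElementaryAbelian_of_card_eq hC he⟩
    rw [← card_seqInd_eq_one hC he, ← Set.ncard_coe_finset, coe_seqInd, inducedIrrAbove_bot_eq hC]
    rfl
  rw [← inducedIrrAbove_bot_eq hC]
  obtain ⟨φ, hφ, ψ, hψ, hne⟩ := exists_ne_of_card_ne hirr
    (not_le_commutator_sup_of_solvable inferInstance (mt le_bot_iff.1 hK1))
    (by rwa [Subgroup.relIndex_bot_left])
  refine Or.inr (or_iff_not_imp_right.2 fun h => ?_)
  replace h : ¬ Coh (inducedIrrAbove K ⊥) (indLin L) := fun e =>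
    h (e.isCoherent (fun _ _ => rfl) (hD.exists_ne_zero hφ hψ hne))
  obtain ⟨p, hp, ⟨m, hm⟩, h4, h5⟩ := ((hD.preCoh hirr).feit hn hK1 hK2 hC).resolve_left h
  have h6 : ⁅K, K⁆.relIndex K ≡ 1 [MOD K.index] := relIndex_modEq_one_of_card
    (Subgroup.commutator_le_left K K) (card_modEq_one_of_centralizer_le fun d hd =>
      hC d (Subgroup.commutator_le_left K K hd)) (card_modEq_one_of_centralizer_le hC)
  obtain rfl : p = 2 := by
    by_contra hp2
    refine h (sibley_frobenius (fun _ _ _ _ => rfl) ?_ hTI hn hC)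
    have hKo : Odd (Nat.card K) := hm ▸ (hp.odd_of_ne_two hp2).pow
    by_contra h
    have := Fact.mk Nat.prime_two
    obtain ⟨t, ht⟩ := exists_prime_orderOf_dvd_card' (G := L) 2
      (even_iff_two_dvd.1 (Nat.not_odd_iff_even.1 h))
    have h7 := (Core.inv_of_fpf_involution (K := K) (s := t)
      (Subgroup.le_normalizer_of_normal (K := ⊤) trivial)
      (by rw [← sq, ← ht, pow_orderOf_eq_one]) (eq_bot_iff.2 fun x hx => ?_)).2
    · refine h4 (eq_bot_iff.2 (Subgroup.commutator_le.2 fun a ha b hb => ?_))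
      rw [Subgroup.mem_bot, commutatorElement_eq_one_iff_mul_comm]
      exact congrArg Subtype.val (h7.is_comm.comm (⟨a, ha⟩ : K) ⟨b, hb⟩)
    by_contra h1
    have h2 : t ∈ K := hC x hx.1 h1 (mem_cent1.2 (mem_cent1.1 hx.2).symm)
    have h3 : 2 ∣ Nat.card K := ht ▸ K.orderOf_dvd_natCard h2
    exact Nat.not_even_iff_odd.2 hKo (even_iff_two_dvd.2 h3)
  refine ⟨⟨m, hm⟩, ?_⟩
  obtain ⟨j, -, hj⟩ := (Nat.dvd_prime_pow hp).1 (hm ▸ Subgroup.relIndex_dvd_card ⁅K, K⁆ K)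
  have h7 := one_lt_relIndex (Core.not_le_commutator_of_isNilpotent hn le_rfl le_rfl hK1)
  have h8 : 2 ∣ ⁅K, K⁆.relIndex K := hj ▸ dvd_pow_self 2 (by rintro rfl; omega)
  have h9 : ⁅K, K⁆.relIndex K ≠ 4 * K.index ^ 2 := fun e => by
    have h9 := coprime_of_modEq_one h6
    rw [e] at h9
    exact hK2 (Subgroup.index_eq_one.1 (h9.symm.eq_one_of_dvd ⟨4 * K.index, by ring⟩))
  omega

/-- Let G be a finite group and K a nontrivial nilpotent subgroup whose underlying set is a TI-subset of G, properly contained in its set normaliser N, with C_G(k) ≤ K for every non-identity k ∈ K; let e be the index of K in N and S the set of irreducible characters χ of N with χ k ≠ χ 1 for some k ∈ K. Then one of: S has exactly one member, Nat.card K = e + 1 and K is an elementary abelian p-group for some prime p; or K is a Sylow 2-subgroup of G (Nat.card K is the largest power of 2 dividing Nat.card G) and [K : [K,K]] < 4e²; or (S, N minus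 1, induction to G) is coherent. -/
theorem result {G : Type*} [Group G] [Fintype G] (K : Subgroup G) (hK1 : K ≠ ⊥) (hnil : Group.IsNilpotent K) (hTI : Cfsg.IsTISubset (K : Set G)) (hlt : K < Subgroup.normalizer (K : Set G)) (hC : ∀ k ∈ K, k ≠ 1 → Subgroup.centralizer ({k} : Set G) ≤ K) [Fintype ↥(Subgroup.normalizer (K : Set G))] : (Nat.card {χ : ↥(Subgroup.normalizer (K : Set G)) → ℂ // Cfsg.IsIrrCharacter ↥(Subgroup.normalizer (K : Set G)) χ ∧ ∃ k : ↥(Subgroup.normalizer (K : Set G)), (k : G) ∈ K ∧ χ k ≠ χ 1} = 1 ∧ Nat.card K = (K.subgroupOf (Subgroup.normalizer (K : Set G))).index + 1 ∧ ∃ p : ℕ, p.Prime ∧ Cfsg.IsElementaryAbelian p K) ∨ (Nat.card K = 2 ^ (Nat.card G).factorization 2 ∧ (⁅K, K⁆.subgroupOf K).index < 4 * (K.subgroupOf (Subgroup.normalizer (K : Set G))).index ^ 2) ∨ Cfsg.IsCoherent {χ : ↥(Subgroup.normalizer (K : Set G)) → ℂ | Cfsg.IsIrrCharacter ↥(Subgroup.normalizer (K : Set G)) χ ∧ ∃ k : ↥(Subgroup.normalizer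 (K : Set G)), (k : G) ∈ K ∧ χ k ≠ χ 1} {1}ᶜ (fun α => Cfsg.indFun (Subgroup.normalizer (K : Set G)) α) := by
  have : (K.subgroupOf (Subgroup.normalizer (K : Set G))).Normal :=
    Subgroup.normal_subgroupOf_of_le_normalizer le_rfl
  have e := Subgroup.subgroupOfEquivOfLe hlt.le
  have hc := Nat.card_congr e.toEquiv
  refine (aux (K := K.subgroupOf _)
    (fun e => hK1 ((Subgroup.subgroupOf_eq_bot.1 e).eq_bot_of_le hlt.le))
    (fun e => hlt.not_ge (Subgroup.subgroupOf_eq_top.1 e)) (Core.isNilpotent_subgroupOf hnil _)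
    (fun g hg x hx y hy e => Subtype.ext (hTI g hg x hx (e ▸ hy)))
    (centralizer_le_subgroupOf fun k hk h => inf_le_right.trans (hC k hk h))
    (degIso_indLin_seqInd hTI ⊥)).imp (fun ⟨h1, h2, p, hp, h3⟩ => ⟨h1, hc ▸ h2, p, hp, ?_⟩)
    (Or.imp_left fun ⟨⟨m, hm⟩, h2⟩ => ⟨?_, ?_⟩)
  · refine ⟨⟨⟨fun a b => e.symm.injective ?_⟩⟩, fun a ha => ?_⟩
    · rw [map_mul, map_mul]; exact h3.1.is_comm.comm _ _
    · exact congrArg Subtype.val (h3.2 ⟨a, hlt.le ha⟩ ha)
  · have := Fact.mk Nat.prime_two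
    rw [hc] at hm
    obtain ⟨P, hP⟩ := (IsPGroup.of_card hm).exists_le_sylow
    rw [← P.card_eq_multiplicity, hP.antisymm ?_]
    obtain ⟨⟨z, hz⟩, hz1⟩ := Subgroup.ne_bot_iff_exists_ne_one.1 (Core.inf_centralizer_ne_bot
      (N := P) P.isPGroup'.isNilpotent le_rfl Subgroup.le_normalizer fun e => hK1 (le_bot_iff.1 (e ▸ hP)))
    obtain ⟨⟨k, hk⟩, hk1⟩ := Subgroup.ne_bot_iff_exists_ne_one.1 hK1
    have h3 := hC k hk (by simpa using hk1) (mem_cent1.2 (hz.2 k (hP hk)).symm)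
    exact fun x hx => hC z h3 (by simpa using hz1) (mem_cent1.2 (hz.2 x hx))
  · rwa [← Subgroup.relIndex_map_map_of_injective _ _ (Subgroup.subtype_injective _),
      Subgroup.map_commutator, Subgroup.subgroupOf_map_subtype, inf_eq_left.2 hlt.le] at h2

end Cfsg.Agent.S1534
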