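import Cfsg.Statements.S1535
import Cfsg.Agent.Char.Coh3
import Cfsg.Agent.Core.ThompsonFPF

set_option autoImplicit false
open Cfsg

namespace Cfsg.Agent.S1535

open Cfsg.Agent.Char

/-- Let N be a finite group with a proper nontrivial normal subgroup H such that every element commuting with a non-identity element of H lies in H (N is a Frobenius group with kernel H); let e be the index of H and suppose Nat.card H ≠ e + 1. Let S be the set of irreducible characters χ of N with χ h ≠ χ 1 for some h ∈ H, and τ a linear isometry on the integer combinations of S vanishing at 1, with values virtual characters of a finite group G vanishing at 1. Then (S, N minus 1, τ) is coherent, or there is a prime p with Nat.card H a power of p, H non-abelian and [H : [H,H]] ≤ 4e² + 1. -/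
theorem result {N : Type*} [Group N] [Fintype N] {G : Type*} [Group G] [Fintype G] (H : Subgroup N) [H.Normal] (hH1 : H ≠ ⊥) (hH2 : H ≠ ⊤) (hC : ∀ h ∈ H, h ≠ 1 → Subgroup.centralizer ({h} : Set N) ≤ H) (he : Nat.card H ≠ H.index + 1) (τ : (N → ℂ) → (G → ℂ)) (hτ : Cfsg.IsLinearIsometryOn (Cfsg.zspanOn {χ : N → ℂ | Cfsg.IsIrrCharacter N χ ∧ ∃ h ∈ H, χ h ≠ χ 1} {1}ᶜ) τ) (hτ1 : ∀ α ∈ Cfsg.zspanOn {χ : N → ℂ | Cfsg.IsIrrCharacter N χ ∧ ∃ h ∈ H, χ h ≠ χ 1} {1}ᶜ, τ α 1 = 0) : Cfsg.IsCoherent {χ : N → ℂ | Cfsg.IsIrrCharacter N χ ∧ ∃ h ∈ H, χ h ≠ χ 1} {1}ᶜ τ ∨ ∃ p : ℕ, p.Prime ∧ (∃ m : ℕ, Nat.card H = p ^ m) ∧ ¬ IsMulCommutative H ∧ (⁅H, H⁆.subgroupOf H).index ≤ 4 * H.index ^ 2 + 1 := by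
  have hn : Group.IsNilpotent H := by
    obtain ⟨r, hr, hr'⟩ := Nat.exists_prime_and_dvd (mt Subgroup.index_eq_one.1 hH2)
    have := Fact.mk hr
    obtain ⟨g, hg⟩ := exists_prime_orderOf_dvd_card' (G := N) r (hr'.trans H.index_dvd_card)
    have hcop := coprime_of_modEq_one (card_modEq_one_of_centralizer_le hC)
    refine Core.isNilpotent_of_fpf_prime (r := g) (Subgroup.le_normalizer_of_normal (K := ⊤) trivial)
      (hg ▸ hr) (eq_bot_iff.2 fun x hx => ?_)
    by_contra h1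
    have h2 : g ∈ H := hC x hx.1 h1 (Subgroup.mem_centralizer_singleton_iff.2
      (Subgroup.mem_centralizer_singleton_iff.1 hx.2).symm)
    have h3 : r ∣ Nat.card H := hg ▸ H.orderOf_dvd_natCard h2
    exact hr.one_lt.ne' ((Nat.Coprime.coprime_dvd_left h3
      (hcop.coprime_dvd_right hr')).eq_one_of_dvd dvd_rfl)
  rw [← inducedIrrAbove_bot_eq hC] at hτ hτ1 ⊢
  have hirr := fun φ => isIrr_of_mem_inducedIrrAbove hC (A := ⊥) (φ := φ)
  obtain ⟨τ', h1, h2⟩ := exists_degIso_of_irr hirr hτ hτ1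
  rcases (h2.preCoh hirr).feit hn hH1 hH2 hC with h3 | ⟨p, hp, h3, h4, h5⟩
  · obtain ⟨φ, hφ, ψ, hψ, hne⟩ := exists_ne_of_card_ne hirr
      (not_le_commutator_sup_of_solvable inferInstance (mt le_bot_iff.1 hH1))
      (by rwa [Subgroup.relIndex_bot_left])
    exact Or.inl (h3.isCoherent h1 (h2.exists_ne_zero hφ hψ hne))
  · refine Or.inr ⟨p, hp, h3, fun h => h4 (eq_bot_iff.2 (Subgroup.commutator_le.2 fun a ha b hb => ?_)), h5⟩
    rw [Subgroup.mem_bot, commutatorElement_eq_one_iff_mul_comm]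
    exact congrArg Subtype.val (h.is_comm.comm (⟨a, ha⟩ : H) ⟨b, hb⟩)

end Cfsg.Agent.S1535
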