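import Cfsg.Statements.S1546
import Mathlib

set_option autoImplicit false
open Cfsg

namespace Cfsg.Agent.S1546

open Finset


/-- Let p and q be odd primes and N = (p ^ q − 1) / (p − 1) = 1 + p + ⋯ + p^(q−1). Then N is odd; if p ≡ 1 (mod q) then q ∣ N; and if p is not ≡ 1 (mod q) then N is coprime to p − 1 and every divisor of N is ≡ 1 (mod q). -/
theorem result (p q : ℕ) (hp : p.Prime) (hq : q.Prime) (hp2 : p ≠ 2) (hq2 : q ≠ 2) : Odd ((p ^ q - 1) / (p - 1)) ∧ (p % q = 1 → q ∣ (p ^ q - 1) / (p - 1)) ∧ (p % q ≠ 1 → Nat.Coprime ((p ^ q - 1) / (p - 1)) (p - 1) ∧ ∀ x : ℕ, x ∣ (p ^ q - 1) / (p - 1) → x % q = 1) := by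
  have hp1 := hp.two_le
  have hq1 := hq.two_le
  rw [← Nat.geomSum_eq hp1]
  have hmod : ∀ m : ℕ, p ≡ 1 [MOD m] → ∑ i ∈ range q, p ^ i ≡ q [MOD m] := by
    intro m h
    have : ∑ i ∈ range q, p ^ i ≡ ∑ i ∈ range q, 1 [MOD m] :=
      Nat.ModEq.sum fun i _ => by simpa using h.pow i
    simpa using this
  have hone : 1 % q = 1 := Nat.mod_eq_of_lt (by omega)
  refine ⟨?_, fun h => ?_, fun h => ?_⟩
  · have := hmod 2 (Nat.odd_iff.1 (hp.odd_of_ne_two hp2))
    rw [Nat.odd_iff, this]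
    exact Nat.odd_iff.1 (hq.odd_of_ne_two hq2)
  · exact (Nat.modEq_zero_iff_dvd).1 ((hmod q (by rw [Nat.ModEq, h, hone])).trans
      (Nat.modEq_zero_iff_dvd.2 dvd_rfl))
  · have hc : Nat.Coprime (∑ i ∈ range q, p ^ i) (p - 1) := by
      have h1 := hmod (p - 1) ((Nat.modEq_iff_dvd' (by omega)).2 dvd_rfl).symm
      rw [Nat.Coprime, h1.gcd_eq]
      refine (Nat.Prime.coprime_iff_not_dvd hq).2 fun hd => h ?_
      have := ((Nat.modEq_iff_dvd' (by omega : 1 ≤ p)).2 hd).symm
      rw [this, hone]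
    refine ⟨hc, fun x hx => ?_⟩
    have hn0 : ∑ i ∈ range q, p ^ i ≠ 0 := by
      rw [Nat.geomSum_eq hp1]
      intro e
      rw [← Nat.geomSum_eq hp1, show q = q - 1 + 1 by omega, sum_range_succ'] at e
      simp at e
    induction x using induction_on_primes with
    | zero => exact (hn0 (zero_dvd_iff.1 hx)).elim
    | one => exact hone
    | prime_mul r a hr ih =>
      have h1 := ih (dvd_of_mul_left_dvd hx)
      have hr' : r ∣ ∑ i ∈ range q, p ^ i := dvd_of_mul_right_dvd hx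
      haveI := Fact.mk hr
      have h2 : (p : ZMod r) ^ q = 1 := by
        have := geom_sum_mul (p : ZMod r) q
        have h3 : ∑ i ∈ range q, (p : ZMod r) ^ i = 0 := by
          have := (ZMod.natCast_eq_zero_iff _ r).2 hr'
          exact_mod_cast this
        rw [h3, zero_mul] at this
        exact (sub_eq_zero.1 this.symm)
      have h3 : (p : ZMod r) ≠ 1 := by
        intro e
        have : r ∣ p - 1 := by
          rw [← ZMod.natCast_eq_zero_iff, Nat.cast_sub (by omega), e]; simp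
        exact hr.one_lt.ne' (Nat.eq_one_of_dvd_coprimes hc hr' this)
      haveI := Fact.mk hq
      have h4 : orderOf (p : ZMod r) = q := orderOf_eq_prime h2 h3
      have h5 : (p : ZMod r) ≠ 0 := by
        intro e; rw [e, zero_pow (by omega)] at h2; exact zero_ne_one h2
      have h6 : q ∣ r - 1 := h4 ▸ orderOf_dvd_of_pow_eq_one (ZMod.pow_card_sub_one_eq_one h5)
      have h7 := ((Nat.modEq_iff_dvd' hr.one_le).2 h6).symm
      rw [Nat.mul_mod, h1, h7, hone, hone]

end Cfsg.Agent.S1546
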