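import Cfsg.Statements.S1550
import Cfsg.Agent.Gol.Sex

set_option autoImplicit false
open scoped Pointwise
open Cfsg

namespace Cfsg.Agent.S1550

open Cfsg.Agent.Gol Finset
open scoped Pointwise


theorem result : (∀ t : Finset Cfsg.GolayPt, t.card = 4 → ∃! S : Finset (Finset Cfsg.GolayPt), S ∈ Cfsg.sextets ∧ t ∈ S) ∧ Cfsg.sextets.ncard = 1771 := by
  refine ⟨fun t ht => ?_, sex_pack.1⟩
  obtain ⟨g, rfl⟩ := std_tet ht
  refine ⟨g • fam 6 sx0, ⟨(sex_smul_iff g).2 sx0_mem, (smul_famL _ _ _).2 T0_mem⟩, fun S hS => ?_⟩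
  obtain ⟨S, rfl⟩ := ex_smul g S
  rw [sex_uniq ((sex_smul_iff g).1 hS.1) ((smul_famL _ _ _).1 hS.2)]

end Cfsg.Agent.S1550
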