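import Cfsg.Statements.S1551
import Cfsg.Agent.Gol.Sex

set_option autoImplicit false
open scoped Pointwise
open Cfsg

namespace Cfsg.Agent.S1551

open Cfsg.Agent.Gol Finset
open scoped Pointwise


theorem result (S : Finset (Finset Cfsg.GolayPt)) (hS : S ∈ Cfsg.sextets) : (∀ e : Equiv.Perm ↥S, ∃ g ∈ MulAction.stabilizer Cfsg.M24 S, ∀ t : ↥S, (g : Equiv.Perm Cfsg.GolayPt) • (t : Finset Cfsg.GolayPt) = ((e t : ↥S) : Finset Cfsg.GolayPt)) ∧ Nat.card {g : ↥(MulAction.stabilizer Cfsg.M24 S) // ∀ t ∈ S, ((g : Cfsg.M24) : Equiv.Perm Cfsg.GolayPt) • t = t} = 192 ∧ ∃ N : Subgroup ↥(MulAction.stabilizer Cfsg.M24 S), N.Normal ∧ Nat.card N = 64 ∧ ∀ x ∈ N, x * x = 1 := by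
  obtain ⟨g, rfl⟩ := std_sex hS
  have hc : ∀ x : M24, g * x * g⁻¹ ∈ MulAction.stabilizer M24 (g • fam 6 sx0) ↔
      x ∈ MulAction.stabilizer M24 (fam 6 sx0) := fun x => by simp [cj_iff]
  have e := conjEquiv g hc
  let K : Subgroup M24 := (St 0 (unp sx0 6)).map (MulAut.conj g).toMonoidHom
  have hK : Nat.card K = 192 := by
    rw [Subgroup.card_map_of_injective (MulAut.conj g).injective, card_ker_sex]
  have := induces_all (g • fam 6 sx0) (K := K) (fun x => by
    obtain ⟨x, rfl⟩ := (MulAut.conj g).surjective x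
    refine (Subgroup.mem_map_iff_mem (f := (MulAut.conj g).toMonoidHom)
      (MulAut.conj g).injective).trans ?_
    rw [smul_mem_fam, fam_all]
    simp [mem_St, cj_iff]) (by
      rw [← Nat.card_congr e.toEquiv, card_stab_sex, hK, card_smul_finset,
        card_fam (by decide +kernel)]; rfl)
  refine ⟨this.1, this.2.trans hK, ?_⟩
  obtain ⟨h1, h2⟩ := nrmOk_sound (gens := gSex) (ns := [104149153821129901086249850554735617, 89053301974695481301600181090966529, 100734696945008953747646909761674241, 88531741395152432619144554048084993, 104101027238228805653690046702214145, 62563919208128639077930020080091874]) (n := 64) (ls := [⟨[104149153821129901086249850554735617, 89053301974695481301600181090966529, 100734696945008953747646909761674241, 88531741395152432619144554048084993, 104101027238228805653690046702214145, 62563919208128639077930020080091874], [], [], 0, 8388615, [[1, 4, 3, 0, 1, 0, 3, 1, 0, 0], [3, 2, 5, 4, 4, 5], [5, 5, 2, 0, 3, 5, 4, 0, 1, 4, 3, 2, 5, 0], [5, 3, 1, 4, 4, 0, 2, 0, 3,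 0, 5, 0]]⟩,
  ⟨[972560815420533050926679905878345760, 976448692869377735270425038196672544, 972512676110088067912772961567868960, 977023451795203591179182037798520864], [], [], 3, 147496, [[1, 0, 2, 0, 0, 0, 0, 3, 0, 3], [0, 2, 0]]⟩,
  ⟨[961365507626256404119956257276790816, 972512676110088067912772961567868960], [], [], 4, 4268048, []⟩])
    (by decide +kernel) stab_sex (gsub_le fun c hc => (fixOk_sound (act_fam 6) (by decide +kernel) c hc).2)
  obtain ⟨N, a, b, c, -⟩ := nrm_tr e (P := True) ⟨_, h1, h2, fun _ x hx =>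
    Subtype.ext (elemAb_sound (by decide +kernel) _ hx), ⟨MulEquiv.refl _⟩⟩
  exact ⟨N, a, b, c trivial⟩

end Cfsg.Agent.S1551
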