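import Cfsg.Statements.S1553
import Cfsg.Agent.Gol.Fam2

set_option autoImplicit false
open scoped Pointwise
open Cfsg

namespace Cfsg.Agent.S1553

open Cfsg.Agent.Gol Finset
open scoped Pointwise


theorem result (o : Finset Cfsg.GolayPt) (ho : o ∈ Cfsg.octads) : {e : Equiv.Perm ↥o | ∃ g : Equiv.Perm Cfsg.GolayPt, g ∈ Cfsg.M24 ∧ ∃ h : (∀ x, g x ∈ o ↔ x ∈ o), g.subtypePerm h = e} = (alternatingGroup ↥o : Set (Equiv.Perm ↥o)) := by
  let φ := resHom (MulAction.stabilizer M24 o) o fun g hg x hx => by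
    rw [← MulAction.mem_stabilizer_iff.1 hg]; exact smul_mem_smul_finset hx
  have hk : Nat.card φ.ker = 16 := by
    obtain ⟨g, rfl⟩ := std_oct ho
    have e1 : φ.ker = (fixingSubgroup M24 ((g • toF 8536111 : Finset GolayPt) : Set GolayPt)).subgroupOf _ :=
      Subgroup.ext fun x => mem_ker_resHom.trans (mem_fixingSubgroup_iff M24).symm
    rw [e1, Nat.card_congr (Subgroup.subgroupOfEquivOfLe fun x hx => ?_).toEquiv, ← card_e16]
    · refine (Nat.card_congr (conjEquiv g fun x => ?_).toEquiv).symm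
      simp only [mem_fixingSubgroup_iff, mem_St, mem_coe, List.not_mem_nil, false_imp_iff,
        implies_true, and_true]
      exact ⟨fun h p hp => (cj_iff _ _ _ _).1 (h _ (smul_mem_smul_finset hp)), fun h p hp => by
        obtain ⟨q, hq, rfl⟩ := mem_smul_finset.1 hp
        exact cj g (h q hq)⟩
    · rw [MulAction.mem_stabilizer_iff, smul_finset_def,
        image_congr (g := id) ((mem_fixingSubgroup_iff M24).1 hx), image_id]
  have hr : φ.range = alternatingGroup o := by
    apply Equiv.Perm.eq_alternatingGroup_of_index_eq_two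
    have h1 := card_range_mul_ker φ
    have h2 := φ.range.card_mul_index
    rw [hk, card_stab_oct ho] at h1
    rw [Nat.card_perm, Nat.card_eq_fintype_card (α := o), Fintype.card_coe, (mem_octads.1 ho).2,
      show Nat.card φ.range = 20160 by omega, show Nat.factorial 8 = 40320 from rfl] at h2
    omega
  rw [← hr]
  ext e
  constructor
  · rintro ⟨g, hg, h, rfl⟩
    refine ⟨⟨⟨g, hg⟩, ?_⟩, rfl⟩
    refine eq_of_subset_of_card_le (fun x hx => ?_) (card_smul_finset _ _).ge
    obtain ⟨q, hq, rfl⟩ := mem_smul_finset.1 hx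
    exact (h q).2 hq
  · rintro ⟨g, rfl⟩
    refine ⟨g.1.1, g.1.2, fun x => ?_, rfl⟩
    obtain ⟨g, hg⟩ := g
    show g • x ∈ o ↔ _
    conv_lhs => rw [← MulAction.mem_stabilizer_iff.1 hg]
    exact smul_mem_smul_finset_iff g

end Cfsg.Agent.S1553
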