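import Cfsg.Statements.S1554
import Cfsg.Agent.Gol.Fam2
import Cfsg.Agent.S1553

set_option autoImplicit false
open scoped Pointwise
open Cfsg

namespace Cfsg.Agent.S1554

open Cfsg.Agent.Gol Finset
open scoped Pointwise


theorem result (o : Finset Cfsg.GolayPt) (ho : o ∈ Cfsg.octads) (p : Cfsg.GolayPt) (hp : p ∉ o) : (Cfsg.M24 ⊓ fixingSubgroup (Equiv.Perm Cfsg.GolayPt) (o : Set Cfsg.GolayPt)) ⊓ (Cfsg.M24 ⊓ MulAction.stabilizer (Equiv.Perm Cfsg.GolayPt) o ⊓ MulAction.stabilizer (Equiv.Perm Cfsg.GolayPt) p) = ⊥ ∧ (Cfsg.M24 ⊓ fixingSubgroup (Equiv.Perm Cfsg.GolayPt) (o : Set Cfsg.GolayPt)) ⊔ (Cfsg.M24 ⊓ MulAction.stabilizer (Equiv.Perm Cfsg.GolayPt) o ⊓ MulAction.stabilizer (Equiv.Perm Cfsg.GolayPt) p) = (Cfsg.M24 ⊓ MulAction.stabilizer (Equiv.Perm Cfsg.GolayPt) o) ∧ Nonempty (↥(Cfsg.M24 ⊓ MulAction.stabilizer (Equiv.Perm Cfsg.GolayPt) o ⊓ MulAction.stabilizer (Equiv.Perm Cfsg.GolayPt) p) ≃* alternatingGroup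 (Fin 8)) := by
  have hf : ∀ g : Equiv.Perm GolayPt, (∀ x ∈ o, g x = x) → g • o = o := fun g h =>
    (image_congr (g := id) h).trans image_id
  have h1 : ∀ g : M24, (∀ x ∈ o, g • x = x) → g • p = p → g = 1 := by
    obtain ⟨a, rfl⟩ := std_oct ho
    obtain ⟨p, rfl⟩ := ex_smul a p
    obtain ⟨b, hb, rfl⟩ := e16_trans p fun h => hp (smul_mem_smul_finset h)
    intro g h2 h3
    obtain ⟨g, rfl⟩ := (MulAut.conj (a * b)).surjective g
    have : g ∈ St 8536127 [] := ⟨fun x hx => by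
      rw [show toF 8536127 = insert (pt 4) (toF 8536111) by decide +kernel, mem_insert] at hx
      rcases hx with rfl | hx
      · exact (cj_iff (a * b) _ _ _).1 (by rw [mul_smul a b]; exact h3)
      · exact (cj_iff (a * b) _ _ _).1 (h2 _ (by
          rw [mul_smul, hb.1 x hx]; exact smul_mem_smul_finset hx)), by simp⟩
    rw [e16_reg, Subgroup.mem_bot] at this
    rw [this, map_one]
  have h2 : ∀ q ∉ o, ∃ g : M24, (∀ x ∈ o, g • x = x) ∧ g • p = q := by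
    obtain ⟨a, rfl⟩ := std_oct ho
    intro q hq
    obtain ⟨p, rfl⟩ := ex_smul a p
    obtain ⟨q, rfl⟩ := ex_smul a q
    obtain ⟨b, hb, rfl⟩ := e16_trans p fun h => hp (smul_mem_smul_finset h)
    obtain ⟨c, hc, rfl⟩ := e16_trans q fun h => hq (smul_mem_smul_finset h)
    refine ⟨_, fun x hx => ?_, cj a tr2⟩
    obtain ⟨y, hy, rfl⟩ := mem_smul_finset.1 hx
    exact cj a ((mul_mem hc (inv_mem hb)).1 y hy)
  have h3 : ∀ g ∈ M24, g • o = o → ∃ a ∈ M24, (∀ x ∈ o, a x = x) ∧ a⁻¹ * g ∈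
      M24 ⊓ MulAction.stabilizer (Equiv.Perm GolayPt) o ⊓ MulAction.stabilizer (Equiv.Perm GolayPt) p := by
    intro g hg e
    obtain ⟨a, ha, ha'⟩ := h2 (g • p) (by rwa [← e, smul_mem_smul_finset_iff])
    refine ⟨a, a.2, ha, ⟨M24.mul_mem (M24.inv_mem a.2) hg, (MulAction.stabilizer (Equiv.Perm GolayPt) o).mul_mem
      (Subgroup.inv_mem _ (hf _ ha)) e⟩, ?_⟩
    show (a⁻¹ * g : Equiv.Perm GolayPt) • p = p
    rw [mul_smul, ← ha']; exact inv_smul_smul (a : Equiv.Perm GolayPt) p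
  refine ⟨eq_bot_iff.2 fun g hg => ?_, le_antisymm (sup_le (fun g hg => ⟨hg.1, hf g ?_⟩) inf_le_left)
    fun g hg => ?_, ?_⟩
  · exact congrArg Subtype.val (h1 ⟨g, hg.1.1⟩ ((mem_fixingSubgroup_iff _).1 hg.1.2) hg.2.2)
  · exact (mem_fixingSubgroup_iff _).1 hg.2
  · obtain ⟨a, ha, h4, h5⟩ := h3 g hg.1 hg.2
    rw [← mul_inv_cancel_left a g]
    exact mul_mem (Subgroup.mem_sup_left ⟨ha, (mem_fixingSubgroup_iff _).2 h4⟩) (Subgroup.mem_sup_right h5)
  · let φ := resHom (M24 ⊓ MulAction.stabilizer (Equiv.Perm GolayPt) o ⊓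
      MulAction.stabilizer (Equiv.Perm GolayPt) p) o fun g hg x hx => by
        rw [← MulAction.mem_stabilizer_iff.1 hg.1.2]; exact smul_mem_smul_finset hx
    have hi : Function.Injective φ := (injective_iff_map_eq_one φ).2 fun g hg =>
      Subtype.ext (congrArg (Subtype.val : M24 → _) (h1 ⟨g, g.2.1.1⟩ (mem_ker_resHom.1 hg) g.2.2))
    have hr : φ.range = alternatingGroup o := by
      apply SetLike.coe_injective
      rw [← S1553.result o ho]
      ext e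
      constructor
      · rintro ⟨g, rfl⟩
        refine ⟨g.1, g.2.1.1, fun x => ?_, rfl⟩
        obtain ⟨g, hg⟩ := g
        show g • x ∈ o ↔ _
        conv_lhs => rw [← MulAction.mem_stabilizer_iff.1 hg.1.2]
        exact smul_mem_smul_finset_iff g
      · rintro ⟨g, hg, h, rfl⟩
        have e : g • o = o := eq_of_subset_of_card_le (fun x hx => by
          obtain ⟨q, hq, rfl⟩ := mem_smul_finset.1 hx
          exact (h q).2 hq) (card_smul_finset _ _).ge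
        obtain ⟨a, ha, h4, h5⟩ := h3 g hg e
        refine ⟨⟨_, h5⟩, Equiv.ext fun x => Subtype.ext ?_⟩
        show a⁻¹ (g x) = g x
        rw [Equiv.Perm.inv_eq_iff_eq, h4 _ ((h x).2 x.2)]
    exact ⟨((MonoidHom.ofInjective hi).trans (MulEquiv.subgroupCongr hr)).trans
      (Equiv.altCongrHom (Finset.equivFinOfCardEq (mem_octads.1 ho).2))⟩

end Cfsg.Agent.S1554
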