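import Cfsg.Statements.S1555
import Cfsg.Agent.Gol.Flag

set_option autoImplicit false
open scoped Pointwise
open Cfsg

namespace Cfsg.Agent.S1555

open Cfsg.Agent.Gol Finset


theorem result (o : Finset Cfsg.GolayPt) (ho : o ∈ Cfsg.octads) (s : Finset Cfsg.GolayPt) (hs : s ⊆ o) : (s.card = 2 → {o' : Finset Cfsg.GolayPt | o' ∈ Cfsg.octads ∧ o ∩ o' = s}.ncard = 16) ∧ (s.card = 4 → {o' : Finset Cfsg.GolayPt | o' ∈ Cfsg.octads ∧ o ∩ o' = s}.ncard = 4) := by
  have key : ∀ (g : M24) (m : ℕ), {o' : Finset GolayPt | o' ∈ octads ∧ g • toF 8536111 ∩ o' = g • toF m}.ncard =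
      lcnt (fun n => decide (pc ((8536111 &&& n) ^^^ m) = 0)) octL := fun g m => by
    rw [ncard_smul_eq g]
    refine ncard_oct' _ (fun n => ?_) (fun x hx => (oct_smul_iff g).1 hx.1)
    simp only [Set.mem_ofPred_eq, oct_smul_iff, ← smul_finset_inter, smul_left_cancel_iff, ← toF_and, toF_eq_iff]
  constructor
  · intro h
    obtain ⟨a, b, hab, rfl⟩ := card_eq_two.1 h
    obtain ⟨g, rfl, rfl, rfl⟩ := pq_oct_in hab ho (hs (by simp)) (hs (by simp))
    have := key g 8388609
    rw [toF_f2, smul_finset_insert, smul_finset_singleton] at this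
    rw [this]; decide +kernel
  · intro h
    obtain ⟨a, b, c, d, h1, h2, h3, h4, h5, h6, rfl⟩ := card_eq_four.1 h
    obtain ⟨g, rfl, rfl, rfl, rfl, rfl⟩ := oct_pts4 ho (a := a) (b := b) (c := c) (d := d)
      (by simp [*]) (fun x hx => hs (by simpa using hx))
    have := key g 8388615
    rw [toF_f4, smul_finset_insert, smul_finset_insert, smul_finset_insert, smul_finset_singleton] at this
    rw [this]; decide +kernel

end Cfsg.Agent.S1555
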