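import Cfsg.Statements.S1556
import Cfsg.Agent.Gol.Flag

set_option autoImplicit false
open scoped Pointwise
open Cfsg

namespace Cfsg.Agent.S1556

open Cfsg.Agent.Gol Finset

theorem chk : covC 0 [8536111] [28729250887528486531516592930491950, 964812936660228002610996183620976737] [675712, 1351424, 138790, 8536111] (fun n => pc (8536111 &&& n)) (fun _ => true) octL = true := by decide +kernel


theorem result (o o' o'' : Finset Cfsg.GolayPt) (ho : o ∈ Cfsg.octads) (ho' : o' ∈ Cfsg.octads) (ho'' : o'' ∈ Cfsg.octads) (h : (o ∩ o').card = (o ∩ o'').card) : ∃ g : Equiv.Perm Cfsg.GolayPt, g ∈ Cfsg.M24 ∧ g • o = o ∧ g • o' = o'' := by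
  obtain ⟨g, rfl⟩ := std_oct ho
  obtain ⟨a, rfl⟩ := ex_smul g o'
  obtain ⟨b, rfl⟩ := ex_smul g o''
  simp only [oct_smul_iff, ← smul_finset_inter, card_smul_finset] at ho' ho'' h
  obtain ⟨a, ha, rfl⟩ := octads_iff.1 ho'
  obtain ⟨b, hb, rfl⟩ := octads_iff.1 ho''
  rw [card_inter_toF, card_inter_toF] at h
  obtain ⟨k, hk, e⟩ := covC_sound chk ha hb rfl rfl h
  exact ⟨(g * k * g⁻¹ : M24), (g * k * g⁻¹).2, cj g (hk.2 _ (by simp)), cj g e⟩

end Cfsg.Agent.S1556
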