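import Cfsg.Statements.S1557
import Cfsg.Agent.Gol.Sex

set_option autoImplicit false
open scoped Pointwise
open Cfsg

namespace Cfsg.Agent.S1557

open Cfsg.Agent.Gol Finset
open scoped Pointwise


theorem result : (∀ o o' : Finset Cfsg.GolayPt, o ∈ Cfsg.octads → o' ∈ Cfsg.octads → Disjoint o o' → (o ∪ o')ᶜ ∈ Cfsg.octads) ∧ Cfsg.trios.ncard = 3795 := by
  refine ⟨fun o o' ho ho' h => ?_, tri_pack.1⟩
  obtain ⟨g, rfl, rfl⟩ := std_dis ho ho' h
  rw [← smul_finset_union, ← smul_compl', oct_smul_iff, ← toF_or, ← toF_compl]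
  exact toF_mem_octads (by decide +kernel)

end Cfsg.Agent.S1557
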