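import Cfsg.Statements.S1558
import Cfsg.Agent.Gol.Sex

set_option autoImplicit false
open scoped Pointwise
open Cfsg

namespace Cfsg.Agent.S1558

open Cfsg.Agent.Gol Finset
open scoped Pointwise


theorem result (T : Finset (Finset Cfsg.GolayPt)) (hT : T ∈ Cfsg.trios) : (∀ e : Equiv.Perm ↥T, ∃ g ∈ MulAction.stabilizer Cfsg.M24 T, ∀ o : ↥T, (g : Equiv.Perm Cfsg.GolayPt) • (o : Finset Cfsg.GolayPt) = ((e o : ↥T) : Finset Cfsg.GolayPt)) ∧ ∃ (N : Subgroup ↥(MulAction.stabilizer Cfsg.M24 T)) (_ : N.Normal), Nat.card N = 64 ∧ (∀ x ∈ N, x * x = 1) ∧ Nonempty (↥(MulAction.stabilizer Cfsg.M24 T) ⧸ N ≃* GL (Fin 3) (ZMod 2) × Equiv.Perm (Fin 3)) := by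
  obtain ⟨g, rfl⟩ := std_tri hT
  have hc : ∀ x : M24, g * x * g⁻¹ ∈ MulAction.stabilizer M24 (g • fam 3 tx0) ↔
      x ∈ MulAction.stabilizer M24 (fam 3 tx0) := fun x => by simp [cj_iff]
  have e := conjEquiv g hc
  let K : Subgroup M24 := (St 0 [1351424, 8536111]).map (MulAut.conj g).toMonoidHom
  have hK : Nat.card K = 10752 := by
    rw [Subgroup.card_map_of_injective (MulAut.conj g).injective, card_ker_tri]
  have := induces_all (g • fam 3 tx0) (K := K) (fun x => by
    obtain ⟨x, rfl⟩ := (MulAut.conj g).surjective x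
    refine (Subgroup.mem_map_iff_mem (f := (MulAut.conj g).toMonoidHom)
      (MulAut.conj g).injective).trans ?_
    rw [smul_mem_fam, fam_all, show unp tx0 3 = [1351424, 6889680, 8536111] by decide +kernel]
    have : x • toF 1351424 = toF 1351424 → x • toF 8536111 = toF 8536111 →
        x • toF 6889680 = toF 6889680 := fun a b => by
      rw [show toF 6889680 = (toF 1351424 ∪ toF 8536111)ᶜ by rw [← toF_or, ← toF_compl]; rfl,
        smul_compl', smul_finset_union, a, b]
    simp [mem_St, cj_iff]; tauto) (by
      rw [← Nat.card_congr e.toEquiv, card_stab_tri, hK, card_smul_finset,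
        card_fam (by decide +kernel)]; rfl)
  refine ⟨this.1, ?_⟩
  have hf := fixOk_sound (act_fam 3) (x0 := tx0) (gens := [965128854020860192151391391390468128, 963721886883755259286232606933354528, 976448692869377735270425038196672544, 112498419363478465068426720085990401, 70961312958146288193683039871075042, 610957654620063647451999179135534243] ++ [250675384088466520122677891857766628, 99492171515713636889053121838898177]) (by decide +kernel)
  have hs : MulAction.stabilizer M24 (fam 3 tx0) = gsub ([965128854020860192151391391390468128, 963721886883755259286232606933354528, 976448692869377735270425038196672544, 112498419363478465068426720085990401, 70961312958146288193683039871075042, 610957654620063647451999179135534243] ++ [250675384088466520122677891857766628, 99492171515713636889053121838898177]) :=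
    eq_gsub_of_low (ls := [⟨[965128854020860192151391391390468128, 963721886883755259286232606933354528, 976448692869377735270425038196672544, 112498419363478465068426720085990401, 70961312958146288193683039871075042, 610957654620063647451999179135534243, 250675384088466520122677891857766628, 99492171515713636889053121838898177], [], [], 0, 16777215, [[7, 2, 1, 5, 0, 6, 1, 6, 2, 2], [1, 3, 7]]⟩,
  ⟨[719628113214816864721038834590780480, 967395599751671306805005400863606816], [], [], 1, 8536110, [[0, 0, 0, 0, 1, 1, 0, 1, 0, 0, 1, 0], [0, 0, 0, 1, 0, 1, 0]]⟩,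
  ⟨[714737079755318871508597335762581536, 970075068886824735502948315867678752], [], [], 2, 8536108, [[1, 0, 1, 1, 0, 0, 0], [1, 0, 1, 0, 1, 0], [1, 1, 1, 1, 1, 1, 0, 0, 1, 1, 1, 0, 0], [1, 1, 1, 1, 1, 0, 0, 0, 0]]⟩,
  ⟨[967580415455907411547662912282200096, 966182099583441531322624363496310816, 967395599751671306805005400863606816, 970075068886824735502948315867678752], [], [], 3, 147496, [[1, 3, 3, 1, 3, 1, 0, 3, 2, 3, 0, 2, 0], [3, 1, 0, 2, 0, 3, 0, 3, 1, 1, 2], [0, 0], [3, 2, 2, 3, 2, 0, 1, 2, 0]]⟩,
  ⟨[975346028712660580592452217730074656, 967812279691448225500382947153381408, 972512676110088067912772961567868960, 979121071158219704299181131031480352], [], [], 4, 8241104, []⟩]) (by decide +kernel) (gsub_le fun c hc => (hf c hc).2)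
      (by rw [card_stab_tri]; decide +kernel)
  obtain ⟨h1, h2⟩ := nrmOk_sound (ns := [965128854020860192151391391390468128, 963721886883755259286232606933354528, 976448692869377735270425038196672544, 112498419363478465068426720085990401, 70961312958146288193683039871075042, 610957654620063647451999179135534243]) (n := 64) (ls := [⟨[965128854020860192151391391390468128, 963721886883755259286232606933354528, 976448692869377735270425038196672544, 112498419363478465068426720085990401, 70961312958146288193683039871075042, 610957654620063647451999179135534243], [], [], 0, 8536111, [[5, 0, 1, 5, 5, 2, 0, 5, 2], [1, 4, 3, 1, 5, 4, 4, 0, 3, 1, 5, 4], [0, 3, 1, 5, 3, 3, 5, 1, 2, 4, 4, 3]]⟩,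
  ⟨[963721886883755259286232606933354528, 961365507626256404119956257276790816, 983548720921252936276249910206105632], [], [], 4, 6889680, []⟩])
    (by decide +kernel) hs (gsub_le fun c hc => (hf c (List.mem_append_left _ hc)).2)
  have hA : Nat.card (GL (Fin 3) (ZMod 2) × Equiv.Perm (Fin 3)) = 1008 := by
    rw [Nat.card_prod, Matrix.card_GL_field, Nat.card_perm]; simp [Fin.prod_univ_three]; rfl
  have hp : ∀ σ : Equiv.Perm (Fin 3), encP σ < 32768 := by decide +kernel
  obtain ⟨φ, -, h3⟩ := hom_of_graphM (A := GL (Fin 3) (ZMod 2) × Equiv.Perm (Fin 3))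
    (fun x => encM x.1.1 * 32768 + encP x.2)
    (fun u v => mulM 3 2 (u / 32768) (v / 32768) * 32768 + mulP 3 (u % 32768) (v % 32768))
    (fun x y => by
      have a := hp x.2
      have b := hp y.2
      rw [show (encM x.1.1 * 32768 + encP x.2) / 32768 = encM x.1.1 by omega,
        show (encM y.1.1 * 32768 + encP y.2) / 32768 = encM y.1.1 by omega,
        show (encM x.1.1 * 32768 + encP x.2) % 32768 = encP x.2 by omega,
        show (encM y.1.1 * 32768 + encP y.2) % 32768 = encP y.2 by omega,
        ← encM_mul (by norm_num), ← encP_mul (by norm_num)]; rfl)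
    (e := 140739635873824) (by decide +kernel) hA (cs := [(149535871469569, 250675384088466520122677891857766628), (140739644261440, 99492171515713636889053121838898177)]) (by
      simp only [List.forall_mem_cons, List.not_mem_nil, false_imp_iff, implies_true, and_true]
      exact ⟨⟨(⟨!![0, 0, 1; 1, 1, 0; 0, 1, 1], !![1, 1, 1; 1, 0, 1; 1, 0, 0], by decide +kernel, by decide +kernel⟩, ⟨![1, 0, 2], ![1, 0, 2], by decide, by decide⟩), by decide +kernel⟩, ⟨(⟨!![1, 0, 1; 0, 1, 0; 0, 0, 1], !![1, 0, 1; 0, 1, 0; 0, 0, 1], by decide +kernel, by decide +kernel⟩, ⟨![0, 2, 1], ![0, 2, 1], by decide, by decide⟩), by decide +kernel⟩⟩) (by decide +kernel)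
  have h4 := range_le_of_card φ h3 (hA ▸ le_trans (by decide +kernel)
    (lowOk_sound (ls := [⟨[250675384088466520122677891857766628, 99492171515713636889053121838898177], [], [], 0, 16777215, [[0, 1, 1, 1, 1, 0, 1, 0, 1, 1, 0, 1, 0, 0], [0, 0, 1, 0, 0, 0, 1, 1, 1, 1, 0, 0, 0]]⟩,
  ⟨[235614663081805391616682748482242272, 729943983580144770162648784206661056], [], [], 1, 8536110, [[0, 1, 1, 1, 1, 1, 0]]⟩,
  ⟨[135474220827507263094873614748947488], [], [], 2, 131108, [[0, 0, 0, 0, 0, 0, 0, 0, 0]]⟩,
  ⟨[979121071158219704299181131031480352], [], [], 4, 272, []⟩]) (f := 0) (by decide +kernel)))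
  obtain ⟨N, a, b, c, d⟩ := nrm_tr e (P := True) ⟨_, h1, h2, fun _ x hx =>
    Subtype.ext (elemAb_sound (by decide +kernel) _ hx), quot_of_gens φ hs
      (h4.trans (gsub_le fun c hc => (hf c (List.mem_append_right _ hc)).2)) h3
      (by rw [hA, h2, card_stab_tri])⟩
  exact ⟨N, a, b, c trivial, d⟩

end Cfsg.Agent.S1558
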