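import Cfsg.Statements.S1559
import Cfsg.Agent.Gol.Sex

set_option autoImplicit false
open scoped Pointwise
open Cfsg

namespace Cfsg.Agent.S1559

open Cfsg.Agent.Gol Finset
open scoped Pointwise


theorem result (T : Finset (Finset Cfsg.GolayPt)) (hT : T ∈ Cfsg.trios) : ∃ X₁ ∈ Cfsg.trios, ∃ X₂ ∈ Cfsg.trios, ∃ X₃ ∈ Cfsg.trios, ∃ X₄ ∈ Cfsg.trios, (MulAction.orbit ↥(MulAction.stabilizer Cfsg.M24 T) X₁).ncard = 42 ∧ (MulAction.orbit ↥(MulAction.stabilizer Cfsg.M24 T) X₂).ncard = 56 ∧ (MulAction.orbit ↥(MulAction.stabilizer Cfsg.M24 T) X₃).ncard = 1008 ∧ (MulAction.orbit ↥(MulAction.stabilizer Cfsg.M24 T) X₄).ncard = 2688 ∧ Cfsg.trios = {T} ∪ MulAction.orbit ↥(MulAction.stabilizer Cfsg.M24 T) X₁ ∪ MulAction.orbit ↥(MulAction.stabilizer Cfsg.M24 T) X₂ ∪ MulAction.orbit ↥(MulAction.stabilizer Cfsg.M24 T) X₃ ∪ MulAction.orbit ↥(MulAction.stabilizer Cfsg.M24 T) X₄ ∧ IsCoatom (MulAction.stabilizer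 Cfsg.M24 T) := by
  obtain ⟨g, rfl⟩ := std_tri hT
  have hc : ∀ x : M24, g * x * g⁻¹ ∈ MulAction.stabilizer M24 (g • fam 3 tx0) ↔
      x ∈ MulAction.stabilizer M24 (fam 3 tx0) := fun x => by simp [cj_iff]
  obtain ⟨-, -, h1, h2⟩ := tri_pack
  simp only [yTri, List.forall_mem_cons] at h1
  simp only [yTri, List.mem_cons, List.not_mem_nil, or_false,
    exists_eq_or_imp, exists_eq_left] at h2
  obtain ⟨a0, a1, a2, a3, a4, -⟩ := h1
  refine ⟨_, (tri_smul_iff g).2 a1.1, _, (tri_smul_iff g).2 a2.1, _, (tri_smul_iff g).2 a3.1,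
    _, (tri_smul_iff g).2 a4.1, ?_⟩
  simp only [orbit_conj g hc, Set.ncard_smul_set]
  refine ⟨a1.2.2, a2.2.2, a3.2.2, a4.2.2, ?_, isCoatom_stab_smul g coatom_tri⟩
  rw [← Set.smul_set_singleton, ← orbit_stab_self (K := MulAction.stabilizer M24 (fam 3 tx0))
    fun g hg => hg, ← smul_set_of_inv (A := trios) g fun _ => tri_smul_iff g]
  simp only [← Set.smul_set_union]
  congr 1
  rw [a1.2.1, a2.2.1, a3.2.1, a4.2.1, show MulAction.orbit (MulAction.stabilizer M24 (fam 3 tx0)) (fam 3 tx0) = _ from a0.2.1]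
  ext x
  simp only [Set.mem_union, Set.mem_ofPred_eq, ← and_or_left, or_assoc]
  exact ⟨fun h => ⟨h, h2 x h⟩, fun h => h.1⟩

end Cfsg.Agent.S1559
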