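import Cfsg.Statements.S1560
import Cfsg.Agent.Gol.Flag

set_option autoImplicit false
open scoped Pointwise
open Cfsg

namespace Cfsg.Agent.S1560

open Cfsg.Agent.Gol Finset


theorem result (d : Finset Cfsg.GolayPt) (hd : d ∈ Cfsg.dodecads) : (∀ d' ∈ Cfsg.dodecads, d' ≠ d → (d ∩ d').card = 0 ∨ (d ∩ d').card = 4 ∨ (d ∩ d').card = 6 ∨ (d ∩ d').card = 8) ∧ {d' : Finset Cfsg.GolayPt | d' ∈ Cfsg.dodecads ∧ (d ∩ d').card = 4}.ncard = 495 ∧ {d' : Finset Cfsg.GolayPt | d' ∈ Cfsg.dodecads ∧ (d ∩ d').card = 6}.ncard = 1584 ∧ {d' : Finset Cfsg.GolayPt | d' ∈ Cfsg.dodecads ∧ (d ∩ d').card = 8}.ncard = 495 := by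
  obtain ⟨g, rfl⟩ := std_dod hd
  have key : ∀ k, {o : Finset GolayPt | o ∈ dodecads ∧ (g • toF 340831 ∩ o).card = k}.ncard =
      lcnt (fun n => decide (pc (340831 &&& n) = k)) dodL := fun k => by
    rw [ncard_smul_eq g]
    refine ncard_dod' _ (fun n => ?_) (fun x hx => (dod_smul_iff g).1 hx.1)
    simp only [Set.mem_ofPred_eq, dod_smul_iff, ← smul_finset_inter, card_smul_finset, card_inter_toF]
  refine ⟨fun d' hd' hne => ?_, by simp only [key]; decide +kernel⟩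
  have h1 := CW.even_inter hd.1 hd'.1
  have h2 := card_symmDiff' (g • toF 340831) d'
  have h3 := (CW.symmDiff hd.1 hd'.1).card
  have h4 : (symmDiff (g • toF 340831) d').card ≠ 0 := fun e =>
    hne (symmDiff_eq_bot.1 (card_eq_zero.1 e)).symm
  rw [hd.2, hd'.2] at h2
  omega

end Cfsg.Agent.S1560
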