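import Cfsg.Statements.S1561
import Cfsg.Agent.Gol.Flag

set_option autoImplicit false
open scoped Pointwise
open Cfsg

namespace Cfsg.Agent.S1561

open Cfsg.Agent.Gol Finset

theorem chk : covC 0 [340831] [844655365127603651330276459615918083, 601299540541207097017406949925848205] [8531954, 5304288, 28637, 16436384, 340831] (fun n => pc (340831 &&& n)) (fun _ => true) dodL = true := by decide +kernel


theorem result (d d' d'' : Finset Cfsg.GolayPt) (hd : d ∈ Cfsg.dodecads) (hd' : d' ∈ Cfsg.dodecads) (hd'' : d'' ∈ Cfsg.dodecads) (h : (d ∩ d').card = (d ∩ d'').card) : ∃ g : Equiv.Perm Cfsg.GolayPt, g ∈ Cfsg.M24 ∧ g • d = d ∧ g • d' = d'' := by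
  obtain ⟨g, rfl⟩ := std_dod hd
  obtain ⟨a, rfl⟩ := ex_smul g d'
  obtain ⟨b, rfl⟩ := ex_smul g d''
  simp only [dod_smul_iff, ← smul_finset_inter, card_smul_finset] at hd' hd'' h
  obtain ⟨a, ha, rfl⟩ := dodecads_iff.1 hd'
  obtain ⟨b, hb, rfl⟩ := dodecads_iff.1 hd''
  rw [card_inter_toF, card_inter_toF] at h
  obtain ⟨k, hk, e⟩ := covC_sound chk ha hb rfl rfl h
  exact ⟨(g * k * g⁻¹ : M24), (g * k * g⁻¹).2, cj g (hk.2 _ (by simp)), cj g e⟩

end Cfsg.Agent.S1561
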