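import Cfsg.Statements.S1562
import Cfsg.Agent.Gol.Flag

set_option autoImplicit false
open scoped Pointwise
open Cfsg

namespace Cfsg.Agent.S1562

open Cfsg.Agent.Gol Finset
open scoped Pointwise

theorem chk : covC 0 [8388611] [6983101288827012590749959760383031, 965010575174981908386907790045224961] [28, 44] (fun n => bif' (inOct 8388611 n) 1 0) (fun n => decide (pc (8388611 &&& n) = 0)) (subsL all24 3) = true := by decide +kernel


theorem result (T : Finset Cfsg.GolayPt) (hT : T.card = 3) : {U : Finset Cfsg.GolayPt | U.card = 3 ∧ Disjoint T U ∧ (∃ o ∈ Cfsg.octads, T ∪ U ⊆ o)}.ncard = 210 ∧ {U : Finset Cfsg.GolayPt | U.card = 3 ∧ Disjoint T U ∧ ¬ (∃ o ∈ Cfsg.octads, T ∪ U ⊆ o)}.ncard = 1120 ∧ ∀ U U' : Finset Cfsg.GolayPt, U.card = 3 → U'.card = 3 → Disjoint T U → Disjoint T U' → ((∃ o ∈ Cfsg.octads, T ∪ U ⊆ o) ↔ (∃ o ∈ Cfsg.octads, T ∪ U' ⊆ o)) → ∃ g : Equiv.Perm Cfsg.GolayPt, g ∈ Cfsg.M24 ∧ g • T = T ∧ g • U = U' := by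
  obtain ⟨a, b, c, h1, h2, h3, rfl⟩ := card_eq_three.1 hT
  obtain ⟨g, rfl, rfl, rfl⟩ := std3 (a := a) (b := b) (c := c) (by simp [*])
  have e : ({g • pt 23, g • pt 0, g • pt 1} : Finset GolayPt) = g • toF 8388611 := by
    rw [toF_f3, smul_finset_insert, smul_finset_insert, smul_finset_singleton]
  rw [e]
  have key : ∀ n, (∃ o ∈ octads, g • toF 8388611 ∪ g • toF n ⊆ o) ↔ inOct 8388611 n = true := fun n => by
    rw [exists_oct_smul g, ← inOct_iff]
    simp only [← smul_finset_union, smul_finset_subset_smul_finset_iff, union_subset_iff]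
  refine ⟨?_, ?_, fun U U' hU hU' hd hd' hiff => ?_⟩
  · rw [ncard_smul_eq g, ncard_list ok3 (fun n => pc n = 3 ∧ pc (8388611 &&& n) = 0 ∧ inOct 8388611 n = true)
      (fun x hx => subs24 (by simpa using hx.1)) (fun n _ => by
        simp only [Set.mem_ofPred_eq, key, card_smul_finset, disjoint_smul', card_toF, disjoint_toF])]
    decide +kernel
  · rw [ncard_smul_eq g, ncard_list ok3 (fun n => pc n = 3 ∧ pc (8388611 &&& n) = 0 ∧ ¬ inOct 8388611 n = true)
      (fun x hx => subs24 (by simpa using hx.1)) (fun n _ => by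
        simp only [Set.mem_ofPred_eq, key, card_smul_finset, disjoint_smul', card_toF, disjoint_toF])]
    decide +kernel
  · obtain ⟨a, rfl⟩ := ex_smul g U
    obtain ⟨b, rfl⟩ := ex_smul g U'
    rw [card_smul_finset] at hU hU'
    obtain ⟨a, ha, rfl⟩ := subs24 hU
    obtain ⟨b, hb, rfl⟩ := subs24 hU'
    rw [key, key] at hiff
    rw [disjoint_smul', disjoint_toF] at hd hd'
    obtain ⟨k, hk, e⟩ := covC_sound chk ha hb (decide_eq_true hd) (decide_eq_true hd')
      (by rw [Bool.eq_iff_iff.2 hiff])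
    exact ⟨(g * k * g⁻¹ : M24), (g * k * g⁻¹).2, cj g (hk.2 _ (by simp)), cj g e⟩

end Cfsg.Agent.S1562
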