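import Cfsg.Statements.S1563
import Cfsg.Agent.Gol.Fam

set_option autoImplicit false
open scoped Pointwise
open Cfsg

namespace Cfsg.Agent.S1563

open Cfsg.Agent.Gol Finset
open scoped Pointwise

theorem chk : coatOk img [24022402693763971303337925035543607, 976613634603608973292457760712528064] 8388609 (fun n => pc (8388609 &&& n)) (subsL all24 2) [(71492056680133066869724754691572096, [⟨[71492056680133066869724754691572096, 24022402693763971303337925035543607, 976613634603608973292457760712528064], [], [], 0, 16777215, [[1, 1, 2, 2, 2, 2], [0, 0, 0, 1, 2, 1]]⟩,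
  ⟨[977639365601542973431520882057108032, 692249575872424824080741494261370048], [], [], 1, 16777214, [[1, 0, 1, 1, 0, 0, 1, 0, 0], [1, 1, 1, 0, 0, 1, 0, 0, 1, 0, 0, 0, 0]]⟩,
  ⟨[856021724592944445679676132758818848, 765363346305628578564039319589791776], [], [], 2, 16777212, [[0, 1, 0, 0, 0, 1, 1, 1, 0], [0, 1, 0, 1]]⟩,
  ⟨[570467063985162254894149271063988256, 275662920146180896576319228429535264], [], [], 3, 16777208, [[0, 1, 1, 0], [0, 0, 1, 0, 0, 1, 0, 1, 0, 0]]⟩,
  ⟨[359866085119682197367440323948677152, 225348088900911880102535915525736480], [], [], 4, 16777200, [[0, 1, 0, 0, 0, 1, 0, 1, 0], [0, 1, 1, 0, 0, 1, 0], [0, 1, 0, 1, 0, 1, 0, 0, 0]]⟩,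
  ⟨[841384528646309054241536335100872736, 351355605056243205221527583111350304, 801631358534969762014396067323414560], [], [], 5, 16771936, [[1, 1, 2, 1, 1, 1, 0, 0, 1, 1, 1, 1, 0, 2]]⟩,
  ⟨[725895487971383339971559185675552800], [], [], 6, 2162752, []⟩]),
  (113072304910174064711471962407945633, [⟨[113072304910174064711471962407945633, 24022402693763971303337925035543607, 976613634603608973292457760712528064], [], [], 0, 16777215, [[1, 1, 2, 2, 2, 2], [0, 0, 0, 1, 2, 2, 0, 0]]⟩,
  ⟨[977639365601542973431520882057108032, 502653224510252459504385010304108864], [], [], 1, 16777214, [[0, 1, 0, 0, 0, 1, 1, 0, 0, 0, 0], [0, 1, 0, 0, 1]]⟩,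
  ⟨[467598878008420350721946363810489376, 314769860551785169897442126591626272], [], [], 2, 16777212, [[0, 0, 1, 0, 0, 1, 0, 0], [1, 1, 0, 0, 1, 0, 0, 1, 0, 1]]⟩,
  ⟨[609511430124461755756991943204866080, 526260288632231062648524719073626144], [], [], 3, 16777208, [[0, 1, 1, 0, 0, 1, 0, 1, 1, 1], [0, 1, 0, 1, 0, 0, 1, 1, 0, 1, 0, 0, 0, 0]]⟩,
  ⟨[717437804860956144823340663091333152, 404447912271128456865528209759897632], [], [], 4, 16777200, [[0, 1, 1], [0, 1, 0, 1, 0, 1, 1, 0, 1, 0], [0, 1, 1, 0, 1, 0, 0, 1, 1, 1, 0, 1, 1, 1, 0, 1, 0]]⟩,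
  ⟨[976531636853126291160407323722221600, 570109986616782138932769284593649696, 637575554806371494695470741007206432], [], [], 5, 16771936, [[2, 1, 2, 2]]⟩,
  ⟨[608167165260361641911015062699608096], [], [], 6, 2162752, []⟩])] = true := by decide +kernel


theorem result (s : Finset Cfsg.GolayPt) (hs : s.card = 2) : IsCoatom (MulAction.stabilizer Cfsg.M24 s) := by
  obtain ⟨a, b, hab, rfl⟩ := card_eq_two.1 hs
  obtain ⟨g, rfl, rfl⟩ := std2 hab
  rw [← smul_finset_singleton, ← smul_finset_insert, ← toF_f2]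
  refine isCoatom_stab_smul g (coatOk_sound act_img chk (fun g => subs24 ?_) ⟨pm 956302485175575353788796878166559809, ?_⟩)
  · rw [card_smul_finset, card_toF]; decide +kernel
  · rw [pm_smul (by decide +kernel), Ne, toF_eq_iff]; decide +kernel

end Cfsg.Agent.S1563
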