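import Cfsg.Statements.S1566
import Cfsg.Agent.Gol.Fam

set_option autoImplicit false
open scoped Pointwise
open Cfsg

namespace Cfsg.Agent.S1566

open Cfsg.Agent.Gol Finset
open scoped Pointwise

noncomputable def dpL : List ℕ := (lfilt (fun n => !bit n 23) dodL).map fun n => can [n, n ^^^ 16777215]
theorem chk : coatOk (imgF 2) [838160011614206061935927180860175428, 541544799514599544149204994134480113] 5718211742880 (patK 2 5718211742880) dpL [(835165041091174198686606316098004178, [⟨[835165041091174198686606316098004178, 838160011614206061935927180860175428, 541544799514599544149204994134480113], [], [], 0, 16777215, [[1, 1, 2, 2, 2, 2, 0, 2, 0], [0, 0, 0, 1, 2, 1, 1, 2, 0]]⟩,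
  ⟨[50897760733536408953475491911030336, 768518931676037258735531611767584224], [], [], 1, 16777214, [[1, 0, 1, 1, 0, 0, 0, 0], [1, 1, 1, 0, 0, 1, 0, 0, 1, 0, 0]]⟩,
  ⟨[807780399909785095661661757187537952, 562889443679371641786585853288667168], [], [], 2, 16777212, [[0, 1, 1, 1, 1, 0, 1, 0, 0, 1], [0, 1, 1, 0, 1, 0, 0, 1, 1, 1, 0, 1, 0, 0]]⟩,
  ⟨[337993143883978618674322007566747680, 175992112428809067385866316570363936], [], [], 3, 16777208, [[0, 1, 0, 1, 1, 0, 1, 1, 1, 0, 1, 1], [1, 1, 0, 0, 1, 0, 1]]⟩,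
  ⟨[437059515799849783695676085561821216, 735053836457234256422671606196832288], [], [], 4, 16777200, [[1, 1, 1, 0, 0, 1, 0, 1], [0, 1, 1, 0, 0, 0, 1], [1, 1, 0, 0, 0, 1, 1]]⟩,
  ⟨[231686213159500301704167581341026336, 796272651614488101787381665936541728, 399377704341898151808080305612490784], [], [], 5, 16771936, [[2, 1, 0, 0]]⟩,
  ⟨[725895487971383339971559185675552800], [], [], 6, 2162752, []⟩]),
  (62331298002103989608409649708973364, [⟨[62331298002103989608409649708973364, 838160011614206061935927180860175428, 541544799514599544149204994134480113], [], [], 0, 16777215, [[0, 0, 2, 2, 1, 2, 1, 0, 0], [2, 0, 1, 0, 1]]⟩,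
  ⟨[855616904348442646501062004960680256, 583659389599628473889946620249031200], [], [], 1, 16777214, [[1, 0, 1, 1, 0], [1, 1, 0, 0, 1, 1, 1, 1]]⟩,
  ⟨[729825895596019952448474651088820256, 607020447044133518715961271880689696], [], [], 2, 16777212, [[1, 0, 1, 1, 0, 0, 0, 0, 0, 1, 0], [0, 1, 1, 1, 1, 1, 0, 1, 0, 0, 0, 0, 1, 1]]⟩,
  ⟨[144832160088424975976685191725156384, 277186148084107770935238333033809952], [], [], 3, 16777208, [[0, 0, 0, 0, 0, 1], [0, 1, 0, 0, 1, 0, 1, 0]]⟩,
  ⟨[735053836457234256422671606196832288, 933815612262248418630468233746024480], [], [], 4, 16777200, [[0, 1, 1, 0, 0, 1, 1, 1, 0, 0], [0, 1, 0, 1, 0, 0, 1, 1, 0, 1, 0, 1, 0, 1], [1, 0, 0, 0, 1, 0, 1, 1, 0, 0]]⟩,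
  ⟨[930943920660663948730329567529633824, 592380006640023600238759116057708576, 399377704341898151808080305612490784], [], [], 5, 16771936, [[0, 2, 1, 0, 0, 0, 1, 0, 0, 0, 1, 2]]⟩,
  ⟨[608167165260361641911015062699608096], [], [], 6, 2162752, []⟩])] = true := by decide +kernel
theorem fam2 {n : ℕ} (h : n < 16777216) : fam 2 (can [n, n ^^^ 16777215]) = {toF n, (toF n)ᶜ} := by
  have := fam_can (l := [n, n ^^^ 16777215]) (by
    simp only [List.mem_cons, List.not_mem_nil, or_false, forall_eq_or_imp, forall_eq]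
    exact ⟨h, Nat.xor_lt_two_pow (n := 24) h (by norm_num)⟩)
  rw [show fam 2 _ = _ from this]
  simp [famL, toF_compl]


theorem result (d : Finset Cfsg.GolayPt) (hd : d ∈ Cfsg.dodecads) : IsCoatom (MulAction.stabilizer Cfsg.M24 ({d, dᶜ} : Finset (Finset Cfsg.GolayPt))) := by
  obtain ⟨g, rfl⟩ := std_dod hd
  have e0 : fam 2 5718211742880 = {toF 340831, (toF 340831)ᶜ} := by
    rw [← fam2 (by norm_num)]; congr 1; decide +kernel
  rw [← smul_compl', ← smul_finset_singleton, ← smul_finset_insert, ← e0]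
  refine isCoatom_stab_smul g (coatOk_sound (act_fam 2) chk (fun g => ?_) ⟨pm 956302485175575353788796878166559809, ?_⟩)
  · rw [e0, smul_finset_insert, smul_finset_singleton, smul_compl']
    have h1 := (dod_smul_iff g).2 D0_mem
    generalize g • toF 340831 = d at h1
    by_cases h : pt 23 ∈ d
    · obtain ⟨n, hn, e⟩ := dodecads_iff.1 (show dᶜ ∈ dodecads from ⟨(dod_cw h1).compl, by rw [card_compl, h1.2, card_pt]⟩)
      refine ⟨_, List.mem_map.2 ⟨n, mem_lfilt.2 ⟨hn, ?_⟩, rfl⟩, by rw [fam2 (dodL_lt hn), e, compl_compl, pair_comm]⟩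
      have : pt 23 ∉ toF n := by rw [e]; simpa using h
      simpa [pt23_mem] using this
    · obtain ⟨n, hn, rfl⟩ := dodecads_iff.1 h1
      exact ⟨_, List.mem_map.2 ⟨n, mem_lfilt.2 ⟨hn, by simpa [pt23_mem] using h⟩, rfl⟩, fam2 (dodL_lt hn)⟩
  · rw [← fam_imgF (by decide +kernel)]
    exact fun e => absurd (fam_inj (by decide +kernel) (by decide +kernel) e) (by decide +kernel)

end Cfsg.Agent.S1566
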