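import Cfsg.Statements.S1568
import Cfsg.Agent.Lee.Count

set_option autoImplicit false
open Cfsg

namespace Cfsg.Agent.S1568

open Cfsg.Agent.Gol Finset
open scoped Pointwise
open Cfsg.Agent.Lee

theorem aux (a : ℕ) (N : ℕ) (h : cntM (2 ^ 128) (Icc (-8) 8 \ {(a : ℤ), -(a : ℤ)}) 0 48 +
      cntM (2 ^ 128) (Icc (-8) 8 \ {(a : ℤ), -(a : ℤ)}) 1 48 + N = 16773120) :
    {x : V | x ∈ leechLattice ∧ sqNorm x = 48 ∧ ∃ i, |x i| = a}.ncard = N := by
  rw [← count_lat (by norm_num) _ (card_le_card sdiff_subset |>.trans (by simp)), ← count48] at h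
  have hf : {x : V | x ∈ leechLattice ∧ sqNorm x = 48}.Finite :=
    (finite_norm_le 48).subset fun x hx => le_of_eq hx.2
  rw [← Set.ncard_inter_add_ncard_diff_eq_ncard {x : V | x ∈ leechLattice ∧ sqNorm x = 48}
    {x | ∃ i, |x i| = a} hf, add_comm] at h
  have e1 : {x : V | x ∈ leechLattice ∧ sqNorm x = 48} \ {x | ∃ i, |x i| = a} =
      {x : V | x ∈ leechLattice ∧ sqNorm x = (48 : ℕ) ∧ ∀ i, x i ∈ Icc (-8 : ℤ) 8 \ {(a : ℤ), -(a : ℤ)}} := by
    ext x
    simp only [Set.mem_diff, Set.mem_setOf_eq, not_exists, mem_sdiff, mem_Icc, mem_insert,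
      mem_singleton, abs_eq (Int.natCast_nonneg a), Nat.cast_ofNat]
    exact ⟨fun h => ⟨h.1.1, h.1.2, fun i => ⟨abs_le_eight (by rw [h.1.2]; norm_num) i, h.2 i⟩⟩,
      fun h => ⟨⟨h.1, h.2.1⟩, fun i => (h.2.2 i).2⟩⟩
  rw [e1] at h
  rw [Nat.add_right_cancel h]
  congr 1
  ext x
  simp only [Set.mem_inter_iff, Set.mem_setOf_eq, and_assoc]


theorem result : {x : Cfsg.GolayPt → ℤ | x ∈ Cfsg.leechLattice ∧ Cfsg.sqNorm x = 48 ∧ ∀ i, x i = 0 ∨ x i = 2 ∨ x i = -2}.ncard = 5275648 ∧ {x : Cfsg.GolayPt → ℤ | x ∈ Cfsg.leechLattice ∧ Cfsg.sqNorm x = 48 ∧ ∃ i j k, i ≠ j ∧ j ≠ k ∧ i ≠ k ∧ |x i| = 3 ∧ |x j| = 3 ∧ |x k| = 3}.ncard = 8290304 ∧ {x : Cfsg.GolayPt → ℤ | x ∈ Cfsg.leechLattice ∧ Cfsg.sqNorm x = 48 ∧ ∃ i, |x i| = 4}.ncard = 3108864 ∧ {x : Cfsg.GolayPt → ℤ | x ∈ Cfsg.leechLattice ∧ Cfsg.sqNorm x = 48 ∧ ∃ i, |x i| = 5}.ncard = 98304 := by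
  refine ⟨?_, ?_, aux 4 _ (by decide +kernel), aux 5 _ (by decide +kernel)⟩
  · have := count_lat (q := 2 ^ 128) (by norm_num) {0, 2, -2} (by decide) 48
    simp only [mem_insert, mem_singleton, Nat.cast_ofNat] at this
    rw [this]
    decide +kernel
  · have := count_lat (q := 2 ^ 128) (by norm_num) {1, -1, 3, -3} (by decide) 48
    simp only [mem_insert, mem_singleton, Nat.cast_ofNat] at this
    refine Eq.trans ?_ (this.trans (by decide +kernel))
    congr 1
    ext x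
    simp only [Set.mem_setOf_eq]
    refine and_congr_right fun hx => and_congr_right fun hn => ⟨?_, fun h => ?_⟩
    · rintro ⟨i, j, k, hij, hjk, hik, hi, hj, hk⟩ l
      have ho := (lv1_of hx (i := i) (by rw [abs_eq (by norm_num)] at hi; omega)).1 l
      by_contra hl
      have h5 : 5 ≤ |x l| := by rcases abs_cases (x l) with h | h <;> omega
      have n1 : l ≠ i := by rintro rfl; omega
      have n2 : l ≠ j := by rintro rfl; omega
      have n3 : l ≠ k := by rintro rfl; omega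
      have := sum_le_sqNorm x {l, i, j, k}
      rw [sum_insert (by simp [n1, n2, n3]), sum_insert (by simp [hij, hik]), sum_insert (by simp [hjk]),
        sum_singleton, ← sq_abs (x i), ← sq_abs (x j), ← sq_abs (x k), ← sq_abs (x l), hi, hj, hk, hn] at this
      nlinarith
    · have e : sqNorm x = 24 * 1 + 8 * (univ.filter fun i => |x i| = 3).card := by
        rw [← sum_one24, ← sum_ind, ← sum_add_distrib]
        refine sum_congr rfl fun i _ => ?_
        rcases h i with h | h | h | h <;> simp [h]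
      have e3 : (univ.filter fun i => |x i| = 3).card = 3 := by omega
      obtain ⟨i, j, k, h1, h2, h3, h4⟩ := card_eq_three.1 e3
      have m : ∀ l ∈ ({i, j, k} : Finset GolayPt), |x l| = 3 := fun l hl => by
        rw [← h4] at hl
        exact (mem_filter.1 hl).2
      exact ⟨i, j, k, h1, h3, h2, m i (by simp), m j (by simp), m k (by simp)⟩

end Cfsg.Agent.S1568
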