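import Cfsg.Statements.S1578
import Cfsg.Agent.Lee.C5

set_option autoImplicit false
open Cfsg

namespace Cfsg.Agent.S1578

open Cfsg.Agent.Gol Finset
open scoped Pointwise
open Cfsg.Agent.Lee


theorem result (u : ↥Cfsg.leechLattice) (hu : Cfsg.sqNorm (u : Cfsg.GolayPt → ℤ) = 48) : {v : ↥Cfsg.leechLattice | Cfsg.sqNorm (v : Cfsg.GolayPt → ℤ) = 32 ∧ Cfsg.sqNorm ((u - v) : Cfsg.GolayPt → ℤ) = 32}.ncard = 552 := by
  obtain ⟨g, rfl⟩ := trans3 hu
  refine (ncard_tr g fun x => ?_).trans n552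
  show _ ↔ x ∈ XC _
  rw [mem_XC1, lv_u0]
  refine and_congr (by simp) ?_ |>.trans (and_congr_right fun h => nm_sub_iff nm_u0 h)
  rw [← AddSubgroup.coe_sub, ← co_sub, nm_smul, AddSubgroup.coe_sub]

end Cfsg.Agent.S1578
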