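import Cfsg.Statements.S1579
import Cfsg.Agent.Lee.C5

set_option autoImplicit false
open Cfsg

namespace Cfsg.Agent.S1579

open Cfsg.Agent.Gol Finset
open scoped Pointwise
open Cfsg.Agent.Lee


theorem result (u v v' : ↥Cfsg.leechLattice) (hu : Cfsg.sqNorm (u : Cfsg.GolayPt → ℤ) = 48) (hv : Cfsg.sqNorm (v : Cfsg.GolayPt → ℤ) = 32 ∧ Cfsg.sqNorm ((u - v) : Cfsg.GolayPt → ℤ) = 32) (hv' : Cfsg.sqNorm (v' : Cfsg.GolayPt → ℤ) = 32 ∧ Cfsg.sqNorm ((u - v') : Cfsg.GolayPt → ℤ) = 32) : ∃ g : ↥Cfsg.Co0, g • u = u ∧ g • v = v' := by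
  obtain ⟨g, a, b⟩ := std24 hu hv.1 ((nm_sub_iff hu hv.1).1 hv.2)
  obtain ⟨h, c, d⟩ := std24 hu hv'.1 ((nm_sub_iff hu hv'.1).1 hv'.2)
  exact ⟨h * g⁻¹, by rw [← a, tr2, a, c], by rw [← b, tr2, d]⟩

end Cfsg.Agent.S1579
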