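import Cfsg.Statements.S1589
import Cfsg.Agent.MX.B

set_option autoImplicit false
open scoped Pointwise
open Cfsg

namespace Cfsg.Agent.S1589

open Cfsg.Agent.MX Cfsg.Agent.Gol
open scoped Pointwise

theorem cd {H : Subgroup M24} {n m : ℕ} (h : H.index = n) (e : m * n = 244823040) :
    Nat.card H = m := by
  have := H.card_mul_index
  rw [h, card_M24, ← e] at this
  exact Nat.eq_of_mul_eq_mul_right (Nat.pos_of_ne_zero fun h => by simp [h] at e) this

/-- Subgroups of the group of the length-24 code of index 759, 276 and 1771 are exactly the octad, duad and sextet stabilisers, and no subgroup has index 253. -/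
theorem result : (∀ H : Subgroup ↥Cfsg.M24, H.index = 759 → ∃ o ∈ Cfsg.octads, H = MulAction.stabilizer Cfsg.M24 o) ∧ (∀ H : Subgroup ↥Cfsg.M24, H.index = 276 → ∃ s : Finset Cfsg.GolayPt, s.card = 2 ∧ H = MulAction.stabilizer Cfsg.M24 s) ∧ (∀ H : Subgroup ↥Cfsg.M24, H.index = 1771 → ∃ S ∈ Cfsg.sextets, H = MulAction.stabilizer Cfsg.M24 S) ∧ ∀ H : Subgroup ↥Cfsg.M24, H.index ≠ 253 := by

    refine ⟨fun H h => ?_, fun H h => ?_, fun H h => ?_, fun H h => ?_⟩
    · have c := cd (m := 322560) h (by norm_num)
      rcases m24_cases (H := H) (by rw [c]; norm_num) (by rw [c]; norm_num) (by rw [c]; norm_num)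
        (by rw [c]; norm_num) with ⟨o, ho, e⟩ | ⟨S, hS, e⟩
      · exact ⟨o, ho, Subgroup.eq_of_le_of_card_ge e (by rw [c, card_stab_oct ho])⟩
      · have := Subgroup.card_dvd_of_le e
        rw [c, card_sex hS] at this
        norm_num at this
    · have c := cd (m := 887040) h (by norm_num)
      obtain ⟨s, hs, e⟩ := duad_case c
      exact ⟨s, hs, Subgroup.eq_of_le_of_card_ge e (by rw [c, card_s2 hs])⟩
    · have c := cd (m := 138240) h (by norm_num)
      rcases m24_cases (H := H) (by rw [c]; norm_num) (by rw [c]; norm_num) (by rw [c]; norm_num)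
        (by rw [c]; norm_num) with ⟨o, ho, e⟩ | ⟨S, hS, e⟩
      · have := Subgroup.card_dvd_of_le e
        rw [c, card_stab_oct ho] at this
        norm_num at this
      · exact ⟨S, hS, Subgroup.eq_of_le_of_card_ge e (by rw [c, card_sex hS])⟩
    · have c := cd (m := 967680) h (by norm_num)
      rcases m24_cases (H := H) (by rw [c]; norm_num) (by rw [c]; norm_num) (by rw [c]; norm_num)
        (by rw [c]; norm_num) with ⟨o, ho, e⟩ | ⟨S, hS, e⟩
      · have := Subgroup.card_dvd_of_le e
        rw [c, card_stab_oct ho] at this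
        norm_num at this
      · have := Subgroup.card_dvd_of_le e
        rw [c, card_sex hS] at this
        norm_num at this

end Cfsg.Agent.S1589
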