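import Cfsg.Statements.S1591
import Cfsg.Agent.Stn.Tern

set_option autoImplicit false
open Cfsg

namespace Cfsg.Agent.S1591

/-- Any two words of the length-12 ternary code have dot product zero. -/
theorem result (x y : Cfsg.ArrayPt → ZMod 3) (hx : x ∈ Cfsg.ternaryGolayCode) (hy : y ∈ Cfsg.ternaryGolayCode) : ∑ p, x p * y p = 0 := by
  have k : ∀ z ∈ Cfsg.ternaryGolayCode, ∑ p, z p * z p = 0 := fun z hz => by
    obtain ⟨n, hn, rfl⟩ := Stn.exists_Wn hz
    exact Stn.tern_self n hn
  have h1 := k _ (add_mem hx hy)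
  have h2 : ∑ p, (x + y) p * (x + y) p = ∑ p, x p * x p + ∑ p, y p * y p + 2 * ∑ p, x p * y p := by
    rw [Finset.mul_sum, ← Finset.sum_add_distrib, ← Finset.sum_add_distrib]
    refine Finset.sum_congr rfl fun p _ => ?_
    rw [Pi.add_apply]
    ring
  rw [h1, k x hx, k y hy, zero_add, zero_add] at h2
  exact (mul_eq_zero.1 h2.symm).resolve_left (by decide)

end Cfsg.Agent.S1591
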