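import Cfsg.Statements.S1596
import Cfsg.Agent.Gol.Sex

set_option autoImplicit false
open scoped Pointwise
open Cfsg

namespace Cfsg.Agent.S1596

open Cfsg.Agent.Gol Finset
open scoped Pointwise


theorem result (d : Finset Cfsg.GolayPt) (hd : d ∈ Cfsg.dodecads) (t u : Finset Cfsg.GolayPt) (ht : t.card = 3) (hu : u.card = 3) (htu : Disjoint t u) (hh : t ∪ u ∈ Cfsg.hexadsOn d) : ∃! Q : Finset (Finset Cfsg.GolayPt), Q ∈ Cfsg.quartets d ∧ t ∈ Q ∧ u ∈ Q := by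
  obtain ⟨g, rfl, rfl, rfl⟩ := std_tu hd ht hu hh
  refine ⟨g • fam 4 qx0, ⟨(qua_smul_iff g).2 qx0_mem,
    (smul_famL _ _ _).2 (mem_famL.2 ⟨_, by decide +kernel, rfl⟩),
    (smul_famL _ _ _).2 (mem_famL.2 ⟨_, by decide +kernel, rfl⟩)⟩, fun S hS => ?_⟩
  obtain ⟨S, rfl⟩ := ex_smul g S
  rw [qua_uniq ((qua_smul_iff g).1 hS.1) ((smul_famL _ _ _).1 hS.2.1) ((smul_famL _ _ _).1 hS.2.2)]

end Cfsg.Agent.S1596
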