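import Cfsg.Statements.S1597
import Cfsg.Agent.Gol.Sex

set_option autoImplicit false
open scoped Pointwise
open Cfsg

namespace Cfsg.Agent.S1597

open Cfsg.Agent.Gol Finset
open scoped Pointwise


theorem result (d : Finset Cfsg.GolayPt) (hd : d ∈ Cfsg.dodecads) : (Cfsg.quartets d).ncard = 220 ∧ ∀ Q ∈ Cfsg.quartets d, ∀ Q' ∈ Cfsg.quartets d, ∃ g : Equiv.Perm Cfsg.GolayPt, g ∈ Cfsg.M24 ∧ g • d = d ∧ g • Q = Q' := by
  refine ⟨?_, fun Q hQ Q' hQ' => ?_⟩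
  · obtain ⟨g, rfl⟩ := std_dod hd
    rw [← smul_set_of_inv g fun _ => qua_smul_iff g, Set.ncard_smul_set, qua_pack.1]
  · obtain ⟨g, rfl, rfl⟩ := std_qua hd hQ
    obtain ⟨g', e, rfl⟩ := std_qua hd hQ'
    exact ⟨(g' * g⁻¹ : M24), (g' * g⁻¹).2, (tr2 (G := M24)).trans e, tr2 (G := M24)⟩

end Cfsg.Agent.S1597
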