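import Cfsg.Statements.S1598
import Cfsg.Agent.Gol.Sex

set_option autoImplicit false
open scoped Pointwise
open Cfsg

namespace Cfsg.Agent.S1598

open Cfsg.Agent.Gol Finset
open scoped Pointwise

instance : Fact (Nat.Prime 3) := ⟨by norm_num⟩


theorem result (d : Finset Cfsg.GolayPt) (hd : d ∈ Cfsg.dodecads) (Q : Finset (Finset Cfsg.GolayPt)) (hQ : Q ∈ Cfsg.quartets d) : Nat.card ↥(MulAction.stabilizer Cfsg.M24 d ⊓ MulAction.stabilizer Cfsg.M24 Q) = 432 ∧ (∃ (N : Subgroup ↥(MulAction.stabilizer Cfsg.M24 d ⊓ MulAction.stabilizer Cfsg.M24 Q)) (_ : N.Normal), Nat.card N = 9 ∧ Nonempty (↥(MulAction.stabilizer Cfsg.M24 d ⊓ MulAction.stabilizer Cfsg.M24 Q) ⧸ N ≃* GL (Fin 2) (ZMod 3))) ∧ ∀ p ∈ d, ∀ q ∈ d, ∃ g ∈ (MulAction.stabilizer Cfsg.M24 d ⊓ MulAction.stabilizer Cfsg.M24 Q), ((g : ↥Cfsg.M24) : Equiv.Perm Cfsg.GolayPt) p = q := by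
  obtain ⟨g, rfl, rfl⟩ := std_qua hd hQ
  have hc : ∀ x : M24, g * x * g⁻¹ ∈ MulAction.stabilizer M24 (g • toF 340831) ⊓
      MulAction.stabilizer M24 (g • fam 4 qx0) ↔ x ∈ KQ := fun x => by simp [cj_iff]
  have e := conjEquiv g hc
  have hf := fixOk_sound (act_fam 4) (x0 := qx0) (gens := [487655643029606470073469406179395616, 228040621104547906519190828822396993] ++ [928952864966028496604741530750814240, 968956918649955997548111344091382060]) (by decide +kernel)
  have hf' := fixOk_sound act_img (x0 := 340831) (gens := [487655643029606470073469406179395616, 228040621104547906519190828822396993] ++ [928952864966028496604741530750814240, 968956918649955997548111344091382060]) (by decide +kernel)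
  have hs : KQ = gsub ([487655643029606470073469406179395616, 228040621104547906519190828822396993] ++ [928952864966028496604741530750814240, 968956918649955997548111344091382060]) :=
    eq_gsub_of_low (ls := [⟨[487655643029606470073469406179395616, 228040621104547906519190828822396993, 928952864966028496604741530750814240, 968956918649955997548111344091382060], [], [], 0, 340831, [[3, 2, 3, 0, 2, 3, 2, 0, 1, 1, 2, 2, 2, 3, 1], [3, 2, 2, 3, 2, 0, 1, 3, 1]]⟩,
  ⟨[809295211412880799543496580361749568, 970531819526550031117983620406741024], [], [], 1, 6, [[1, 0, 0], [1, 1, 1, 0, 1, 1, 1, 0, 0, 0, 1], [0, 0]]⟩,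
  ⟨[486317894067777385906476470720956448, 486073779993727295785104656607348768, 487607080158395075740321133224921120], [], [], 3, 340824, [[2, 0, 1, 0, 1, 2, 2, 2, 0]]⟩,
  ⟨[970499966350631336865513127433832480], [], [], 4, 4112, []⟩]) (by decide +kernel) (gsub_le fun c hc => ⟨(hf' c hc).2, (hf c hc).2⟩)
      (by rw [card_KQ]; decide +kernel)
  refine ⟨by rw [← Nat.card_congr e.toEquiv, card_KQ], ?_, fun p hp q hq => ?_⟩
  · obtain ⟨h1, h2⟩ := nrmOk_sound (ns := [487655643029606470073469406179395616, 228040621104547906519190828822396993]) (n := 9) (ls := [⟨[487655643029606470073469406179395616, 228040621104547906519190828822396993], [], [], 0, 7, [[0]]⟩,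
  ⟨[487655643029606470073469406179395616], [], [], 3, 270344, []⟩])
      (by decide +kernel) hs (gsub_le fun c hc => hs ▸ pm_mem_gsub (List.mem_append_left _ hc))
    have hA : Nat.card (GL (Fin 2) (ZMod 3)) = 48 := by rw [Matrix.card_GL_field]; simp
    obtain ⟨φ, -, h3⟩ := hom_of_graphM (A := GL (Fin 2) (ZMod 3)) (fun A => encM A.1) (mulM 2 3)
      (fun x y => encM_mul (by norm_num) _ _) (e := 4097) (by decide +kernel) hA
      (cs := [(4113, 928952864966028496604741530750814240), (272, 968956918649955997548111344091382060)]) (by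
        simp only [List.forall_mem_cons, List.not_mem_nil, false_imp_iff, implies_true, and_true]
        exact ⟨⟨⟨!![1, 1; 0, 1], !![1, 2; 0, 1], by decide +kernel, by decide +kernel⟩, by decide +kernel⟩,
          ⟨⟨!![0, 1; 1, 0], !![0, 1; 1, 0], by decide +kernel, by decide +kernel⟩, by decide +kernel⟩⟩)
      (by decide +kernel)
    have h4 := range_le_of_card φ h3 (hA ▸ le_trans (by decide +kernel)
      (lowOk_sound (ls := [⟨[928952864966028496604741530750814240, 968956918649955997548111344091382060], [], [], 0, 275027, [[1, 1, 1, 0, 0, 1, 0, 0, 1, 0, 0, 0, 1, 0, 0, 1], [0, 1, 1]]⟩,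
  ⟨[486349973926430203268823274221996064, 928952864966028496604741530750814240], [], [], 3, 65800, [[0, 0, 1, 1, 0]]⟩,
  ⟨[970499966350631336865513127433832480], [], [], 4, 4112, []⟩]) (f := 0) (by decide +kernel)))
    obtain ⟨N, a, b, -, d⟩ := nrm_tr e (P := False) ⟨_, h1, h2, False.elim, quot_of_gens φ hs
      (h4.trans (gsub_le fun c hc => hs ▸ pm_mem_gsub (List.mem_append_right _ hc))) h3
      (by rw [hA, h2, card_KQ])⟩
    exact ⟨N, a, b, d⟩
  · have h := (covP_gsub (f := 0) (E := [340831]) (gens := gQua) (b := 0) (m := 340831)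
      (by decide +kernel)).2
    obtain ⟨p, rfl⟩ := ex_smul g p
    obtain ⟨q, rfl⟩ := ex_smul g q
    obtain ⟨a, ha, rfl⟩ := h p (smul_mem_smul_finset_iff g |>.1 hp)
    obtain ⟨b, hb, rfl⟩ := h q (smul_mem_smul_finset_iff g |>.1 hq)
    exact ⟨_, (hc _).2 (qua_pack.2.1 (mul_mem hb (inv_mem ha))), cj g tr2⟩

end Cfsg.Agent.S1598
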