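import Cfsg.Statements.S1599
import Cfsg.Agent.Gol.Sex

set_option autoImplicit false
open scoped Pointwise
open Cfsg

namespace Cfsg.Agent.S1599

open Cfsg.Agent.Gol Finset
open scoped Pointwise


theorem result (d : Finset Cfsg.GolayPt) (hd : d ∈ Cfsg.dodecads) (Q : Finset (Finset Cfsg.GolayPt)) (hQ : Q ∈ Cfsg.quartets d) : ∃ X₁ ∈ Cfsg.quartets d, ∃ X₂ ∈ Cfsg.quartets d, ∃ X₃ ∈ Cfsg.quartets d, ∃ X₄ ∈ Cfsg.quartets d, (MulAction.orbit ↥(MulAction.stabilizer Cfsg.M24 d ⊓ MulAction.stabilizer Cfsg.M24 Q) X₁).ncard = 12 ∧ (MulAction.orbit ↥(MulAction.stabilizer Cfsg.M24 d ⊓ MulAction.stabilizer Cfsg.M24 Q) X₂).ncard = 27 ∧ (MulAction.orbit ↥(MulAction.stabilizer Cfsg.M24 d ⊓ MulAction.stabilizer Cfsg.M24 Q) X₃).ncard = 72 ∧ (MulAction.orbit ↥(MulAction.stabilizer Cfsg.M24 d ⊓ MulAction.stabilizer Cfsg.M24 Q) X₄).ncard = 108 ∧ Cfsg.quartets d = {Q} ∪ MulAction.orbit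 ↥(MulAction.stabilizer Cfsg.M24 d ⊓ MulAction.stabilizer Cfsg.M24 Q) X₁ ∪ MulAction.orbit ↥(MulAction.stabilizer Cfsg.M24 d ⊓ MulAction.stabilizer Cfsg.M24 Q) X₂ ∪ MulAction.orbit ↥(MulAction.stabilizer Cfsg.M24 d ⊓ MulAction.stabilizer Cfsg.M24 Q) X₃ ∪ MulAction.orbit ↥(MulAction.stabilizer Cfsg.M24 d ⊓ MulAction.stabilizer Cfsg.M24 Q) X₄ := by
  obtain ⟨g, rfl, rfl⟩ := std_qua hd hQ
  have hc : ∀ x : M24, g * x * g⁻¹ ∈ MulAction.stabilizer M24 (g • toF 340831) ⊓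
      MulAction.stabilizer M24 (g • fam 4 qx0) ↔ x ∈ KQ := fun x => by simp [cj_iff]
  obtain ⟨-, -, h1, h2⟩ := qua_pack
  simp only [yQua, List.forall_mem_cons] at h1
  simp only [yQua, List.mem_cons, List.not_mem_nil, or_false,
    exists_eq_or_imp, exists_eq_left] at h2
  obtain ⟨a0, a1, a2, a3, a4, -⟩ := h1
  refine ⟨_, (qua_smul_iff g).2 a1.1, _, (qua_smul_iff g).2 a2.1, _, (qua_smul_iff g).2 a3.1,
    _, (qua_smul_iff g).2 a4.1, ?_⟩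
  simp only [orbit_conj g hc, Set.ncard_smul_set]
  refine ⟨a1.2.2, a2.2.2, a3.2.2, a4.2.2, ?_⟩
  rw [← Set.smul_set_singleton, ← orbit_stab_self (K := KQ) (x := fam 4 qx0)
    fun g hg => hg.2, ← smul_set_of_inv (A := quartets (toF 340831)) g fun _ => qua_smul_iff g]
  simp only [← Set.smul_set_union]
  congr 1
  rw [a1.2.1, a2.2.1, a3.2.1, a4.2.1, show MulAction.orbit KQ (fam 4 qx0) = _ from a0.2.1]
  ext x
  simp only [Set.mem_union, Set.mem_ofPred_eq, ← and_or_left, or_assoc]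
  exact ⟨fun h => ⟨h, h2 x h⟩, fun h => h.1⟩

end Cfsg.Agent.S1599
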