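import Cfsg.Statements.S1600
import Cfsg.Agent.Gol.Flag

set_option autoImplicit false
open scoped Pointwise
open Cfsg

namespace Cfsg.Agent.S1600

open Cfsg.Agent.Gol Finset
open scoped Pointwise


theorem result (d : Finset Cfsg.GolayPt) (hd : d ∈ Cfsg.dodecads) (p q r : Cfsg.GolayPt) (hp : p ∈ d) (hq : q ∈ d) (hr : r ∈ d) (hpq : p ≠ q) (hpr : p ≠ r) (hqr : q ≠ r) : Nat.card ↥(MulAction.stabilizer Cfsg.M24 d ⊓ MulAction.stabilizer Cfsg.M24 p ⊓ MulAction.stabilizer Cfsg.M24 q ⊓ MulAction.stabilizer Cfsg.M24 r) = 72 ∧ ∀ x ∉ d, ∀ y ∉ d, ∃ g ∈ (MulAction.stabilizer Cfsg.M24 d ⊓ MulAction.stabilizer Cfsg.M24 p ⊓ MulAction.stabilizer Cfsg.M24 q ⊓ MulAction.stabilizer Cfsg.M24 r), ((g : ↥Cfsg.M24) : Equiv.Perm Cfsg.GolayPt) x = y := by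
  obtain ⟨g, rfl, rfl, rfl, rfl⟩ := dod_pts3 hd (a := p) (b := q) (c := r) (by simp [*]) (by simp [*])
  have e7 : toF 7 = {pt 0, pt 1, pt 2} := by decide +kernel
  have hc : ∀ x : M24, g * x * g⁻¹ ∈ MulAction.stabilizer Cfsg.M24 (g • toF 340831) ⊓ MulAction.stabilizer Cfsg.M24 (g • pt 0) ⊓ MulAction.stabilizer Cfsg.M24 (g • pt 1) ⊓ MulAction.stabilizer Cfsg.M24 (g • pt 2) ↔ x ∈ St 7 [340831] := fun x => by
    simp [mem_St, e7, cj_iff]; tauto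
  refine ⟨by rw [← card_m9]; exact (Nat.card_congr (conjEquiv g hc).toEquiv).symm, fun x hx y hy => ?_⟩
  obtain ⟨x, rfl⟩ := ex_smul g x
  obtain ⟨y, rfl⟩ := ex_smul g y
  rw [smul_mem_smul_finset_iff, ← mem_compl, ← toF_D0c] at hx hy
  have hcov : covP 7 [340831] [796025918939784314627536738561984544, 437673696385666828435562741295908896] 23 16436384 = true := by decide +kernel
  obtain ⟨a, ha, rfl⟩ := covP_sound hcov x hx
  obtain ⟨b, hb, rfl⟩ := covP_sound hcov y hy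
  exact ⟨g * (b * a⁻¹) * g⁻¹, (hc _).2 (mul_mem hb (inv_mem ha)), cj g tr2⟩

end Cfsg.Agent.S1600
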