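import Cfsg.Statements.S1601
import Cfsg.Agent.Gol.Simp

set_option autoImplicit false
open scoped Pointwise
open Cfsg

namespace Cfsg.Agent.S1601

open Cfsg.Agent.Gol Finset
open scoped Pointwise


theorem result (d : Finset Cfsg.GolayPt) (hd : d ∈ Cfsg.dodecads) (p q : Cfsg.GolayPt) (hp : p ∈ d) (hq : q ∉ d) : Nonempty (↥(MulAction.stabilizer Cfsg.M24 d ⊓ MulAction.stabilizer Cfsg.M24 p ⊓ MulAction.stabilizer Cfsg.M24 q) ≃* Matrix.ProjectiveSpecialLinearGroup (Fin 2) (ZMod 11)) := by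
  obtain ⟨g, rfl, rfl, rfl⟩ := m11_pt hd hp hq
  obtain ⟨e⟩ := l211_iso
  exact ⟨(conjEquiv g (K := St 8388609 [340831]) fun x => by simp [mem_St, toF_f2, cj_iff]; tauto).symm.trans e⟩

end Cfsg.Agent.S1601
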