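import Cfsg.Statements.S1602
import Cfsg.Agent.Gol.Fam

set_option autoImplicit false
open scoped Pointwise
open Cfsg

namespace Cfsg.Agent.S1602

open Cfsg.Agent.Gol Finset
open scoped Pointwise


theorem result (d : Finset Cfsg.GolayPt) (hd : d ∈ Cfsg.dodecads) (p q q' : Cfsg.GolayPt) (hp : p ∈ d) (hq : q ∉ d) (hq' : q' ∉ d) (hqq' : q ≠ q') : Nonempty (↥(MulAction.stabilizer Cfsg.M24 d ⊓ MulAction.stabilizer Cfsg.M24 p ⊓ MulAction.stabilizer Cfsg.M24 ({q, q'} : Finset Cfsg.GolayPt)) ≃* Equiv.Perm (Fin 5)) := by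
  obtain ⟨g, rfl, rfl, rfl, rfl⟩ := m11_pt2 hd hp hqq' hq hq'
  have e2 : toF 8388640 = {pt 23, pt 5} := by decide +kernel
  obtain ⟨φ, -, h2⟩ := hom_of_graphM (A := Equiv.Perm (Fin 5)) encP (mulP 5) (encP_mul (by norm_num))
    (e := 4294688) (N := 120) (by decide +kernel) (by simp [Nat.card_perm]; rfl)
    (cs := [(4294657, 228001363311221454468151101670655040), (134209, 982058404300611374656357812083497024)])
    (by
      simp only [List.forall_mem_cons, List.not_mem_nil, false_imp_iff, implies_true, and_true]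
      exact ⟨⟨Equiv.swap 0 1, by decide +kernel⟩, ⟨finRotate 5, by decide +kernel⟩⟩) (by decide +kernel)
  have h3 : St 1 [340831] = gsub [981936972673444871357696469910493280, 902860254814604741964508735769846848] :=
    eq_gsub_of_low (ls := [⟨[981936972673444871357696469910493280, 902860254814604741964508735769846848], [], [], 1, 340830, [[0, 0, 0, 1, 0, 0, 0, 1, 1, 0], [1, 0, 0, 0, 1, 0, 1, 0]]⟩,
  ⟨[858969367723173546185893435209681952, 892075799971713969102043030528366624], [], [], 2, 340828, [[1, 1], [0, 0, 0, 0, 1, 1, 0, 1, 0, 1, 0, 1, 0]]⟩,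
  ⟨[304527279934878073638008567181674528, 858988336336270505570052787752405024], [], [], 3, 340824, [[1, 0], [0, 0, 1, 0, 0, 1, 0, 1, 0, 1, 1]]⟩,
  ⟨[232652365823391711183829569059784736, 608405391266436187982588441666881568], [], [], 4, 340816, []⟩]) (by decide +kernel) (gsub_le_St (by decide +kernel))
      (by rw [card_m11]; decide +kernel)
  have h4 : St 1 [8388640, 340831] ≤ gsub [228001363311221454468151101670655040, 982058404300611374656357812083497024] :=
    le_gsub_of_enum (q := fun c => decide (pc (img c 8388640 ^^^ 8388640) = 0))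
      (le_trans (b := St 1 [340831]) (fun x hx => ⟨hx.1, fun s hs => hx.2 s (List.mem_cons_of_mem _ hs)⟩) h3.le)
      (fun x hx c hc => decide_eq_true (by rw [← toF_eq_iff, ← hc.smul]; exact hx.2 _ (by simp)))
      (by decide +kernel)
  obtain ⟨e⟩ := equiv_of_surj φ (h4.trans h2) (by
    refine le_trans ?_ ((lowOk_sound (ls := [⟨[228001363311221454468151101670655040, 982058404300611374656357812083497024], [], [], 1, 66374, [[0, 0, 1, 0, 0, 0, 1, 1, 1, 1, 1], [0, 0, 1, 0, 0, 0, 0, 1, 0, 0, 1, 0, 1]]⟩,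
  ⟨[235655867277392628769175291619065888, 234087195543560038524201801623184416], [], [], 2, 66372, [[1, 0, 1, 1, 0, 1, 1, 0, 1, 1, 1]]⟩,
  ⟨[227578386318009578406903204956702752], [], [], 4, 274448, []⟩]) (f := 0) (by decide +kernel)).trans
      (Subgroup.card_le_of_le (gsub_le_St (by decide +kernel))))
    simp only [Nat.card_perm, Nat.card_eq_fintype_card, Fintype.card_fin]
    decide +kernel)
  refine ⟨(conjEquiv g (K := St 1 [8388640, 340831]) fun x => ?_).symm.trans e⟩
  rw [← smul_finset_singleton, ← smul_finset_insert, ← e2]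
  simp [mem_St, toF_1, cj_iff]; tauto

end Cfsg.Agent.S1602
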