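import Cfsg.Statements.S1603
import Cfsg.Agent.Gol.Fam

set_option autoImplicit false
open scoped Pointwise
open Cfsg

namespace Cfsg.Agent.S1603

open Cfsg.Agent.Gol Finset
open scoped Pointwise

instance : Fact (Nat.Prime 3) := ⟨by norm_num⟩
theorem h3 : St 1 [340831] = gsub [981936972673444871357696469910493280, 902860254814604741964508735769846848] :=
  eq_gsub_of_low (ls := [⟨[981936972673444871357696469910493280, 902860254814604741964508735769846848], [], [], 1, 340830, [[0, 0, 0, 1, 0, 0, 0, 1, 1, 0], [1, 0, 0, 0, 1, 0, 1, 0]]⟩,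
  ⟨[858969367723173546185893435209681952, 892075799971713969102043030528366624], [], [], 2, 340828, [[1, 1], [0, 0, 0, 0, 1, 1, 0, 1, 0, 1, 0, 1, 0]]⟩,
  ⟨[304527279934878073638008567181674528, 858988336336270505570052787752405024], [], [], 3, 340824, [[1, 0], [0, 0, 1, 0, 0, 1, 0, 1, 0, 1, 1]]⟩,
  ⟨[232652365823391711183829569059784736, 608405391266436187982588441666881568], [], [], 4, 340816, []⟩]) (by decide +kernel) (gsub_le_St (by decide +kernel))
    (by rw [card_m11]; decide +kernel)
theorem std : Nonempty (↥(St 1 [340831] ⊓ Subgroup.centralizer {pm 734330466351947022443742560843483424}) ≃* GL (Fin 2) (ZMod 3)) := by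
  have hc : Nat.card (GL (Fin 2) (ZMod 3)) = 48 := by rw [Matrix.card_GL_field]; simp
  obtain ⟨φ, -, h2⟩ := hom_of_graphM (A := GL (Fin 2) (ZMod 3)) (fun A => encM A.1) (mulM 2 3)
    (fun x y => encM_mul (by norm_num) _ _) (e := 4097) (by decide +kernel) hc
    (cs := [(4113, 970294198445089438799834204141527072), (272, 609715361036897732930450502224972288)])
    (by
      simp only [List.forall_mem_cons, List.not_mem_nil, false_imp_iff, implies_true, and_true]
      exact ⟨⟨⟨!![1, 1; 0, 1], !![1, 2; 0, 1], by decide +kernel, by decide +kernel⟩, by decide +kernel⟩,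
        ⟨⟨!![0, 1; 1, 0], !![0, 1; 1, 0], by decide +kernel, by decide +kernel⟩, by decide +kernel⟩⟩) (by decide +kernel)
  have hz : Rep 734330466351947022443742560843483424 (pm 734330466351947022443742560843483424) := rep_pm (by decide +kernel)
  have h4 : St 1 [340831] ⊓ Subgroup.centralizer {pm 734330466351947022443742560843483424} ≤ gsub [970294198445089438799834204141527072, 609715361036897732930450502224972288] :=
    le_gsub_of_enum (q := fun c => Nat.beq (comp c 734330466351947022443742560843483424) (comp 734330466351947022443742560843483424 c))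
      (le_trans inf_le_left h3.le)
      (fun x hx c hc => Nat.beq_eq ▸ comp_eq_of_rep (hc.mul hz)
        (Subgroup.mem_centralizer_singleton_iff.1 hx.2 ▸ hz.mul hc))
      (by decide +kernel)
  refine equiv_of_surj φ (h4.trans h2) ?_
  rw [hc]
  refine le_trans ?_ ((lowOk_sound (ls := [⟨[970294198445089438799834204141527072, 609715361036897732930450502224972288], [], [], 1, 336654, [[1, 0, 1, 0, 0, 1], [0, 1, 0, 1, 0, 1, 0, 0, 0, 1, 0, 1]]⟩,
  ⟨[735587421144309950099182594919155744, 719708130282520820308329691860975648], [], [], 2, 336140, []⟩]) (f := 0) (by decide +kernel)).trans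
      (Subgroup.card_le_of_le (le_inf (gsub_le_St (by decide +kernel)) (gsub_le fun c hc => ?_))))
  · decide +kernel
  · have : ∀ c ∈ [970294198445089438799834204141527072, 609715361036897732930450502224972288], inM c = true ∧ comp c 734330466351947022443742560843483424 = comp 734330466351947022443742560843483424 c := by decide +kernel
    obtain ⟨a, b⟩ := this c hc
    exact Subgroup.mem_centralizer_singleton_iff.2 (((rep_pm a).mul hz).eq (b ▸ hz.mul (rep_pm a)))
theorem cls (y : M24) (hy : y ∈ St 1 [340831]) (h1 : y ≠ 1) (h2 : y * y = 1) :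
    ∃ k ∈ St 1 [340831], k * pm 734330466351947022443742560843483424 * k⁻¹ = y := by
  have chk : enumG [981936972673444871357696469910493280, 902860254814604741964508735769846848] (fun l => covers
      ([(981936972673444871357696469910493280, 980764318845156520257806156225876544), (902860254814604741964508735769846848, 936853583181350467501841925370545728)].map fun (r : ℕ × ℕ) c => comp r.1 (comp c r.2))
      734330466351947022443742560843483424 1000 (fun c => bif' (Nat.beq (comp c c) idc) (!Nat.beq (comp c idc) idc) false) l) = true := by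
    decide +kernel
  obtain ⟨l, a1, a2, -⟩ := enumG_sound chk
  obtain ⟨c, hc, e⟩ := a2 y (h3 ▸ hy)
  obtain ⟨k, hk, e'⟩ := covers_sound (P := fun c => ∃ k ∈ St 1 [340831], Rep c (k * pm 734330466351947022443742560843483424 * k⁻¹))
    (fun φ hφ c ⟨k, hk, e⟩ => by
      obtain ⟨r, hr, rfl⟩ := List.mem_map.1 hφ
      have : inSt 1 [340831] r.1 = true ∧ inM r.2 = true ∧ comp r.1 r.2 = idc := by
        clear hφ; revert r; decide +kernel
      have b1 := rep_pm (inSt_inM this.1)
      have b2 := rep_pm this.2.1
      have b3 : pm r.2 = (pm r.1)⁻¹ :=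
        eq_inv_of_mul_eq_one_right ((b1.mul b2).eq (this.2.2 ▸ rep_one))
      refine ⟨pm r.1 * k, mul_mem (pm_mem_St this.1) hk, ?_⟩
      have := b1.mul (e.mul b2)
      rw [b3] at this
      convert this using 1
      group) ⟨1, one_mem _, by simpa using rep_pm (by decide +kernel)⟩ a1 c hc (by
      rw [comp_eq_idc (h2 ▸ e.mul e)]
      have : comp c idc ≠ idc := fun e3 => h1 ((mul_one y).symm.trans ((e.mul rep_one).eq (by rw [e3]; exact rep_one)))
      rw [Nat.beq_refl, bif'_true, Bool.not_eq_true', ← Bool.not_eq_true, Nat.beq_eq]; exact this)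
  exact ⟨k, hk, e'.eq e⟩


theorem result (d : Finset Cfsg.GolayPt) (hd : d ∈ Cfsg.dodecads) (p : Cfsg.GolayPt) (hp : p ∈ d) (x : ↥(MulAction.stabilizer Cfsg.M24 d ⊓ MulAction.stabilizer Cfsg.M24 p)) (hx : orderOf x = 2) : Nonempty (↥(Subgroup.centralizer ({x} : Set ↥(MulAction.stabilizer Cfsg.M24 d ⊓ MulAction.stabilizer Cfsg.M24 p))) ≃* GL (Fin 2) (ZMod 3)) := by
  obtain ⟨g, rfl, rfl⟩ := dod_pt hd hp
  have hc : ∀ y : M24, g * y * g⁻¹ ∈ MulAction.stabilizer Cfsg.M24 (g • toF 340831) ⊓ MulAction.stabilizer Cfsg.M24 (g • pt 0) ↔ y ∈ St 1 [340831] := fun y => by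
    simp [mem_St, toF_1, cj_iff, and_comm]
  have h1 : (x : M24) ≠ 1 := fun e => by
    rw [show x = 1 from Subtype.ext e, orderOf_one] at hx; omega
  have h2 : (x : M24) * x = 1 := by
    have := pow_orderOf_eq_one x
    rw [hx, pow_two] at this
    exact congrArg Subtype.val this
  obtain ⟨k, hk, e⟩ := cls (g⁻¹ * x * g) ((hc _).1 (by simpa [mul_assoc] using x.2))
    (fun e => h1 (by simpa [mul_assoc, mul_eq_one_iff_eq_inv] using e))
    (by rw [show g⁻¹ * x * g * (g⁻¹ * x * g) = g⁻¹ * (x * x) * g by group, h2]; simp)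
  obtain ⟨e0⟩ := std
  refine ⟨(centEquiv _ x).trans ((conjEquiv (g * k) fun y => ?_).symm.trans e0)⟩
  have e1 : (x : M24) = g * k * pm 734330466351947022443742560843483424 * (g * k)⁻¹ := by
    rw [show g * k * pm 734330466351947022443742560843483424 * (g * k)⁻¹ = g * (k * pm 734330466351947022443742560843483424 * k⁻¹) * g⁻¹ by group, e]; group
  rw [Subgroup.mem_inf, Subgroup.mem_inf (p := St _ _), show g * k * y * (g * k)⁻¹ = g * (k * y * k⁻¹) * g⁻¹ by group, hc,
    Subgroup.mul_mem_cancel_right _ (inv_mem hk), Subgroup.mul_mem_cancel_left _ hk,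
    Subgroup.mem_centralizer_singleton_iff, Subgroup.mem_centralizer_singleton_iff, e1]
  refine and_congr_right fun _ => ⟨fun h => ?_, fun h => ?_⟩
  · have := congrArg (fun t => (g * k)⁻¹ * t * (g * k)) h
    simpa [mul_assoc] using this
  · have := congrArg (fun t => (g * k) * t * (g * k)⁻¹) h
    simpa [mul_assoc] using this

end Cfsg.Agent.S1603
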