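import Cfsg.Statements.S1604
import Cfsg.Agent.Gol.Flag

set_option autoImplicit false
open scoped Pointwise
open Cfsg

namespace Cfsg.Agent.S1604

open Cfsg.Agent.Gol Finset

theorem chk : covC 8388609 [8536111] [970279282509237911888416272638052800, 971513763112539478683376838552700064] [8412681, 11046145, 8536111] (fun n => pc (8536111 &&& n)) (fun n => bit n 23 && bit n 0) octL = true := by decide +kernel


theorem result (p q : Cfsg.GolayPt) (hpq : p ≠ q) (o o' o'' : Finset Cfsg.GolayPt) (ho : o ∈ Cfsg.octads) (ho' : o' ∈ Cfsg.octads) (ho'' : o'' ∈ Cfsg.octads) (hp : p ∈ o ∧ p ∈ o' ∧ p ∈ o'') (hq : q ∈ o ∧ q ∈ o' ∧ q ∈ o'') (h : (o ∩ o').card = (o ∩ o'').card) : {x : Finset Cfsg.GolayPt | x ∈ Cfsg.octads ∧ p ∈ x ∧ q ∈ x ∧ (o ∩ x).card = 2}.ncard = 16 ∧ {x : Finset Cfsg.GolayPt | x ∈ Cfsg.octads ∧ p ∈ x ∧ q ∈ x ∧ (o ∩ x).card = 4}.ncard = 60 ∧ ∃ g : Equiv.Perm Cfsg.GolayPt, g ∈ Cfsg.M24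 ∧ g p = p ∧ g q = q ∧ g • o = o ∧ g • o' = o'' := by
  obtain ⟨g, rfl, rfl, rfl⟩ := pq_oct_in hpq ho hp.1 hq.1
  have key : ∀ k, {x : Finset GolayPt | x ∈ octads ∧ g • pt 23 ∈ x ∧ g • pt 0 ∈ x ∧ (g • toF 8536111 ∩ x).card = k}.ncard =
      lcnt (fun n => decide (bit n 23 = true ∧ bit n 0 = true ∧ pc (8536111 &&& n) = k)) octL := fun k => by
    rw [ncard_smul_eq g]
    refine ncard_oct' _ (fun n => ?_) (fun x hx => (oct_smul_iff g).1 hx.1)
    simp only [Set.mem_ofPred_eq, oct_smul_iff, ← smul_finset_inter, card_smul_finset, card_inter_toF,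
      smul_mem_smul_finset_iff, pt23_mem, pt0_mem]
  refine ⟨by rw [key]; decide +kernel, by rw [key]; decide +kernel, ?_⟩
  obtain ⟨a, rfl⟩ := ex_smul g o'
  obtain ⟨b, rfl⟩ := ex_smul g o''
  simp only [oct_smul_iff, ← smul_finset_inter, card_smul_finset, smul_mem_smul_finset_iff] at ho' ho'' h hp hq
  obtain ⟨a, ha, rfl⟩ := octads_iff.1 ho'
  obtain ⟨b, hb, rfl⟩ := octads_iff.1 ho''
  simp only [card_inter_toF, pt23_mem, pt0_mem] at h hp hq
  obtain ⟨k, hk, e⟩ := covC_sound chk ha hb (by simp [hp, hq]) (by simp [hp, hq]) h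
  exact ⟨(g * k * g⁻¹ : M24), (g * k * g⁻¹).2, cj g (hk.1 _ (by simp [toF_f2])), cj g (hk.1 _ (by simp [toF_f2])), cj g (hk.2 _ (by simp)), cj g e⟩

end Cfsg.Agent.S1604
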