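import Cfsg.Statements.S1605
import Cfsg.Agent.Gol.Flag

set_option autoImplicit false
open scoped Pointwise
open Cfsg

namespace Cfsg.Agent.S1605

open Cfsg.Agent.Gol Finset

theorem chk : covC 8388609 [12594948] [973008796616974827764863986709179552, 966513170681858613913752523624296032] [12594948, 8490656, 8394986] (fun n => pc (12594948 &&& n)) (fun n => bit n 23 && !bit n 0) octL = true := by decide +kernel


theorem result (p q : Cfsg.GolayPt) (hpq : p ≠ q) : {x : Finset Cfsg.GolayPt | (x ∈ Cfsg.octads ∧ p ∈ x ∧ q ∉ x)}.ncard = 176 ∧ (∀ o o' : Finset Cfsg.GolayPt, (o ∈ Cfsg.octads ∧ p ∈ o ∧ q ∉ o) → (o' ∈ Cfsg.octads ∧ p ∈ o' ∧ q ∉ o') → ∃ g : Equiv.Perm Cfsg.GolayPt, g ∈ Cfsg.M24 ∧ g p = p ∧ g q = q ∧ g • o = o') ∧ ∀ o : Finset Cfsg.GolayPt, (o ∈ Cfsg.octads ∧ p ∈ o ∧ q ∉ o) → {x : Finset Cfsg.GolayPt | (x ∈ Cfsg.octads ∧ p ∈ x ∧ q ∉ x) ∧ (o ∩ x).card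 = 2}.ncard = 70 ∧ {x : Finset Cfsg.GolayPt | (x ∈ Cfsg.octads ∧ p ∈ x ∧ q ∉ x) ∧ (o ∩ x).card = 4}.ncard = 105 ∧ ∀ o' o'' : Finset Cfsg.GolayPt, (o' ∈ Cfsg.octads ∧ p ∈ o' ∧ q ∉ o') → (o'' ∈ Cfsg.octads ∧ p ∈ o'' ∧ q ∉ o'') → (o ∩ o').card = (o ∩ o'').card → ∃ g : Equiv.Perm Cfsg.GolayPt, g ∈ Cfsg.M24 ∧ g p = p ∧ g q = q ∧ g • o = o ∧ g • o' = o'' := by
  refine ⟨?_, fun o o' h h' => ?_, fun o h => ?_⟩
  · obtain ⟨g, rfl, rfl⟩ := std2 hpq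
    rw [ncard_smul_eq g, ncard_oct' (fun n => bit n 23 = true ∧ ¬ bit n 0 = true) (fun n => by
      simp only [Set.mem_ofPred_eq, oct_smul_iff, smul_mem_smul_finset_iff, pt23_mem, pt0_mem])
      (fun x hx => (oct_smul_iff g).1 hx.1)]
    decide +kernel
  · obtain ⟨g, e1, e2, rfl⟩ := pq_oct_io h.1 h.2.1 h.2.2
    obtain ⟨k, rfl, rfl, rfl⟩ := pq_oct_io h'.1 h'.2.1 h'.2.2
    refine ⟨(k * g⁻¹ : M24), (k * g⁻¹).2, ?_, ?_, tr2⟩
    · show (k * g⁻¹) • k • pt 23 = _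
      conv_lhs => rw [← e1, tr2]
    · show (k * g⁻¹) • k • pt 0 = _
      conv_lhs => rw [← e2, tr2]
  obtain ⟨g, rfl, rfl, rfl⟩ := pq_oct_io h.1 h.2.1 h.2.2
  have key : ∀ k, {x : Finset GolayPt | (x ∈ octads ∧ g • pt 23 ∈ x ∧ g • pt 0 ∉ x) ∧ (g • toF 12594948 ∩ x).card = k}.ncard =
      lcnt (fun n => decide (bit n 23 = true ∧ ¬ bit n 0 = true ∧ pc (12594948 &&& n) = k)) octL := fun k => by
    rw [ncard_smul_eq g]
    refine ncard_oct' _ (fun n => ?_) (fun x hx => (oct_smul_iff g).1 hx.1.1)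
    simp only [Set.mem_ofPred_eq, oct_smul_iff, ← smul_finset_inter, card_smul_finset, card_inter_toF,
      smul_mem_smul_finset_iff, pt23_mem, pt0_mem, and_assoc]
  refine ⟨by rw [key]; decide +kernel, by rw [key]; decide +kernel, fun o' o'' ho' ho'' h => ?_⟩
  obtain ⟨a, rfl⟩ := ex_smul g o'
  obtain ⟨b, rfl⟩ := ex_smul g o''
  simp only [oct_smul_iff, ← smul_finset_inter, card_smul_finset, smul_mem_smul_finset_iff] at ho' ho'' h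
  obtain ⟨a, ha, rfl⟩ := octads_iff.1 ho'.1
  obtain ⟨b, hb, rfl⟩ := octads_iff.1 ho''.1
  simp only [card_inter_toF, pt23_mem, pt0_mem] at h ho' ho''
  obtain ⟨k, hk, e⟩ := covC_sound chk ha hb (by simp [ho']) (by simp [ho'']) h
  exact ⟨(g * k * g⁻¹ : M24), (g * k * g⁻¹).2, cj g (hk.1 _ (by simp [toF_f2])), cj g (hk.1 _ (by simp [toF_f2])), cj g (hk.2 _ (by simp)), cj g e⟩

end Cfsg.Agent.S1605
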