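import Cfsg.Statements.S1606
import Cfsg.Agent.MX.C

set_option autoImplicit false
open scoped Pointwise
open Cfsg

namespace Cfsg.Agent.S1606

open Cfsg.Agent.MX Cfsg.Agent.Gol

/-- The stabiliser of two points in the group of the length-24 code has no subgroups of index 56 or 210. -/
theorem result (p q : Cfsg.GolayPt) (hpq : p ≠ q) (H : Subgroup ↥(MulAction.stabilizer Cfsg.M24 p ⊓ MulAction.stabilizer Cfsg.M24 q)) : H.index ≠ 56 ∧ H.index ≠ 210 := by
  obtain ⟨g, rfl, rfl⟩ := std2 hpq
  let e := conjEquiv g (K := St 8388609 [])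
    (K' := MulAction.stabilizer M24 (g • pt 23) ⊓ MulAction.stabilizer M24 (g • pt 0))
    fun x => by simp [mem_St, toF_f2, cj_iff]
  have h1 := m22_sub (Subgroup.map_subtype_le (H.map e.symm.toMonoidHom))
  rw [Subgroup.card_map_of_injective (Subgroup.subtype_injective _),
    Subgroup.card_map_of_injective e.symm.injective] at h1
  have h2 := H.card_mul_index
  rw [← Nat.card_congr e.toEquiv, card_m22] at h2
  constructor <;> intro h <;> rw [h] at h2 <;> omega

end Cfsg.Agent.S1606
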