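import Cfsg.Statements.S1608
import Cfsg.Agent.Gol.Flag

set_option autoImplicit false
open scoped Pointwise
open Cfsg

namespace Cfsg.Agent.S1608

open Cfsg.Agent.Gol Finset

theorem chk : covC 8388608 [675712] [957980479314483861513879229808786836, 960846889627898639018559434917380675] [675712, 2101096, 4271202, 2162811] (fun n => pc (675712 &&& n)) (fun n => !bit n 23) octL = true := by decide +kernel


theorem result (x : Cfsg.GolayPt) (o : Finset Cfsg.GolayPt) (ho : o ∈ Cfsg.octads) (hx : x ∉ o) : {o' : Finset Cfsg.GolayPt | o' ∈ Cfsg.octads ∧ x ∉ o' ∧ (o ∩ o').card = 0}.ncard = 15 ∧ {o' : Finset Cfsg.GolayPt | o' ∈ Cfsg.octads ∧ x ∉ o' ∧ (o ∩ o').card = 4}.ncard = 210 ∧ {o' : Finset Cfsg.GolayPt | o' ∈ Cfsg.octads ∧ x ∉ o' ∧ (o ∩ o').card = 2}.ncard = 280 ∧ ∀ o' o'' : Finset Cfsg.GolayPt, o' ∈ Cfsg.octads → o'' ∈ Cfsg.octads → x ∉ o' → x ∉ o'' → (o ∩ o').card = (o ∩ o'').card → ∃ g : Equiv.Perm Cfsg.GolayPt,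 g ∈ Cfsg.M24 ∧ g x = x ∧ g • o = o ∧ g • o' = o'' := by
  obtain ⟨g, rfl, rfl⟩ := pt_oct_out ho hx
  have key : ∀ k, {x : Finset GolayPt | x ∈ octads ∧ g • pt 23 ∉ x ∧ (g • toF 675712 ∩ x).card = k}.ncard =
      lcnt (fun n => decide (¬ bit n 23 = true ∧ pc (675712 &&& n) = k)) octL := fun k => by
    rw [ncard_smul_eq g]
    refine ncard_oct' _ (fun n => ?_) (fun x hx => (oct_smul_iff g).1 hx.1)
    simp only [Set.mem_ofPred_eq, oct_smul_iff, ← smul_finset_inter, card_smul_finset, card_inter_toF,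
      smul_mem_smul_finset_iff, pt23_mem]
  refine ⟨by rw [key]; decide +kernel, by rw [key]; decide +kernel, by rw [key]; decide +kernel, fun o' o'' ho' ho'' h1 h2 h => ?_⟩
  obtain ⟨a, rfl⟩ := ex_smul g o'
  obtain ⟨b, rfl⟩ := ex_smul g o''
  simp only [oct_smul_iff, ← smul_finset_inter, card_smul_finset, smul_mem_smul_finset_iff] at ho' ho'' h h1 h2
  obtain ⟨a, ha, rfl⟩ := octads_iff.1 ho'
  obtain ⟨b, hb, rfl⟩ := octads_iff.1 ho''
  simp only [card_inter_toF, pt23_mem] at h h1 h2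
  obtain ⟨k, hk, e⟩ := covC_sound chk ha hb (by simpa using h1) (by simpa using h2) h
  exact ⟨(g * k * g⁻¹ : M24), (g * k * g⁻¹).2, cj g (hk.1 _ (by simp [toF_f1])), cj g (hk.2 _ (by simp)), cj g e⟩

end Cfsg.Agent.S1608
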