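import Cfsg.Statements.S1609
import Cfsg.Agent.MX.B

set_option autoImplicit false
open scoped Pointwise
open Cfsg

namespace Cfsg.Agent.S1609

open Cfsg.Agent.MX Cfsg.Agent.Gol
open scoped Pointwise

/-- Subgroups of index 253 in the Mathieu group of degree 23 are exactly the duad stabilisers and the heptad stabilisers. -/
theorem result (x : Cfsg.GolayPt) (H : Subgroup ↥(MulAction.stabilizer Cfsg.M24 x)) (hH : H.index = 253) : (∃ s : Finset Cfsg.GolayPt, s.card = 2 ∧ x ∉ s ∧ H = (MulAction.stabilizer Cfsg.M24 s).subgroupOf (MulAction.stabilizer Cfsg.M24 x)) ∨ ∃ o ∈ Cfsg.octads, x ∈ o ∧ H = (MulAction.stabilizer Cfsg.M24 o).subgroupOf (MulAction.stabilizer Cfsg.M24 x) := by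

    have c : Nat.card H = 40320 := by
      have := H.card_mul_index
      rw [hH, card_stab_pt] at this
      omega
    have c' : Nat.card (H.map (MulAction.stabilizer M24 x).subtype) = 40320 := by
      rw [Subgroup.card_map_of_injective (Subgroup.subtype_injective _), c]
    have k : ∀ K : Subgroup M24, H.map (MulAction.stabilizer M24 x).subtype ≤ K →
        Nat.card ↥(K ⊓ MulAction.stabilizer M24 x) = 40320 →
        H = K.subgroupOf (MulAction.stabilizer M24 x) := fun K h1 h2 =>
      Subgroup.eq_of_le_of_card_ge (Subgroup.map_le_iff_le_comap.1 h1) (by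
        rw [c, ← Subgroup.inf_subgroupOf_right,
          Nat.card_congr (Subgroup.subgroupOfEquivOfLe inf_le_right).toEquiv, h2])
    rcases Cfsg.Agent.MX.m23_cases (Subgroup.map_subtype_le _) c' with ⟨s, h1, h2, h3⟩ | ⟨o, h1, h2, h3⟩
    · exact Or.inl ⟨s, h1, h2, k _ h3 (Cfsg.Agent.MX.card_xs h1 h2)⟩
    · exact Or.inr ⟨o, h1, h2, k _ h3 (Cfsg.Agent.MX.card_xo h1 h2)⟩

end Cfsg.Agent.S1609
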