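import Cfsg.Statements.S1612
import Cfsg.Agent.Fis.C

set_option autoImplicit false
open Cfsg

namespace Cfsg.Agent.S1612

/-- In a 3-transposition group (no solvable normal subgroup, perfect derived group), the normaliser of a commuting set of transpositions of maximum size contains a Sylow 2-subgroup and is doubly transitive on the set. -/
theorem result {G : Type*} [Group G] [Finite G] (hsol : ∀ N : Subgroup G, N.Normal → Group.IsSolvable ↥N → N = ⊥) (hperf : ⁅commutator G, commutator G⁆ = commutator G) {D : Set G} (hD : Cfsg.IsThreeTranspositionClass D) {E : Set G} (hE : E ⊆ D) (hc : ∀ a ∈ E, ∀ b ∈ E, Commute a b) (hmax : ∀ E' : Set G, E' ⊆ D → (∀ a ∈ E', ∀ b ∈ E', Commute a b) → E'.ncard ≤ E.ncard) : (∃ P : Sylow 2 G, (P : Subgroup G) ≤ Subgroup.normalizer E) ∧ ∀ a ∈ E, ∀ b ∈ E, ∀ c ∈ E, ∀ d ∈ E, a ≠ b → c ≠ d → ∃ g ∈ Subgroup.normalizer E, g * a * g⁻¹ = c ∧ g * b * g⁻¹ = d := by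
  haveI := Fis.tt_of_class hD
  have h := Fis.prim_of hsol hperf hD
  have hmx : ∀ Q : Subgroup G, IsPGroup 2 Q → E ⊆ Q → ∀ d ∈ D, d ∈ Q → d ∈ E := by
    intro Q hQ hEQ d hd hdQ
    have : E = {d | d ∈ D ∧ d ∈ Q} := Set.eq_of_subset_of_ncard_le (fun e he => ⟨hE he, hEQ he⟩)
      (hmax _ (fun e he => he.1) (fun a ha b hb => Fis.cm_iff.1
        (Fis.cm_of_pgroup hQ (a := ⟨a, ha.1⟩) (b := ⟨b, hb.1⟩) ha.2 hb.2)))
    rw [this]; exact ⟨hd, hdQ⟩
  have hp := Fis.pgroup_closure hE hc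
  constructor
  · obtain ⟨P, hP⟩ := hp.exists_le_sylow
    refine ⟨P, fun g hg => Subgroup.mem_normalizer_fintype (fun n hn => ?_)⟩
    have hEP : E ⊆ P := fun e he => hP (Subgroup.subset_closure he)
    exact hmx P P.2 hEP _ (Fis.TT.conj g n (hE hn)) (mul_mem (mul_mem hg (hEP hn)) (inv_mem hg))
  · intro a ha b hb c hc' d hd hab hcd
    obtain ⟨g, e1, e2⟩ := h.tr2 (a := ⟨a, hE ha⟩) (b := ⟨b, hE hb⟩) (c := ⟨c, hE hc'⟩)
      (d := ⟨d, hE hd⟩) ⟨fun e => hab (congrArg Fis.Pt.t e).symm, Fis.cm_iff.2 (hc a ha b hb)⟩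
      ⟨fun e => hcd (congrArg Fis.Pt.t e).symm, Fis.cm_iff.2 (hc c hc' d hd)⟩
    have e1 : g * a * g⁻¹ = c := congrArg Fis.Pt.t e1
    have e2 : g * b * g⁻¹ = d := congrArg Fis.Pt.t e2
    set C := Subgroup.centralizer ({c, d} : Set G)
    have hEC : ∀ e ∈ E, e ∈ C := by
      intro e he
      rw [Subgroup.mem_centralizer_iff]
      rintro z (rfl | rfl)
      · exact hc _ hc' _ he
      · exact hc _ hd _ he
    have hEC' : ∀ e ∈ E, g * e * g⁻¹ ∈ C := by
      intro e he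
      rw [Subgroup.mem_centralizer_iff]
      rintro z (rfl | rfl)
      · rw [← e1]; exact ((hc _ ha _ he).map (MulAut.conj g)).eq
      · rw [← e2]; exact ((hc _ hb _ he).map (MulAut.conj g)).eq
    obtain ⟨Q, hQ⟩ := (hp.comap_subtype (K := C)).exists_le_sylow
    obtain ⟨Q', hQ'⟩ := ((hp.map (MulAut.conj g).toMonoidHom).comap_subtype
      (K := C)).exists_le_sylow
    obtain ⟨k, hk⟩ := MulAction.exists_smul_eq C Q' Q
    have hkc : (k : G) * c * (k : G)⁻¹ = c := by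
      rw [mul_inv_eq_iff_eq_mul]; exact (Subgroup.mem_centralizer_iff.1 k.2 c (by simp)).symm
    have hkd : (k : G) * d * (k : G)⁻¹ = d := by
      rw [mul_inv_eq_iff_eq_mul]; exact (Subgroup.mem_centralizer_iff.1 k.2 d (by simp)).symm
    refine ⟨k * g, Subgroup.mem_normalizer_fintype (fun n hn => ?_), ?_, ?_⟩
    · refine hmx ((Q : Subgroup C).map C.subtype) (Q.2.map _) (fun e he => ?_) _
        (Fis.TT.conj _ n (hE hn)) ?_
      · exact ⟨⟨e, hEC e he⟩, hQ (Subgroup.subset_closure he), rfl⟩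
      · have h1 : (⟨g * n * g⁻¹, hEC' n hn⟩ : C) ∈ (Q' : Subgroup C) :=
          hQ' ⟨n, Subgroup.subset_closure hn, rfl⟩
        refine ⟨k * ⟨g * n * g⁻¹, hEC' n hn⟩ * k⁻¹, ?_, by simp [mul_assoc]⟩
        rw [← hk]
        exact Subgroup.smul_mem_pointwise_smul _ (MulAut.conj k) _ h1
    · rw [← hkc, ← e1]; simp [mul_assoc]
    · rw [← hkd, ← e2]; simp [mul_assoc]

end Cfsg.Agent.S1612
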