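import Cfsg.Statements.S1614
import Cfsg.Agent.Fis.U4

set_option autoImplicit false
open Cfsg

namespace Cfsg.Agent.S1614

/-- If the commuting transpositions of one transposition generate a solvable group, a Fischer 3-transposition group is S5, S6, PSU(4, 2) or PSU(5, 2). -/
theorem result {G : Type*} [Group G] [Finite G] (hsol : ∀ N : Subgroup G, N.Normal → Group.IsSolvable ↥N → N = ⊥) (hperf : ⁅commutator G, commutator G⁆ = commutator G) {D : Set G} (hD : Cfsg.IsThreeTranspositionClass D) (x : G) (hx : x ∈ D) (hs : Group.IsSolvable ↥(Subgroup.closure {y : G | y ∈ D ∧ y ≠ x ∧ Commute x y})) : Nonempty (G ≃* Equiv.Perm (Fin 5)) ∨ Nonempty (G ≃* Equiv.Perm (Fin 6)) ∨ ∃ (F : Type) (_ : Field F) (_ : Fintype F), Fintype.card F = 4 ∧ (Nonempty (G ≃* Cfsg.PSU 4 F 2) ∨ Nonempty (G ≃* Cfsg.PSU 5 F 2)) := by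
  haveI := Fis.tt_of_class hD
  have hP := Fis.prim_of hsol hperf hD
  have e := Fis.image_Dx (D := D) ⟨x, hx⟩
  simp only at e
  rw [← e] at hs
  have hZ := Fis.center_bot hsol
  obtain ⟨p, hp, h⟩ := hP.exists_pcore hZ ⟨x, hx⟩ hs
  haveI : (Cfsg.pCore p (Fis.HH (D := D) ⟨x, hx⟩)).Normal := Subgroup.sSup_normal _ (fun _ h => h.1)
  by_cases h2 : p = 2
  · subst h2
    obtain ⟨a, ha⟩ := hP.exists_nc' hZ ⟨x, hx⟩
    rcases (hP.pol_of (x := ⟨x, hx⟩) (Cfsg.pCore 2 (Fis.HH (D := D) ⟨x, hx⟩)) h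
      (Core.pCore_isPGroup 2)).classify hZ ha with ⟨n, h0, ⟨e1⟩⟩ | ⟨n, h0, h1⟩
    · obtain rfl := h0 hs
      obtain ⟨e2⟩ := Class.sp4_two_equiv (F := ZMod 2) (by simp)
      exact Or.inr (Or.inl ⟨e1.trans e2⟩)
    · refine Or.inr (Or.inr ⟨Fis.K4, inferInstance, inferInstance, Fis.card_K4, ?_⟩)
      rcases h0 hs with rfl | rfl
      · exact Or.inl h1
      · exact Or.inr h1
  · haveI := Fact.mk hp
    obtain ⟨k, hk⟩ := (Core.pCore_isPGroup (G := Fis.HH (D := D) ⟨x, hx⟩) p).exists_card_eq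
    exact Or.inl (hP.odd_S5 hZ (x := ⟨x, hx⟩) (Cfsg.pCore p (Fis.HH (D := D) ⟨x, hx⟩)) h (by
      rw [hk]; exact Nat.Coprime.pow_left _ ((Nat.coprime_primes hp Nat.prime_two).2 h2)))

end Cfsg.Agent.S1614
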