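import Cfsg.Statements.S1616
import Cfsg.Agent.Fis.U4

set_option autoImplicit false
open Cfsg

namespace Cfsg.Agent.S1616

/-- If O₂(⟨D_x⟩) is not central in ⟨D_x⟩ for some transposition x, the 3-transposition group is some Sp(2n, 2) or PSU(n, 2). -/
theorem result {G : Type*} [Group G] [Finite G] (hsol : ∀ N : Subgroup G, N.Normal → Group.IsSolvable ↥N → N = ⊥) (hperf : ⁅commutator G, commutator G⁆ = commutator G) {D : Set G} (hD : Cfsg.IsThreeTranspositionClass D) (x : G) (hx : x ∈ D) (h : ¬ Cfsg.pCore 2 ↥(Subgroup.closure {y : G | y ∈ D ∧ y ≠ x ∧ Commute x y}) ≤ Subgroup.center ↥(Subgroup.closure {y : G | y ∈ D ∧ y ≠ x ∧ Commute x y})) : (∃ n : ℕ, Nonempty (G ≃* Matrix.symplecticGroup (Fin n) (ZMod 2))) ∨ ∃ (F : Type) (_ : Field F) (_ : Fintype F) (n : ℕ), Fintype.card F = 4 ∧ Nonempty (G ≃* Cfsg.PSU n F 2) := by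
  haveI := Fis.tt_of_class hD
  have hP := Fis.prim_of hsol hperf hD
  have e := Fis.image_Dx (D := D) ⟨x, hx⟩
  simp only at e
  rw [← e] at h
  haveI : (Cfsg.pCore 2 (Fis.HH (D := D) ⟨x, hx⟩)).Normal := Subgroup.sSup_normal _ (fun _ h => h.1)
  have hZ := Fis.center_bot hsol
  obtain ⟨a, ha⟩ := hP.exists_nc' hZ ⟨x, hx⟩
  rcases (hP.pol_of (x := ⟨x, hx⟩) (Cfsg.pCore 2 (Fis.HH (D := D) ⟨x, hx⟩)) h
    (Core.pCore_isPGroup 2)).classify hZ ha with ⟨n, -, h1⟩ | ⟨n, -, h1⟩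
  · exact Or.inl ⟨n, h1⟩
  · exact Or.inr ⟨Fis.K4, inferInstance, inferInstance, n, Fis.card_K4, h1⟩

end Cfsg.Agent.S1616
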