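import Cfsg.Statements.S1617
import Cfsg.Agent.PTr.F

set_option autoImplicit false
open Cfsg

namespace Cfsg.Agent.S1617

/-- A generating conjugacy class of involutions on which the group (with trivial solvable radical) acts with rank 3 is a class of 3-transpositions. -/
theorem result {G : Type*} [Group G] [Finite G] (hsol : ∀ N : Subgroup G, N.Normal → Group.IsSolvable ↥N → N = ⊥) {D : Set G} (hinv : ∀ d ∈ D, orderOf d = 2) (hconj : ∃ d ∈ D, D = conjugatesOf d) (hgen : Subgroup.closure D = ⊤) (hrank : ∀ x ∈ D, ∃ y ∈ D, ∃ z ∈ D, {w : G | ∃ g : G, Commute g x ∧ g * y * g⁻¹ = w} ≠ {w : G | ∃ g : G, Commute g x ∧ g * x * g⁻¹ = w} ∧ {w : G | ∃ g : G, Commute g x ∧ g * z * g⁻¹ = w} ≠ {w : G | ∃ g : G, Commute g x ∧ g * x * g⁻¹ = w} ∧ {w : G | ∃ g : G, Commute g x ∧ g * y * g⁻¹ = w} ≠ {w : G | ∃ g : G, Commute g x ∧ g * z * g⁻¹ = w} ∧ D = {w : G | ∃ g : G, Commute g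 x ∧ g * x * g⁻¹ = w} ∪ {w : G | ∃ g : G, Commute g x ∧ g * y * g⁻¹ = w} ∪ {w : G | ∃ g : G, Commute g x ∧ g * z * g⁻¹ = w}) : Cfsg.IsThreeTranspositionClass D := by
  obtain ⟨x0, hx0, hD⟩ := hconj
  have mem : ∀ w, w ∈ D ↔ ∃ g : G, g * x0 * g⁻¹ = w := fun w => by
    rw [hD]; exact isConj_iff
  have cj : ∀ g : G, ∀ d ∈ D, g * d * g⁻¹ ∈ D := fun g d hd => by
    obtain ⟨k, rfl⟩ := (mem d).1 hd
    exact (mem _).2 ⟨g * k, by group⟩
  have cls : ∀ d ∈ D, ∀ e ∈ D, ∃ g : G, g * d * g⁻¹ = e := fun d hd e he => by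
    obtain ⟨k, rfl⟩ := (mem d).1 hd
    obtain ⟨l, rfl⟩ := (mem e).1 he
    exact ⟨l * k⁻¹, by group⟩
  have sq : ∀ d ∈ D, d * d = 1 := fun d hd => by
    rw [← pow_two, ← hinv d hd]; exact pow_orderOf_eq_one d
  obtain ⟨p, pp, p2, g1, n1, e1⟩ := PTr.exists_odd hsol (hinv x0 hx0)
  obtain ⟨g2, c2, n2⟩ := PTr.exists_comm hsol (hinv x0 hx0)
  have m1 := cj g1 x0 hx0
  have m2 := cj g2 x0 hx0
  have r0 : ∀ w ∈ D, ∀ w' ∈ D, w ≠ x0 → w' ≠ x0 → (Commute x0 w ↔ Commute x0 w') →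
      ∃ g : G, g * x0 * g⁻¹ = x0 ∧ g * w * g⁻¹ = w' := by
    obtain ⟨y, -, z, -, -, -, -, hyz⟩ := hrank x0 hx0
    have o : ∀ w ∈ D, w ≠ x0 → (∃ g : G, Commute g x0 ∧ g * y * g⁻¹ = w) ∨
        ∃ g : G, Commute g x0 ∧ g * z * g⁻¹ = w := fun w hw hne => by
      rw [hyz] at hw
      rcases hw with (⟨g, c, h⟩ | h) | h
      · exact absurd (by rw [← h, c.eq, mul_inv_cancel_right]) hne
      · exact Or.inl h
      · exact Or.inr h
    have t : ∀ g u : G, Commute g x0 → (Commute x0 (g * u * g⁻¹) ↔ Commute x0 u) := fun g u c => by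
      rw [← PTr.comm_cj g (a := x0) (b := u), c.eq, mul_inv_cancel_right]
    have hd : ¬ (Commute x0 y ↔ Commute x0 z) := fun h => by
      have a1 := o _ m1 fun h => n1 (by rw [h])
      have a2 := o _ m2 n2
      rcases a1 with ⟨g, c, a1⟩ | ⟨g, c, a1⟩ <;> rcases a2 with ⟨k, c', a2⟩ | ⟨k, c', a2⟩ <;>
        rw [← a1, t g _ c] at n1 <;> rw [← a2, t k _ c'] at c2 <;> tauto
    have f : ∀ g k u : G, Commute g x0 → Commute k x0 →
        ∃ l : G, l * x0 * l⁻¹ = x0 ∧ l * (g * u * g⁻¹) * l⁻¹ = k * u * k⁻¹ := fun g k u c c' =>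
      ⟨k * g⁻¹, by rw [(c'.mul_left c.inv_left).eq, mul_inv_cancel_right], by group⟩
    intro w hw w' hw' h h' hi
    rcases o w hw h with ⟨g, c, rfl⟩ | ⟨g, c, rfl⟩ <;>
      rcases o w' hw' h' with ⟨k, c', rfl⟩ | ⟨k, c', rfl⟩
    · exact f g k y c c'
    · rw [t g _ c, t k _ c'] at hi; exact absurd hi hd
    · rw [t g _ c, t k _ c'] at hi; exact absurd hi.symm hd
    · exact f g k z c c'
  have r3 : ∀ x ∈ D, ∀ w ∈ D, ∀ x' ∈ D, ∀ w' ∈ D, w ≠ x → w' ≠ x' →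
      (Commute x w ↔ Commute x' w') → ∃ g : G, g * x * g⁻¹ = x' ∧ g * w * g⁻¹ = w' :=
    fun x hx w hw x' hx' w' hw' h h' hi => by
    obtain ⟨k, rfl⟩ := (mem x).1 hx
    obtain ⟨l, rfl⟩ := (mem x').1 hx'
    obtain ⟨w, rfl⟩ : ∃ u, w = k * u * k⁻¹ := ⟨k⁻¹ * w * k, by group⟩
    obtain ⟨w', rfl⟩ : ∃ u, w' = l * u * l⁻¹ := ⟨l⁻¹ * w' * l, by group⟩
    rw [PTr.comm_cj, PTr.comm_cj] at hi
    obtain ⟨g, a1, a2⟩ := r0 w (by simpa [mul_assoc] using cj k⁻¹ _ hw) w'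
      (by simpa [mul_assoc] using cj l⁻¹ _ hw') (fun e => h (by rw [e])) (fun e => h' (by rw [e])) hi
    refine ⟨l * g * k⁻¹, ?_, ?_⟩
    · conv_rhs => rw [← a1]
      group
    · rw [← a2]; group
  have ord : ∀ d ∈ D, ∀ e ∈ D, Commute d e ∨ (d * e) ^ p = 1 := fun d hd e he => by
    by_cases h : Commute d e
    · exact Or.inl h
    obtain ⟨g, rfl, rfl⟩ := r3 x0 hx0 _ m1 d hd e he (fun h => n1 (by rw [h]))
      (fun h' => h (by rw [h'])) (iff_of_false n1 h)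
    right
    rw [show g * x0 * g⁻¹ * (g * (g1 * x0 * g1⁻¹) * g⁻¹) = g * (x0 * (g1 * x0 * g1⁻¹)) * g⁻¹ by group,
      conj_pow, e1]
    simp
  have p3 : p = 3 := by
    by_contra p3
    exact PTr.PT.rank3 ⟨pp, pp.five_le_of_ne_two_of_ne_three p2 p3, sq, cj, ord⟩ hsol hgen cls r3
      hx0 m2 n2.symm c2
  subst p3
  exact ⟨⟨hinv, fun d hd e he => (ord d hd e he).imp_left fun h => by
    rw [pow_two]; exact PTr.sq_of_comm (sq d hd) (sq e he) h⟩, ⟨x0, hx0, hD⟩, hgen⟩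

end Cfsg.Agent.S1617
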