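import Cfsg.Statements.S1620
import Cfsg.Agent.HJ.Ico4

set_option autoImplicit false
open Quaternion
open Cfsg

namespace Cfsg.Agent.S1620

/-- The Hall–Janko group is simple and non-abelian. -/
theorem result : IsSimpleGroup Cfsg.Spor.J2 ∧ ∃ a b : Cfsg.Spor.J2, a * b ≠ b * a := by
  obtain ⟨φ, h1, h2, -⟩ := HJ.exists_J2
  refine ⟨HJ.simple_of_hom h1 h2, ?_⟩
  obtain ⟨a, ha⟩ := HJ.pre h2 (HJ.mem_clo (show HJ.z0 ∈ HJ.gG by simp))
  obtain ⟨b, hb⟩ := HJ.pre h2 (HJ.mem_clo (show HJ.g0 ∈ HJ.gG by simp))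
  refine ⟨a, b, fun e => ?_⟩
  have := congrArg φ e
  rw [map_mul, map_mul, ha, hb] at this
  exact absurd this (by decide +kernel)

end Cfsg.Agent.S1620
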