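import Cfsg.Statements.S1623
import Cfsg.Agent.HJ.Fin

set_option autoImplicit false
open Quaternion
open Cfsg

namespace Cfsg.Agent.S1623

/-- A reflection centraliser in the Hall–Janko group is an extension of an extraspecial group of order 32 by the alternating group of degree 5. -/
theorem result (f : Equiv.Perm ↥Cfsg.Spor.icoLeech) (hf : Cfsg.Spor.IsIcoReflection f) (hfm : f ∈ Cfsg.Spor.twoJ2) : ∃ (Q : Subgroup ↥(Subgroup.centralizer {(QuotientGroup.mk ⟨f, hfm⟩ : Cfsg.Spor.J2)})) (_ : Q.Normal), Nat.card Q = 32 ∧ Cfsg.IsExtraspecial 2 Q ∧ Nonempty (↥(Subgroup.centralizer {(QuotientGroup.mk ⟨f, hfm⟩ : Cfsg.Spor.J2)}) ⧸ Q ≃* alternatingGroup (Fin 5)) := by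
  obtain ⟨e, -, rfl⟩ := HJ.refl_iff.mp hf
  obtain ⟨φ, h1, h2, h3⟩ := HJ.exists_J2
  obtain ⟨t, ht⟩ := HJ.pre h2 (HJ.ev_mem_clo HJ.gG e.1)
  refine HJ.cent_struct (φ := φ.comp (MulAut.conj t⁻¹).toMonoidHom)
    (h1.comp (MulAut.conj t⁻¹).injective) ?_ ?_
  · rw [MonoidHom.range_comp, MonoidHom.range_eq_top.mpr (MulAut.conj t⁻¹).surjective,
      ← MonoidHom.range_eq_map, h2]
  · show φ (t⁻¹ * (HJ.cw e.1 : Spor.twoJ2) * t⁻¹⁻¹) = _
    rw [map_mul, map_mul, map_inv, map_inv, map_inv, ht, h3]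
    group

end Cfsg.Agent.S1623
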