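import Cfsg.Statements.S1624
import Cfsg.Agent.HJ.Fin

set_option autoImplicit false
open Quaternion
open Cfsg

namespace Cfsg.Agent.S1624

/-- The Hall–Janko group contains PSU(3, 3) with index 100 and acts on the 100 cosets with rank 3 and subdegrees 1, 36, 63. -/
theorem result : ∃ H : Subgroup Cfsg.Spor.J2, H.index = 100 ∧ (∃ (F : Type) (_ : Field F) (_ : Fintype F), Fintype.card F = 9 ∧ Nonempty (↥H ≃* Cfsg.PSU 3 F 3)) ∧ ∃ c₁ c₂ : Cfsg.Spor.J2 ⧸ H, (MulAction.orbit ↥H c₁).ncard = 36 ∧ (MulAction.orbit ↥H c₂).ncard = 63 := by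
  obtain ⟨φ, h1, h2, -⟩ := HJ.exists_J2
  obtain ⟨a1, a2, a3, a4, a5, a6, a7, a8, a9⟩ := HJ.fO
  obtain ⟨c₁, k1⟩ := HJ.orbit_card h1 h2 (fun g h => (a1 g h).1) a2 HJ.T36_mem a4 a6 (by decide) a8
  obtain ⟨c₂, k2⟩ := HJ.orbit_card h1 h2 (fun g h => (a1 g h).2) a3 HJ.T63_mem a5 a7 (by decide) a9
  exact ⟨_, HJ.index_U h1 h2, HJ.U_psu h1 h2, c₁, c₂, k1, k2⟩

end Cfsg.Agent.S1624
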