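import Cfsg.Statements.S1626
import Cfsg.Agent.Spor.J3M.Main

set_option autoImplicit false
open scoped MatrixGroups
open Matrix
open Cfsg

namespace Cfsg.Agent.S1626

open Cfsg.Agent.Spor

/-- Orbits of the triple cover of the third Janko group on lines of its 9-space over the field with 4 elements: the line through the first basis vector has exactly 23256 images, and the isotropic lines (nonzero v with Σ v_z³ = 0) form a single orbit. -/
theorem result (F : Type) [Field F] [Fintype F] (hF : Fintype.card F = 4) (ω : F) (hω : ω ^ 2 + ω + 1 = 0) : {L : Submodule F (Cfsg.Spor.F9 → F) | ∃ g ∈ Cfsg.Spor.threeJ3 F ω, L = F ∙ ((g : Matrix Cfsg.Spor.F9 Cfsg.Spor.F9 F) *ᵥ (Pi.single (0 : Cfsg.Spor.F9) (1 : F) : Cfsg.Spor.F9 → F))}.ncard = 23256 ∧ ∀ v w : Cfsg.Spor.F9 → F, v ≠ 0 → w ≠ 0 → ∑ z, (v z) ^ 3 = 0 → ∑ z, (w z) ^ 3 = 0 → ∃ g ∈ Cfsg.Spor.threeJ3 F ω, ∃ c : F, c ≠ 0 ∧ (g : Matrix Cfsg.Spor.F9 Cfsg.Spor.F9 F) *ᵥ v = c •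 w := by
  rw [J3M.eq3 hF hω]
  obtain ⟨h1, h2⟩ := J3M.lines hF (X := J3M.X hF hω) hω
    (Units.val_injective.comp Subtype.val_injective) (gsub_lift 4 _) (J3M.hc hF hω).lift
  have d0 : (J3M.X hF hω).decR 0 = 0 := Ctx.decR_zero _
  have d1 : (J3M.X hF hω).decR 1 = 1 := Ctx.decR_one _ (by decide)
  have e0 : (J3M.X hF hω).dec 1 = Pi.single 0 1 := by
    have := (J3M.X hF hω).dec_shl (c := 1) (by decide) 0
    rwa [d1, one_smul] at this
  have e1 : ∀ z, (J3M.X hF hω).dec 19342813113838464841809920 z = if z = (1, 0) ∨ z = (2, 0) then 1 else 0 := fun z => by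
    have : ∀ z : Cfsg.Spor.F9, J3M.A.ent 19342813113838464841809920 (J3M.e z) = if z = (1, 0) ∨ z = (2, 0) then 1 else 0 := by
      decide +kernel
    rw [Ctx.dec_apply]
    refine (congrArg _ (this z)).trans ?_
    split_ifs
    · exact d1
    · exact d0
  have hv : (J3M.X hF hω).dec 19342813113838464841809920 ≠ 0 := fun h => by simpa [e1] using congrFun h (1, 0)
  constructor
  · rw [← h1, ← ncard_range_eq_index _ span_eq_iff_lineSt, e0]
    congr 1
    ext L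
    exact ⟨fun ⟨g, hg, e⟩ => ⟨⟨g, hg⟩, e.symm⟩, fun ⟨g, e⟩ => ⟨g.1, g.2, e.symm⟩⟩
  · have h3 := h2 _ (card_iso9 hF J3M.e) hv fun g => ⟨fun h => hv (by
      have := congrArg (((g⁻¹ : gsub 4 (J3M.f hF hω)) : GL Cfsg.Spor.F9 F).val *ᵥ ·) h
      simpa [Matrix.mulVec_mulVec] using this), (J3M.unit hF hω g _).trans (by
        have h3 : ((2 : ℕ) : F) = 0 := cast_eq_zero_of_card (k := 2) hF
        simp only [e1, ite_pow, one_pow, zero_pow three_ne_zero, Finset.sum_boole]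
        exact (congrArg _ (by decide +kernel)).trans h3)⟩
    intro v w hv hw sv sw
    obtain ⟨g, rfl⟩ := h3 v ⟨hv, sv⟩
    obtain ⟨h, rfl⟩ := h3 w ⟨hw, sw⟩
    exact ⟨h * g⁻¹, mul_mem h.2 (inv_mem g.2), 1, one_ne_zero, by
      simp [Matrix.mulVec_mulVec]⟩

end Cfsg.Agent.S1626
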