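import Cfsg.Statements.S1632
import Cfsg.Agent.Lee.Theta

set_option autoImplicit false
open Matrix
open Cfsg

namespace Cfsg.Agent.S1632

open Finset
open scoped Pointwise
open Cfsg.Agent.Lee

open ModularForm UpperHalfPlane in
theorem sig : (ArithmeticFunction.sigma 3 1 = 1 ∧ ArithmeticFunction.sigma 3 2 = 9 ∧
    ArithmeticFunction.sigma 3 3 = 28 ∧ ArithmeticFunction.sigma 3 4 = 73) ∧
    ArithmeticFunction.sigma 5 1 = 1 ∧ ArithmeticFunction.sigma 5 2 = 33 ∧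
    ArithmeticFunction.sigma 5 3 = 244 ∧ ArithmeticFunction.sigma 5 4 = 1057 := by
  simp only [ArithmeticFunction.sigma_apply]; decide +kernel

open ModularForm UpperHalfPlane EisensteinSeries MatrixGroups in
theorem key (f : ModularForm 𝒮ℒ 12) (h0 : (qExpansion 1 f).coeff 0 = 1)
    (h1 : (qExpansion 1 f).coeff 1 = 0) : (qExpansion 1 f).coeff 2 = 196560 ∧
    (qExpansion 1 f).coeff 3 = 16773120 ∧ (qExpansion 1 f).coeff 4 = 398034000 := by
  let g : ModularForm 𝒮ℒ 12 := (7 / 12 : ℂ) • ModularForm.mcast (by decide) (E₄.pow 3) +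
    (5 / 12 : ℂ) • ModularForm.mcast (by decide) (E₆.pow 2)
  have hg : qExpansion 1 g = (7 / 12 : ℂ) • (qExpansion 1 E₄ * qExpansion 1 E₄ * qExpansion 1 E₄) +
      (5 / 12 : ℂ) • (qExpansion 1 E₆ * qExpansion 1 E₆) := by
    simp only [g, FunLike.coe_add]
    rw [ModularForm.qExpansion_add one_pos one_mem_strictPeriods_SL, FunLike.coe_smul, FunLike.coe_smul,
      ModularForm.qExpansion_smul one_pos one_mem_strictPeriods_SL,
      ModularForm.qExpansion_smul one_pos one_mem_strictPeriods_SL, ModularForm.qExpansion_mcast,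
      ModularForm.qExpansion_mcast,
      ModularForm.qExpansion_pow one_pos one_mem_strictPeriods_SL,
      ModularForm.qExpansion_pow one_pos one_mem_strictPeriods_SL, pow_three', sq]
  have a : ∀ m, (qExpansion 1 E₄).coeff m =
      if m = 0 then 1 else 240 * (ArithmeticFunction.sigma 3 m : ℂ) := fun m => by
    rw [E_qExpansion_coeff _ ⟨2, rfl⟩, show bernoulli 4 = -1 / 30 by decide +kernel]; norm_num
  have b : ∀ m, (qExpansion 1 E₆).coeff m =
      if m = 0 then 1 else -504 * (ArithmeticFunction.sigma 5 m : ℂ) := fun m => by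
    rw [E_qExpansion_coeff _ ⟨3, rfl⟩, show bernoulli 6 = 1 / 42 by decide +kernel]; norm_num
  have c : (qExpansion 1 g).coeff 0 = 1 ∧ (qExpansion 1 g).coeff 1 = 0 ∧
      (qExpansion 1 g).coeff 2 = 196560 ∧ (qExpansion 1 g).coeff 3 = 16773120 ∧
      (qExpansion 1 g).coeff 4 = 398034000 := by
    obtain ⟨⟨a1, a2, a3, a4⟩, b1, b2, b3, b4⟩ := sig
    rw [hg]
    simp only [map_add, PowerSeries.coeff_smul, PowerSeries.coeff_mul, Finset.Nat.antidiagonal_succ,
      Finset.Nat.antidiagonal_zero, a, b]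
    norm_num [PowerSeries.coeff_mul, Finset.Nat.antidiagonal_succ, a, b, a1, a2, a3, a4, b1, b2, b3, b4]
  have e : f - g = 0 := sturm_bound_levelOne (by
    rw [FunLike.coe_sub, ModularForm.qExpansion_sub one_pos one_mem_strictPeriods_SL]
    refine lt_of_lt_of_le (b := ((2 : ℕ) : ℕ∞)) (by decide) (PowerSeries.nat_le_order _ _ fun i hi => ?_)
    interval_cases i <;> simp only [map_sub, h0, h1, c.1, c.2.1, sub_self])
  rw [sub_eq_zero.1 e]
  exact c.2.2


theorem result (B : Matrix (Fin 24) (Fin 24) ℤ) (hsymm : B.IsSymm) (hpos : ∀ x : Fin 24 → ℤ, x ≠ 0 → 0 < x ⬝ᵥ (B *ᵥ x)) (heven : ∀ x : Fin 24 → ℤ, (2 : ℤ) ∣ x ⬝ᵥ (B *ᵥ x)) (hdet : B.det = 1) (h2 : ∀ x : Fin 24 → ℤ, x ⬝ᵥ (B *ᵥ x) ≠ 2) : {x : Fin 24 → ℤ | x ⬝ᵥ (B *ᵥ x) = 4}.ncard = 196560 ∧ {x : Fin 24 → ℤ | x ⬝ᵥ (B *ᵥ x) = 6}.ncard = 16773120 ∧ {x : Fin 24 → ℤ | x ⬝ᵥ (B *ᵥ x) = 8}.ncard = 398034000 := by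
  have h := theta_coeff hsymm hpos heven hdet
  have := key (theta hsymm hpos heven hdet) (by
    rw [h, show {x : Fin 24 → ℤ | x ⬝ᵥ B *ᵥ x = 2 * (0 : ℕ)} = {0} from Set.ext fun x =>
      ⟨fun e => by_contra fun h => (hpos x h).ne' (by simpa using e), fun e => by simp_all⟩]
    simp) (by
    rw [h, show {x : Fin 24 → ℤ | x ⬝ᵥ B *ᵥ x = 2 * (1 : ℕ)} = ∅ from Set.ext fun x =>
      ⟨fun e => h2 x (by simpa using e), False.elim⟩]
    simp)
  simp only [h] at this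
  exact ⟨by exact_mod_cast this.1, by exact_mod_cast this.2.1, by exact_mod_cast this.2.2⟩

end Cfsg.Agent.S1632
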