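import Cfsg.Statements.S1633
import Cfsg.Agent.Lee.U43

set_option autoImplicit false
open Cfsg

namespace Cfsg.Agent.S1633

open Cfsg.Agent.Gol Finset
open scoped Pointwise
open Cfsg.Agent.Lee


theorem result (v w : ↥Cfsg.leechLattice) (hv : Cfsg.sqNorm (v : Cfsg.GolayPt → ℤ) = 48) (hw : Cfsg.sqNorm (w : Cfsg.GolayPt → ℤ) = 48) (hvw : Cfsg.dotInt (v : Cfsg.GolayPt → ℤ) (w : Cfsg.GolayPt → ℤ) = -32) (F : Type) [Field F] [Fintype F] (hF : Fintype.card F = 25) : {x : ↥Cfsg.leechLattice | Cfsg.sqNorm (x : Cfsg.GolayPt → ℤ) = 32 ∧ Cfsg.dotInt (v : Cfsg.GolayPt → ℤ) (x : Cfsg.GolayPt → ℤ) = 16 ∧ Cfsg.dotInt (w : Cfsg.GolayPt → ℤ) (x : Cfsg.GolayPt → ℤ) = -24}.ncard = 352 ∧ (∀ x ∈ {x : ↥Cfsg.leechLattice | Cfsg.sqNorm (x : Cfsg.GolayPt → ℤ) = 32 ∧ Cfsg.dotInt (v : Cfsg.GolayPt → ℤ) (x : Cfsg.GolayPt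 → ℤ) = 16 ∧ Cfsg.dotInt (w : Cfsg.GolayPt → ℤ) (x : Cfsg.GolayPt → ℤ) = -24}, -w - x ∈ {x : ↥Cfsg.leechLattice | Cfsg.sqNorm (x : Cfsg.GolayPt → ℤ) = 32 ∧ Cfsg.dotInt (v : Cfsg.GolayPt → ℤ) (x : Cfsg.GolayPt → ℤ) = 16 ∧ Cfsg.dotInt (w : Cfsg.GolayPt → ℤ) (x : Cfsg.GolayPt → ℤ) = -24}) ∧ (∀ x ∈ {x : ↥Cfsg.leechLattice | Cfsg.sqNorm (x : Cfsg.GolayPt → ℤ) = 32 ∧ Cfsg.dotInt (v : Cfsg.GolayPt → ℤ) (x : Cfsg.GolayPt → ℤ) = 16 ∧ Cfsg.dotInt (w : Cfsg.GolayPt → ℤ) (x : Cfsg.GolayPt → ℤ) = -24}, ∀ x' ∈ {x : ↥Cfsg.leechLattice | Cfsg.sqNorm (x : Cfsg.GolayPt → ℤ) = 32 ∧ Cfsg.dotInt (v : Cfsg.GolayPt → ℤ) (x : Cfsg.GolayPt → ℤ) = 16 ∧ Cfsg.dotInt (w : Cfsg.GolayPt → ℤ) (x : Cfsg.GolayPt → ℤ) = -24}, ∃ g : ↥Cfsg.Co0, g • v = v ∧ g • w = w ∧ g • x = x') ∧ ∀ x ∈ {x : ↥Cfsg.leechLattice | Cfsg.sqNorm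 (x : Cfsg.GolayPt → ℤ) = 32 ∧ Cfsg.dotInt (v : Cfsg.GolayPt → ℤ) (x : Cfsg.GolayPt → ℤ) = 16 ∧ Cfsg.dotInt (w : Cfsg.GolayPt → ℤ) (x : Cfsg.GolayPt → ℤ) = -24}, Nonempty (↥(MulAction.stabilizer ↥Cfsg.Co0 v ⊓ MulAction.stabilizer ↥Cfsg.Co0 w ⊓ MulAction.stabilizer ↥Cfsg.Co0 x) ≃* Cfsg.PSU 3 F 5) := by
  obtain ⟨g, rfl, rfl⟩ := stdHS hv hw hvw
  have tr : ∀ x ∈ S352 (g • u0) (g • (w0 - u0)), ∀ y ∈ S352 (g • u0) (g • (w0 - u0)),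
      ∃ k : Co0, k • g • u0 = g • u0 ∧ k • g • (w0 - u0) = g • (w0 - u0) ∧ k • x = y := by
    intro x hx y hy
    obtain ⟨x, rfl⟩ := MulAction.surjective g x
    obtain ⟨y, rfl⟩ := MulAction.surjective g y
    obtain ⟨k, a, b, c⟩ := tr352 ((smul352 g).1 hx) ((smul352 g).1 hy)
    exact ⟨g * k * g⁻¹, by simp only [mul_smul, inv_smul_smul, a],
      by simp only [mul_smul, inv_smul_smul, b], by simp only [mul_smul, inv_smul_smul, c]⟩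
  refine ⟨(ncard_tr g fun x => smul352 g).trans n352, fun x hx => ?_, tr, fun x hx => ?_⟩
  · obtain ⟨h1, h2, h3⟩ := hx
    have h4 := sqNorm_eq_dot ((g • (w0 - u0) : Λ) : V)
    simp only [Set.mem_setOf_eq, AddSubgroup.coe_sub (x := -(g • (w0 - u0))), AddSubgroup.coe_neg,
      sqNorm_sub, sqNorm_neg, neg_dot, dot_sub, dot_neg]
    omega
  · obtain ⟨k, a, b, c⟩ := tr _ ((smul352 g).2 x5_mem) x hx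
    obtain ⟨e⟩ := u35_iso F hF
    have := stab3 (k * g) u0 (w0 - u0) (lv cx5)
    rw [mul_smul, mul_smul, mul_smul, a, b, c] at this
    exact ⟨this.symm.trans e⟩

end Cfsg.Agent.S1633
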