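import Cfsg.Statements.S1634
import Cfsg.Agent.Lee.C5

set_option autoImplicit false
open Cfsg

namespace Cfsg.Agent.S1634

open Cfsg.Agent.Gol Finset
open scoped Pointwise
open Cfsg.Agent.Lee


theorem result (v w : ↥Cfsg.leechLattice) (hv : Cfsg.sqNorm (v : Cfsg.GolayPt → ℤ) = 32) (hw : Cfsg.sqNorm (w : Cfsg.GolayPt → ℤ) = 32) (hvw : Cfsg.dotInt (v : Cfsg.GolayPt → ℤ) (w : Cfsg.GolayPt → ℤ) = -8) : {x : ↥Cfsg.leechLattice | Cfsg.sqNorm (x : Cfsg.GolayPt → ℤ) = 32 ∧ Cfsg.dotInt (v : Cfsg.GolayPt → ℤ) (x : Cfsg.GolayPt → ℤ) = 0 ∧ Cfsg.dotInt (w : Cfsg.GolayPt → ℤ) (x : Cfsg.GolayPt → ℤ) = 16}.ncard = 2025 ∧ (∀ x ∈ {x : ↥Cfsg.leechLattice | Cfsg.sqNorm (x : Cfsg.GolayPt → ℤ) = 32 ∧ Cfsg.dotInt (v : Cfsg.GolayPt → ℤ) (x : Cfsg.GolayPt → ℤ) = 0 ∧ Cfsg.dotInt (w : Cfsg.GolayPt → ℤ) (x : Cfsg.GolayPt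 → ℤ) = 16}, ∀ x' ∈ {x : ↥Cfsg.leechLattice | Cfsg.sqNorm (x : Cfsg.GolayPt → ℤ) = 32 ∧ Cfsg.dotInt (v : Cfsg.GolayPt → ℤ) (x : Cfsg.GolayPt → ℤ) = 0 ∧ Cfsg.dotInt (w : Cfsg.GolayPt → ℤ) (x : Cfsg.GolayPt → ℤ) = 16}, ∃ g : ↥Cfsg.Co0, g • v = v ∧ g • w = w ∧ g • x = x') ∧ ∀ x ∈ {x : ↥Cfsg.leechLattice | Cfsg.sqNorm (x : Cfsg.GolayPt → ℤ) = 32 ∧ Cfsg.dotInt (v : Cfsg.GolayPt → ℤ) (x : Cfsg.GolayPt → ℤ) = 0 ∧ Cfsg.dotInt (w : Cfsg.GolayPt → ℤ) (x : Cfsg.GolayPt → ℤ) = 16}, ∃ y₁ ∈ {x : ↥Cfsg.leechLattice | Cfsg.sqNorm (x : Cfsg.GolayPt → ℤ) = 32 ∧ Cfsg.dotInt (v : Cfsg.GolayPt → ℤ) (x : Cfsg.GolayPt → ℤ) = 0 ∧ Cfsg.dotInt (w : Cfsg.GolayPt → ℤ) (x : Cfsg.GolayPt → ℤ) = 16}, ∃ y₂ ∈ {x : ↥Cfsg.leechLattice | Cfsg.sqNorm (x : Cfsg.GolayPt → ℤ) = 32 ∧ Cfsg.dotInt (v : Cfsg.GolayPt → ℤ) (x : Cfsg.GolayPt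 → ℤ) = 0 ∧ Cfsg.dotInt (w : Cfsg.GolayPt → ℤ) (x : Cfsg.GolayPt → ℤ) = 16}, ∃ y₃ ∈ {x : ↥Cfsg.leechLattice | Cfsg.sqNorm (x : Cfsg.GolayPt → ℤ) = 32 ∧ Cfsg.dotInt (v : Cfsg.GolayPt → ℤ) (x : Cfsg.GolayPt → ℤ) = 0 ∧ Cfsg.dotInt (w : Cfsg.GolayPt → ℤ) (x : Cfsg.GolayPt → ℤ) = 16}, (MulAction.orbit ↥(MulAction.stabilizer ↥Cfsg.Co0 v ⊓ MulAction.stabilizer ↥Cfsg.Co0 w ⊓ MulAction.stabilizer ↥Cfsg.Co0 x) y₁).ncard = 330 ∧ (MulAction.orbit ↥(MulAction.stabilizer ↥Cfsg.Co0 v ⊓ MulAction.stabilizer ↥Cfsg.Co0 w ⊓ MulAction.stabilizer ↥Cfsg.Co0 x) y₂).ncard = 462 ∧ (MulAction.orbit ↥(MulAction.stabilizer ↥Cfsg.Co0 v ⊓ MulAction.stabilizer ↥Cfsg.Co0 w ⊓ MulAction.stabilizer ↥Cfsg.Co0 x) y₃).ncard = 1232 := by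
  have k : ∀ (g : Co0) (y : Λ), (sqNorm ((g • y : Λ) : V) = 32 ∧ dotInt ((g • v0 : Λ) : V) (g • y : Λ) = 0 ∧
      dotInt ((g • (u0 - v0) : Λ) : V) ((g • y : Λ) : V) = 16) ↔ y ∈ XC [(cv0, 64), (cw1, 80)] :=
    fun g y => by rw [mem_XC2, nm_smul, dt_smul, dt_smul, lv_v0, lv_w1]; rfl
  refine ⟨?_, fun x hx x' hx' => ?_, fun x hx => ?_⟩
  · obtain ⟨g, rfl, rfl⟩ := std8 hv hw hvw
    exact (ncard_tr g (k g)).trans n2025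
  · obtain ⟨g, a, b, c⟩ := stdM22 hv hw hvw hx.1 hx.2.1 hx.2.2
    obtain ⟨h, a', b', c'⟩ := stdM22 hv hw hvw hx'.1 hx'.2.1 hx'.2.2
    exact ⟨h * g⁻¹, by rw [← a, tr2, a, a'], by rw [← b, tr2, b, b'], by rw [← c, tr2, c']⟩
  obtain ⟨g, rfl, rfl, rfl⟩ := stdM22 hv hw hvw hx.1 hx.2.1 hx.2.2
  have n := orbX_hist c11 n2025 List.mem_cons_self
  have key : ∀ j m : ℕ, (XC [(cw0, 8 * j), (cv0, 64), (cw1, 80)]).ncard = m → m ≠ 0 →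
      ∃ y ∈ {x : Λ | sqNorm (x : V) = 32 ∧ dotInt ((g • v0 : Λ) : V) (x : V) = 0 ∧
        dotInt ((g • (u0 - v0) : Λ) : V) (x : V) = 16}, (MulAction.orbit ↥(MulAction.stabilizer Co0 (g • v0) ⊓
          MulAction.stabilizer Co0 (g • (u0 - v0)) ⊓ MulAction.stabilizer Co0 (g • w0)) y).ncard = m := by
    intro j m h h0
    obtain ⟨y, a, b⟩ := exists_orbit (K := MulAction.stabilizer Co0 v0 ⊓
        MulAction.stabilizer Co0 (u0 - v0) ⊓ MulAction.stabilizer Co0 w0) h h0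
      (fun t ht y hy => XC_smul (E := []) (by
        simp only [mem_FV, List.map, List.forall_mem_cons, lv_v0, lv_w0, lv_w1, List.nil_append]
        exact ⟨ht.2, ht.1.1, ht.1.2, by simp⟩) hy) fun y hy y' hy' => by
        rw [XC_cons] at hy hy'
        obtain ⟨h, a, b⟩ := orbX_key c11 n2025 c11k y hy.1 y' hy'.1 (hy.2.trans hy'.2.symm)
        simp only [mem_FV, List.map, List.forall_mem_cons, lv_v0, lv_w0, lv_w1] at a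
        exact ⟨h, ⟨⟨a.2.1, a.2.2.1⟩, a.1⟩, b⟩
    rw [XC_cons] at a
    refine ⟨g • y, (k g y).2 a.1, ?_⟩
    rw [orbit_conj g (H := MulAction.stabilizer Co0 v0 ⊓ MulAction.stabilizer Co0 (u0 - v0) ⊓
      MulAction.stabilizer Co0 w0) fun x => and_congr (and_congr (cj_iff g x _ _) (cj_iff g x _ _)) (cj_iff g x _ _),
      Set.ncard_smul_set]
    exact (congrArg _ b).trans h
  obtain ⟨y1, a1, b1⟩ := key 8 330 ((n 8).trans (by norm_num)) (by norm_num)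
  obtain ⟨y2, a2, b2⟩ := key 10 462 ((n 10).trans (by norm_num)) (by norm_num)
  obtain ⟨y3, a3, b3⟩ := key 9 1232 ((n 9).trans (by norm_num)) (by norm_num)
  exact ⟨y1, a1, y2, a2, y3, a3, b1, b2, b3⟩

end Cfsg.Agent.S1634
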