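import Cfsg.Statements.S1635
import Cfsg.Agent.Gol.Cos

set_option autoImplicit false
open Cfsg

namespace Cfsg.Agent.S1635

open Cfsg.Agent.Gol Finset
open scoped Pointwise


theorem result (w : Cfsg.GolayPt → ZMod 2) : ({v : Cfsg.GolayPt → ZMod 2 | hammingNorm v ≤ 4 ∧ w - v ∈ Cfsg.golayCode}.ncard = 1 ∧ ∃ v : Cfsg.GolayPt → ZMod 2, hammingNorm v ≤ 3 ∧ w - v ∈ Cfsg.golayCode) ∨ ({v : Cfsg.GolayPt → ZMod 2 | hammingNorm v ≤ 4 ∧ w - v ∈ Cfsg.golayCode}.ncard = 6 ∧ ∀ v : Cfsg.GolayPt → ZMod 2, w - v ∈ Cfsg.golayCode → hammingNorm v ≤ 4 → hammingNorm v = 4) := by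
  simp only [sub_mem_iff, hammingNorm_eq]
  have e : ∀ w : GolayPt → ZMod 2, {v : GolayPt → ZMod 2 | (support₂ v).card ≤ 4 ∧
      CW (symmDiff (support₂ w) (support₂ v))}.ncard =
      {t : Finset GolayPt | t.card ≤ 4 ∧ CW (symmDiff (support₂ w) t)}.ncard := fun w => by
    refine Set.ncard_congr (fun v _ => support₂ v) (fun _ h => h)
      (fun a b _ _ h => by rw [← wd_support a, h, wd_support]) fun t ht =>
        ⟨wd t, by simpa [support_wd] using ht, support_wd t⟩
  rw [e]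
  by_cases h : ∃ v : GolayPt → ZMod 2, (support₂ v).card ≤ 3 ∧
      CW (symmDiff (support₂ w) (support₂ v))
  · refine Or.inl ⟨?_, h⟩
    obtain ⟨v, h1, h2⟩ := h
    exact Set.ncard_eq_one.2 ⟨support₂ v, Set.eq_singleton_iff_unique_mem.2 ⟨⟨by omega, h2⟩,
      fun t ht => small_eq ht.2 h2 (by have := ht.1; omega)⟩⟩
  · have h' : ∀ v : GolayPt → ZMod 2, CW (symmDiff (support₂ w) (support₂ v)) →
        (support₂ v).card ≤ 4 → (support₂ v).card = 4 := fun v a b => by
      by_contra c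
      exact h ⟨v, by omega, a⟩
    refine Or.inr ⟨?_, h'⟩
    obtain ⟨s, h1, h2⟩ := exists_small (support₂ w)
    have h4 := h' (wd s) (by rwa [support_wd]) (by rwa [support_wd])
    rw [support_wd] at h4
    rw [← ncard_tet h4]
    congr 1
    ext t
    refine and_congr_right fun _ => ⟨fun a => ?_, fun a => ?_⟩
    · have := h1.symmDiff a
      rwa [symmDiff_symmDiff_symmDiff_comm, symmDiff_self, bot_symmDiff] at this
    · have := h1.symmDiff a
      rwa [symmDiff_assoc, symmDiff_symmDiff_cancel_left] at this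

end Cfsg.Agent.S1635
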