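import Cfsg.Statements.S1636
import Cfsg.Agent.Gol.Cos

set_option autoImplicit false
open Cfsg

namespace Cfsg.Agent.S1636

open Cfsg.Agent.Gol Finset
open scoped Pointwise


theorem result : {u : ZMod 23 → ZMod 2 | ∃ w ∈ Cfsg.golayCode, ∀ x : ZMod 23, u x = w (some x)}.ncard = 4096 ∧ {u : ZMod 23 → ZMod 2 | u ∈ {u : ZMod 23 → ZMod 2 | ∃ w ∈ Cfsg.golayCode, ∀ x : ZMod 23, u x = w (some x)} ∧ hammingNorm u = 7}.ncard = 253 ∧ {u : ZMod 23 → ZMod 2 | u ∈ {u : ZMod 23 → ZMod 2 | ∃ w ∈ Cfsg.golayCode, ∀ x : ZMod 23, u x = w (some x)} ∧ hammingNorm u = 8}.ncard = 506 ∧ {u : ZMod 23 → ZMod 2 | u ∈ {u : ZMod 23 → ZMod 2 | ∃ w ∈ Cfsg.golayCode, ∀ x : ZMod 23, u x = w (some x)} ∧ hammingNorm u = 11}.ncard = 1288 ∧ {u : ZMod 23 → ZMod 2 | u ∈ {u : ZMod 23 → ZMod 2 | ∃ w ∈ Cfsg.golayCode, ∀ x : ZMod 23, u x = w (some x)} ∧ hammingNorm u = 12}.ncard = 1288 ∧ {u : ZMod 23 → ZMod 2 | u ∈ {u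 : ZMod 23 → ZMod 2 | ∃ w ∈ Cfsg.golayCode, ∀ x : ZMod 23, u x = w (some x)} ∧ hammingNorm u = 15}.ncard = 506 ∧ {u : ZMod 23 → ZMod 2 | u ∈ {u : ZMod 23 → ZMod 2 | ∃ w ∈ Cfsg.golayCode, ∀ x : ZMod 23, u x = w (some x)} ∧ hammingNorm u = 16}.ncard = 253 ∧ ∀ u ∈ {u : ZMod 23 → ZMod 2 | ∃ w ∈ Cfsg.golayCode, ∀ x : ZMod 23, u x = w (some x)}, u ≠ 0 → 7 ≤ hammingNorm u := by
  refine ⟨?_, ncard_punc (P := (· = 7)).trans (by decide +kernel),
    ncard_punc (P := (· = 8)).trans (by decide +kernel),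
    ncard_punc (P := (· = 11)).trans (by decide +kernel),
    ncard_punc (P := (· = 12)).trans (by decide +kernel),
    ncard_punc (P := (· = 15)).trans (by decide +kernel),
    ncard_punc (P := (· = 16)).trans (by decide +kernel), fun u hu h0 => ?_⟩
  · have := ncard_punc (P := fun _ => True)
    simp only [and_true, Set.setOf_mem_eq] at this
    exact this.trans (by decide +kernel)
  · obtain ⟨s, hs, rfl⟩ := mem_punc.1 hu
    by_contra h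
    rw [norm_punc] at h
    rw [cw_eq_of_erase hs CW.empty (by rw [← bot_eq_empty, symmDiff_bot]; omega)] at h0
    exact h0 rfl

end Cfsg.Agent.S1636
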