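import Cfsg.Statements.S1637
import Cfsg.Agent.Gol.Cos

set_option autoImplicit false
open Cfsg

namespace Cfsg.Agent.S1637

open Cfsg.Agent.Gol Finset
open scoped Pointwise


theorem result (u : ZMod 23 → ZMod 2) : ∃! c : ZMod 23 → ZMod 2, c ∈ {u : ZMod 23 → ZMod 2 | ∃ w ∈ Cfsg.golayCode, ∀ x : ZMod 23, u x = w (some x)} ∧ hammingDist u c ≤ 3 := by
  simp only [Set.mem_ofPred_eq, mem_punc]
  obtain ⟨s, hs, rfl⟩ : ∃ s : Finset GolayPt, s.card % 2 = 1 ∧ punc s = u := by
    let s := support₂ fun p : GolayPt => p.elim 0 u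
    have h0 : none ∉ s := by simp [s, support₂]
    have h1 : punc s = u := funext fun x => by rw [punc, wd_support]; rfl
    by_cases h : s.card % 2 = 1
    · exact ⟨s, h, h1⟩
    · exact ⟨insert none s, by rw [card_insert_of_notMem h0]; omega,
        funext fun x => by rw [← h1]; simp [punc, wd]⟩
  obtain ⟨t, h1, h2⟩ := exists_small s
  have h3 := card_symmDiff' s t
  have h4 := h1.card
  have h5 : ((symmDiff s (symmDiff s t)).erase none).card ≤ 3 := by
    rw [symmDiff_symmDiff_cancel_left]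
    have := card_erase_le (s := t) (a := none)
    omega
  refine ⟨punc (symmDiff s t), ⟨⟨_, h1, rfl⟩, by rwa [dist_punc]⟩, ?_⟩
  rintro _ ⟨⟨c, hc, rfl⟩, h⟩
  rw [cw_eq_of_erase hc h1]
  have := hammingDist_triangle_left (punc c) (punc (symmDiff s t)) (punc s)
  rw [dist_punc s (symmDiff s t), dist_punc c] at this
  omega

end Cfsg.Agent.S1637
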