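import Cfsg.Statements.S1638
import Cfsg.Agent.Gol.Flag

set_option autoImplicit false
open scoped Pointwise
open Cfsg

namespace Cfsg.Agent.S1638

open Cfsg.Agent.Gol Finset
open scoped Pointwise

theorem chk : covC 8388609 [6] [978879085988847743745463651790029888, 963998191217834094291011081799927840] [6, 10, 24, 40] (fun n => 2 * pc (6 &&& n) + bif' (inOct 8388615 n) 1 0) (fun n => !bit n 23 && !bit n 0) (subsL all24 2) = true := by decide +kernel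


theorem result (p q : Cfsg.GolayPt) (hpq : p ≠ q) (s : Finset Cfsg.GolayPt) (hs : (s.card = 2 ∧ p ∉ s ∧ q ∉ s)) : {t : Finset Cfsg.GolayPt | (t.card = 2 ∧ p ∉ t ∧ q ∉ t) ∧ Disjoint s t ∧ (∃ o ∈ Cfsg.octads, p ∈ o ∧ q ∈ o ∧ s ∪ t ⊆ o)}.ncard = 30 ∧ {t : Finset Cfsg.GolayPt | (t.card = 2 ∧ p ∉ t ∧ q ∉ t) ∧ Disjoint s t ∧ ¬ (∃ o ∈ Cfsg.octads, p ∈ o ∧ q ∈ o ∧ s ∪ t ⊆ o)}.ncard = 160 ∧ ∀ t t' : Finset Cfsg.GolayPt, (t.card = 2 ∧ p ∉ t ∧ q ∉ t) → (t'.card = 2 ∧ p ∉ t' ∧ q ∉ t') → t ≠ s → t' ≠ s → (s ∩ t).card = (s ∩ t').card → ((∃ o ∈ Cfsg.octads, p ∈ o ∧ q ∈ o ∧ s ∪ t ⊆ o) ↔ (∃ o ∈ Cfsg.octads, p ∈ o ∧ q ∈ o ∧ s ∪ t' ⊆ o)) → ∃ g : Equiv.Perm Cfsg.GolayPt, g ∈ Cfsg.M24 ∧ g p = p ∧ g q = q ∧ g • s = s ∧ g • t = t' := by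
  obtain ⟨a, b, hab, rfl⟩ := card_eq_two.1 hs.1
  obtain ⟨g, rfl, rfl, rfl, rfl⟩ := std4 (a := p) (b := q) (c := a) (d := b) (by
    have := hs.2
    simp only [mem_insert, mem_singleton, not_or] at this
    simp [*])
  have e : ({g • pt 1, g • pt 2} : Finset GolayPt) = g • toF 6 := by
    rw [show toF 6 = {pt 1, pt 2} by decide +kernel, smul_finset_insert, smul_finset_singleton]
  rw [e]
  have key : ∀ n, (∃ o ∈ octads, g • pt 23 ∈ o ∧ g • pt 0 ∈ o ∧ g • toF 6 ∪ g • toF n ⊆ o) ↔ inOct 8388615 n = true := fun n => by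
    rw [exists_oct_smul g, ← inOct_iff]
    simp only [← smul_finset_union, smul_finset_subset_smul_finset_iff, union_subset_iff, smul_mem_smul_finset_iff,
      show toF 6 = {pt 1, pt 2} by decide +kernel, toF_f4, insert_subset_iff, and_assoc]
  refine ⟨?_, ?_, fun U U' hU hU' _ _ hd hiff => ?_⟩
  · rw [ncard_smul_eq g, ncard_list ok2 (fun n => (pc n = 2 ∧ ¬ bit n 23 = true ∧ ¬ bit n 0 = true) ∧ pc (6 &&& n) = 0 ∧ inOct 8388615 n = true)
      (fun x hx => subs24 (by simpa using hx.1.1)) (fun n _ => by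
        simp only [Set.mem_ofPred_eq, key, card_smul_finset, disjoint_smul', card_toF, disjoint_toF,
          smul_mem_smul_finset_iff, pt23_mem, pt0_mem])]
    decide +kernel
  · rw [ncard_smul_eq g, ncard_list ok2 (fun n => (pc n = 2 ∧ ¬ bit n 23 = true ∧ ¬ bit n 0 = true) ∧ pc (6 &&& n) = 0 ∧ ¬ inOct 8388615 n = true)
      (fun x hx => subs24 (by simpa using hx.1.1)) (fun n _ => by
        simp only [Set.mem_ofPred_eq, key, card_smul_finset, disjoint_smul', card_toF, disjoint_toF,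
          smul_mem_smul_finset_iff, pt23_mem, pt0_mem])]
    decide +kernel
  · obtain ⟨a, rfl⟩ := ex_smul g U
    obtain ⟨b, rfl⟩ := ex_smul g U'
    simp only [card_smul_finset, smul_mem_smul_finset_iff, ← smul_finset_inter] at hU hU' hd
    obtain ⟨a, ha, rfl⟩ := subs24 hU.1
    obtain ⟨b, hb, rfl⟩ := subs24 hU'.1
    rw [key, key] at hiff
    simp only [card_inter_toF, pt23_mem, pt0_mem] at hd hU hU'
    obtain ⟨k, hk, e⟩ := covC_sound chk ha hb (by simp [hU]) (by simp [hU'])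
      (by rw [Bool.eq_iff_iff.2 hiff, hd])
    exact ⟨(g * k * g⁻¹ : M24), (g * k * g⁻¹).2, cj g (hk.1 _ (by simp [toF_f2])), cj g (hk.1 _ (by simp [toF_f2])), cj g (hk.2 _ (by simp)), cj g e⟩

end Cfsg.Agent.S1638
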