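import Cfsg.Statements.S1639
import Cfsg.Agent.Gol.Flag

set_option autoImplicit false
open scoped Pointwise
open Cfsg

namespace Cfsg.Agent.S1639

open Cfsg.Agent.Gol Finset

theorem chk : covC 1 [340831] [981936972673444871357696469910493280, 902860254814604741964508735769846848] [823281, 28637, 14700465, 340831] (fun n => pc (340831 &&& n)) (fun n => bit n 0) dodL = true := by decide +kernel


theorem result (x : Cfsg.GolayPt) (d : Finset Cfsg.GolayPt) (hd : d ∈ Cfsg.dodecads) (hx : x ∈ d) : {d' : Finset Cfsg.GolayPt | d' ∈ Cfsg.dodecads ∧ x ∈ d' ∧ (d ∩ d').card = 4}.ncard = 165 ∧ {d' : Finset Cfsg.GolayPt | d' ∈ Cfsg.dodecads ∧ x ∈ d' ∧ (d ∩ d').card = 8}.ncard = 330 ∧ {d' : Finset Cfsg.GolayPt | d' ∈ Cfsg.dodecads ∧ x ∈ d' ∧ (d ∩ d').card = 6}.ncard = 792 ∧ ∀ d' d'' : Finset Cfsg.GolayPt, d' ∈ Cfsg.dodecads → d'' ∈ Cfsg.dodecads → x ∈ d' → x ∈ d'' → (d ∩ d').card = (d ∩ d'').card → ∃ g : Equiv.Perm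 Cfsg.GolayPt, g ∈ Cfsg.M24 ∧ g x = x ∧ g • d = d ∧ g • d' = d'' := by
  obtain ⟨g, rfl, rfl⟩ := dod_pt hd hx
  have key : ∀ k, {x : Finset GolayPt | x ∈ dodecads ∧ g • pt 0 ∈ x ∧ (g • toF 340831 ∩ x).card = k}.ncard =
      lcnt (fun n => decide (bit n 0 = true ∧ pc (340831 &&& n) = k)) dodL := fun k => by
    rw [ncard_smul_eq g]
    refine ncard_dod' _ (fun n => ?_) (fun x hx => (dod_smul_iff g).1 hx.1)
    simp only [Set.mem_ofPred_eq, dod_smul_iff, ← smul_finset_inter, card_smul_finset, card_inter_toF,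
      smul_mem_smul_finset_iff, pt0_mem]
  refine ⟨by rw [key]; decide +kernel, by rw [key]; decide +kernel, by rw [key]; decide +kernel, fun o' o'' ho' ho'' h1 h2 h => ?_⟩
  obtain ⟨a, rfl⟩ := ex_smul g o'
  obtain ⟨b, rfl⟩ := ex_smul g o''
  simp only [dod_smul_iff, ← smul_finset_inter, card_smul_finset, smul_mem_smul_finset_iff] at ho' ho'' h h1 h2
  obtain ⟨a, ha, rfl⟩ := dodecads_iff.1 ho'
  obtain ⟨b, hb, rfl⟩ := dodecads_iff.1 ho''
  simp only [card_inter_toF, pt0_mem] at h h1 h2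
  obtain ⟨k, hk, e⟩ := covC_sound chk ha hb h1 h2 h
  exact ⟨(g * k * g⁻¹ : M24), (g * k * g⁻¹).2, cj g (hk.1 _ (by simp [toF_1])), cj g (hk.2 _ (by simp)), cj g e⟩

end Cfsg.Agent.S1639
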