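import Cfsg.Statements.S1641
import Cfsg.Agent.Lee.C5

set_option autoImplicit false
open Cfsg

namespace Cfsg.Agent.S1641

open Cfsg.Agent.Gol Finset
open scoped Pointwise
open Cfsg.Agent.Lee


theorem result (u x : ↥Cfsg.leechLattice) (hu : Cfsg.sqNorm (u : Cfsg.GolayPt → ℤ) = 48) (hx : x ∈ {x : ↥Cfsg.leechLattice | Cfsg.sqNorm (x : Cfsg.GolayPt → ℤ) = 32 ∧ Cfsg.dotInt (u : Cfsg.GolayPt → ℤ) (x : Cfsg.GolayPt → ℤ) = -16}) : ∃ y₁ ∈ {x : ↥Cfsg.leechLattice | Cfsg.sqNorm (x : Cfsg.GolayPt → ℤ) = 32 ∧ Cfsg.dotInt (u : Cfsg.GolayPt → ℤ) (x : Cfsg.GolayPt → ℤ) = -16}, ∃ y₂ ∈ {x : ↥Cfsg.leechLattice | Cfsg.sqNorm (x : Cfsg.GolayPt → ℤ) = 32 ∧ Cfsg.dotInt (u : Cfsg.GolayPt → ℤ) (x : Cfsg.GolayPt → ℤ) = -16}, ∃ y₃ ∈ {x : ↥Cfsg.leechLattice | Cfsg.sqNorm (x : Cfsg.GolayPt → ℤ) = 32 ∧ Cfsg.dotInt (u : Cfsg.GolayPt → ℤ) (x : Cfsg.GolayPt → ℤ) = -16},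 ∃ y₄ ∈ {x : ↥Cfsg.leechLattice | Cfsg.sqNorm (x : Cfsg.GolayPt → ℤ) = 32 ∧ Cfsg.dotInt (u : Cfsg.GolayPt → ℤ) (x : Cfsg.GolayPt → ℤ) = -16}, (MulAction.orbit ↥(MulAction.stabilizer ↥Cfsg.Co0 u ⊓ MulAction.stabilizer ↥Cfsg.Co0 x) y₁).ncard = 352 ∧ (MulAction.orbit ↥(MulAction.stabilizer ↥Cfsg.Co0 u ⊓ MulAction.stabilizer ↥Cfsg.Co0 x) y₂).ncard = 1100 ∧ (MulAction.orbit ↥(MulAction.stabilizer ↥Cfsg.Co0 u ⊓ MulAction.stabilizer ↥Cfsg.Co0 x) y₃).ncard = 4125 ∧ (MulAction.orbit ↥(MulAction.stabilizer ↥Cfsg.Co0 u ⊓ MulAction.stabilizer ↥Cfsg.Co0 x) y₄).ncard = 5600 ∧ {x : ↥Cfsg.leechLattice | Cfsg.sqNorm (x : Cfsg.GolayPt → ℤ) = 32 ∧ Cfsg.dotInt (u : Cfsg.GolayPt → ℤ) (x : Cfsg.GolayPt → ℤ) = -16} = {x} ∪ MulAction.orbit ↥(MulAction.stabilizer ↥Cfsg.Co0 u ⊓ MulAction.stabilizer ↥Cfsg.Co0 x) y₁ ∪ MulAction.orbit ↥(MulAction.stabilizer ↥Cfsg.Co0 u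 ⊓ MulAction.stabilizer ↥Cfsg.Co0 x) y₂ ∪ MulAction.orbit ↥(MulAction.stabilizer ↥Cfsg.Co0 u ⊓ MulAction.stabilizer ↥Cfsg.Co0 x) y₃ ∪ MulAction.orbit ↥(MulAction.stabilizer ↥Cfsg.Co0 u ⊓ MulAction.stabilizer ↥Cfsg.Co0 x) y₄ := by
  obtain ⟨g, rfl, rfl⟩ := std3m hu hx.1 hx.2
  have k : ∀ y : Λ, (sqNorm ((g • y : Λ) : V) = 32 ∧ dotInt ((g • u0 : Λ) : V) (g • y : Λ) = -16) ↔
      y ∈ XC [(cu0, 48)] := fun y => by rw [mem_XC1, nm_smul, dt_smul, lv_u0]; rfl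
  have n := orbX_hist c2 n11178 List.mem_cons_self
  have key : ∀ j m : ℕ, (XC [(cx1, 8 * j), (cu0, 48)]).ncard = m → m ≠ 0 →
      ∃ y ∈ {x : Λ | sqNorm (x : V) = 32 ∧ dotInt ((g • u0 : Λ) : V) (x : V) = -16},
        (MulAction.orbit ↥(MulAction.stabilizer Co0 (g • u0) ⊓ MulAction.stabilizer Co0 (g • -w0)) y).ncard = m ∧
        MulAction.orbit ↥(MulAction.stabilizer Co0 (g • u0) ⊓ MulAction.stabilizer Co0 (g • -w0)) y =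
          g • XC [(cx1, 8 * j), (cu0, 48)] := by
    intro j m h h0
    obtain ⟨y, a, b⟩ := exists_orbit (K := MulAction.stabilizer Co0 u0 ⊓
        MulAction.stabilizer Co0 (-w0)) h h0
      (fun t ht y hy => XC_smul (E := []) (by
        simp only [mem_FV, List.map, List.forall_mem_cons, lv_u0, lv_x1, List.nil_append]
        exact ⟨ht.2, ht.1, by simp⟩) hy) fun y hy y' hy' => by
        rw [XC_cons] at hy hy'
        obtain ⟨h, a, b⟩ := orbX_key c3 n11178 c3k y hy.1 y' hy'.1 (hy.2.trans hy'.2.symm)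
        simp only [mem_FV, List.map, List.forall_mem_cons, lv_u0, lv_x1] at a
        exact ⟨h, ⟨a.2.1, a.1⟩, b⟩
    have e := orbit_conj g (H := MulAction.stabilizer Co0 u0 ⊓ MulAction.stabilizer Co0 (-w0))
      (H' := MulAction.stabilizer Co0 (g • u0) ⊓ MulAction.stabilizer Co0 (g • -w0))
      (fun x => and_congr (cj_iff g x _ _) (cj_iff g x _ _)) y
    rw [b] at e
    rw [XC_cons] at a
    exact ⟨g • y, (k y).2 a.1, by rw [e, Set.ncard_smul_set, h], e⟩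
  obtain ⟨y1, a1, b1, c1⟩ := key 7 352 ((n 7).trans (by norm_num)) (by norm_num)
  obtain ⟨y2, a2, b2, c2⟩ := key 10 1100 ((n 10).trans (by norm_num)) (by norm_num)
  obtain ⟨y3, a3, b3, c3⟩ := key 8 4125 ((n 8).trans (by norm_num)) (by norm_num)
  obtain ⟨y4, a4, b4, c4⟩ := key 9 5600 ((n 9).trans (by norm_num)) (by norm_num)
  refine ⟨y1, a1, y2, a2, y3, a3, y4, a4, b1, b2, b3, b4, Set.ext fun y => ?_⟩
  obtain ⟨y, rfl⟩ := MulAction.surjective g y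
  have h0 : sqNorm ((-w0 : Λ) : V) = 32 := by decide +kernel
  simp only [c1, c2, c3, c4, Set.mem_union, Set.smul_mem_smul_set_iff, Set.mem_singleton_iff,
    smul_left_cancel_iff, XC_cons cx1, lv_x1, Set.mem_setOf_eq, k]
  refine ⟨fun hy => ?_, ?_⟩
  · have n' := fun j => (XC_cls _ _ j).trans (n j)
    rw [lv_x1] at n'
    obtain ⟨j, c, e⟩ := dot_cases (x := -w0) (by rw [h0]; norm_num) (fun y hy => hy.1) n'
      {7, 8, 9, 10, 12} (by decide +kernel) hy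
    rw [← dot_self_iff h0 hy.1]
    simp only [mem_insert, mem_singleton] at c
    simp only [hy, true_and]
    omega
  · rintro ((((rfl | h) | h) | h) | h)
    exacts [(k _).1 hx, h.1, h.1, h.1, h.1]

end Cfsg.Agent.S1641
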