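import Cfsg.Statements.S1642
import Cfsg.Agent.Lee.C5

set_option autoImplicit false
open Cfsg

namespace Cfsg.Agent.S1642

open Cfsg.Agent.Gol Finset
open scoped Pointwise
open Cfsg.Agent.Lee


theorem result (v w : ↥Cfsg.leechLattice) (hv : Cfsg.sqNorm (v : Cfsg.GolayPt → ℤ) = 48) (hw : Cfsg.sqNorm (w : Cfsg.GolayPt → ℤ) = 48) (hvw : Cfsg.dotInt (v : Cfsg.GolayPt → ℤ) (w : Cfsg.GolayPt → ℤ) = -32) : ∃ g : ↥Cfsg.Co0, g • v = v ∧ g • w = w ∧ orderOf g = 2 ∧ ∀ x ∈ {x : ↥Cfsg.leechLattice | Cfsg.sqNorm (x : Cfsg.GolayPt → ℤ) = 32 ∧ Cfsg.dotInt (v : Cfsg.GolayPt → ℤ) (x : Cfsg.GolayPt → ℤ) = 24 ∧ Cfsg.dotInt (w : Cfsg.GolayPt → ℤ) (x : Cfsg.GolayPt → ℤ) = -24}, g • x ≠ x := by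
  obtain ⟨g, rfl, rfl⟩ := stdHS hv hw hvw
  obtain ⟨t, a, b, c, d⟩ := hs_inv
  have k : ∀ x ∈ {x : Λ | sqNorm (x : V) = 32 ∧ dotInt ((g • u0 : Λ) : V) (x : V) = 24 ∧
      dotInt ((g • (w0 - u0) : Λ) : V) (x : V) = -24}, (g * t * g⁻¹) • x ≠ x := fun x hx => by
    obtain ⟨y, rfl⟩ := MulAction.surjective g x
    exact (cj_iff g t y y).not.2 (d y (mem_hs.2 (by simpa only [Set.mem_setOf_eq, nm_smul, dt_smul] using hx)))
  refine ⟨g * t * g⁻¹, cj g a, cj g (by rw [co_sub, a, b]), orderOf_eq_prime ?_ fun e => ?_, k⟩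
  · rw [conj_pow, sq, c, mul_one, mul_inv_cancel]
  · exact k (g • v0) (by
      simp only [Set.mem_setOf_eq, nm_smul, dt_smul]
      decide +kernel) (by rw [e, one_smul])

end Cfsg.Agent.S1642
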