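import Cfsg.Statements.S1653
import Cfsg.Agent.HX.Main
import Cfsg.Agent.S1682

set_option autoImplicit false
open Cfsg

namespace Cfsg.Agent.S1653

theorem tr {G A B : Type*} [Group G] [Group A] [Group B] {N : Subgroup G} (φ : G ≃* A) (h1 : N.index = 2) (ψ : N ≃* B) : ∃ M : Subgroup A, M.Normal ∧ M.index = 2 ∧ Nonempty (M ≃* B) :=
  have h3 := (Subgroup.index_map_equiv N φ).trans h1
  ⟨_, Subgroup.normal_of_index_eq_two h3, h3, ⟨(φ.subgroupMap N).symm.trans ψ⟩⟩

theorem tr' {G G' : Type*} [Group G] [Group G'] (φ : G' ≃* G) (H : Subgroup G') (h : ∃ (N : Subgroup H) (K : Type) (_ : Field K) (_ : Fintype K), N.Normal ∧ N.index = 2 ∧ Fintype.card K = 4 ∧ Nonempty (N ≃* Matrix.symplecticGroup (Fin 2) K)) : ∃ (H : Subgroup G) (N : Subgroup H) (K : Type) (_ : Field K) (_ : Fintype K), N.Normal ∧ N.index = 2 ∧ Fintype.card K = 4 ∧ Nonempty (N ≃* Matrix.symplecticGroup (Fin 2) K) := by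
  obtain ⟨N, K, i1, i2, -, h1, h2, ⟨ψ⟩⟩ := h
  obtain ⟨M, h3, h4, h5⟩ := tr (φ.subgroupMap H) h1 ψ
  exact ⟨_, M, K, i1, i2, h3, h4, h2, h5⟩

/-- A group of Held type contains Sp₄(4):2: let a finite simple group of order 4030387200 have exactly two conjugacy classes of involutions and an involution t whose centraliser C has a normal subgroup Q, extraspecial of order 2 ^ 7 with an elementary abelian subgroup of order 16, whose centraliser in C lies in Q, such that C / Q is isomorphic to SL(3, 2). Then some subgroup H has a normal subgroup of index 2 isomorphic to the symplectic group of dimension 4 over a field with 4 elements. -/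
theorem result {G : Type*} [Group G] [Finite G] [IsSimpleGroup G] (t : G) (ht : orderOf t = 2) (Q : Subgroup (Subgroup.centralizer ({t} : Set G))) [Q.Normal] (hQ : Cfsg.IsExtraspecial 2 Q) (hcard : Nat.card Q = 2 ^ 7) (hplus : ∃ E : Subgroup Q, Cfsg.IsElementaryAbelian 2 E ∧ Nat.card E = 2 ^ 4) (h2c : Subgroup.centralizer (Q : Set (Subgroup.centralizer ({t} : Set G))) ≤ Q) (e : (Subgroup.centralizer ({t} : Set G)) ⧸ Q ≃* Matrix.SpecialLinearGroup (Fin 3) (ZMod 2)) (hG : Nat.card G = 4030387200) (htwo : ∃ x y : G, orderOf x = 2 ∧ orderOf y = 2 ∧ ¬ IsConj x y ∧ ∀ z : G, orderOf z = 2 → IsConj z x ∨ IsConj z y) : ∃ (H : Subgroup G) (N : Subgroup H) (K : Type) (_ : Field K) (_ : Fintype K), N.Normal ∧ N.index = 2 ∧ Fintype.card K = 4 ∧ Nonempty (N ≃* Matrix.symplecticGroup (Fin 2) K) := by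
  obtain ⟨x, y, -, -, -, h⟩ := htwo
  obtain ⟨φ⟩ := HX.held ht hQ hcard h2c e hG h
  exact tr' φ.symm _ S1682.result

end Cfsg.Agent.S1653
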