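import Cfsg.Statements.S1657
import Cfsg.Agent.H8.OnJ

set_option autoImplicit false
open Cfsg

namespace Cfsg.Agent.S1657



/-- In a finite simple group of O'Nan type (an involution t whose centraliser has a normal subgroup M of index 2 containing its centraliser, perfect, with cyclic centre of order 4 and central quotient PSL(3, 4)), any subgroup H having a normal subgroup of index 2 isomorphic to PSL(3, 7) has index 122760, and H has orbits of sizes 6384, 5586, 58653 and 52136 on the cosets of H other than H itself (so the action has rank 5). -/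
theorem result {G : Type*} [Group G] [Finite G] [IsSimpleGroup G] (t : G) (ht : orderOf t = 2) (M : Subgroup (Subgroup.centralizer ({t} : Set G))) [M.Normal] (hM : M.index = 2) (hout : Subgroup.centralizer (M : Set (Subgroup.centralizer ({t} : Set G))) ≤ M) (hZc : IsCyclic (Subgroup.center M)) (hZ4 : Nat.card (Subgroup.center M) = 4) (hperf : commutator M = ⊤) (F : Type) [Field F] [Fintype F] (hF : Fintype.card F = 4) (e : M ⧸ Subgroup.center M ≃* Matrix.ProjectiveSpecialLinearGroup (Fin 3) F) (H : Subgroup G) (N : Subgroup H) [N.Normal] (hN : N.index = 2) (eN : N ≃* Matrix.ProjectiveSpecialLinearGroup (Fin 3) (ZMod 7)) : H.index = 122760 ∧ ∃ q₁ q₂ q₃ q₄ : G ⧸ H, (MulAction.orbit H q₁).ncard = 6384 ∧ (MulAction.orbit H q₂).ncard = 5586 ∧ (MulAction.orbit H q₃).ncard = 58653 ∧ (MulAction.orbit H q₄).ncard = 52136 := by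
  obtain ⟨φ, ρ, c, h⟩ := H8On.exists_good ht M hM hout hZc hZ4 hperf hF e
  let f := φ.subgroupMap H
  haveI : (N.map (f : H →* H.map (φ : G →* Cfsg.Spor.ON))).Normal := Subgroup.Normal.map ‹N.Normal› _ f.surjective
  obtain ⟨ψ, hψ⟩ := H8On.l37_conj h ((N.index_map_equiv f).trans hN) ((f.subgroupMap N).symm.trans eN)
  have eH : Spor.ON122760.H.map (ψ.trans φ.symm).toMonoidHom = H := by
    rw [show (ψ.trans φ.symm).toMonoidHom = φ.symm.toMonoidHom.comp ψ.toMonoidHom from rfl, ← Subgroup.map_map, hψ,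
      Subgroup.map_map]
    exact (congrArg H.map (by ext; simp)).trans H.map_id
  clear hψ this f
  subst eH
  have o : ∀ {p s : ℕ}, p < 122760 → (Spor.orbS (Spor.ON122760.S.U.lsub Spor.ON122760.S.W2) p).ncard = s →
      ∃ q : G ⧸ Spor.ON122760.H.map (ψ.trans φ.symm).toMonoidHom,
        (MulAction.orbit (Spor.ON122760.H.map (ψ.trans φ.symm).toMonoidHom) q).ncard = s := fun hp hs => by
    obtain ⟨q, hq⟩ := Spor.ON122760.act.exists_orbit (Spor.ON122760.map_H.trans Spor.ON122760.S.eH) hp hs
    obtain ⟨q', hq'⟩ := H8On.orbit_map (ψ.trans φ.symm) _ q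
    exact ⟨q', hq'.trans hq⟩
  obtain ⟨q1, h1⟩ := o (by norm_num) H8On.orb1
  obtain ⟨q2, h2⟩ := o (by norm_num) H8On.orb2
  obtain ⟨q3, h3⟩ := o (by norm_num) H8On.orb3
  obtain ⟨q4, h4⟩ := o (by norm_num) H8On.orb4
  exact ⟨(Subgroup.index_map_equiv _ (ψ.trans φ.symm)).trans Spor.ON122760.act.index, q1, q2, q3, q4, h1, h2, h3, h4⟩

end Cfsg.Agent.S1657
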