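import Cfsg.Statements.S1663
import Cfsg.Agent.H3.M22
import Cfsg.Agent.Gol.Simp

set_option autoImplicit false
open Cfsg

namespace Cfsg.Agent.S1663

open Cfsg.Agent.Gol Finset MulAction

/-- The Mathieu group of degree 22 is determined by its order: a finite simple group of order 443520 is isomorphic to the concrete M₂₂ (a two-point stabiliser in the group of the length-24 Golay code). -/
theorem result {G : Type*} [Group G] [Finite G] (hG : Cfsg.IsM22 G) : Cfsg.Spor.IsoM22 G := by
  have := hG.1
  have := simple_m22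
  obtain ⟨e1⟩ := H3.m22_equiv hG.2
  obtain ⟨e2⟩ := H3.m22_equiv card_m22
  have : Spor.M22 = (St 8388609 []).map M24.subtype := by
    ext g
    simp only [Spor.M22, Spor.M23, Subgroup.mem_inf, mem_stabilizer_iff, Subgroup.mem_map, mem_St,
      toF_f2, mem_insert, mem_singleton, forall_eq_or_imp, forall_eq, List.not_mem_nil, false_imp_iff,
      implies_true, and_true, show pt 23 = none by decide +kernel, show pt 0 = some 0 by decide +kernel]
    exact ⟨fun h => ⟨⟨g, h.1.1⟩, ⟨h.1.2, h.2⟩, rfl⟩, fun ⟨k, h, e⟩ => e ▸ ⟨⟨k.2, h.1⟩, h.2⟩⟩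
  exact ⟨(e1.trans e2.symm).trans (((St 8388609 []).equivMapOfInjective _
    M24.subtype_injective).trans (MulEquiv.subgroupCongr this.symm))⟩

end Cfsg.Agent.S1663
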