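import Cfsg.Statements.S1664
import Cfsg.Agent.H3.M23
import Cfsg.Agent.Gol.Simp

set_option autoImplicit false
open Cfsg

namespace Cfsg.Agent.S1664

open Cfsg.Agent.Gol Finset MulAction

/-- The Mathieu group of degree 23 is determined by its order: a finite simple group of order 10200960 is isomorphic to the concrete M₂₃ (a point stabiliser in the group of the length-24 Golay code). -/
theorem result {G : Type*} [Group G] [Finite G] (hG : Cfsg.IsM23 G) : Cfsg.Spor.IsoM23 G := by
  have := hG.1
  have := simple_m23
  obtain ⟨e1⟩ := H3.m23_equiv hG.2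
  obtain ⟨e2⟩ := H3.m23_equiv card_m23
  have : Spor.M23 = (St 8388608 []).map M24.subtype := by
    ext g
    simp only [Spor.M23, Subgroup.mem_inf, mem_stabilizer_iff, Subgroup.mem_map, mem_St,
      toF_f1, mem_singleton, forall_eq, List.not_mem_nil, false_imp_iff,
      implies_true, and_true, show pt 23 = none by decide +kernel]
    exact ⟨fun h => ⟨⟨g, h.1⟩, h.2, rfl⟩, fun ⟨k, h, e⟩ => e ▸ ⟨k.2, h⟩⟩
  exact ⟨(e1.trans e2.symm).trans (((St 8388608 []).equivMapOfInjective _
    M24.subtype_injective).trans (MulEquiv.subgroupCongr this.symm))⟩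

end Cfsg.Agent.S1664
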