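import Cfsg.Statements.S1666
import Cfsg.Agent.Stn.HS

set_option autoImplicit false
open Cfsg

namespace Cfsg.Agent.S1666

open Cfsg.Agent.Stn MulAction

/-- Recognition of the Higman–Sims group as a rank 3 permutation group: a transitive permutation group on 100 points in which the stabiliser of a point is isomorphic to the Mathieu group M₂₂ and has two further orbits, of sizes 22 and 77, is isomorphic to the Higman–Sims group. -/
theorem result {Ω : Type*} [Fintype Ω] [DecidableEq Ω] (hΩ : Fintype.card Ω = 100) (G : Subgroup (Equiv.Perm Ω)) [MulAction.IsPretransitive G Ω] (a : Ω)  (e : MulAction.stabilizer G a ≃* Cfsg.Spor.M22) (b c : Ω) (hb : (MulAction.orbit (MulAction.stabilizer G a) b).ncard = 22) (hc : (MulAction.orbit (MulAction.stabilizer G a) c).ncard = 77) : Cfsg.Spor.IsoHS G := by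
  classical
  obtain ⟨Γ, inv, h1, h2⟩ := exists_orbital (K := G) a b c (by norm_num) (by norm_num) hΩ hb hc
  obtain ⟨l, m, h⟩ := srg_of_rank3 inv a b c
    (fun y hy => by obtain ⟨g, hg⟩ := (h1 y).1 hy; exact ⟨g, g.2, hg⟩)
    (fun y hy hy' => by obtain ⟨g, hg⟩ := h2 y hy hy'; exact ⟨g, g.2, hg⟩)
  rw [hΩ, show {y | Γ.Adj a y} = orbit (stabilizer G a) b from Set.ext h1, hb] at h
  have h := par100 h
  obtain ⟨f, hf⟩ := exists_hs_emb h
  have cA := card_aut100 h
  have : Finite (Γ ≃g Γ) := Nat.finite_of_card_ne_zero (by omega)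
  have cG : Nat.card G = 44352000 := by
    rw [← Subgroup.index_mul_card (stabilizer G a), index_stabilizer_of_transitive,
      Nat.card_eq_fintype_card, hΩ, Nat.card_congr e.toEquiv, card_M22]
  have hi : Function.Injective (toAut inv) := fun g g' h =>
    Subtype.ext (Equiv.ext fun x => congrArg (fun φ : Γ ≃g Γ => φ x) h)
  have := isHS0.1
  have cH : Nat.card HS0 = 44352000 := isHS0.2
  obtain ⟨φ⟩ := iso_of_index_two hi hf (by omega) (by omega) (by omega)
  obtain ⟨ψ⟩ := HS_iso
  exact ⟨φ.trans ψ⟩

end Cfsg.Agent.S1666
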