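import Cfsg.Statements.S1668
import Cfsg.Agent.Spor.SuzSimple
import Cfsg.Agent.Spor.G24M.Main
import Cfsg.Agent.Spor.Suz1782.Act
import Cfsg.Agent.Spor.Suz1782.R.Main

set_option autoImplicit false
open Cfsg

namespace Cfsg.Agent.S1668

open Cfsg.Agent.Spor Suz1782 Suz1782.R

/-- Recognition of the sporadic Suzuki group as a rank 3 permutation group: a transitive permutation group on 1782 points in which the stabiliser of a point is isomorphic to the Chevalley group G₂(4) and has two further orbits, of sizes 416 and 1365, is isomorphic to the sporadic Suzuki group. -/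
theorem result {Ω : Type*} [Fintype Ω] [DecidableEq Ω] (hΩ : Fintype.card Ω = 1782) (G : Subgroup (Equiv.Perm Ω)) [MulAction.IsPretransitive G Ω] (a : Ω) (K : Type) [Field K] [Fintype K] (hK : Fintype.card K = 4) (e : MulAction.stabilizer G a ≃* Cfsg.Lie.chevG2.group K) (b c : Ω) (hb : (MulAction.orbit (MulAction.stabilizer G a) b).ncard = 416) (hc : (MulAction.orbit (MulAction.stabilizer G a) c).ncard = 1365) : Cfsg.Spor.IsoSuz G := by
  obtain ⟨G0, b1, c1, h, ⟨e1⟩, ⟨e2⟩⟩ := exists_rk3 hΩ G a b c hb hc (by norm_num) (by norm_num)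
    (by norm_num) (by norm_num)
  obtain ⟨e3⟩ := G24M.iso hK
  obtain ⟨e4⟩ := isoH
  have hφ : Function.Injective φ := by
    rw [← MonoidHom.ker_eq_bot_iff]
    refine (SuzG.simple.eq_bot_or_eq_top_of_normal φ.ker inferInstance).resolve_right fun h => ?_
    have h1 := act.index
    rw [Subgroup.index_eq_one.mpr (top_le_iff.mp fun x _ => (act.stab x).mp (by
      rw [(h ▸ Subgroup.mem_top x : x ∈ φ.ker)]; rfl))] at h1
    omega
  have e5 := (MonoidHom.ofInjective hφ).trans (MulEquiv.subgroupCongr (range_φ.trans eG))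
  obtain ⟨e6⟩ := h.recog rk (e2.symm.trans (e.trans (e3.symm.trans (e4.trans
      (MulEquiv.subgroupCongr (eΓ.trans st.symm))))))
    (st ▸ C1) (st ▸ C2) (by norm_num) graph
    (by rw [← Nat.card_congr e5.toEquiv, SuzG.card]; exact autb)
    (by rw [← Subgroup.map_equiv_top e5, ← SuzG.perfect, commutator_def, commutator_def,
      Subgroup.map_commutator, Subgroup.map_equiv_top])
  exact ⟨e1.trans (e6.trans e5.symm)⟩

end Cfsg.Agent.S1668
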