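import Cfsg.Statements.S1669
import Cfsg.Agent.Spor.RuL.T5
import Cfsg.Agent.Spor.RuF4.Main

set_option autoImplicit false
open Cfsg

namespace Cfsg.Agent.S1669

open Cfsg.Agent.Spor

/-- Recognition of the Rudvalis group as a rank 3 permutation group: a transitive permutation group on 4060 points in which the stabiliser of a point is isomorphic to the Ree group ²F₄(2) and has two further orbits, of sizes 1755 and 2304, is isomorphic to the Rudvalis group. -/
theorem result {Ω : Type*} [Fintype Ω] [DecidableEq Ω] (hΩ : Fintype.card Ω = 4060) (G : Subgroup (Equiv.Perm Ω)) [MulAction.IsPretransitive G Ω] (a : Ω)  (e : MulAction.stabilizer G a ≃* Cfsg.Lie.twistedF4 (ZMod 2) 1) (b c : Ω) (hb : (MulAction.orbit (MulAction.stabilizer G a) b).ncard = 1755) (hc : (MulAction.orbit (MulAction.stabilizer G a) c).ncard = 2304) : Cfsg.Spor.IsoRu G := by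
  obtain ⟨G0, b1, c1, h, ⟨e1⟩, ⟨e2⟩⟩ := exists_rk3 hΩ G a b c hb hc (by norm_num) (by norm_num)
    (by norm_num) (by norm_num)
  obtain ⟨e3⟩ := RuF4.iso
  obtain ⟨e4⟩ := Rua.R.recog h (e2.symm.trans (e.trans e3.symm))
  obtain ⟨e5⟩ := RuL.iso
  exact ⟨e1.trans (e4.trans e5.symm)⟩

end Cfsg.Agent.S1669
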