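import Cfsg.Statements.S1679
import Cfsg.Agent.Spor.SuzSimple
import Cfsg.Agent.Spor.G24M.Main
import Cfsg.Agent.Spor.Suz1782.Act
import Cfsg.Agent.Spor.Suz22880.U.Main

set_option autoImplicit false
open Cfsg

namespace Cfsg.Agent.S1679

open Cfsg.Agent.Spor

set_option maxRecDepth 100000

/-- In the presented sporadic Suzuki group (generators a, …, g), the subgroup generated by the images of a, …, f is isomorphic to the adjoint Chevalley group of type G₂ over a field with four elements. -/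
theorem result : ∃ (K : Type) (_ : Field K) (_ : Fintype K), Fintype.card K = 4 ∧ Nonempty ((((Subgroup.closure ({Cfsg.Spor.Suz.a, Cfsg.Spor.Suz.b, Cfsg.Spor.Suz.c, Cfsg.Spor.Suz.d, Cfsg.Spor.Suz.e, Cfsg.Spor.Suz.f} : Set (FreeGroup Cfsg.Spor.Suz.Gen))).map (PresentedGroup.mk (Cfsg.Spor.coxRelators Cfsg.Spor.Suz.edges ∪ {r | r ∈ Cfsg.Spor.Suz.extra})))) ≃* Cfsg.Lie.chevG2.group K) := by
  rw [Suz1782.Heq]
  obtain ⟨F, _, _, hF⟩ := exists_F4
  obtain ⟨e⟩ := G24M.iso hF
  have hp : Pres 6 6 G1365.RL (wv 7 SuzG.f Suz1782.BW) :=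
    SuzG.pres.subst (WD := Suz1782.BW) (H := [([], 26, false), ([], 26, false), ([], 26, false), ([], 26, false), ([], 26, false), ([], 26, false), ([], 0, true), ([], 1, true), ([], 2, true), ([], 3, true), ([], 4, true), ([], 6, true), ([], 7, true), ([], 8, true), ([], 9, true), ([], 11, true), ([], 12, true), ([], 13, true), ([], 15, true), ([], 16, true), ([], 18, true), ([], 21, true), ([], 23, true), ([], 25, true)]) (by decide +kernel)
  have hw : ev (atm 6 (wv 7 SuzG.f Suz1782.BW)) [0] ≠ 1 := fun h => Suz22880.U.a_ne (by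
    rw [← ev_subW SuzG.pres.ivOk] at h
    rw [← ev_atm_map' Suz22880.hφ, ← map_one Suz22880.φ]
    exact congrArg _ h)
  obtain ⟨e', -⟩ := iso_of_simple G1365.bound (by norm_num) G1365.cert.pres hp G1365.lbP
    G1365.simpleP hw
  exact ⟨F, inferInstance, inferInstance, hF, ⟨e'.symm.trans e⟩⟩

end Cfsg.Agent.S1679
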