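import Cfsg.Statements.S1686
import Cfsg.Agent.Spor.Fi22U
import Cfsg.Agent.Spor.O73M.Main
import Cfsg.Agent.Spor.Fi14080.Act

set_option autoImplicit false
open Cfsg

namespace Cfsg.Agent.S1686

open Cfsg.Agent.Spor

set_option maxRecDepth 100000

/-- In the presented Fischer group Fi₂₂, the subgroup generated by the images of b, …, i is isomorphic to PΩ(7, 3), the commutator subgroup of the isometry group of the quadratic form x₀² + x₁y₁ + x₂y₂ + x₃y₃ over the integers mod 3, modulo its centre. -/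
theorem result : Nonempty ((((Subgroup.closure ({Cfsg.Spor.Fi22.b, Cfsg.Spor.Fi22.c, Cfsg.Spor.Fi22.d, Cfsg.Spor.Fi22.e, Cfsg.Spor.Fi22.f, Cfsg.Spor.Fi22.g, Cfsg.Spor.Fi22.h, Cfsg.Spor.Fi22.i} : Set (FreeGroup Cfsg.Spor.Fi22.Gen))).map (PresentedGroup.mk (Cfsg.Spor.coxRelators Cfsg.Spor.Fi22.edges ∪ {r | r ∈ Cfsg.Spor.Fi22.extra})))) ≃* Cfsg.POmega (ZMod 3) (Cfsg.quadFormOdd 3 (ZMod 3))) := by
  rw [Fi14080.Heq]
  obtain ⟨e⟩ := O73M.iso
  have hp : Pres 8 8 O351.RL (wv 9 Fi22G.f Fi14080.BW) :=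
    Fi22G.pres.subst (WD := Fi14080.BW) (H := [([], 39, false), ([], 39, false), ([], 39, false), ([], 39, false), ([], 39, false), ([], 39, false), ([], 39, false), ([], 39, false), ([], 8, true), ([], 9, true), ([], 10, true), ([], 11, true), ([], 12, true), ([], 13, true), ([], 14, true), ([], 15, true), ([], 16, true), ([], 17, true), ([], 18, true), ([], 19, true), ([], 20, true), ([], 21, true), ([], 22, true), ([], 23, true), ([], 24, true), ([], 25, true), ([], 26, true), ([], 27, true), ([], 28, true), ([], 29, true), ([], 30, true), ([], 31, true), ([], 32, true), ([], 33, true), ([], 34, true), ([], 35, true), ([], 36, true), ([], 38, true)]) (by decide +kernel)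
  have hw : ev (atm 8 (wv 9 Fi22G.f Fi14080.BW)) [0] ≠ 1 := fun h => Fi22G.a_ne (by
    rw [← ev_subW Fi22G.pres.ivOk] at h
    exact mem_normal_of_rel Fi22G.pres.ivOk (M := ⊥) (w := [2, 0]) (u := [2]) h
      (consAll_sound Fi22G.pres.ivOk Fi22G.pres.rel (L := [_]) (H := [([], 0, false)]) (by decide +kernel) _
        List.mem_cons_self))
  obtain ⟨e', -⟩ := iso_of_simple O351.bound (by norm_num) O351.cert.pres hp O351.lbP O351.simpleP hw
  exact ⟨e'.symm.trans e⟩

end Cfsg.Agent.S1686
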