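import Cfsg.Statements.S1725
import Cfsg.Agent.SZ.Y

set_option autoImplicit false
open Cfsg

namespace Cfsg.Agent.S1725

/-- A 3-local step in the uniqueness proof for the sporadic Suzuki group: let G satisfy the large-extraspecial hypothesis with Q of order 2 ^ 7, quotient Ω⁻(6, 2) and z not weakly closed in Q, and let X be a subgroup of order 3 of the centraliser C of z with the commutator subgroup of Q and X of order 8 and non-abelian (a quaternion group). Then for any Sylow 3-subgroup P of the normaliser of X in G, P is a Sylow 3-subgroup of G (its index in G is prime to 3), and P contains an elementary abelian subgroup A of order 3 ^ 5 with C_G(A) = A and N_G(A) / A isomorphic to the Mathieu group M₁₁. -/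
theorem result {G : Type*} [Group G] [Finite G] (z : G) (hz : orderOf z = 2) (Q : Subgroup (Subgroup.centralizer ({z} : Set G))) [Q.Normal] (hF : Cfsg.generalizedFittingSubgroup (Subgroup.centralizer ({z} : Set G)) = Q) (hQ : Cfsg.IsExtraspecial 2 Q) (hcard : Nat.card Q = 2 ^ 7) (e : (Subgroup.centralizer ({z} : Set G)) ⧸ Q ≃* Cfsg.Omega (ZMod 2) (Cfsg.quadFormMinus 2 (ZMod 2) 1 1)) (hnwc : ∃ g : G, (∃ hq : g * z * g⁻¹ ∈ Subgroup.centralizer ({z} : Set G), (⟨g * z * g⁻¹, hq⟩ : Subgroup.centralizer ({z} : Set G)) ∈ Q) ∧ g * z * g⁻¹ ≠ z) (X : Subgroup (Subgroup.centralizer ({z} : Set G))) (hX : Nat.card X = 3) (hQX : Nat.card ↥⁅Q, X⁆ = 8) (hQXna : ¬ IsMulCommutative ↥⁅Q, X⁆) (P : Sylow 3 ↥(Subgroup.normalizer ((X.map (Subgroup.subtype (Subgroup.centralizer ({z} : Set G))) : Subgroup G) : Set G))) : ¬ 3 ∣ (((P : Subgroup ↥(Subgroup.normalizer ((X.map (Subgroup.subtype (Subgroup.centralizer ({z} : Set G))) : Subgroup G) : Set G))).map (Subgroup.subtype (Subgroup.normalizer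 ((X.map (Subgroup.subtype (Subgroup.centralizer ({z} : Set G))) : Subgroup G) : Set G)))).index) ∧ ∃ A : Subgroup G, A ≤ (P : Subgroup ↥(Subgroup.normalizer ((X.map (Subgroup.subtype (Subgroup.centralizer ({z} : Set G))) : Subgroup G) : Set G))).map (Subgroup.subtype (Subgroup.normalizer ((X.map (Subgroup.subtype (Subgroup.centralizer ({z} : Set G))) : Subgroup G) : Set G))) ∧ Cfsg.IsElementaryAbelian 3 A ∧ Nat.card A = 3 ^ 5 ∧ Subgroup.centralizer (A : Set G) = A ∧ ∃ _ : (A.subgroupOf (Subgroup.normalizer (A : Set G))).Normal, Cfsg.Spor.IsoM11 (↥(Subgroup.normalizer (A : Set G)) ⧸ A.subgroupOf (Subgroup.normalizer (A : Set G))) := by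
  obtain ⟨γ, ⟨h1, h2⟩, h3⟩ := hnwc
  obtain ⟨f, g, c, h, i, j, e', d, y, x, p, k, q, r, s, b, c', Λ, Δ, Δ', B⟩ :=
    (SZ.sq_of' hz hF hQ hcard e).b7 ⟨_, h2, rfl⟩ h3
  have : Fact (Nat.Prime 3) := ⟨by norm_num⟩
  obtain ⟨t, rfl⟩ : ∃ t, X = Subgroup.zpowers t := by
    have := isCyclic_of_prime_card hX
    exact (X.isCyclic_iff_exists_zpowers_eq_top.mp this).imp fun _ => Eq.symm
  have i0 := (Subgroup.centralizer ({z} : Set G)).subtype_injective
  have ot : orderOf (t : G) = 3 := by rw [Subgroup.orderOf_coe, ← Nat.card_zpowers, hX]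
  obtain ⟨m, hm⟩ := B.cy (Subgroup.mem_centralizer_singleton_iff.mp t.2) ot (by
    rw [← hQX, ← Subgroup.card_map_of_injective i0, Subgroup.map_commutator, MonoidHom.map_zpowers]
    rfl)
  have e1 : Subgroup.zpowers y = ((Subgroup.zpowers t).map (Subgroup.subtype _)).map
      (MulAut.conj m).toMonoidHom := by
    rw [MonoidHom.map_zpowers, MonoidHom.map_zpowers]
    exact (Subgroup.eq_of_le_of_card_ge (Subgroup.zpowers_le.2 hm) (by
      rw [Nat.card_zpowers, Nat.card_zpowers, B.oy]
      exact ((MulEquiv.orderOf_eq (MulAut.conj m) (t : G)).trans ot).ge)).symm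
  have h4 := B.idx
  rw [e1, ← Subgroup.map_equiv_normalizer_eq, MulEquiv.toMonoidHom_eq_coe,
    Subgroup.index_map_equiv] at h4
  generalize (Subgroup.zpowers t).map (Subgroup.subtype _) = X at *
  have h5 : ¬ 3 ∣ ((P : Subgroup _).map (Subgroup.normalizer (X : Set G)).subtype).index := by
    rw [Subgroup.index_map_subtype]
    exact fun h => ((Nat.Prime.dvd_mul (by norm_num)).mp h).elim P.not_dvd_index
      fun h => absurd (h.trans h4) (by norm_num)
  obtain ⟨φ, -⟩ := B.iso
  exact ⟨h5, SZ.good_in φ ((P.isPGroup'.map _).toSylow h5)⟩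

end Cfsg.Agent.S1725
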