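import Cfsg.Statements.S1753
import Cfsg.Agent.Comp.Basic
import Cfsg.Agent.Core.Basic

set_option autoImplicit false
universe u
open Cfsg

namespace Cfsg.Agent.S1753

open Cfsg.Agent.Comp Subgroup
open scoped commutatorElement


/-- Let K be any property of groups. (1) If G is a minimal counterexample relative to K — a finite non-abelian simple group not satisfying K such that every finite non-abelian simple group of smaller order satisfies K — then every proper subgroup of G is a K-group (all its non-abelian simple sections satisfy K), since such sections have smaller order than G. (2) Consequently (induction on the order), if every finite non-abelian simple group all of whose proper subgroups are K-groups satisfies K, then every finite non-abelian simple group satisfies K. -/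
theorem result (K : ∀ (X : Type u) [Group X], Prop) :
    (∀ (G : Type u) [Group G], Cfsg.IsMinCounterexampleWith K G → Cfsg.IsKProperWith K G) ∧
      ((∀ (X : Type u) [Group X] [Finite X], IsSimpleGroup X → ¬ IsMulCommutative X → Cfsg.IsKProperWith K X → K X) →
        ∀ (G : Type u) [Group G] [Finite G], IsSimpleGroup G → ¬ IsMulCommutative G → K G) := by
  have key : ∀ (G : Type u) [Group G], Cfsg.IsMinCounterexampleWith K G → Cfsg.IsKProperWith K G := by
    intro G _ ⟨h1, _, _, _, h5⟩ H hH L N _ hs hc
    refine h5 _ hs hc (lt_of_le_of_lt ?_ (Core.card_lt_of_ne_top hH))
    exact (Nat.le_of_dvd Nat.card_pos (card_quotient_dvd_card N)).trans (card_le_card_group L)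
  refine ⟨key, fun h => Core.card_induction
    (P := fun G _ _ => IsSimpleGroup G → ¬ IsMulCommutative G → K G) fun G _ _ ih => ?_⟩
  intro hs hc
  by_contra hK
  exact hK (h G hs hc (key G ⟨inferInstance, hs, hc, hK, fun X _ _ a b c => ih X c a b⟩))

end Cfsg.Agent.S1753
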