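import Cfsg.Statements.S1755
import Cfsg.Agent.Comp.Symp

set_option autoImplicit false
open Cfsg

namespace Cfsg.Agent.S1755

open Cfsg.Agent.Comp Subgroup

theorem aux {G : Type*} [Group G] [Finite G] {C : Subgroup G} {F : Subgroup C} [F.Normal] (c : F)
    (hz : orderOf c = 2) (hC : ∀ g : G, g * (c : C) = (c : C) * g → g ∈ C) (z1 : c ∈ center F)
    (hQ : IsOfSymplecticType F) (B : Subgroup F) [B.Characteristic] (hBa : IsMulCommutative B)
    (g : G) (hne : ¬ ((B.map F.subtype).map C.subtype).map (MulAut.conj g).toMonoidHom ⊓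
      (B.map F.subtype).map C.subtype = ⊥) :
    ((B.map F.subtype).map C.subtype).map (MulAut.conj g).toMonoidHom =
      (B.map F.subtype).map C.subtype := by
  have hc := hQ.2 (B ⊔ center _) inferInstance (Core.isMulCommutative_sup hBa inferInstance
    (le_centralizer_iff.1 (center_le_centralizer _)))
  have k : ∀ t ∈ (B.map F.subtype).map C.subtype, orderOf t = 2 → t = (c : C) := by
    rintro _ ⟨_, ⟨t, t1, rfl⟩, rfl⟩ t2
    rw [Inv.invol_eq_of_isCyclic hc (mem_sup_left t1) (mem_sup_right z1)
      ((orderOf_coe _).symm.trans ((orderOf_coe _).symm.trans t2)) hz]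
    rfl
  obtain ⟨t, ⟨t1, t2⟩, t3⟩ := Inv.exists_involution_of_isPGroup
    ((((hQ.1.to_subgroup B).map _).map _).to_le inf_le_right) hne
  have a1 := k _ (mem_map_conj.1 t1) ((Inv.orderOf_conj'' g t).trans t3)
  rw [k t t2 t3] at a1
  have a2 : g ∈ C := hC g (by
    calc _ = g * (g⁻¹ * (c : C) * g) := by rw [a1]
      _ = _ := by group)
  exact map_conj_eq_of_mem_normalizer (le_normalizer_map _ ⟨⟨g, a2⟩,
    le_normalizer_of_normal (mem_top _), rfl⟩)


/-- Let G be a finite group and let z be an involution of G such that Q, the generalized Fitting subgroup of the centralizer C of z, is a 2-group of symplectic type (every characteristic abelian subgroup of Q is cyclic). Let B be a characteristic abelian subgroup of Q, viewed as a subgroup of G. Then for every g in G, the conjugate of B by g either equals B or meets B trivially. -/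
theorem result {G : Type*} [Group G] [Finite G] (z : G) (hz : orderOf z = 2) (hQ : Cfsg.IsOfSymplecticType ↥(Cfsg.generalizedFittingSubgroup ↥(Subgroup.centralizer ({z} : Set G))))
    (B : Subgroup ↥(Cfsg.generalizedFittingSubgroup ↥(Subgroup.centralizer ({z} : Set G)))) (hBc : B.Characteristic) (hBa : IsMulCommutative ↥B) (g : G) :
    ((B.map (Cfsg.generalizedFittingSubgroup ↥(Subgroup.centralizer ({z} : Set G))).subtype).map (Subgroup.centralizer ({z} : Set G)).subtype).map (MulAut.conj g).toMonoidHom =
        (B.map (Cfsg.generalizedFittingSubgroup ↥(Subgroup.centralizer ({z} : Set G))).subtype).map (Subgroup.centralizer ({z} : Set G)).subtype ∨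
      ((B.map (Cfsg.generalizedFittingSubgroup ↥(Subgroup.centralizer ({z} : Set G))).subtype).map (Subgroup.centralizer ({z} : Set G)).subtype).map (MulAut.conj g).toMonoidHom ⊓
        (B.map (Cfsg.generalizedFittingSubgroup ↥(Subgroup.centralizer ({z} : Set G))).subtype).map (Subgroup.centralizer ({z} : Set G)).subtype = ⊥ := by
  rw [or_iff_not_imp_right]
  intro hne
  have hz1 := mem_FStar_centralizer z
  rw [← FStar_eq] at hz1
  obtain ⟨⟨c, c1, c2⟩, hz2⟩ := hz1
  replace c2 : (c : G) = z := c2
  have : (generalizedFittingSubgroup (centralizer ({z} : Set G))).Normal := by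
    rw [← FStar_top]; exact normalizer_eq_top_iff.1 (eq_top_iff.2 (FStar_normal ⊤))
  refine aux ⟨c, c1⟩ (by rw [← orderOf_coe, ← orderOf_coe]; exact c2.symm ▸ hz)
    (fun g hg => mem_centralizer_singleton_iff.2 (by rw [← c2]; exact hg))
    (mem_center_iff.2 fun x => Subtype.ext (Subtype.ext ?_)) hQ B hBa g hne
  change _ * (c : G) = c * _
  rw [c2]
  exact hz2 _ ⟨_, x.2, rfl⟩

end Cfsg.Agent.S1755
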