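import Cfsg.Statements.S1756
import Cfsg.Agent.Comp.Symp

set_option autoImplicit false
open Cfsg

namespace Cfsg.Agent.S1756

open Cfsg.Agent.Comp Subgroup


/-- Let Q be an extraspecial 2-subgroup of the finite group G (special with centre of order 2) and t an involution of G normalizing Q such that the centralizer of t in Q has index at most 2 in Q. Then t lies in the product of Q with the centralizer of Q. -/
theorem result {G : Type*} [Group G] [Finite G] (Q : Subgroup G)
    (hQ : Cfsg.IsExtraspecial 2 ↥Q) (t : G) (ht : orderOf t = 2) (htN : t ∈ Subgroup.normalizer (Q : Set G))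
    (hi : (Subgroup.centralizer ({t} : Set G) ⊓ Q).relIndex Q ≤ 2) :
    t ∈ Q ⊔ Subgroup.centralizer (Q : Set G) := by
  obtain ⟨z, h, hZ⟩ := ext_of_extraspecial hQ
  have hc : ∀ q ∈ Q, t * q * t⁻¹ ∈ Q := fun q hq => (mem_normalizer_iff.1 htN q).1 hq
  have h1 : t * z = z * t := by
    have a1 : t * z * t⁻¹ ∈ zpowers z := hZ.le ⟨hc z h.mem,
      (mem_normalizer_iff.1 (centralizer_normalizer Q htN) z).1 h.cen⟩
    rcases (Inv.mem_zpowers_ord2 h.zz).1 a1 with e | e
    · exact absurd (by simpa using e) (Inv.ne_one_of_ord2 h.ord)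
    · exact mul_inv_eq_iff_eq_mul.1 e
  refine h.inner h1 (fun q hq => ?_) (by
    rw [hZ, centralizer_zpowers]; exact mem_centralizer_singleton_iff.2 h1)
  by_cases e : q * t = t * q
  · rw [← e]; simp
  have h2 : (centralizer {t} ⊓ Q).relIndex Q = 2 := by
    have a1 : (centralizer {t} ⊓ Q).relIndex Q ≠ 0 := index_ne_zero_of_finite
    have a2 : (centralizer {t} ⊓ Q).relIndex Q ≠ 1 := fun e' =>
      e (mem_centralizer_singleton_iff.1 (relIndex_eq_one.1 e' hq).1)
    omega
  have k : ∀ a ∈ Q, ∀ b ∈ Q, a * t ≠ t * a → b * t ≠ t * b → a * b * t = t * (a * b) :=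
    fun a ha b hb e1 e2 => mem_centralizer_singleton_iff.1 (Inv.mul_mem_of_relIndex_two h2 ha hb
      (fun h => e1 (mem_centralizer_singleton_iff.1 h.1))
      fun h => e2 (mem_centralizer_singleton_iff.1 h.1)).1
  have ht2 := Inv.sq_of_ord2 ht
  have hc1 := mul_mem (hc q hq) (inv_mem hq)
  have a1 := k _ (hc q hq) _ (inv_mem hq) (fun e' => e (by
    calc _ = t⁻¹ * (t * q * t⁻¹ * t) * t := by group
      _ = _ := by rw [e']; group)) fun e' => e (Commute.inv_left_iff.1 e')
  have a2 := h.fix h1 (h.sq q hq)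
  set c := t * q * t⁻¹ * q⁻¹ with hcd
  have a3 : t * q * t⁻¹ = c * q := by rw [hcd]; group
  have a4 : c * c = 1 := by
    calc _ = (c * t) * t⁻¹ * (c * q) * q⁻¹ := by group
      _ = t * c * t⁻¹ * (t * q * t⁻¹) * q⁻¹ := by rw [a1, a3]
      _ = t * (c * q) * t⁻¹ * q⁻¹ := by group
      _ = (t * t) * q * (t * t)⁻¹ * q⁻¹ := by rw [← a3]; group
      _ = 1 := by rw [ht2]; group
  have a5 : q * c = c * q := by
    calc _ = (c * c) * q * c := by rw [a4, one_mul]
      _ = c * (t * (q * q) * t⁻¹) * q⁻¹ := by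
        rw [show t * (q * q) * t⁻¹ = (t * q * t⁻¹) * (t * q * t⁻¹) by group, a3]; group
      _ = _ := by rw [a2]; group
  have a6 : ∀ a ∈ Q, a * t = t * a → a * c = c * a := fun a ha e1 =>
    h.comm_commute htN h1 ha hq (by rw [← e1]; simp)
  refine h.uniq c hc1 (fun a ha => ?_) a4
  by_cases e1 : a * t = t * a
  · exact a6 a ha e1
  · have := a6 _ (mul_mem ha hq) (k a ha q hq e1 e)
    rwa [mul_assoc, a5, ← mul_assoc a c, ← mul_assoc c a, mul_left_inj] at this

end Cfsg.Agent.S1756
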