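import Cfsg.Statements.S1774
import Cfsg.Agent.Comp.Symp

set_option autoImplicit false
open Cfsg

namespace Cfsg.Agent.S1774

open Cfsg.Agent.Comp Subgroup PLoc

variable {G : Type*} [Group G] [Finite G]

omit [Finite G] in
theorem cj_FStar (z g : G) : cj g (FStar (centralizer ({z} : Set G))) =
    FStar (centralizer {g * z * g⁻¹}) := by
  rw [cj, FStar_map map_conj_inj, centralizer_singleton_map_conj]

omit [Finite G] in
theorem exists_conj {Q : Subgroup G} {z t : G} (h : Comp.Ext Q z) (ht : orderOf t = 2) (h1 : t ∈ Q)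
    (h2 : t ≠ z) : ∃ q ∈ Q, q * t * q⁻¹ = z * t := by
  by_contra e
  push Not at e
  rcases (Inv.mem_zpowers_ord2 h.zz).1 (h.uniq t h1 (fun q hq => by
    by_contra e'; exact e q hq (h.conj_eq hq h1 e')) (Inv.sq_of_ord2 ht)) with e' | e'
  · exact Inv.ne_one_of_ord2 ht e'
  · exact h2 e'

/-- the dihedral case -/
theorem isPGroup_of_small {z t : G} (h : Comp.Ext (FStar (centralizer ({z} : Set G))) z)
    (ht : orderOf t = 2) (h1 : t ∈ FStar (centralizer ({z} : Set G))) (h2 : t ≠ z)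
    (hA : FStar (centralizer ({z} : Set G)) ⊓ centralizer {t} ≤ zpowers z ⊔ zpowers t) :
    IsPGroup 2 (centralizer ({z} : Set G)) := by
  set Q := FStar (centralizer ({z} : Set G))
  have tt := Inv.sq_of_ord2 ht
  have zt := h.cen t h1
  have k : ∀ c ∈ Q, c * t ≠ t * c → c * t * (c * t) = z * (c * c) := fun c c1 c2 => by
    calc _ = c * t * c⁻¹ * (c * c) * t := by group
      _ = z * (t * (c * c) * t⁻¹) * (t * t) := by rw [h.conj_eq c1 h1 c2]; group
      _ = _ := by rw [h.fix zt (h.sq c c1), tt, mul_one]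
  have k1 : ∀ a ∈ Q, ∀ b ∈ Q, a * t ≠ t * a → b * t ≠ t * b → a * b ∈ centralizer {t} :=
    fun a ha b hb e1 e2 => mem_centralizer_singleton_iff.2 (mul_inv_eq_iff_eq_mul.1 (by
      calc _ = a * (b * t * b⁻¹) * a⁻¹ := by group
        _ = z * (a * t * a⁻¹) := by rw [h.conj_eq hb h1 e2, ← mul_assoc, h.cen a ha]; group
        _ = _ := by rw [h.conj_eq ha h1 e1, ← mul_assoc, h.zz, one_mul]))
  obtain ⟨c, c1, c2, c3⟩ : ∃ c ∈ Q, c * t ≠ t * c ∧ c * c = z := by
    obtain ⟨q, q1, q2⟩ := exists_conj h ht h1 h2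
    have q3 : q * t ≠ t * q := fun e => Inv.ne_one_of_ord2 h.ord (by
      rw [e, mul_inv_cancel_right] at q2; simpa using q2)
    rcases (Inv.mem_zpowers_ord2 h.zz).1 (h.sq q q1) with e | e
    · exact ⟨q * t, mul_mem q1 h1, fun e' => q3 (by rwa [← mul_assoc, mul_left_inj] at e'),
        by rw [k q q1 q3, e, mul_one]⟩
    · exact ⟨q, q1, q3, e⟩
  have hA' : Q ⊓ centralizer {t} = zpowers z ⊔ zpowers t := le_antisymm hA (sup_le
    (zpowers_le.2 ⟨h.mem, mem_centralizer_singleton_iff.2 zt.symm⟩)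
    (zpowers_le.2 ⟨h1, mem_centralizer_singleton_iff.2 rfl⟩))
  have a1 : (centralizer {t}).relIndex Q = 2 := relIndex_eq_two_iff.2 ⟨c, c1, fun b hb => by
    by_cases e : b ∈ centralizer {t}
    · exact Or.inr ⟨e, fun e' => c2 (mem_centralizer_singleton_iff.1
        ((mul_mem_cancel_left e).1 e'))⟩
    · exact Or.inl ⟨k1 b hb c c1 (fun e' => e (mem_centralizer_singleton_iff.2 e')) c2, e⟩⟩
  have a2 := Core.card_inf_mul_relIndex (centralizer {t}) Q
  rw [a1, inf_comm, hA', Inv.kf_card (Inv.kf_sup h.ord ht h2.symm zt.symm)] at a2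
  have a3 : orderOf c = 4 := orderOf_eq_prime_pow (p := 2) (n := 1)
    (by rw [pow_one, sq, c3]; exact Inv.ne_one_of_ord2 h.ord) (by
      rw [show 2 ^ (1 + 1) = 2 * 2 by norm_num, pow_mul, sq, sq, c3, h.zz])
  have hQ : IsPGroup 2 Q := IsPGroup.of_card (n := 3) a2.symm
  have a4 : ∀ w ∈ Q, w ∉ zpowers c → orderOf w = 2 := fun w w1 w2 => by
    refine Inv.ord2_iff.2 ⟨?_, fun e => w2 (e ▸ one_mem _)⟩
    by_cases e : w * t = t * w
    · exact Inv.kf_sq (Inv.kf_sup h.ord ht h2.symm zt.symm)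
        (hA ⟨w1, mem_centralizer_singleton_iff.2 e⟩)
    have b1 := hA ⟨Q.mul_mem (Q.inv_mem c1) w1, k1 _ (inv_mem c1) w w1
      (fun e' => c2 (Commute.inv_left_iff.1 e')) e⟩
    have b2 := mem_zpowers c
    rcases (Inv.mem_sup_ord2 h.zz tt zt.symm).1 b1 with b | b | b | b <;>
      rw [inv_mul_eq_iff_eq_mul] at b <;> subst b
    · exact absurd (mul_mem b2 (one_mem _)) w2
    · exact absurd (mul_mem b2 (c3 ▸ mul_mem b2 b2)) w2
    · rw [k c c1 c2, c3, h.zz]
    · calc _ = c * z * (t * c * z) * t := by group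
        _ = c * (z * z) * t * (c * t) := by rw [h.cen _ (mul_mem h1 c1)]; group
        _ = 1 := by rw [h.zz, mul_one, k c c1 c2, c3, h.zz]
  refine pResOf_eq_bot_iff.1 (eq_bot_iff.2 (pResOf_le_iff.2 fun x x1 x2 =>
    eq_one_of_isPGroup_of_coprime hQ (centralizer_FStar_centralizer_le z ?_) x2))
  rcases Inv.odd_centralizes_or hQ inferInstance (Inv.relIndex_eq_two_of_card (zpowers_le.2 c1)
    (by rw [← a2, Nat.card_zpowers, a3])) (fun w w1 w2 => Or.inl (a4 w w1 w2)) le_rfl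
    (FStar_normal _ x1) (Nat.coprime_two_right.1 x2) with e | e | ⟨⟨w, w1, w2, w3⟩, -⟩
  · exact e
  · have := Inv.kf_card e; omega
  · rw [a4 w w1 w2] at w3; omega

theorem key {z g : G} (h : Comp.Ext (FStar (centralizer ({z} : Set G))) z) (hne : g * z * g⁻¹ ≠ z)
    (hin : g * z * g⁻¹ ∈ FStar (centralizer ({z} : Set G))) :
    z ∈ FStar (centralizer ({g * z * g⁻¹} : Set G)) := by
  have h' := h.cj g
  have hg := cj_FStar z g
  rw [hg] at h'
  have hg' := centralizer_singleton_map_conj z g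
  set t := g * z * g⁻¹
  set Q := FStar (centralizer ({z} : Set G))
  set P := FStar (centralizer ({t} : Set G))
  have zt := h.cen t hin
  obtain ⟨q, q1, q2⟩ := exists_conj h h'.ord hin hne
  have q3 := h.cen q q1
  by_cases hc : ∃ p ∈ P, p * z * p⁻¹ = t * z
  · obtain ⟨p, p1, p2⟩ := hc
    have p3 := h'.cen p p1
    have a1 : q * p * q * z * (q * p * q)⁻¹ = t := by
      calc _ = q * (p * (q * z * q⁻¹) * p⁻¹) * q⁻¹ := by group
        _ = q * (t * z) * q⁻¹ := by rw [q3, mul_inv_cancel_right, p2]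
        _ = (q * t * q⁻¹) * (q * z * q⁻¹) := by group
        _ = _ := by rw [q2, q3, mul_inv_cancel_right, mul_assoc, zt, ← mul_assoc, h.zz, one_mul]
    have a2 : q * p * q * t * (q * p * q)⁻¹ = z := by
      calc _ = q * (p * (q * t * q⁻¹) * p⁻¹) * q⁻¹ := by group
        _ = q * ((p * z * p⁻¹) * (p * t * p⁻¹)) * q⁻¹ := by rw [q2]; group
        _ = _ := by rw [p2, p3, mul_inv_cancel_right, zt, mul_assoc z, h'.zz, mul_one, q3,
                      mul_inv_cancel_right]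
    have a3 := cj_FStar z (q * p * q)
    rw [a1] at a3
    rw [← a2]
    exact a3.le (conj_mem_cj.2 hin)
  push Not at hc
  by_contra hz
  have nP : ∀ a ∈ centralizer ({t} : Set G), ∀ p ∈ P, a * p * a⁻¹ ∈ P := fun a ha p hp =>
    (mem_normalizer_iff.1 (FStar_normal _ ha) p).1 hp
  have hzt : z ∈ centralizer ({t} : Set G) := mem_centralizer_singleton_iff.2 zt.symm
  have hB : ∀ p, p ∈ P ⊓ centralizer {z} ↔ p ∈ P ∧ z * p * z⁻¹ * p⁻¹ ∈ zpowers t := fun p =>
    and_congr_right fun hp => ⟨fun e => by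
      rw [← mem_centralizer_singleton_iff.1 e]; simp, fun e => by
      rcases (Inv.mem_zpowers_ord2 h'.zz).1 e with e | e
      · exact mem_centralizer_singleton_iff.2 (commutatorElement_eq_one_iff_mul_comm.1 e).symm
      · refine absurd ?_ (hc p hp)
        rw [zt, ← e, Inv.inv_of_ord2 h.ord, ← mul_assoc, ← mul_assoc, ← mul_assoc, h.zz, one_mul]⟩
  have a1 := (h'.comm_struct (FStar_normal _ hzt) zt.symm h.zz hB).2
  have a2 := h.double (U := zpowers t ⊔ (Q ⊓ centralizer (Q : Set G)))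
    (sup_le (zpowers_le.2 hin) inf_le_left) le_sup_right
  rw [centralizer_sup, Comp.centralizer_zpowers, ← inf_assoc, inf_eq_left.2 (inf_le_left.trans
    (le_centralizer_iff.1 inf_le_right))] at a2
  have a3 : ∀ d ∈ Q ⊓ centralizer ((Q ⊓ centralizer {t} : Subgroup G) : Set G), d * d = 1 →
      d ∈ zpowers z ⊔ zpowers t := fun d d1 d2 => by
    obtain ⟨a, a3, b, b3, rfl⟩ := (mem_sup_of_normalizes (((zpowers_le.2 hin).trans
      (le_centralizer_iff.1 inf_le_right)).trans (centralizer_le_normalizer _))).1 (a2.le d1)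
    have b1 : a * a = 1 := by
      rcases (Inv.mem_zpowers_ord2 h'.zz).1 a3 with e | e <;> simp [e, h'.zz]
    have b2 := b3.2 a (zpowers_le.2 hin a3)
    refine mul_mem (mem_sup_right a3) (mem_sup_left (h.uniq b b3.1 b3.2 ?_))
    rwa [mul_assoc, ← mul_assoc b, ← b2, mul_assoc, ← mul_assoc, b1, one_mul] at d2
  have a4 : ∀ d ∈ zpowers z, d ∈ P → d = 1 := fun d d1 d2 =>
    ((Inv.mem_zpowers_ord2 h.zz).1 d1).resolve_right fun e => hz (e ▸ d2)
  have a5 : ∀ a ∈ Q ⊓ centralizer {t}, ∀ b ∈ P ⊓ centralizer {z},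
      a * b * a⁻¹ * b⁻¹ ∈ zpowers t := fun a ha b hb => by
    have d1 : a * b * a⁻¹ * b⁻¹ ∈ P := mul_mem (nP a ha.2 b hb.1) (inv_mem hb.1)
    have d2 : a * b * a⁻¹ * b⁻¹ ∈ Q := by
      rw [mul_assoc, mul_assoc, ← mul_assoc b]
      exact mul_mem ha.1 ((mem_normalizer_iff.1 (FStar_normal _ hb.2) _).1 (inv_mem ha.1))
    rcases (Inv.mem_sup_ord2 h.zz h'.zz zt.symm).1 (a3 _ ⟨d2, fun x hx =>
      commutatorElement_eq_one_iff_mul_comm.1 (a4 _ (h.comm hx.1 d2)
        (mul_mem (nP x hx.2 _ d1) (inv_mem d1)))⟩ (a4 _ (h.sq _ d2) (mul_mem d1 d1))) with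
        e | e | e | e
    · exact e ▸ one_mem _
    · exact absurd (e ▸ d1) hz
    · exact e ▸ mem_zpowers t
    · exact absurd ((mul_mem_cancel_right h'.mem).1 (e ▸ d1)) hz
  have a6 : ∀ a ∈ Q ⊓ centralizer {t}, a * a = 1 := fun a ha => by
    refine ((Inv.mem_zpowers_ord2 h.zz).1 (h.sq a ha.1)).resolve_right fun e => hz
      (centralizer_FStar_centralizer_le t fun p hp =>
        mem_centralizer_singleton_iff.1 ((hB p).2 ⟨hp, ?_⟩).2)
    have d1 := mul_mem (nP a ha.2 p hp) (inv_mem hp)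
    have d2 := a1 ⟨d1, fun b hb => h'.comm_commute (FStar_normal _ ha.2)
      (mem_centralizer_singleton_iff.1 ha.2) hb.1 hp (h'.zle (a5 a ha b hb)).2⟩
    convert mul_mem (a5 a ha _ d2) (h'.sq _ d1) using 1
    rw [← e]; group
  have a7 := isPGroup_of_small h h'.ord hin hne fun a ha => a3 a ⟨ha.1, fun b hb =>
    commutatorElement_eq_one_iff_mul_comm.1 (mem_bot.1 (Inv.commutator_mem_of_sq
      (fun x hx => mem_bot.2 (a6 x hx)) hb ha))⟩ (a6 a ha)
  have a8 : IsPGroup 2 (centralizer ({t} : Set G)) := hg' ▸ a7.map _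
  exact hz (Fit_le_FStar (le_Fit le_rfl le_normalizer a8.isNilpotent hzt))


/-- Let G be a finite group and let z be an involution of G such that Q, the generalized Fitting subgroup of the centralizer C of z, is a 2-group of symplectic type (every characteristic abelian subgroup of Q is cyclic); suppose every element of Q has order dividing 4. Let g ∈ G with z' = g z g⁻¹ ≠ z and z' ∈ Q. Then z lies in the conjugate g Q g⁻¹, and the subgroup X generated by Q and g Q g⁻¹ induces every automorphism of the four-group generated by z and z': for any two distinct non-identity elements u, v of that four-group there is x ∈ X with x z x⁻¹ = u and x z' x⁻¹ = v. -/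
theorem result {G : Type*} [Group G] [Finite G] (z : G) (hz : orderOf z = 2) (hQ : Cfsg.IsOfSymplecticType ↥(Cfsg.generalizedFittingSubgroup ↥(Subgroup.centralizer ({z} : Set G))))
    (h4 : ∀ q ∈ (Cfsg.generalizedFittingSubgroup ↥(Subgroup.centralizer ({z} : Set G))).map (Subgroup.centralizer ({z} : Set G)).subtype, q ^ 4 = 1) (g : G) (hne : g * z * g⁻¹ ≠ z) (hin : g * z * g⁻¹ ∈ (Cfsg.generalizedFittingSubgroup ↥(Subgroup.centralizer ({z} : Set G))).map (Subgroup.centralizer ({z} : Set G)).subtype) :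
    z ∈ ((Cfsg.generalizedFittingSubgroup ↥(Subgroup.centralizer ({z} : Set G))).map (Subgroup.centralizer ({z} : Set G)).subtype).map (MulAut.conj g).toMonoidHom ∧
      ∀ u ∈ Subgroup.closure ({z, g * z * g⁻¹} : Set G), ∀ v ∈ Subgroup.closure ({z, g * z * g⁻¹} : Set G),
        u ≠ 1 → v ≠ 1 → u ≠ v →
          ∃ x ∈ (Cfsg.generalizedFittingSubgroup ↥(Subgroup.centralizer ({z} : Set G))).map (Subgroup.centralizer ({z} : Set G)).subtype ⊔ ((Cfsg.generalizedFittingSubgroup ↥(Subgroup.centralizer ({z} : Set G))).map (Subgroup.centralizer ({z} : Set G)).subtype).map (MulAut.conj g).toMonoidHom, x * z * x⁻¹ = u ∧ x * (g * z * g⁻¹) * x⁻¹ = v := by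
  rw [FStar_eq] at *
  have h := ext_of_sympl hz (sympl_congr (fstarEquiv _) hQ) (mem_FStar_centralizer z) (Or.inl h4)
  have h1 := key h hne hin
  have h' := h.cj g
  rw [← cj_FStar] at h1
  refine ⟨h1, fun u hu v hv u1 v1 uv => ?_⟩
  obtain ⟨q, q1, q2⟩ := exists_conj h h'.ord hin hne
  obtain ⟨p, p1, p2⟩ := exists_conj h' hz h1 hne.symm
  have zt := h.cen _ hin
  have zz := h.zz
  have tt := h'.zz
  have q3 : q * z * q⁻¹ = z := mul_inv_eq_iff_eq_mul.2 (h.cen q q1)
  have p3 : p * (g * z * g⁻¹) * p⁻¹ = _ := mul_inv_eq_iff_eq_mul.2 (h'.cen p p1)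
  rw [Inv.closure_pair_eq_sup, Inv.mem_sup_ord2 zz tt zt.symm] at hu hv
  generalize g * z * g⁻¹ = t at *
  rw [zt] at p2
  have q4 : q * (z * t) * q⁻¹ = t := by
    rw [show q * (z * t) * q⁻¹ = (q * z * q⁻¹) * (q * t * q⁻¹) by group, q3, q2, ← mul_assoc, zz,
      one_mul]
  have p4 : p * (z * t) * p⁻¹ = z := by
    rw [show p * (z * t) * p⁻¹ = (p * z * p⁻¹) * (p * t * p⁻¹) by group, p3, p2, mul_assoc, tt,
      mul_one]
  have m : ∀ a b x : G, a * b * x * (a * b)⁻¹ = a * (b * x * b⁻¹) * a⁻¹ := fun a b x => by group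
  have hq := mem_sup_left (T := cj g (FStar (centralizer {z}))) q1
  have hp := mem_sup_right (S := FStar (centralizer {z})) p1
  have e1 : ∀ x : G, 1 * x * 1⁻¹ = x := by simp
  have e2 : q * p * z * (q * p)⁻¹ = t := by rw [m, p2, q4]
  have e3 : q * p * t * (q * p)⁻¹ = z * t := by rw [m, p3, q2]
  have e4 : p * q * z * (p * q)⁻¹ = z * t := by rw [m, q3, p2]
  have e5 : p * q * t * (p * q)⁻¹ = z := by rw [m, q2, p4]
  have e6 : q * p * q * z * (q * p * q)⁻¹ = t := by rw [m, q3, e2]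
  have e7 : q * p * q * t * (q * p * q)⁻¹ = z := by rw [m, q2, m, p4, q3]
  rcases hu with rfl | rfl | rfl | rfl <;> rcases hv with rfl | rfl | rfl | rfl <;>
  first
  | exact absurd rfl u1
  | exact absurd rfl v1
  | exact absurd rfl uv
  | exact ⟨1, one_mem _, e1 _, e1 _⟩
  | exact ⟨q, hq, q3, q2⟩
  | exact ⟨p, hp, p2, p3⟩
  | exact ⟨q * p, mul_mem hq hp, e2, e3⟩
  | exact ⟨p * q, mul_mem hp hq, e4, e5⟩
  | exact ⟨q * p * q, mul_mem (mul_mem hq hp) hq, e6, e7⟩

end Cfsg.Agent.S1774
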