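import Cfsg.Statements.S1775
import Cfsg.Agent.H8.Pump

set_option autoImplicit false
open Cfsg

namespace Cfsg.Agent.S1775

open Cfsg.Agent.Comp Cfsg.Agent.H8 Subgroup

/-- Let G be a finite group whose generalized Fitting subgroup is a non-abelian simple group and in which every proper section (every quotient H/N of a proper subgroup H, or of G by a nontrivial normal subgroup) has the B-property. Let x, y be commuting involutions, let D be the intersection of the 2-layer of C_G(x) with C_G(y), and let J be a 2-component of D. Write Q for the quotient of C_G(y) by its largest normal odd-order subgroup. Then (i) the image of J in Q is a component of the centralizer in Q of the image of x; and (ii) for every J-invariant subgroup E of odd order of C_G(x) ∩ C_G(y), the commutator subgroup [J, E] lies in the largest normal odd-order subgroup of C_G(y). -/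
theorem result {G : Type*} [Group G] [Finite G]
    (hF : IsSimpleGroup ↥(Cfsg.generalizedFittingSubgroup G)) (hF' : ¬ IsMulCommutative ↥(Cfsg.generalizedFittingSubgroup G))
    (hsec : ∀ (H : Subgroup G) (N : Subgroup ↥H) [N.Normal], (H ≠ ⊤ ∨ N ≠ ⊥) → Cfsg.HasBProperty (↥H ⧸ N))
    (x y : G) (hx : orderOf x = 2) (hy : orderOf y = 2) (hxy : x * y = y * x)
    (J : Subgroup ↥((Cfsg.pLayer 2 ↥(Subgroup.centralizer ({x} : Set G))).map (Subgroup.centralizer ({x} : Set G)).subtype ⊓ Subgroup.centralizer ({y} : Set G)))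
    (hJ : Cfsg.IsPComponent 2 J) :
    Cfsg.IsComponent
        ((((J.map (Subgroup.subtype _)).subgroupOf (Subgroup.centralizer ({y} : Set G))).map (QuotientGroup.mk' (Cfsg.oddCore ↥(Subgroup.centralizer ({y} : Set G))))).subgroupOf
          (Subgroup.centralizer ({(QuotientGroup.mk' (Cfsg.oddCore ↥(Subgroup.centralizer ({y} : Set G))) ⟨x, Subgroup.mem_centralizer_singleton_iff.mpr hxy⟩ : ↥(Subgroup.centralizer ({y} : Set G)) ⧸ Cfsg.oddCore ↥(Subgroup.centralizer ({y} : Set G)))} : Set _))) ∧
      ∀ E : Subgroup G, E ≤ Subgroup.centralizer ({x} : Set G) ⊓ Subgroup.centralizer ({y} : Set G) → Odd (Nat.card ↥E) →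
        (∀ j ∈ J.map (Subgroup.subtype _), ∀ e ∈ E, j * e * j⁻¹ ∈ E) →
          ⁅J.map (Subgroup.subtype _), E⁆ ≤ (Cfsg.oddCore ↥(Subgroup.centralizer ({y} : Set G))).map (Subgroup.centralizer ({y} : Set G)).subtype := by
  haveI : Fact (Nat.Prime 2) := ⟨Nat.prime_two⟩
  have hxy' : x ∈ centralizer ({y} : Set G) := mem_centralizer_singleton_iff.mpr hxy
  have h1 := pcompIn_map_subtype.2 hJ
  generalize J.map (Subgroup.subtype _) = K at h1 ⊢
  rw [PLay_eq] at h1
  have h2 : PCompIn 2 K (centralizer {x} ⊓ centralizer {y}) := h1.trans ((PLay_subIn _).inf _)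
  have hKy : K ≤ centralizer {y} := h2.le.trans inf_le_right
  have nt : centralizer ({y} : Set G) ≠ ⊤ := fun e => by
    have q := qs_of_simple hF hF'
    have c : ∀ g, y * g = g * y := fun g => (mem_centralizer_singleton_iff.1 (e.ge (mem_top g))).symm
    have m : zpowers y ≤ generalizedFittingSubgroup G := by
      rw [← FStar_top]
      refine le_trans (le_inf le_top ?_) (centralizer_FStar_le ⊤)
      exact zpowers_le.2 fun g _ => (c g).symm
    haveI := hF
    have n : ((zpowers y).subgroupOf (generalizedFittingSubgroup G)).Normal :=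
      ⟨fun a ha g => by
        obtain ⟨k, hk⟩ := mem_subgroupOf.1 ha
        refine mem_subgroupOf.2 ⟨k, ?_⟩
        have : Commute (g : G) (y ^ k) := (Commute.zpow_left (c g) k).symm
        simp only at hk
        simp [← hk, this.eq]⟩
    rcases n.eq_bot_or_eq_top with e1 | e1
    · have : (⟨y, m (mem_zpowers y)⟩ : generalizedFittingSubgroup G) ∈
          (zpowers y).subgroupOf (generalizedFittingSubgroup G) := mem_zpowers y
      rw [e1, mem_bot, Subtype.ext_iff] at this
      simp only [OneMemClass.coe_one] at this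
      rw [this, orderOf_one] at hy; exact absurd hy (by decide)
    · refine hF' ⟨⟨fun a b => ?_⟩⟩
      obtain ⟨k, hk⟩ := mem_subgroupOf.1 (e1.ge (mem_top a))
      simp only at hk
      exact Subtype.ext (by simp only [coe_mul]; rw [← hk]; exact (Commute.zpow_left (c b) k).eq)
  set C := centralizer ({y} : Set G) with hC
  set f := QuotientGroup.mk' (oddCore C) with hf
  have e0 : (centralizer {x} ⊓ C).subgroupOf C = centralizer {(⟨x, hxy'⟩ : C)} := by
    ext g
    simp only [mem_subgroupOf, mem_inf, mem_centralizer_singleton_iff, Subtype.ext_iff, coe_mul, g.2, and_true]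
  have ox : orderOf (⟨x, hxy'⟩ : C) = 2 := by rw [← hx, ← orderOf_coe]
  have hk : (Nat.card f.ker).Coprime 2 := by
    have := ker_coprime (p := 2) (⊤ : Subgroup C); rwa [top_inf_eq] at this
  have e1 : ((centralizer {x} ⊓ C).subgroupOf C).map f = centralizer {f ⟨x, hxy'⟩} := by
    rw [e0, map_centralizer_singleton_eq f (QuotientGroup.mk'_surjective _) hk (isPGroup_zpowers_of_orderOf ox)]
  have h3 : PCompIn 2 (K.subgroupOf C) ((centralizer {x} ⊓ C).subgroupOf C) := by
    rw [← pcompIn_map_iff C.subtype_injective, map_subgroupOf_eq_of_le hKy,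
      map_subgroupOf_eq_of_le inf_le_right]
    exact h2
  have h4 := h3.map f (ker_coprime _)
  rw [e1] at h4
  have ox' : orderOf (f ⟨x, hxy'⟩) = 2 := by
    refine orderOf_eq_prime (by rw [← map_pow, (orderOf_eq_prime_iff.1 ox).1, map_one]) fun e => ?_
    have := orderOf_coprime_of_mem hk (show (⟨x, hxy'⟩ : C) ∈ f.ker from e)
    rw [ox] at this; exact absurd this (by decide)
  have h5 := bprop (hsec C (oddCore C) (.inl nt)) ox'
  rw [show Opp 2 (⊤ : Subgroup (C ⧸ oddCore C)) = ⊥ from Opp_quot, le_bot_iff] at h5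
  have h6 : CompIn ((K.subgroupOf C).map f) (centralizer {f ⟨x, hxy'⟩}) :=
    ⟨h4.1, h4.2.qs (comm_bot_mono (comm_bot_symm h5) h4.1.Opp_mono h4.le_PLay)⟩
  refine ⟨(compIn_iff.1 h6).2, fun E hE oE hn => ?_⟩
  have hEy : E ≤ C := hE.trans inf_le_right
  have s1 : Group.IsSolvable (E.subgroupOf C) := by
    refine PF.feit_thompson ?_
    rwa [Nat.card_congr (subgroupOfEquivOfLe hEy).toEquiv]
  have h7 := h6.comm_of_solvable (H := (E.subgroupOf C).map f)
    (e1 ▸ map_mono (subgroupOf_mono _ hE))
    (solvable_of_surjective (f := f.subgroupMap _) (f.subgroupMap_surjective _)) (by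
      refine (map_mono ?_).trans (le_normalizer_map f)
      intro j hj
      exact mem_normalizer_fintype fun e he => hn j hj e he)
  rw [← map_commutator, Subgroup.map_eq_bot_iff, hf, QuotientGroup.ker_mk'] at h7
  have := map_mono (f := C.subtype) h7
  rwa [map_commutator, map_subgroupOf_eq_of_le hKy, map_subgroupOf_eq_of_le hEy] at this

end Cfsg.Agent.S1775
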