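import Cfsg.Statements.S1781
import Cfsg.Agent.Comp.TI2

set_option autoImplicit false
open Cfsg

namespace Cfsg.Agent.S1781

open Cfsg.Agent.Comp Subgroup
open scoped commutatorElement


/-- Let A be an abelian 2-subgroup of the finite group G such that every conjugate of A equals A or meets A trivially, and let g ∈ G with g A g⁻¹ ≠ A. Then either the subgroup of those elements of A that normalize g A g⁻¹ is an elementary abelian 2-group, or A and g A g⁻¹ commute elementwise. -/
theorem result {G : Type*} [Group G] [Finite G] (A : Subgroup G)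
    (hA2 : IsPGroup 2 ↥A) (hAa : IsMulCommutative ↥A)
    (hti : ∀ h : G, A.map (MulAut.conj h).toMonoidHom = A ∨ A.map (MulAut.conj h).toMonoidHom ⊓ A = ⊥)
    (g : G) (hg : A.map (MulAut.conj g).toMonoidHom ≠ A) :
    Cfsg.IsElementaryAbelian 2 (A ⊓ Subgroup.normalizer ((A.map (MulAut.conj g).toMonoidHom : Subgroup G) : Set G)) ∨
      ⁅A, A.map (MulAut.conj g).toMonoidHom⁆ = ⊥ := by
  set B := A.map (MulAut.conj g).toMonoidHom with hB
  have hAB : A ⊓ B = ⊥ := inf_comm A B ▸ (hti g).resolve_left hg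
  have hc : ∀ a ∈ A, ∀ b ∈ A, a * b = b * a := Core.isMulCommutative_iff_mem.1 hAa
  by_cases h : ∀ t ∈ A ⊓ normalizer (B : Set G), t ^ 2 = 1
  · exact Or.inl (elemAb_of (fun a ha b hb => hc a ha.1 b hb.1) h)
  right
  push Not at h
  obtain ⟨t, ⟨h1, h2⟩, h3⟩ := h
  obtain ⟨k, hk⟩ := Core.isPGroup_iff_mem.1 hA2 t h1
  have h4 := centralizes_of_sq (hA2.map _) inferInstance h2 hk fun b hb e => by
    have a1 := mem_normalizer_of_ti (hti b) (A.mul_mem h1 h1) (by rwa [← sq]) e.symm
    have a2 : ⁅t, b⁆ ∈ A ⊓ B := ⟨by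
      have := A.mul_mem h1 (le_normalizer_iff_mem.1 le_rfl b a1 _ (A.inv_mem h1))
      change _ ∈ A
      simpa only [commutatorElement_def, mul_assoc] using this,
      B.mul_mem (le_normalizer_iff_mem.1 le_rfl t h2 b hb) (B.inv_mem hb)⟩
    rw [hAB, mem_bot] at a2
    exact commutatorElement_eq_one_iff_mul_comm.1 a2
  refine comm_bot_of_ti (card_map_of_injective map_conj_inj).ge hAB (fun b hb =>
    mem_normalizer_of_ti (hti b) h1 (fun e => h3 (by rw [e, one_pow])) (h4 b hb).symm)
    fun a _ b hb => mem_normalizer_of_ti ?_ hb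
  have := hti (g⁻¹ * a * g)
  rw [hB, map_conj_map_conj, show a * g = g * (g⁻¹ * a * g) by group, ← map_conj_map_conj,
    ← map_inf _ _ _ map_conj_inj]
  rcases this with e | e
  · rw [e]; exact Or.inl rfl
  · rw [e]; exact Or.inr (Subgroup.map_bot _)

end Cfsg.Agent.S1781
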