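import Cfsg.Statements.S1783
import Cfsg.Agent.Comp.TI2

set_option autoImplicit false
open Cfsg

namespace Cfsg.Agent.S1783

open Cfsg.Agent.Comp Subgroup
open scoped commutatorElement

theorem conj_fam {X : Type*} [Group X] [Finite X] {S B : Subgroup X} (hS : IsPGroup 2 S)
    (h : ∃ r ∈ B, r * r ≠ 1) (hBa : ∀ a ∈ B, ∀ b ∈ B, a * b = b * a)
    (hti : ∀ h : X, B.map (MulAut.conj h).toMonoidHom = B ∨
      B.map (MulAut.conj h).toMonoidHom ⊓ B = ⊥) {g k : X}
    (hg : B.map (MulAut.conj g).toMonoidHom ≤ S) (hk : B.map (MulAut.conj k).toMonoidHom ≤ S) :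
    ⁅B.map (MulAut.conj g).toMonoidHom, B.map (MulAut.conj k).toMonoidHom⁆ = ⊥ := by
  by_cases e : B.map (MulAut.conj g).toMonoidHom = B.map (MulAut.conj k).toMonoidHom
  · rw [e, ← map_commutator, comm_bot_iff.2 hBa, Subgroup.map_bot]
  refine ti_family_comm hS (Δ := Set.range fun g : X => B.map (MulAut.conj g).toMonoidHom)
    ?_ ?_ ?_ ?_ le_rfl _ ⟨g, rfl⟩ _ ⟨k, rfl⟩ hg hk e
  · rintro s - _ ⟨g, rfl⟩ -
    exact ⟨s * g, (map_conj_map_conj _ _ _).symm⟩
  · rintro _ ⟨g, rfl⟩
    obtain ⟨r, h1, h2⟩ := h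
    exact ⟨_, ⟨r, h1, rfl⟩, fun e => h2 (map_conj_inj (by rw [map_mul, e, map_one]))⟩
  · rintro _ ⟨g, rfl⟩ _ ⟨k, rfl⟩
    rw [card_map_of_injective map_conj_inj, card_map_of_injective map_conj_inj]
  · rintro _ ⟨g, rfl⟩ _ ⟨k, rfl⟩
    have := hti (k⁻¹ * g)
    dsimp only
    rw [show g = k * (k⁻¹ * g) by group, ← map_conj_map_conj, ← map_inf _ _ _ map_conj_inj]
    rcases this with e | e
    · rw [e]; exact Or.inl rfl
    · rw [e]; exact Or.inr (Subgroup.map_bot _)


/-- Let X be a finite group whose generalized Fitting subgroup equals its largest normal 2-subgroup Q, and let A be an abelian 2-subgroup of X such that every conjugate of A equals A or meets A trivially. Let B be the subgroup generated by the squares of the elements of A. Then B lies in Q, and if B is not an elementary abelian 2-group then the normal closure of B in X is commutative. -/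
theorem result {X : Type*} [Group X] [Finite X]
    (hX : Cfsg.generalizedFittingSubgroup X = Cfsg.pCore 2 X) (A : Subgroup X) (hA2 : IsPGroup 2 ↥A) (hAa : IsMulCommutative ↥A)
    (hti : ∀ h : X, A.map (MulAut.conj h).toMonoidHom = A ∨ A.map (MulAut.conj h).toMonoidHom ⊓ A = ⊥) :
    Subgroup.closure ((fun a : X => a ^ 2) '' (A : Set X)) ≤ Cfsg.pCore 2 X ∧
      (¬ Cfsg.IsElementaryAbelian 2 (Subgroup.closure ((fun a : X => a ^ 2) '' (A : Set X))) →
        IsMulCommutative ↥(Subgroup.normalClosure ((fun a : X => a ^ 2) '' (A : Set X)))) := by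
  have hc : ∀ a ∈ A, ∀ b ∈ A, a * b = b * a := Core.isMulCommutative_iff_mem.1 hAa
  have hQ : IsPGroup 2 (pCore 2 X) := by rw [← Op_top]; exact Op_isPGroup _
  have hCQ : centralizer (pCore 2 X : Set X) ≤ pCore 2 X := by
    rw [← FStar_top, ← Op_top, FStar_eq_Op_iff', top_inf_eq, Op_top] at hX; exact hX
  set Q := pCore 2 X with hQd
  set B := closure ((fun a : X => a ^ 2) '' (A : Set X)) with hBd
  have h1 : B ≤ Q := by
    rw [closure_le]
    rintro _ ⟨a, ha, rfl⟩
    by_cases h0 : a * a = 1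
    · simp [sq, h0]
    let Φ := (frattini Q).map Q.subtype
    let D := (centralizer ((Q.map (QuotientGroup.mk' Φ) : Subgroup _) : Set (X ⧸ Φ))).comap
      (QuotientGroup.mk' Φ)
    have hD : ∀ x, x ∈ D ↔ ∀ q ∈ Q, ⁅q, x⁆ ∈ Φ := fun x => by
      have e : ∀ q, ⁅q, x⁆ ∈ Φ ↔ QuotientGroup.mk' Φ q * QuotientGroup.mk' Φ x =
          QuotientGroup.mk' Φ x * QuotientGroup.mk' Φ q := fun q => by
        rw [← commutatorElement_eq_one_iff_mul_comm, ← map_commutatorElement]
        exact (QuotientGroup.eq_one_iff _).symm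
      simp only [e]
      exact ⟨fun h q hq => h _ ⟨q, hq, rfl⟩, by rintro h _ ⟨q, hq, rfl⟩; exact h q hq⟩
    have hD2 : D ≤ Q := by
      refine Core.le_pCore inferInstance (Core.isPGroup_iff_mem.2 fun x hx => ?_)
      obtain ⟨k, m, hm, e⟩ := Nat.exists_eq_pow_mul_and_not_dvd (orderOf_pos x).ne' 2 (by norm_num)
      have a1 : (Nat.card (zpowers (x ^ 2 ^ k))).Coprime 2 := by
        rw [Nat.card_zpowers]
        refine Nat.Coprime.coprime_dvd_left (orderOf_dvd_of_pow_eq_one ?_)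
          (coprime_iff_not_dvd'.2 hm)
        rw [← pow_mul, ← e, pow_orderOf_eq_one]
      have a2 : zpowers (x ^ 2 ^ k) ≤ Q := (Core.le_centralizer_of_commutator_le_frattini
        le_normalizer_of_normal (pgroup_coprime (hQ.to_subgroup _ |>.map Q.subtype) a1 |>.symm
          |>.coprime_dvd_right (card_subtype _ _).symm.dvd) (commutator_le.2 fun q hq y hy =>
          (hD y).1 (zpowers_le.2 (D.pow_mem hx _) hy) q hq)).trans hCQ
      exact ⟨k, zpowers_eq_bot.1 (eq_bot_of_pgroup_coprime (hQ.to_le a2) a1)⟩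
    refine hD2 ((hD _).2 fun q hq => ?_)
    have b1 := conj_fam (hA2.to_sup_of_normal_right hQ) ⟨a, ha, h0⟩ hc hti (g := q) (k := 1)
      (map_conj_le_of_mem le_sup_left (le_normalizer (mem_sup_right hq)))
      (map_conj_le_of_mem le_sup_left (one_mem _))
    rw [map_conj_one] at b1
    have b2 : Commute (q * a * q⁻¹) a := comm_bot_iff.1 b1 _ ⟨a, ha, rfl⟩ a ha
    have b3 : ⁅q, a ^ 2⁆ = ⁅q, a⁆ ^ 2 := by
      rw [commutatorElement_def, commutatorElement_def, b2.inv_right.mul_pow, conj_pow, inv_pow]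
    have b4 : ⁅q, a⁆ ∈ Q := commutator_le_left Q A (commutator_mem_commutator hq ha)
    rw [b3]
    exact ⟨_, Core.pow_mem_frattini_of_isPGroup hQ ⟨_, b4⟩, rfl⟩
  refine ⟨h1, fun h2 => ?_⟩
  have hBA : B ≤ A := by
    rw [closure_le]; rintro _ ⟨a, ha, rfl⟩; exact A.pow_mem ha 2
  have hc' : ∀ a ∈ B, ∀ b ∈ B, a * b = b * a := fun a ha b hb => hc a (hBA ha) b (hBA hb)
  have h3 : ∃ r ∈ B, r * r ≠ 1 := by
    by_contra hn
    push Not at hn
    exact h2 (elemAb_of hc' fun a ha => by rw [sq, hn a ha])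
  have h4 : ∀ h : X, B.map (MulAut.conj h).toMonoidHom = B ∨
      B.map (MulAut.conj h).toMonoidHom ⊓ B = ⊥ := fun g => by
    rcases hti g with e | e
    · left
      refine eq_of_le_of_card_ge ?_ (card_map_of_injective map_conj_inj).ge
      rw [hBd, MonoidHom.map_closure, closure_le]
      rintro _ ⟨_, ⟨a, ha, rfl⟩, rfl⟩
      exact subset_closure ⟨_, e.le ⟨a, ha, rfl⟩, (map_pow _ _ _).symm⟩
    · exact Or.inr (le_bot_iff.1 (e ▸ inf_le_inf (map_mono hBA) hBA))
  have h5 : normalClosure ((fun a : X => a ^ 2) '' (A : Set X)) ≤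
      sSup (Set.range fun g : X => B.map (MulAut.conj g).toMonoidHom) := by
    rw [normalClosure, closure_le]
    intro x hx
    obtain ⟨y, hy, e⟩ := Group.mem_conjugatesOfSet_iff.1 hx
    obtain ⟨g, rfl⟩ := isConj_iff.1 e
    exact le_sSup (s := Set.range fun g : X => B.map (MulAut.conj g).toMonoidHom) ⟨g, rfl⟩
      ⟨y, subset_closure hy, rfl⟩
  rw [← commutator_self_eq_bot_iff]
  refine comm_bot_mono (comm_sSup_left_bot ?_) h5 h5
  rintro _ ⟨g, rfl⟩
  refine comm_bot_symm (comm_sSup_left_bot ?_)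
  rintro _ ⟨k, rfl⟩
  exact conj_fam hQ h3 hc' h4 (map_conj_le_of_mem h1 (le_normalizer_of_normal (mem_top _)))
    (map_conj_le_of_mem h1 (le_normalizer_of_normal (mem_top _)))

end Cfsg.Agent.S1783
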