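import Cfsg.Statements.S1784
import Cfsg.Agent.Comp.Symp

set_option autoImplicit false
open Cfsg

namespace Cfsg.Agent.S1784

open Cfsg.Agent.Comp Subgroup


/-- Let G be a finite group and let z be an involution of G such that Q, the generalized Fitting subgroup of the centralizer C of z, is a 2-group of symplectic type (every characteristic abelian subgroup of Q is cyclic); suppose Q is extraspecial, and view Q inside G. Let α be an involution of C that is not in Q, and let Q₀ be the subgroup of those q ∈ Q whose commutator with α lies in the subgroup generated by z. Then (a) the subgroup generated by the commutators α q α⁻¹ q⁻¹, q ∈ Q, equals the centre of Q₀; and (b) if Q₀ is not contained in the product of the centralizer of α in Q with the subgroup generated by z, then some element of Q conjugates α to α z. -/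
theorem result {G : Type*} [Group G] [Finite G] (z : G) (hz : orderOf z = 2) (hQ : Cfsg.IsOfSymplecticType ↥(Cfsg.generalizedFittingSubgroup ↥(Subgroup.centralizer ({z} : Set G)))) (hE : Cfsg.IsExtraspecial 2 ↥(Cfsg.generalizedFittingSubgroup ↥(Subgroup.centralizer ({z} : Set G))))
    (α : G) (hα : orderOf α = 2) (hαC : α ∈ Subgroup.centralizer ({z} : Set G)) (hαQ : α ∉ (Cfsg.generalizedFittingSubgroup ↥(Subgroup.centralizer ({z} : Set G))).map (Subgroup.centralizer ({z} : Set G)).subtype)
    (Q₀ : Subgroup G) (hQ₀ : ∀ q : G, q ∈ Q₀ ↔ (q ∈ (Cfsg.generalizedFittingSubgroup ↥(Subgroup.centralizer ({z} : Set G))).map (Subgroup.centralizer ({z} : Set G)).subtype ∧ α * q * α⁻¹ * q⁻¹ ∈ Subgroup.zpowers z)) :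
    Subgroup.closure ((fun q : G => α * q * α⁻¹ * q⁻¹) '' ((Cfsg.generalizedFittingSubgroup ↥(Subgroup.centralizer ({z} : Set G))).map (Subgroup.centralizer ({z} : Set G)).subtype : Set G)) = (Subgroup.center ↥Q₀).map Q₀.subtype ∧
      (¬ Q₀ ≤ ((Cfsg.generalizedFittingSubgroup ↥(Subgroup.centralizer ({z} : Set G))).map (Subgroup.centralizer ({z} : Set G)).subtype ⊓ Subgroup.centralizer ({α} : Set G)) ⊔ Subgroup.zpowers z →
        ∃ q ∈ (Cfsg.generalizedFittingSubgroup ↥(Subgroup.centralizer ({z} : Set G))).map (Subgroup.centralizer ({z} : Set G)).subtype, q * α * q⁻¹ = α * z) := by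
  rw [FStar_eq] at *
  set Q := FStar (centralizer ({z} : Set G))
  have hE' : IsExtraspecial 2 Q := extraspecial_congr (fstarEquiv _) hE
  have h : Ext Q z := ext_of_sympl hz (sympl_congr (fstarEquiv _) hQ) (mem_FStar_centralizer z)
    (Or.inr hE')
  have hZ : Q ⊓ centralizer (Q : Set G) = zpowers z := (eq_of_le_of_card_ge h.zle (by
    rw [← center_map_subtype, card_subtype, hE'.2, Nat.card_zpowers, hz])).symm
  have h1 : α * z = z * α := mem_centralizer_singleton_iff.1 hαC
  have hN : α ∈ normalizer (Q : Set G) := FStar_normal _ hαC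
  obtain ⟨a1, a2⟩ := h.comm_struct hN h1 (Inv.sq_of_ord2 hα) hQ₀
  have a3 : Q₀ ≤ Q := fun q hq => ((hQ₀ q).1 hq).1
  constructor
  · rw [center_map_subtype, ← le_antisymm (le_inf a2 inf_le_right) (inf_le_inf_right _ a3), a1,
      hZ, eq_comm, sup_eq_left, zpowers_le]
    obtain ⟨q, q1, q2⟩ : ∃ q ∈ Q, α * q * α⁻¹ * q⁻¹ ∉ zpowers z := by
      by_contra e
      push Not at e
      exact hαQ (sup_le le_rfl (centralizer_FStar_centralizer_le z) (h.inner h1 e (by
        rw [hZ, centralizer_zpowers]; exact hαC)))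
    have b1 := mul_mem ((mem_normalizer_iff.1 hN q).1 q1) (inv_mem q1)
    obtain ⟨r, r1, r2⟩ : ∃ r ∈ Q, r * (α * q * α⁻¹ * q⁻¹) ≠ α * q * α⁻¹ * q⁻¹ * r := by
      by_contra e
      push Not at e
      exact q2 (hZ.le ⟨b1, e⟩)
    have b2 := h.conj_eq r1 b1 r2
    have k : ∀ q ∈ Q, α * q * α⁻¹ * q⁻¹ ∈
        closure ((fun q : G => α * q * α⁻¹ * q⁻¹) '' (Q : Set G)) :=
      fun q hq => subset_closure ⟨q, hq, rfl⟩
    convert mul_mem (mul_mem (inv_mem (k r r1)) (k _ (mul_mem r1 q1))) (inv_mem (k q q1)) using 1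
    rw [eq_mul_inv_iff_mul_eq, ← b2]; group
  · intro e
    obtain ⟨q, q1, q2⟩ := SetLike.not_le_iff_exists.1 e
    refine ⟨q, a3 q1, ?_⟩
    rcases (Inv.mem_zpowers_ord2 h.zz).1 ((hQ₀ q).1 q1).2 with b | b
    · exact absurd (mem_sup_left (mem_inf.2 ⟨a3 q1, mem_centralizer_singleton_iff.2
        (commutatorElement_eq_one_iff_mul_comm.1 b).symm⟩)) q2
    · rw [← b, Inv.inv_of_ord2 hα, ← mul_assoc, ← mul_assoc, ← mul_assoc, Inv.sq_of_ord2 hα,
        one_mul]

end Cfsg.Agent.S1784
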