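import Cfsg.Statements.S1785
import Cfsg.Agent.Comp.Conn

set_option autoImplicit false
open Cfsg

namespace Cfsg.Agent.S1785

open Cfsg.Agent.Comp Subgroup
open scoped commutatorElement


/-- Let X be a finite 2-group having a normal elementary abelian subgroup of order at least 32. Then (a) for any two elementary abelian subgroups A, B of X of order 8 there is a chain A = A₁, A₂, …, Aₙ = B of elementary abelian subgroups of order 8 in which consecutive members commute elementwise; and (b) every elementary abelian subgroup of X of order 4 is contained in an elementary abelian subgroup of order 8. -/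
theorem result {X : Type*} [Group X] [Finite X]
    (hX : IsPGroup 2 X) (E : Subgroup X) [E.Normal] (hE : Cfsg.IsElementaryAbelian 2 E) (hE32 : 32 ≤ Nat.card ↥E) :
    (∀ A B : Subgroup X, Cfsg.IsElementaryAbelian 2 A → Nat.card ↥A = 8 → Cfsg.IsElementaryAbelian 2 B → Nat.card ↥B = 8 →
        Relation.ReflTransGen
          (fun C D : Subgroup X => Cfsg.IsElementaryAbelian 2 C ∧ Nat.card ↥C = 8 ∧ Cfsg.IsElementaryAbelian 2 D ∧ Nat.card ↥D = 8 ∧ ⁅C, D⁆ = ⊥)
          A B) ∧
      (∀ V : Subgroup X, Cfsg.IsElementaryAbelian 2 V → Nat.card ↥V = 4 →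
        ∃ A : Subgroup X, V ≤ A ∧ Cfsg.IsElementaryAbelian 2 A ∧ Nat.card ↥A = 8) := by
  have k1 : ∀ x : X, x ^ 2 = 1 → 2 ^ 3 ≤ Nat.card ↥(E ⊓ centralizer {x}) := fun x hx => by
    have := hE32.trans (card_le_sq_centralizer hE (le_normalizer_of_normal (mem_top x))
      (hx ▸ one_mem _))
    refine pow_succ_le_card (k := 2) (hX.to_subgroup _) ?_
    nlinarith
  have k2 : ∀ {A B : Subgroup X}, Nat.card A < Nat.card B → ∃ b ∈ B, b ∉ A := fun h =>
    SetLike.not_le_iff_exists.1 fun e => (card_le_of_le e).not_gt h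
  refine ⟨fun A B hA a8 hB b8 => ?_, fun V hV v4 => ?_⟩
  swap
  · obtain ⟨F, f1, f2, f3⟩ := exists_three_centralizing hX hE (le_trans (by norm_num) hE32)
      (fun x hx => le_trans (by norm_num) (k1 x hx)) hV v4.ge
    obtain ⟨d, d1, d2⟩ := k2 (A := V) (B := F) (by omega)
    exact ⟨_, le_sup_left, elemAb_sup_zpowers hV (f2.2 d d1) (f1 d1), by
      rw [card_sup_zpowers_elemAb hV (f2.2 d d1) (f1 d1) d2, v4]⟩
  obtain ⟨z, z1, z2, z3⟩ := exists_mem_center_elemAb hX
    (ne_bot_of_pow_le (p := 2) (k := 5) (by norm_num) hE32)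
  have hz := hE.2 z z1
  have key : ∀ A : Subgroup X, IsElementaryAbelian 2 A → Nat.card A = 8 → ∃ D ≤ E,
      Nat.card D = 8 ∧ Relation.ReflTransGen (fun C D : Subgroup X => IsElementaryAbelian 2 C ∧
        Nat.card C = 8 ∧ IsElementaryAbelian 2 D ∧ Nat.card D = 8 ∧ ⁅C, D⁆ = ⊥) A D := by
    intro A hA a8
    have c1 : Nat.card (zpowers z) = 2 := by rw [Nat.card_zpowers, orderOf_eq_prime hz z2]
    have c0 : ∀ Y : Subgroup X, Y ≤ centralizer (zpowers z : Set X) := fun Y =>
      le_centralizer_iff.1 ((zpowers_le.2 z3).trans (center_le_centralizer _))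
    obtain ⟨a, a1, a2⟩ := k2 (A := zpowers z) (B := A) (by omega)
    have c2 := card_sup_zpowers_elemAb (elemAb_zpowers hz) (hA.2 a a1) (c0 A a1) a2
    obtain ⟨b, b1, b2⟩ := k2 (A := zpowers z ⊔ zpowers a) (B := A) (by omega)
    have e2 := elemAb_sup_zpowers (elemAb_zpowers hz) (hA.2 a a1) (c0 A a1)
    have hAc := elemAb_le_centralizer hA le_rfl le_rfl
    have c3 : zpowers z ⊔ zpowers a ⊔ zpowers b ≤ centralizer (A : Set X) :=
      sup_le (sup_le (le_centralizer_iff.1 (c0 A)) (zpowers_le.2 (hAc a1))) (zpowers_le.2 (hAc b1))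
    have c4 : b ∈ centralizer ((zpowers z ⊔ zpowers a : Subgroup X) : Set X) :=
      le_centralizer_iff.1 (le_sup_left.trans c3) b1
    have e3 := elemAb_sup_zpowers e2 (hA.2 b b1) c4
    have c5 := card_sup_zpowers_elemAb e2 (hA.2 b b1) c4 b2
    have c6 := (k1 a (hA.2 a a1)).trans (card_le_sq_centralizer (elemAb_le hE inf_le_left) (x := b)
      (inf_normalizer' le_normalizer_of_normal (elemAb_normalizes_centralizer_singleton hA a1) b1)
      (hA.2 b b1 ▸ one_mem _))
    obtain ⟨W, w1, w2⟩ := exists_le_card_eq_pow (k := 2)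
      (hX.to_subgroup (E ⊓ centralizer {a} ⊓ centralizer {b}))
      (pow_succ_le_card (k := 1) (hX.to_subgroup _) (by nlinarith))
    have w3 : W ≤ E := w1.trans (inf_le_left.trans inf_le_left)
    have w4 : W ≤ centralizer ((zpowers z ⊔ zpowers a ⊔ zpowers b : Subgroup X) : Set X) := by
      rw [centralizer_sup, centralizer_sup, centralizer_zpowers a, centralizer_zpowers b]
      exact le_inf (le_inf (c0 W) (w1.trans (inf_le_left.trans inf_le_right)))
        (w1.trans inf_le_right)
    obtain ⟨c, c7, c8⟩ := k2 (A := W) (B := zpowers z ⊔ zpowers a ⊔ zpowers b) (by omega)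
    have c9 : c ∈ centralizer (W : Set X) := le_centralizer_iff.1 w4 c7
    have e4 := elemAb_sup_zpowers (elemAb_le hE w3) (e3.2 c c7) c9
    have d1 := card_sup_zpowers_elemAb (elemAb_le hE w3) (e3.2 c c7) c9 c8
    obtain ⟨D, d2, d3⟩ := exists_le_card_eq_pow (hX.to_subgroup _) (k1 c (e3.2 c c7))
    have d4 := d2.trans inf_le_left
    refine ⟨D, d4, d3, ((Relation.ReflTransGen.single ⟨hA, a8, e3, by omega,
      commutator_eq_bot_iff_le_centralizer.2 (le_centralizer_iff.1 c3)⟩).tail ⟨e3, by omega, e4, by omega,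
      commutator_eq_bot_iff_le_centralizer.2 (le_centralizer_iff.1 (sup_le w4 (elemAb_le_centralizer e3 (zpowers_le.2 c7)
        le_rfl)))⟩).tail ⟨e4, by omega, elemAb_le hE d4, d3, commutator_eq_bot_iff_le_centralizer.2 (sup_le
        (elemAb_le_centralizer hE w3 d4) (le_centralizer_iff.1 ?_))⟩⟩
    rw [centralizer_zpowers]; exact d2.trans inf_le_right
  obtain ⟨C, c1, c2, c3⟩ := key A hA a8
  obtain ⟨D, d1, d2, d3⟩ := key B hB b8
  exact (c3.tail ⟨elemAb_le hE c1, c2, elemAb_le hE d1, d2,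
    commutator_eq_bot_iff_le_centralizer.2 (elemAb_le_centralizer hE c1 d1)⟩).trans (rtg_symm
      (fun _ _ h => ⟨h.2.2.1, h.2.2.2.1, h.1, h.2.1, comm_bot_symm h.2.2.2.2⟩) d3)

end Cfsg.Agent.S1785
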