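import Cfsg.Statements.S1786
import Cfsg.Agent.Blk.TI3
import Cfsg.Agent.Comp.Layer

set_option autoImplicit false
open Cfsg

namespace Cfsg.Agent.S1786



theorem result {G : Type*} [Group G] [Finite G] (V : Subgroup G)
    (hV : Cfsg.IsElementaryAbelian 2 V)
    (h1 : (Cfsg.generalizedFittingSubgroup ↥(Subgroup.normalizer (V : Set G))).map (Subgroup.normalizer (V : Set G)).subtype =
      (Cfsg.pCore 2 ↥(Subgroup.normalizer (V : Set G))).map (Subgroup.normalizer (V : Set G)).subtype)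
    (h2 : ∀ A : Subgroup G, V ≤ A → A ≤ Subgroup.normalizer (V : Set G) → IsMulCommutative ↥A →
      (∀ m ∈ Subgroup.normalizer (V : Set G), ∀ a ∈ A, m * a * m⁻¹ ∈ A) → A = V)
    (hti : ∀ x : G, V.map (MulAut.conj x).toMonoidHom = V ∨ V.map (MulAut.conj x).toMonoidHom ⊓ V = ⊥)
    (g : G) (hg : V.map (MulAut.conj g).toMonoidHom ≠ V)
    (hgQ : V.map (MulAut.conj g).toMonoidHom ≤ (Cfsg.pCore 2 ↥(Subgroup.normalizer (V : Set G))).map (Subgroup.normalizer (V : Set G)).subtype) :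
    let Q : Subgroup G := (Cfsg.pCore 2 ↥(Subgroup.normalizer (V : Set G))).map (Subgroup.normalizer (V : Set G)).subtype
    let P : Subgroup G := Q ⊓ Subgroup.centralizer (V : Set G)
    let W : Subgroup G := V ⊔ V.map (MulAut.conj g).toMonoidHom
    let H : Subgroup G := P ⊔ P.map (MulAut.conj g).toMonoidHom
    V ≤ Q.map (MulAut.conj g).toMonoidHom ∧
      (∀ w ∈ W, w ≠ 1 → ∃! U : Subgroup G, (∃ x : G, U = V.map (MulAut.conj x).toMonoidHom) ∧ U ≤ W ∧ w ∈ U) ∧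
      H ≤ Subgroup.normalizer (W : Set G) ∧
      (∀ hN : ((Subgroup.centralizer (W : Set G)).subgroupOf H).Normal, ∃ (F : Type) (_ : Field F) (_ : Fintype F), Fintype.card F = Nat.card ↥V ∧
        Nonempty (↥H ⧸ (Subgroup.centralizer (W : Set G)).subgroupOf H ≃* Matrix.SpecialLinearGroup (Fin 2) F)) ∧
      P = Q ∧ (frattini ↥Q).map Q.subtype = V ∧ (Subgroup.center ↥Q).map Q.subtype = V ∧ (commutator ↥Q).map Q.subtype = V := by
  rw [Comp.FStar_eq, Comp.Op_eq] at h1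
  rw [Comp.Op_eq] at hgQ ⊢
  have h : JTI.TS V (Comp.Op 2 (Subgroup.normalizer (V : Set G))) :=
    ⟨fun v hv => by simpa [pow_two] using hV.2 v hv, PLoc.isMulCommutative_iff_forall.1 hV.1,
      Comp.Op_isPGroup _, Comp.Op_le, Comp.Op_normal _, fun K a b c => Comp.le_Op b c a,
      fun x hx e => Comp.FStar_eq_Op_iff'.1 h1 ⟨hx, e⟩,
      fun A a b c d => h2 A a b c fun m hm _ ha => PLoc.conj_mem_of_mem_normalizer (d hm) ha, hti⟩
  have r : JTI.Pr V _ _ _ g := ⟨h, rfl, rfl, hg, hgQ⟩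
  intro Q P W H
  have eH : H = JTI.PP V Q ⊔ JTI.PP (PLoc.cj g V) (PLoc.cj g Q) := congrArg (JTI.PP V Q ⊔ ·) r.eP
  clear_value H
  subst eH
  exact ⟨r.main.1, r.main.2.1, r.HW, r.sl2, r.PQ, r.main.2.2⟩

end Cfsg.Agent.S1786
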